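import Mathlib

/-!
# A ring complete along a finitely generated ideal with Noetherian quotient is Noetherian

Helper library (helper25).  Main result:
`isNoetherianRing_of_isAdicComplete : I.FG → IsAdicComplete I A → IsNoetherianRing (A ⧸ I) →
  IsNoetherianRing A`
(Stacks 05GH).  The proof goes through the Rees algebra `reesAlgebra I ⊆ A[X]`, whose quotient by
the extension of `I` (the associated graded ring) is of finite type over `A ⧸ I`.
-/

set_option autoImplicit false

namespace Groth.Agent.Lib.Helper25.CompleteNoetherian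

universe u

open Polynomial

section Approx

variable {A : Type u} [CommRing A] (I : Ideal A)

/-- Successive approximation: if every element of `J ⊓ I ^ n` can be approximated modulo
`I ^ (n + 1)` by a combination of the `h i` with coefficients in `I ^ (n - D)`, then `J` is
contained in the span of the `h i`, provided `A` is `I`-adically complete. -/
theorem le_span_of_approx [IsAdicComplete I A] {ι : Type*} [Fintype ι] (J : Ideal A) (h : ι → A)
    (hJ : ∀ i, h i ∈ J) (D : ℕ)
    (happ : ∀ n, ∀ g ∈ J, g ∈ I ^ n → ∃ c : ι → A, (∀ i, c i ∈ I ^ (n - D)) ∧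
      g - ∑ i, c i * h i ∈ I ^ (n + 1)) :
    J ≤ Ideal.span (Set.range h) := by
  classical
  intro g hg
  let Φ : (ι → A) → A := fun c => ∑ i, c i * h i
  have hΦadd : ∀ c d, Φ (c + d) = Φ c + Φ d := by
    intro c d
    simp only [Φ, Pi.add_apply, add_mul, Finset.sum_add_distrib]
  have hΦJ : ∀ c, Φ c ∈ J := fun c => Ideal.sum_mem _ (fun i _ => Ideal.mul_mem_left _ _ (hJ i))
  have step : ∀ (n : ℕ) (c : ι → A), g - Φ c ∈ I ^ n →
      ∃ δ : ι → A, (∀ i, δ i ∈ I ^ (n - D)) ∧ g - Φ (c + δ) ∈ I ^ (n + 1) := by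
    intro n c hc
    obtain ⟨δ, hδ, hδ'⟩ := happ n (g - Φ c) (J.sub_mem hg (hΦJ c)) hc
    refine ⟨δ, hδ, ?_⟩
    rw [hΦadd, ← sub_sub]
    exact hδ'
  let St : ℕ → Type _ := fun n => {c : ι → A // g - Φ c ∈ I ^ n}
  have h0 : g - Φ 0 ∈ I ^ 0 := by simp
  let seq : ∀ n, St n := fun n => Nat.rec (motive := St) ⟨0, h0⟩
    (fun n s => ⟨s.1 + Classical.choose (step n s.1 s.2),
      (Classical.choose_spec (step n s.1 s.2)).2⟩) n
  have hdiff : ∀ n i, (seq (n + 1)).1 i - (seq n).1 i ∈ I ^ (n - D) := by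
    intro n i
    have : (seq (n + 1)).1 = (seq n).1 + Classical.choose (step n (seq n).1 (seq n).2) := rfl
    rw [this, Pi.add_apply, add_sub_cancel_left]
    exact (Classical.choose_spec (step n (seq n).1 (seq n).2)).1 i
  -- differences between later terms
  have hdiff' : ∀ n m i, n ≤ m → (seq m).1 i - (seq n).1 i ∈ I ^ (n - D) := by
    intro n m i hnm
    induction m, hnm using Nat.le_induction with
    | base => simp
    | succ m hm ih =>
      have : (seq (m + 1)).1 i - (seq n).1 i =
          ((seq (m + 1)).1 i - (seq m).1 i) + ((seq m).1 i - (seq n).1 i) := by ring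
      rw [this]
      exact Ideal.add_mem _ (Ideal.pow_le_pow_right (by omega) (hdiff m i)) ih
  -- limits
  have hlim : ∀ i, ∃ L : A, ∀ n, L - (seq n).1 i ∈ I ^ (n - D) := by
    intro i
    have hcauchy : ∀ {m n : ℕ}, m ≤ n →
        (seq (m + D)).1 i ≡ (seq (n + D)).1 i [SMOD (I ^ m • ⊤ : Submodule A A)] := by
      intro m n hmn
      rw [SModEq.comm, SModEq.sub_mem, smul_eq_mul, Ideal.mul_top]
      have := hdiff' (m + D) (n + D) i (by omega)
      rwa [Nat.add_sub_cancel] at this
    obtain ⟨L, hL⟩ := IsPrecomplete.prec' (I := I) (fun n => (seq (n + D)).1 i) hcauchy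
    refine ⟨L, fun n => ?_⟩
    -- L - seq n = (L - seq (n + D)) + (seq (n+D) - seq n)
    have h1 : L - (seq (n + D)).1 i ∈ I ^ n := by
      have := (hL n).symm
      rwa [SModEq.sub_mem, smul_eq_mul, Ideal.mul_top] at this
    have h2 := hdiff' n (n + D) i (by omega)
    have : L - (seq n).1 i = (L - (seq (n + D)).1 i) + ((seq (n + D)).1 i - (seq n).1 i) := by ring
    rw [this]
    exact Ideal.add_mem _ (Ideal.pow_le_pow_right (by omega) h1) h2
  choose c hc using hlim
  have hgc : g = Φ c := by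
    rw [← sub_eq_zero]
    apply IsHausdorff.haus' (I := I) (g - Φ c)
    intro n
    rw [SModEq.zero, smul_eq_mul, Ideal.mul_top]
    -- g - Φ c = (g - Φ seq (n + D)) - Φ (c - seq (n + D))
    have h1 : g - Φ (seq (n + D)).1 ∈ I ^ n := Ideal.pow_le_pow_right (by omega) (seq (n + D)).2
    have h2 : Φ c - Φ (seq (n + D)).1 ∈ I ^ n := by
      have : Φ c - Φ (seq (n + D)).1 = ∑ i, (c i - (seq (n + D)).1 i) * h i := by
        simp only [Φ, ← Finset.sum_sub_distrib, sub_mul]
      rw [this]
      refine Ideal.sum_mem _ (fun i _ => Ideal.mul_mem_right _ _ ?_)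
      have := hc i (n + D)
      rwa [Nat.add_sub_cancel] at this
    have : g - Φ c = (g - Φ (seq (n + D)).1) - (Φ c - Φ (seq (n + D)).1) := by ring
    rw [this]
    exact Ideal.sub_mem _ h1 h2
  rw [hgc]
  exact Ideal.sum_mem _ (fun i _ => Ideal.mul_mem_left _ _ (Ideal.subset_span ⟨i, rfl⟩))

end Approx

section Rees

variable {A : Type u} [CommRing A] (I : Ideal A)

theorem coeff_mul_monomial' (p : A[X]) (m n : ℕ) (r : A) :
    (p * monomial m r).coeff n = if m ≤ n then p.coeff (n - m) * r else 0 := by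
  rw [← C_mul_X_pow_eq_monomial, ← mul_assoc, coeff_mul_X_pow']
  split_ifs
  · rw [coeff_mul_C]
  · rfl

/-- The extension of `I` to the Rees algebra. -/
noncomputable abbrev IR : Ideal (reesAlgebra I) := Ideal.map (algebraMap A (reesAlgebra I)) I

theorem coeff_mem_of_mem_IR {f : reesAlgebra I} (hf : f ∈ IR I) :
    ∀ n : ℕ, (f : A[X]).coeff n ∈ I ^ (n + 1) := by
  unfold IR Ideal.map at hf
  induction hf using Submodule.span_induction with
  | mem x hx =>
    intro n
    obtain ⟨a, ha, rfl⟩ := hx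
    have : ((algebraMap A (reesAlgebra I) a : reesAlgebra I) : A[X]) = C a := rfl
    rw [this, coeff_C]
    split_ifs with h0
    · subst h0; simpa using ha
    · exact zero_mem _
  | zero => intro n; simp
  | add x y _ _ hx hy =>
    intro n
    rw [Subalgebra.coe_add, coeff_add]; exact Ideal.add_mem _ (hx n) (hy n)
  | smul r x _ hx =>
    intro n
    rw [smul_eq_mul, Subalgebra.coe_mul, coeff_mul]
    refine Ideal.sum_mem _ ?_
    rintro ⟨i, j⟩ hij
    have hij' := Finset.HasAntidiagonal.mem_antidiagonal.mp hij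
    simp only at hij'
    have : n + 1 = i + (j + 1) := by omega
    rw [this, pow_add]
    exact Ideal.mul_mem_mul (r.2 i) (hx j)

theorem isNoetherianRing_quot (hI : I.FG) [IsNoetherianRing (A ⧸ I)] :
    IsNoetherianRing (reesAlgebra I ⧸ IR I) := by
  have : Algebra.FiniteType A (reesAlgebra I) :=
    ⟨(reesAlgebra I).fg_top.mpr (reesAlgebra.fg hI)⟩
  have : Algebra.FiniteType A (reesAlgebra I ⧸ IR I) :=
    Algebra.FiniteType.of_surjective (Ideal.Quotient.mkₐ A (IR I))
      (Ideal.Quotient.mkₐ_surjective A (IR I))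
  have : Algebra.FiniteType (A ⧸ I) (reesAlgebra I ⧸ IR I) :=
    Algebra.FiniteType.of_restrictScalars_finiteType A (A ⧸ I) (reesAlgebra I ⧸ IR I)
  exact Algebra.FiniteType.isNoetherianRing (A ⧸ I) (reesAlgebra I ⧸ IR I)

/-- **Stacks 05GH**: a ring which is complete along a finitely generated ideal `I` with
`A ⧸ I` Noetherian is Noetherian. -/
theorem isNoetherianRing_of_isAdicComplete (hI : I.FG) [IsAdicComplete I A]
    [IsNoetherianRing (A ⧸ I)] : IsNoetherianRing A := by
  classical
  have := isNoetherianRing_quot I hI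
  rw [isNoetherianRing_iff_ideal_fg]
  intro J
  let G : Set (reesAlgebra I ⧸ IR I) :=
    {q | ∃ (n : ℕ) (h : A) (_ : h ∈ J) (hh : h ∈ I ^ n),
      q = Ideal.Quotient.mk (IR I) ⟨monomial n h, reesAlgebra.monomial_mem.mpr hh⟩}
  have hfg : (Ideal.span G).FG := IsNoetherian.noetherian _
  obtain ⟨T, hTG, hT⟩ := (Submodule.fg_span_iff_fg_span_finset_subset G).mp hfg
  have hdata : ∀ q : T, ∃ (n : ℕ) (h : A), h ∈ J ∧ ∃ hh : h ∈ I ^ n,
      (q : reesAlgebra I ⧸ IR I) =
        Ideal.Quotient.mk (IR I) ⟨monomial n h, reesAlgebra.monomial_mem.mpr hh⟩ := by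
    intro q
    obtain ⟨n, h, hJ, hh, hq⟩ := hTG q.2
    exact ⟨n, h, hJ, hh, hq⟩
  choose nn hh hhJ hhI hq using hdata
  let D : ℕ := Finset.univ.sup nn
  have hD : ∀ q, nn q ≤ D := fun q => Finset.le_sup (Finset.mem_univ q)
  have key : J ≤ Ideal.span (Set.range hh) := by
    apply le_span_of_approx I J hh hhJ D
    intro n g hgJ hgn
    have hmem : Ideal.Quotient.mk (IR I) ⟨monomial n g, reesAlgebra.monomial_mem.mpr hgn⟩ ∈
        Ideal.span (Set.range (Subtype.val : T → reesAlgebra I ⧸ IR I)) := by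
      rw [Subtype.range_coe]
      show _ ∈ Submodule.span _ _
      rw [← hT]
      exact Ideal.subset_span ⟨n, g, hgJ, hgn, rfl⟩
    obtain ⟨φ, hφ⟩ := Ideal.mem_span_range_iff_exists_fun.mp hmem
    have hlift : ∀ q : T, ∃ Gq : reesAlgebra I, Ideal.Quotient.mk (IR I) Gq = φ q :=
      fun q => Ideal.Quotient.mk_surjective (φ q)
    choose Gq hGq using hlift
    have hIR : (⟨monomial n g, reesAlgebra.monomial_mem.mpr hgn⟩ : reesAlgebra I) -
        ∑ q : T, Gq q * ⟨monomial (nn q) (hh q), reesAlgebra.monomial_mem.mpr (hhI q)⟩ ∈ IR I := by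
      rw [← Ideal.Quotient.eq_zero_iff_mem, map_sub, map_sum, ← hφ, sub_eq_zero]
      refine Finset.sum_congr rfl (fun q _ => ?_)
      rw [map_mul, hGq, ← hq]
    have hcoeff := coeff_mem_of_mem_IR I hIR n
    refine ⟨fun q => if nn q ≤ n then (Gq q : A[X]).coeff (n - nn q) else 0, ?_, ?_⟩
    · intro q
      dsimp only
      split_ifs with hle
      · exact Ideal.pow_le_pow_right (by have := hD q; omega) ((Gq q).2 (n - nn q))
      · exact zero_mem _
    · convert hcoeff using 1
      rw [Subalgebra.coe_sub, coeff_sub, AddSubmonoidClass.coe_finsetSum, finsetSum_coeff]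
      simp only [Subalgebra.coe_mul, coeff_mul_monomial', coeff_monomial, if_true]
      congr 1
      refine Finset.sum_congr rfl (fun q _ => ?_)
      split_ifs <;> simp
  have heq : J = Ideal.span (Set.range hh) := by
    apply le_antisymm key
    rw [Ideal.span_le]
    rintro _ ⟨q, rfl⟩
    exact hhJ q
  rw [heq]
  exact ⟨Finset.univ.image hh, by simp⟩

end Rees

end Groth.Agent.Lib.Helper25.CompleteNoetherian
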