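import Mathlib

set_option autoImplicit false
universe u
open scoped TensorProduct

namespace Groth.Agent.Lib.Helper25.SymSkew

section General

variable {S : Type*} [CommRing S] {V : Type*} [AddCommGroup V] [Module S V]
  {V' : Type*} [AddCommGroup V'] [Module S V']

/-- the submodule of σ-symmetric elements -/
def symSub (σ : V →ₗ[S] V) : Submodule S V := LinearMap.ker (σ - LinearMap.id)

/-- the submodule of σ-skew elements -/
def skewSub (σ : V →ₗ[S] V) : Submodule S V := LinearMap.ker (σ + LinearMap.id)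

theorem mem_symSub {σ : V →ₗ[S] V} {v : V} : v ∈ symSub σ ↔ σ v = v := by
  simp [symSub, sub_eq_zero]

theorem mem_skewSub {σ : V →ₗ[S] V} {v : V} : v ∈ skewSub σ ↔ σ v = -v := by
  simp [skewSub, add_eq_zero_iff_eq_neg]

theorem isCompl_symSub_skewSub (σ : V →ₗ[S] V) (hσ : ∀ v, σ (σ v) = v) (h2 : IsUnit (2 : S)) :
    IsCompl (symSub σ) (skewSub σ) := by
  obtain ⟨c, hc⟩ := h2.exists_left_inv
  constructor
  · rw [Submodule.disjoint_def]
    intro v h1 h2'
    rw [mem_symSub] at h1
    rw [mem_skewSub] at h2'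
    have h3 : (2 : S) • v = 0 := by
      rw [two_smul]
      nth_rewrite 1 [← h1]
      rw [h2', neg_add_cancel]
    have := congrArg (fun w => c • w) h3
    simpa [smul_smul, hc] using this
  · rw [codisjoint_iff, eq_top_iff]
    intro v _
    have hv : v = c • (v + σ v) + c • (v - σ v) := by
      rw [← smul_add, add_add_sub_cancel, ← two_smul S v, smul_smul, hc, one_smul]
    rw [hv]
    refine Submodule.add_mem_sup ?_ ?_
    · rw [mem_symSub, map_smul, map_add, hσ, add_comm]
    · rw [mem_skewSub, map_smul, map_sub, hσ, ← smul_neg, neg_sub]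

/-- transport of symmetric elements along an intertwining equivalence -/
def symEquivOfComm (σ : V →ₗ[S] V) (σ' : V' →ₗ[S] V') (g : V ≃ₗ[S] V')
    (hg : ∀ v, g (σ v) = σ' (g v)) : symSub σ ≃ₗ[S] symSub σ' :=
  g.ofSubmodules _ _ (by
    ext w
    simp only [Submodule.mem_map_equiv, mem_symSub]
    constructor
    · intro h
      have := congrArg g h
      rwa [hg, LinearEquiv.apply_symm_apply] at this
    · intro h
      apply g.injective
      rw [hg, LinearEquiv.apply_symm_apply, h])

/-- transport along an anti-intertwining equivalence: symmetric to skew -/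
def symEquivSkewOfAnti (σ : V →ₗ[S] V) (σ' : V' →ₗ[S] V') (g : V ≃ₗ[S] V')
    (hg : ∀ v, g (σ v) = -σ' (g v)) : symSub σ ≃ₗ[S] skewSub σ' :=
  g.ofSubmodules _ _ (by
    ext w
    simp only [Submodule.mem_map_equiv, mem_symSub, mem_skewSub]
    constructor
    · intro h
      have := congrArg g h
      rw [hg, LinearEquiv.apply_symm_apply] at this
      rw [← neg_eq_iff_eq_neg]
      exact this
    · intro h
      apply g.injective
      rw [hg, LinearEquiv.apply_symm_apply, h, neg_neg])

/-- transport along an anti-intertwining equivalence: skew to symmetric -/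
def skewEquivSymOfAnti (σ : V →ₗ[S] V) (σ' : V' →ₗ[S] V') (g : V ≃ₗ[S] V')
    (hg : ∀ v, g (σ v) = -σ' (g v)) : skewSub σ ≃ₗ[S] symSub σ' :=
  g.ofSubmodules _ _ (by
    ext w
    simp only [Submodule.mem_map_equiv, mem_symSub, mem_skewSub]
    constructor
    · intro h
      have := congrArg g h
      rw [hg, LinearEquiv.apply_symm_apply, map_neg, LinearEquiv.apply_symm_apply, neg_inj] at this
      exact this
    · intro h
      apply g.injective
      rw [hg, LinearEquiv.apply_symm_apply, h, map_neg, LinearEquiv.apply_symm_apply])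

end General

section Swap

variable (S : Type*) [CommRing S] (P : Type*)

/-- the swap operator on functions on `P × P` -/
def swapOp : (P × P → S) →ₗ[S] (P × P → S) := LinearMap.funLeft S S Prod.swap

theorem swapOp_apply (F : P × P → S) (p : P × P) : swapOp S P F p = F p.swap := rfl

theorem swapOp_swapOp (F : P × P → S) : swapOp S P (swapOp S P F) = F := by
  ext p
  simp [swapOp_apply]

/-- symmetric functions on `P × P` are the functions on `Sym2 P` -/
def symEquivSym2 : symSub (swapOp S P) ≃ₗ[S] (Sym2 P → S) where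
  toFun F := Sym2.lift ⟨fun a b => F.1 (a, b), fun a b => by
    have h := mem_symSub.1 F.2
    exact (congrFun h (a, b)).symm⟩
  map_add' F G := by
    ext z
    induction z using Sym2.ind with
    | _ a b => simp
  map_smul' r F := by
    ext z
    induction z using Sym2.ind with
    | _ a b => simp
  invFun G := ⟨fun p => G s(p.1, p.2), by
    rw [mem_symSub]
    ext p
    rw [swapOp_apply, Prod.fst_swap, Prod.snd_swap, Sym2.eq_swap]⟩
  left_inv F := by
    ext p
    obtain ⟨a, b⟩ := p
    simp
  right_inv G := by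
    ext z
    induction z using Sym2.ind with
    | _ a b => simp

theorem finrank_symSub_swapOp [Nontrivial S] [Fintype P] [DecidableEq P] :
    Module.finrank S (symSub (swapOp S P)) = Nat.choose (Fintype.card P + 1) 2 := by
  rw [(symEquivSym2 S P).finrank_eq, Module.finrank_pi, Sym2.card]

/-- no anti-intertwiner between swap operators unless the index type is empty -/
theorem card_eq_zero_of_anti [Nontrivial S] (h2 : IsUnit (2 : S)) {P Q : Type*} [Fintype P] [Fintype Q]
    [DecidableEq P] [DecidableEq Q] (g : (P × P → S) ≃ₗ[S] (Q × Q → S))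
    (hg : ∀ F, g (swapOp S P F) = - swapOp S Q (g F)) : Fintype.card P = 0 := by
  have h1 : Fintype.card P * Fintype.card P = Fintype.card Q * Fintype.card Q := by
    have := g.finrank_eq
    rwa [Module.finrank_pi, Module.finrank_pi, Fintype.card_prod, Fintype.card_prod] at this
  have h1' : Fintype.card P = Fintype.card Q := by nlinarith [Nat.mul_self_inj.1 h1]
  let E : (P × P → S) ≃ₗ[S] (Sym2 P → S) × (Sym2 Q → S) :=
    (Submodule.prodEquivOfIsCompl _ _
      (isCompl_symSub_skewSub (swapOp S P) (swapOp_swapOp S P) h2)).symm ≪≫ₗ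
    LinearEquiv.prodCongr (symEquivSym2 S P)
      ((skewEquivSymOfAnti (swapOp S P) (swapOp S Q) g hg) ≪≫ₗ symEquivSym2 S Q)
  have h3 := E.finrank_eq
  rw [Module.finrank_prod, Module.finrank_pi, Module.finrank_pi, Module.finrank_pi,
    Fintype.card_prod, Sym2.card, Sym2.card, ← h1'] at h3
  set n := Fintype.card P with hn
  have h4 : (n + 1).choose 2 * 2 = (n + 1) * n := by
    rw [Nat.choose_two_right, Nat.add_sub_cancel]
    exact Nat.div_mul_cancel (Nat.even_mul_pred_self (n+1)).two_dvd
  nlinarith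

end Swap

section Coord

variable {R : Type*} [CommRing R] (S' : Type*) [CommRing S'] [Algebra R S']
  {A : Type*} [AddCommGroup A] [Module R A] {ι : Type*} [Fintype ι] [DecidableEq ι]

/-- coordinates on a base change from coordinates downstairs -/
noncomputable def coord (e : A ≃ₗ[R] (ι → R)) : S' ⊗[R] A ≃ₗ[S'] (ι → S') :=
  (TensorProduct.AlgebraTensorModule.congr (LinearEquiv.refl S' S') e) ≪≫ₗ
    TensorProduct.piScalarRight R S' S' ι

theorem coord_tmul (e : A ≃ₗ[R] (ι → R)) (s : S') (a : A) (j : ι) :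
    coord S' e (s ⊗ₜ a) j = e a j • s := by
  simp [coord]

theorem coord_baseChange (e : A ≃ₗ[R] (ι → R)) (τ : A →ₗ[R] A) (π : ι → ι)
    (h : ∀ a j, e (τ a) j = e a (π j)) (x : S' ⊗[R] A) (j : ι) :
    coord S' e (τ.baseChange S' x) j = coord S' e x (π j) := by
  induction x using TensorProduct.induction_on with
  | zero => simp
  | add x y hx hy => simp only [map_add, Pi.add_apply, hx, hy]
  | tmul s a => rw [LinearMap.baseChange_tmul, coord_tmul, coord_tmul, h]

theorem coord_baseChange_neg (e : A ≃ₗ[R] (ι → R)) (τ : A →ₗ[R] A) (π : ι → ι)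
    (h : ∀ a j, e (τ a) j = - e a (π j)) (x : S' ⊗[R] A) (j : ι) :
    coord S' e (τ.baseChange S' x) j = - coord S' e x (π j) := by
  induction x using TensorProduct.induction_on with
  | zero => simp
  | add x y hx hy => simp only [map_add, Pi.add_apply, hx, hy, neg_add]
  | tmul s a => rw [LinearMap.baseChange_tmul, coord_tmul, coord_tmul, h, neg_smul]

end Coord

section Matrices

variable (R : Type*) [CommRing R]

/-- coordinates on square matrices -/
def e₁ (m : Type*) : Matrix m m R ≃ₗ[R] (m × m → R) :=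
  (LinearEquiv.curry R R m m).symm

theorem e₁_apply (m : Type*) (M : Matrix m m R) (p : m × m) : e₁ R m M p = M p.1 p.2 := rfl

/-- the sign `(1, -1)` -/
def eta : Fin 2 → R := ![1, -1]

theorem eta_mul_self (β : Fin 2) : eta R β * eta R β = 1 := by
  fin_cases β <;> simp [eta]

theorem eta_rev (β : Fin 2) : eta R (Fin.rev β) = - eta R β := by
  fin_cases β <;> simp [eta]

/-- twisted coordinates on square matrices with `2 × 2` matrix entries -/
def e₂ (m : Type*) : Matrix m m (Matrix (Fin 2) (Fin 2) R) ≃ₗ[R] ((m × Fin 2) × (m × Fin 2) → R) where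
  toFun X := fun p => eta R p.2.2 * X p.1.1 p.2.1 p.1.2 (Fin.rev p.2.2)
  map_add' X Y := by
    ext p
    simp [mul_add]
  map_smul' r X := by
    ext p
    simp [Matrix.smul_apply, mul_left_comm]
  invFun F := fun i j => Matrix.of fun α β => eta R (Fin.rev β) * F ((i, α), (j, Fin.rev β))
  left_inv X := by
    ext i j α β
    simp [← mul_assoc, eta_mul_self]
  right_inv F := by
    ext ⟨⟨i, α⟩, ⟨j, β⟩⟩
    simp [← mul_assoc, eta_mul_self]

theorem e₂_apply (m : Type*) (X : Matrix m m (Matrix (Fin 2) (Fin 2) R)) (p : (m × Fin 2) × (m × Fin 2)) :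
    e₂ R m X p = eta R p.2.2 * X p.1.1 p.2.1 p.1.2 (Fin.rev p.2.2) := rfl

theorem e₂_anti (m : Type*) (τ₂ : Matrix m m (Matrix (Fin 2) (Fin 2) R) → Matrix m m (Matrix (Fin 2) (Fin 2) R))
    (hτ₂ : ∀ X i j, τ₂ X i j = !![X j i 1 1, - X j i 0 1; - X j i 1 0, X j i 0 0])
    (X : Matrix m m (Matrix (Fin 2) (Fin 2) R)) (p : (m × Fin 2) × (m × Fin 2)) :
    e₂ R m (τ₂ X) p = - e₂ R m X p.swap := by
  obtain ⟨⟨i, α⟩, ⟨j, β⟩⟩ := p
  rw [e₂_apply, e₂_apply, hτ₂]
  fin_cases α <;> fin_cases β <;> simp [eta]

end Matrices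

section Main

variable (R : Type*) [CommRing R] (S' : Type*) [CommRing S'] [Algebra R S']

/-- the transpose on `M_n(R)` and the involution on `M_{n'}(M_2(R))` induced by the standard
symplectic involution of `M_2(R)` do not become isomorphic (as modules with involution) after any
nontrivial base change in which `2` is a unit, unless `n = 0` -/
theorem main [Nontrivial S'] (h2 : IsUnit (2 : S')) (n n' : ℕ)
    (τ₁ : Matrix (Fin n) (Fin n) R →ₗ[R] Matrix (Fin n) (Fin n) R)
    (hτ₁ : ∀ M i j, τ₁ M i j = M j i)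
    (τ₂ : Matrix (Fin n') (Fin n') (Matrix (Fin 2) (Fin 2) R) →ₗ[R]
      Matrix (Fin n') (Fin n') (Matrix (Fin 2) (Fin 2) R))
    (hτ₂ : ∀ X i j, τ₂ X i j = !![X j i 1 1, - X j i 0 1; - X j i 1 0, X j i 0 0])
    (f : S' ⊗[R] Matrix (Fin n) (Fin n) R ≃ₗ[S']
      S' ⊗[R] Matrix (Fin n') (Fin n') (Matrix (Fin 2) (Fin 2) R))
    (hf : ∀ x, f (τ₁.baseChange S' x) = τ₂.baseChange S' (f x)) : n = 0 := by
  let Θ₁ := coord S' (e₁ R (Fin n))
  let Θ₂ := coord S' (e₂ R (Fin n'))
  let g : (Fin n × Fin n → S') ≃ₗ[S'] ((Fin n' × Fin 2) × (Fin n' × Fin 2) → S') :=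
    Θ₁.symm ≪≫ₗ f ≪≫ₗ Θ₂
  have hg : ∀ F, g (swapOp S' _ F) = - swapOp S' _ (g F) := by
    intro F
    obtain ⟨x, rfl⟩ := Θ₁.surjective F
    have h1 : swapOp S' _ (Θ₁ x) = Θ₁ (τ₁.baseChange S' x) := by
      ext p
      rw [swapOp_apply]
      exact (coord_baseChange S' _ τ₁ Prod.swap (fun a j => hτ₁ a j.1 j.2) x p).symm
    rw [h1]
    simp only [g, LinearEquiv.trans_apply, LinearEquiv.symm_apply_apply]
    rw [hf]
    ext p
    rw [coord_baseChange_neg S' _ τ₂ Prod.swap (fun a j => e₂_anti R _ τ₂ hτ₂ a j)]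
    rfl
  have := card_eq_zero_of_anti S' h2 g hg
  simpa using this

end Main

end Groth.Agent.Lib.Helper25.SymSkew
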