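import Mathlib
import Groth.Agent.Lib.Helper1.CSA.SkolemNoether

/-!
# Involutions on simple algebras (helper25)

* `exists_unit_conj_of_ringHom`: Skolem–Noether for a finite-dimensional simple algebra over a
  field `k` which need not be its centre: a ring endomorphism fixing the centre pointwise is inner.
* `IsInvol`: the bundle of hypotheses "k-linear, `t 1 = 1`, anti-multiplicative, of order two".
-/

set_option autoImplicit false
universe u v

namespace Groth.Agent.Lib.Helper25.Involution

open Groth.Agent.Lib.Helper1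

section SN

variable (k : Type u) [Field k] (A : Type v) [Ring A] [Algebra k A] [IsSimpleRing A]
  [FiniteDimensional k A]

/-- Skolem–Noether over a base field that need not be the centre. -/
theorem exists_unit_conj_of_ringHom (φ : A →+* A)
    (hφ : ∀ c ∈ Subalgebra.center k A, φ c = c) :
    ∃ a : Aˣ, ∀ x : A, φ x = (a : A) * x * (a⁻¹ : Aˣ) := by
  classical
  let _ : Field (Subring.center A) := (IsSimpleRing.isField_center A).toField
  -- `A` is central over its centre
  have hcentral : Algebra.IsCentral (Subring.center A) A := by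
    refine ⟨fun x hx => ?_⟩
    rw [Subalgebra.mem_center_iff] at hx
    rw [Algebra.mem_bot]
    exact ⟨⟨x, Subring.mem_center_iff.mpr hx⟩, rfl⟩
  -- `A` is finite over its centre
  have hfin : FiniteDimensional (Subring.center A) A := by
    obtain ⟨S, hS⟩ := (Module.finite_def (R := k) (M := A)).mp inferInstance
    refine Module.finite_def.mpr ⟨S, ?_⟩
    rw [eq_top_iff]
    have key : ∀ x ∈ Submodule.span k (S : Set A),
        x ∈ Submodule.span (Subring.center A) (S : Set A) := by
      intro x hx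
      induction hx using Submodule.span_induction with
      | mem y hy => exact Submodule.subset_span hy
      | zero => exact Submodule.zero_mem _
      | add y z _ _ hy hz => exact Submodule.add_mem _ hy hz
      | smul c y _ hy =>
        have hc : algebraMap k A c ∈ Subring.center A :=
          Subring.mem_center_iff.mpr fun g => (Algebra.commutes c g).symm
        have : c • y = (⟨algebraMap k A c, hc⟩ : Subring.center A) • y := by
          rw [Algebra.smul_def]; rfl
        rw [this]
        exact Submodule.smul_mem _ _ hy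
    intro x _
    exact key x (by rw [hS]; trivial)
  let f : A →ₐ[Subring.center A] A :=
    { φ with
      commutes' := fun c => hφ c.1 (Subalgebra.mem_center_iff.mpr
        (Subring.mem_center_iff.mp c.2)) }
  obtain ⟨x, hx⟩ := skolem_noether (k := Subring.center A) f (AlgHom.id _ A)
  exact ⟨x, fun b => hx b⟩

end SN

section Invol

variable {k : Type u} [Field k] {A : Type v} [Ring A] [Algebra k A]

/-- `t` is an involution: `t 1 = 1`, anti-multiplicative, of order two. -/
structure IsInvol (t : A →ₗ[k] A) : Prop where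
  one : t 1 = 1
  mul : ∀ x y : A, t (x * y) = t y * t x
  invol : ∀ x : A, t (t x) = x

namespace IsInvol

variable {t s : A →ₗ[k] A}

theorem mem_center (ht : IsInvol t) {c : A} (hc : c ∈ Subalgebra.center k A) :
    t c ∈ Subalgebra.center k A := by
  rw [Subalgebra.mem_center_iff] at hc ⊢
  intro b
  have h2 := congrArg t (hc (t b))
  rw [ht.mul, ht.mul, ht.invol] at h2
  exact h2.symm

theorem map_inv_mul (ht : IsInvol t) (a : Aˣ) : t ((a⁻¹ : Aˣ) : A) * t (a : A) = 1 := by
  rw [← ht.mul, Units.mul_inv, ht.one]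

theorem map_mul_inv (ht : IsInvol t) (a : Aˣ) : t (a : A) * t ((a⁻¹ : Aˣ) : A) = 1 := by
  rw [← ht.mul, Units.inv_mul, ht.one]

/-- If `t a = e * a` with `e` central of square one, then `x ↦ a * t x * a⁻¹` is an involution. -/
theorem conj (ht : IsInvol t) (a : Aˣ) (e : A) (he : e ∈ Subalgebra.center k A)
    (hee : e * e = 1) (hta : t (a : A) = e * a)
    (hs : ∀ x : A, s x = (a : A) * t x * ((a⁻¹ : Aˣ) : A)) : IsInvol s := by
  rw [Subalgebra.mem_center_iff] at he
  have hinv : t ((a⁻¹ : Aˣ) : A) = ((a⁻¹ : Aˣ) : A) * e := by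
    have h1 := ht.map_inv_mul a
    rw [hta, ← mul_assoc] at h1
    -- t a⁻¹ * e * a = 1
    have h2 : t ((a⁻¹ : Aˣ) : A) * e = ((a⁻¹ : Aˣ) : A) := by
      calc t ((a⁻¹ : Aˣ) : A) * e = t ((a⁻¹ : Aˣ) : A) * e * (a * ((a⁻¹ : Aˣ) : A)) := by
            rw [Units.mul_inv, mul_one]
        _ = (t ((a⁻¹ : Aˣ) : A) * e * a) * ((a⁻¹ : Aˣ) : A) := by rw [mul_assoc, mul_assoc, mul_assoc]
        _ = ((a⁻¹ : Aˣ) : A) := by rw [h1, one_mul]
    calc t ((a⁻¹ : Aˣ) : A) = t ((a⁻¹ : Aˣ) : A) * (e * e) := by rw [hee, mul_one]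
      _ = (t ((a⁻¹ : Aˣ) : A) * e) * e := by rw [mul_assoc]
      _ = ((a⁻¹ : Aˣ) : A) * e := by rw [h2]
  refine ⟨?_, ?_, ?_⟩
  · rw [hs, ht.one, mul_one, Units.mul_inv]
  · intro x y
    rw [hs, hs, hs, ht.mul]
    simp only [mul_assoc, Units.inv_mul_cancel_left]
  · intro x
    rw [hs (s x), hs x, ht.mul, ht.mul, ht.invol, hinv, hta]
    -- a * (a⁻¹ * e * (x * (e * a))) * a⁻¹ = x
    have h3 : e * (x * (e * a)) = x * (a : A) := by
      calc e * (x * (e * a)) = (e * x) * (e * a) := by rw [mul_assoc]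
        _ = (x * e) * (e * a) := by rw [he x]
        _ = x * ((e * e) * a) := by simp only [mul_assoc]
        _ = x * a := by rw [hee, one_mul]
    calc (a : A) * (((a⁻¹ : Aˣ) : A) * e * (x * (e * ↑a))) * ((a⁻¹ : Aˣ) : A)
        = (a : A) * (((a⁻¹ : Aˣ) : A) * (e * (x * (e * ↑a)))) * ((a⁻¹ : Aˣ) : A) := by
          simp only [mul_assoc]
      _ = x := by rw [h3, Units.mul_inv_cancel_left, Units.mul_inv_cancel_right]

/-- If `s = Int(a) ∘ t` with `s`, `t` involutions then `a = u * t a` for a central `u`. -/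
theorem exists_central (hs' : IsInvol s) (ht : IsInvol t) (a : Aˣ)
    (hs : ∀ x : A, s x = (a : A) * t x * ((a⁻¹ : Aˣ) : A)) :
    ∃ u ∈ Subalgebra.center k A, (a : A) = u * t (a : A) := by
  refine ⟨(a : A) * t ((a⁻¹ : Aˣ) : A), ?_, ?_⟩
  · rw [Subalgebra.mem_center_iff]
    intro x
    have h1 := hs'.invol x
    rw [hs (s x), hs x, ht.mul, ht.mul, ht.invol] at h1
    -- a * (t a⁻¹ * (x * t a)) * a⁻¹ = x
    have h2 : (a : A) * t ((a⁻¹ : Aˣ) : A) * x * (t (a : A) * ((a⁻¹ : Aˣ) : A)) = x := by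
      have h2' : (a : A) * t ((a⁻¹ : Aˣ) : A) * x * (t (a : A) * ((a⁻¹ : Aˣ) : A)) =
          (a : A) * (t ((a⁻¹ : Aˣ) : A) * (x * t (a : A))) * ((a⁻¹ : Aˣ) : A) := by
        simp only [mul_assoc]
      rw [h2', h1]
    have h3 : (a : A) * t ((a⁻¹ : Aˣ) : A) * x = x * ((a : A) * t ((a⁻¹ : Aˣ) : A)) := by
      calc (a : A) * t ((a⁻¹ : Aˣ) : A) * x
          = (a : A) * t ((a⁻¹ : Aˣ) : A) * x * ((t (a : A) * ((a⁻¹ : Aˣ) : A)) *
              ((a : A) * t ((a⁻¹ : Aˣ) : A))) := by
            have : (t (a : A) * ((a⁻¹ : Aˣ) : A)) * ((a : A) * t ((a⁻¹ : Aˣ) : A)) = 1 := by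
              rw [mul_assoc, Units.inv_mul_cancel_left, ht.map_mul_inv]
            rw [this, mul_one]
        _ = ((a : A) * t ((a⁻¹ : Aˣ) : A) * x * (t (a : A) * ((a⁻¹ : Aˣ) : A))) *
              ((a : A) * t ((a⁻¹ : Aˣ) : A)) := by simp only [mul_assoc]
        _ = x * ((a : A) * t ((a⁻¹ : Aˣ) : A)) := by rw [h2]
    exact h3.symm
  · rw [mul_assoc, ht.map_inv_mul, mul_one]

end IsInvol

/-- Two involutions of a finite-dimensional simple algebra agreeing on the centre differ by an
inner automorphism. -/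
theorem exists_conj [IsSimpleRing A] [FiniteDimensional k A] {s t : A →ₗ[k] A}
    (hs : IsInvol s) (ht : IsInvol t) (hagree : ∀ c ∈ Subalgebra.center k A, s c = t c) :
    ∃ a : Aˣ, ∀ x : A, s x = (a : A) * t x * ((a⁻¹ : Aˣ) : A) := by
  let φ : A →+* A :=
    { toFun := fun x => s (t x)
      map_one' := by rw [ht.one, hs.one]
      map_mul' := fun x y => by rw [ht.mul, hs.mul]
      map_zero' := by rw [map_zero, map_zero]
      map_add' := fun x y => by rw [map_add, map_add] }
  have hφ : ∀ c ∈ Subalgebra.center k A, φ c = c := by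
    intro c hc
    change s (t c) = c
    rw [hagree _ (ht.mem_center hc), ht.invol]
  obtain ⟨a, ha⟩ := exists_unit_conj_of_ringHom k A φ hφ
  refine ⟨a, fun x => ?_⟩
  have := ha (t x)
  change s (t (t x)) = _ at this
  rwa [ht.invol] at this

end Invol

section Central

variable {k : Type u} [Field k] {A : Type v} [Ring A] [Algebra k A] [IsSimpleRing A]

/-- A central square root of one in a simple ring is `1` or `-1`. -/
theorem eq_one_or_neg_one_of_central {u : A} (hu : u ∈ Subalgebra.center k A)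
    (huu : u * u = 1) : u = 1 ∨ u = -1 := by
  have hdom : IsDomain (Subring.center A) := (IsSimpleRing.isField_center A).isDomain
  have hz : u ∈ Subring.center A :=
    Subring.mem_center_iff.mpr (Subalgebra.mem_center_iff.mp hu)
  have h1 : (⟨u, hz⟩ : Subring.center A) * ⟨u, hz⟩ = 1 := Subtype.ext huu
  rcases mul_self_eq_one_iff.mp h1 with h | h
  · exact Or.inl (congrArg Subtype.val h)
  · exact Or.inr (congrArg Subtype.val h)

/-- A nonzero central element of a simple ring is a unit. -/
theorem exists_unit_of_central {m : A} (hm : m ∈ Subalgebra.center k A) (h0 : m ≠ 0) :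
    ∃ m' : Aˣ, (m' : A) = m := by
  have hz : m ∈ Subring.center A :=
    Subring.mem_center_iff.mpr (Subalgebra.mem_center_iff.mp hm)
  obtain ⟨b, hb⟩ := (IsSimpleRing.isField_center A).mul_inv_cancel
    (a := (⟨m, hz⟩ : Subring.center A)) (fun h => h0 (congrArg Subtype.val h))
  have h1 : m * (b : A) = 1 := congrArg Subtype.val hb
  have h2 : (b : A) * m = 1 := by rw [Subring.mem_center_iff.mp hz]; exact h1
  exact ⟨⟨m, b, h1, h2⟩, rfl⟩

/-- Normalisation for involutions of the second kind: if `s = Int(a) ∘ t` and `t` moves the centre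
then `a` may be chosen `t`-symmetric. -/
theorem exists_symm_unit {s t : A →ₗ[k] A} (hs : IsInvol s) (ht : IsInvol t)
    (htc : ∃ c ∈ Subalgebra.center k A, t c ≠ c) (a : Aˣ)
    (ha : ∀ x : A, s x = (a : A) * t x * ((a⁻¹ : Aˣ) : A)) :
    ∃ a' : Aˣ, t (a' : A) = (a' : A) ∧ ∀ x : A, s x = (a' : A) * t x * ((a'⁻¹ : Aˣ) : A) := by
  obtain ⟨u, hu, hau⟩ := IsInvol.exists_central hs ht a ha
  have htu : t u ∈ Subalgebra.center k A := ht.mem_center hu
  have hu' := Subalgebra.mem_center_iff.mp hu
  have htu' := Subalgebra.mem_center_iff.mp htu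
  -- `t a = t u * a`
  have hta : t (a : A) = t u * a := by
    conv_lhs => rw [hau, ht.mul, ht.invol]
    exact htu' a
  -- `u * t u = 1`
  have hnorm : u * t u = 1 := by
    have h1 : (a : A) = (u * t u) * a := by
      conv_lhs => rw [hau, hta]
      rw [mul_assoc]
    have h2 := congrArg (· * ((a⁻¹ : Aˣ) : A)) h1
    simp only [Units.mul_inv, mul_assoc] at h2
    rw [mul_one] at h2
    exact h2.symm
  -- a central `m ≠ 0` with `t m = u * m`
  obtain ⟨m, hm, hm0, htm⟩ : ∃ m ∈ Subalgebra.center k A, m ≠ 0 ∧ t m = u * m := by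
    have key : ∀ c ∈ Subalgebra.center k A, (c + t u * t c) ∈ Subalgebra.center k A ∧
        t (c + t u * t c) = u * (c + t u * t c) := by
      intro c hc
      have htc' := ht.mem_center hc
      refine ⟨Subalgebra.add_mem _ hc (Subalgebra.mul_mem _ htu htc'), ?_⟩
      rw [map_add, ht.mul, ht.invol, ht.invol, mul_add, ← mul_assoc, hnorm, one_mul, add_comm,
        hu' c]
    by_cases h1 : (1 : A) + t u * t 1 = 0
    · -- then `t u = -1`, so `u = -1`
      rw [ht.one, mul_one] at h1
      have htu1 : t u = -1 := (eq_neg_of_add_eq_zero_right h1)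
      obtain ⟨c, hc, hcne⟩ := htc
      refine ⟨c + t u * t c, (key c hc).1, ?_, (key c hc).2⟩
      rw [htu1, neg_one_mul]
      intro h
      exact hcne (by rw [← sub_eq_zero, ← neg_eq_zero, neg_sub]; exact h ▸ (sub_eq_add_neg c (t c)))
    · exact ⟨1 + t u * t 1, (key 1 (Subalgebra.one_mem _)).1, h1, (key 1 (Subalgebra.one_mem _)).2⟩
  have hm' := Subalgebra.mem_center_iff.mp hm
  obtain ⟨m', hm'eq⟩ := exists_unit_of_central hm hm0
  refine ⟨m' * a, ?_, ?_⟩
  · rw [Units.val_mul, hm'eq, ht.mul, htm, hta]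
    -- t u * a * (u * m) = m * a
    calc t u * (a : A) * (u * m) = (a : A) * (t u * (u * m)) := by
          rw [← htu' a, mul_assoc]
      _ = (a : A) * ((u * t u) * m) := by
          have h5 : t u * (u * m) = (u * t u) * m := by rw [← mul_assoc, ← htu' u]
          rw [h5]
      _ = m * a := by rw [hnorm, one_mul, hm' a]
  · intro x
    rw [ha x, mul_inv_rev, Units.val_mul, Units.val_mul, hm'eq]
    have hinv : m * ((m'⁻¹ : Aˣ) : A) = 1 := by rw [← hm'eq, Units.mul_inv]
    symm
    calc m * (a : A) * t x * (((a⁻¹ : Aˣ) : A) * ((m'⁻¹ : Aˣ) : A))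
        = m * ((a : A) * t x * ((a⁻¹ : Aˣ) : A)) * ((m'⁻¹ : Aˣ) : A) := by simp only [mul_assoc]
      _ = ((a : A) * t x * ((a⁻¹ : Aˣ) : A)) * m * ((m'⁻¹ : Aˣ) : A) := by rw [hm' _]
      _ = (a : A) * t x * ((a⁻¹ : Aˣ) : A) := by rw [mul_assoc _ m, hinv, mul_one]

end Central

end Groth.Agent.Lib.Helper25.Involution
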