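import Mathlib
import Groth.Agent.Lib.Helper25.Involution

/-!
# Base change of central algebras and of involutions (helper25)
-/

set_option autoImplicit false
universe u v w

open scoped TensorProduct

namespace Groth.Agent.Lib.Helper25.Involution

section Central

variable (k : Type u) [Field k] (L : Type w) [Field L] [Algebra k L]
  (A : Type v) [Ring A] [Algebra k A]

/-- The base change of a central algebra over a field to an extension field is central. -/
theorem isCentral_baseChange [Algebra.IsCentral k A] : Algebra.IsCentral L (L ⊗[k] A) := by
  refine ⟨fun z hz => ?_⟩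
  rw [Subalgebra.mem_center_iff] at hz
  have h1 : z ∈ Subalgebra.centralizer k
      ((Algebra.TensorProduct.includeRight : A →ₐ[k] L ⊗[k] A).range : Set (L ⊗[k] A)) := by
    rw [Subalgebra.mem_centralizer_iff]
    intro g _
    exact hz g
  rw [Subalgebra.centralizer_range_includeRight_eq_center_tensorProduct] at h1
  obtain ⟨w, rfl⟩ := h1
  clear hz
  induction w using TensorProduct.induction_on with
  | zero => simp
  | tmul l c =>
    obtain ⟨c', hc'⟩ := Algebra.mem_bot.mp (Algebra.IsCentral.out (K := k) c.2)
    rw [Algebra.mem_bot]
    refine ⟨c' • l, ?_⟩
    change _ = Algebra.TensorProduct.map (AlgHom.id k L) (Subalgebra.center k A).val (l ⊗ₜ[k] c)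
    rw [Algebra.TensorProduct.map_tmul, Subalgebra.coe_val, ← hc',
      Algebra.TensorProduct.algebraMap_apply, Algebra.algebraMap_eq_smul_one (A := A),
      TensorProduct.tmul_smul, TensorProduct.smul_tmul']
    simp
  | add x y hx hy =>
    rw [map_add]
    exact Subalgebra.add_mem _ hx hy

end Central

section BaseChange

variable {k : Type u} [Field k] (L : Type w) [Field L] [Algebra k L]
  {A : Type v} [Ring A] [Algebra k A]

/-- The base change of an involution is an involution. -/
theorem IsInvol.baseChange {s : A →ₗ[k] A} (hs : IsInvol s) : IsInvol (s.baseChange L) := by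
  refine ⟨?_, ?_, ?_⟩
  · rw [Algebra.TensorProduct.one_def, LinearMap.baseChange_tmul, hs.one]
  · intro x y
    induction x using TensorProduct.induction_on with
    | zero => simp
    | tmul l a =>
      induction y using TensorProduct.induction_on with
      | zero => simp
      | tmul l' a' =>
        simp only [Algebra.TensorProduct.tmul_mul_tmul, LinearMap.baseChange_tmul, hs.mul,
          mul_comm l l']
      | add y y' hy hy' => rw [mul_add, map_add, map_add, add_mul, hy, hy']
    | add x x' hx hx' => rw [add_mul, map_add, map_add, mul_add, hx, hx']
  · intro x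
    induction x using TensorProduct.induction_on with
    | zero => simp
    | tmul l a => simp only [LinearMap.baseChange_tmul, hs.invol]
    | add x x' hx hx' => rw [map_add, map_add, hx, hx']

/-- Transport of an involution along an algebra isomorphism. -/
theorem IsInvol.conjEquiv {B : Type*} [Ring B] [Algebra k B] {s : A →ₗ[k] A} (hs : IsInvol s)
    (e : A ≃ₐ[k] B) :
    IsInvol ((e.toLinearMap ∘ₗ s) ∘ₗ e.symm.toLinearMap) := by
  refine ⟨?_, ?_, ?_⟩
  · simp [hs.one]
  · intro x y
    simp [hs.mul]
  · intro x
    simp [hs.invol]

end BaseChange

section Transpose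

variable (L : Type w) [Field L] (n : Type*) [Fintype n] [DecidableEq n]

/-- Transposition is an involution of the matrix algebra. -/
theorem isInvol_transpose :
    IsInvol (Matrix.transposeLinearEquiv n n L L).toLinearMap := by
  refine ⟨?_, ?_, ?_⟩
  · simp
  · intro x y
    simp [Matrix.transpose_mul]
  · intro x
    simp

end Transpose

end Groth.Agent.Lib.Helper25.Involution
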