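import Mathlib

/-!
# The largest finite étale subalgebra of a subalgebra of a finitely generated algebra over a field

`main`: for a subalgebra `A` of a finitely generated algebra `B` over a field `k` there is a largest
finite étale `k`-subalgebra `E` of `A`; `Spec A → Spec E` is surjective and its fibres are the
connected components of `Spec A`.
-/

set_option autoImplicit false
universe u
open scoped TensorProduct

namespace Groth.Agent.Lib.Helper25.EtaleSubalgebra

variable {k : Type u} [Field k]

/-- over a field, finite + formally unramified implies étale -/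
theorem etale_of_finite_of_formallyUnramified (T : Type u) [CommRing T] [Algebra k T]
    [Module.Finite k T] [Algebra.FormallyUnramified k T] : Algebra.Etale k T := by
  have : Algebra.FormallyEtale k T := Algebra.FormallyEtale.of_formallyUnramified_of_field k T
  exact ⟨inferInstance, Algebra.FinitePresentation.of_finiteType.mp inferInstance⟩

variable {B : Type u} [CommRing B] [Algebra k B]

/-- the range of an algebra map from a finite étale algebra is finite étale -/
theorem etale_range {T : Type u} [CommRing T] [Algebra k T] [Module.Finite k T]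
    [Algebra.FormallyUnramified k T] (φ : T →ₐ[k] B) :
    Module.Finite k φ.range ∧ Algebra.Etale k φ.range := by
  have hs : Function.Surjective φ.rangeRestrict := φ.rangeRestrict_surjective
  have h1 : Module.Finite k φ.range := Module.Finite.of_surjective φ.rangeRestrict.toLinearMap hs
  have h2 : Algebra.FormallyUnramified k φ.range :=
    Algebra.FormallyUnramified.of_surjective φ.rangeRestrict hs
  exact ⟨h1, etale_of_finite_of_formallyUnramified _⟩

theorem etale_sup (E₁ E₂ : Subalgebra k B) [Module.Finite k E₁] [Algebra.Etale k E₁]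
    [Module.Finite k E₂] [Algebra.Etale k E₂] :
    Module.Finite k ↥(E₁ ⊔ E₂) ∧ Algebra.Etale k ↥(E₁ ⊔ E₂) := by
  have hrange : (Algebra.TensorProduct.productMap E₁.val E₂.val).range = E₁ ⊔ E₂ := by
    rw [Algebra.TensorProduct.productMap_range, Subalgebra.range_val, Subalgebra.range_val]
  have : Algebra.FormallyUnramified k (E₁ ⊗[k] E₂) :=
    Algebra.FormallyUnramified.comp k E₁ (E₁ ⊗[k] E₂)
  rw [← hrange]
  exact etale_range _

/-- an idempotent of a subalgebra lies in a finite étale subalgebra -/
theorem exists_etale_subalgebra_of_idempotent (A : Subalgebra k B) (e : B) (heA : e ∈ A)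
    (he : IsIdempotentElem e) :
    ∃ T : Subalgebra k B, T ≤ A ∧ e ∈ T ∧ Module.Finite k T ∧ Algebra.Etale k T := by
  have he' : e * e = e := he
  have h1 : (1 - e) * (1 - e) = 1 - e := by ring_nf; rw [sq, he']; ring
  have h2 : e * (1 - e) = 0 := by rw [mul_sub, mul_one, he', sub_self]
  have h3 : (1 - e) * e = 0 := by rw [mul_comm, h2]
  let ψl : (Fin 2 → k) →ₗ[k] B :=
    (LinearMap.proj (R := k) (φ := fun _ : Fin 2 => k) 0).smulRight (1 - e) +
      (LinearMap.proj (R := k) (φ := fun _ : Fin 2 => k) 1).smulRight e
  have hψl : ∀ f, ψl f = f 0 • (1 - e) + f 1 • e := fun f => rfl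
  let ψ : (Fin 2 → k) →ₐ[k] B := AlgHom.ofLinearMap ψl
    (by rw [hψl]; simp)
    (by
      intro f g
      rw [hψl, hψl, hψl]
      simp only [Pi.mul_apply, add_mul, mul_add, smul_mul_smul_comm, h1, h2, h3, he', smul_zero,
        add_zero, zero_add])
  have hψ : ∀ f, ψ f = f 0 • (1 - e) + f 1 • e := fun f => rfl
  obtain ⟨hfin, het⟩ := etale_range ψ
  refine ⟨ψ.range, ?_, ⟨fun i => if i = 0 then 0 else 1, ?_⟩, hfin, het⟩
  · rintro _ ⟨f, rfl⟩
    show ψ f ∈ A
    rw [hψ]
    exact A.add_mem (A.smul_mem (A.sub_mem A.one_mem heA) _) (A.smul_mem heA _)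
  · show ψ _ = e
    rw [hψ]
    simp

/-- injective ring maps from a zero-dimensional ring: number of primes is bounded by the number of
minimal primes of the target. -/
theorem card_primeSpectrum_le {R R' : Type*} [CommRing R] [CommRing R'] [Ring.KrullDimLE 0 R']
    (j : R' →+* R) (hj : Function.Injective j) (hfin : (minimalPrimes R).Finite) :
    Nat.card (PrimeSpectrum R') ≤ (minimalPrimes R).ncard := by
  classical
  have hex : ∀ p' : PrimeSpectrum R', ∃ q : Ideal R, q ∈ minimalPrimes R ∧ q.comap j = p'.asIdeal := by
    intro p'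
    have hmin : p'.asIdeal ∈ minimalPrimes R' := Ideal.mem_minimalPrimes_of_krullDimLE_zero _
    exact Ideal.exists_minimalPrimes_comap_eq (I := ⊥) j p'.asIdeal
      (by rwa [Ideal.comap_bot_of_injective j hj])
  choose g hg1 hg2 using hex
  have hginj : Function.Injective (fun p' : PrimeSpectrum R' => (⟨g p', hg1 p'⟩ : minimalPrimes R)) := by
    intro p q hpq
    have : g p = g q := congrArg Subtype.val hpq
    apply PrimeSpectrum.ext
    rw [← hg2 p, ← hg2 q, this]
  have : Finite (minimalPrimes R) := hfin
  have := Nat.card_le_card_of_injective _ hginj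
  rwa [Nat.card_coe_set_eq] at this

theorem finrank_le_of_etale [Algebra.FiniteType k B] (E' : Subalgebra k B) [Module.Finite k E']
    [Algebra.Etale k E'] :
    Module.finrank k E' ≤ (minimalPrimes (AlgebraicClosure k ⊗[k] B)).ncard := by
  classical
  let Ω := AlgebraicClosure k
  have : IsNoetherianRing (Ω ⊗[k] B) := Algebra.FiniteType.isNoetherianRing Ω _
  have hfin : (minimalPrimes (Ω ⊗[k] B)).Finite := minimalPrimes.finite_of_isNoetherianRing _
  -- the base change of `E'`
  let ε := Algebra.FormallyEtale.equivPiOfIsSepClosed Ω (Ω ⊗[k] E')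
  have hArt : IsArtinianRing (Ω ⊗[k] E') := IsArtinianRing.of_finite Ω _
  have : Finite (PrimeSpectrum (Ω ⊗[k] E')) := inferInstance
  have : Fintype (PrimeSpectrum (Ω ⊗[k] E')) := Fintype.ofFinite _
  have h1 : Module.finrank k E' = Nat.card (PrimeSpectrum (Ω ⊗[k] E')) := by
    rw [← Module.finrank_baseChange (R := Ω), ε.toLinearEquiv.finrank_eq,
      Module.finrank_fintype_fun_eq_card, Nat.card_eq_fintype_card]
  rw [h1]
  let j : Ω ⊗[k] E' →ₐ[Ω] Ω ⊗[k] B := Algebra.TensorProduct.map (AlgHom.id Ω Ω) E'.val
  have hj : Function.Injective j := by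
    have := Module.Flat.lTensor_preserves_injective_linearMap (M := Ω) E'.val.toLinearMap
      Subtype.val_injective
    exact this
  exact card_primeSpectrum_le j.toRingHom hj hfin

theorem etale_bot : Module.Finite k (⊥ : Subalgebra k B) ∧ Algebra.Etale k (⊥ : Subalgebra k B) := by
  have hs : Function.Surjective (Algebra.ofId k (⊥ : Subalgebra k B)) := by
    rintro ⟨x, hx⟩
    obtain ⟨a, rfl⟩ := Algebra.mem_bot.1 hx
    exact ⟨a, rfl⟩
  have h1 : Module.Finite k (⊥ : Subalgebra k B) :=
    Module.Finite.of_surjective (Algebra.ofId k (⊥ : Subalgebra k B)).toLinearMap hs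
  have h2 : Algebra.FormallyUnramified k (⊥ : Subalgebra k B) :=
    Algebra.FormallyUnramified.of_surjective (Algebra.ofId k (⊥ : Subalgebra k B)) hs
  have : Algebra.FormallyEtale k (⊥ : Subalgebra k B) :=
    Algebra.FormallyEtale.of_formallyUnramified_of_field k _
  exact ⟨h1, ⟨inferInstance, Algebra.FinitePresentation.of_finiteType.mp inferInstance⟩⟩

/-- existence of the largest finite étale subalgebra -/
theorem exists_largest [Algebra.FiniteType k B] (A : Subalgebra k B) :
    ∃ E : Subalgebra k B, E ≤ A ∧ Module.Finite k E ∧ Algebra.Etale k E ∧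
      ∀ E' : Subalgebra k B, E' ≤ A → Module.Finite k E' → Algebra.Etale k E' → E' ≤ E := by
  classical
  let P : Subalgebra k B → Prop := fun E => E ≤ A ∧ Module.Finite k E ∧ Algebra.Etale k E
  let N := (minimalPrimes (AlgebraicClosure k ⊗[k] B)).ncard
  have hbound : ∀ E, P E → Module.finrank k E ≤ N := by
    rintro E ⟨_, h1, h2⟩
    exact finrank_le_of_etale E
  -- pick `E` of maximal dimension
  have hex : ∃ n, ∃ E, P E ∧ Module.finrank k E = n := ⟨_, ⊥, ⟨bot_le, etale_bot.1, etale_bot.2⟩, rfl⟩
  obtain ⟨E, hPE, hmax⟩ : ∃ E, P E ∧ ∀ E', P E' → Module.finrank k E' ≤ Module.finrank k E := by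
    let n := Nat.findGreatest (fun n => ∃ E, P E ∧ Module.finrank k E = n) N
    obtain ⟨n₀, E₀, hE₀, hn₀⟩ := hex
    have hn₀N : n₀ ≤ N := hn₀ ▸ hbound E₀ hE₀
    obtain ⟨E, hPE, hE⟩ : ∃ E, P E ∧ Module.finrank k E = n :=
      Nat.findGreatest_spec (P := fun n => ∃ E, P E ∧ Module.finrank k E = n) hn₀N ⟨E₀, hE₀, hn₀⟩
    refine ⟨E, hPE, fun E' hE' => ?_⟩
    rw [hE]
    exact Nat.le_findGreatest (hbound E' hE') ⟨E', hE', rfl⟩
  obtain ⟨hEA, hEfin, hEet⟩ := hPE
  refine ⟨E, hEA, hEfin, hEet, fun E' hE'A hE'fin hE'et => ?_⟩
  obtain ⟨h1, h2⟩ := etale_sup E E'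
  have h3 : Module.finrank k ↥(E ⊔ E') ≤ Module.finrank k E :=
    hmax (E ⊔ E') ⟨sup_le hEA hE'A, h1, h2⟩
  have h4 : Subalgebra.toSubmodule E = Subalgebra.toSubmodule (E ⊔ E') := by
    apply Submodule.eq_of_le_of_finrank_le
    · exact Subalgebra.toSubmodule.monotone le_sup_left
    · exact h3
  have h5 : E = E ⊔ E' := Subalgebra.toSubmodule_injective h4
  rw [h5]
  exact le_sup_right

/-- in a reduced ring, an element lying in all primes is zero -/
theorem eq_zero_of_forall_mem_prime {R : Type*} [CommRing R] [IsReduced R] (x : R)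
    (h : ∀ q : Ideal R, q.IsPrime → x ∈ q) : x = 0 := by
  have : x ∈ nilradical R := by
    rw [nilradical_eq_sInf, Ideal.mem_sInf]
    intro q hq
    exact h q hq
  exact (mem_nilradical.1 this).eq_zero

theorem main [Algebra.FiniteType k B] (A : Subalgebra k B) :
    ∃ (E : Subalgebra k B) (hE : E ≤ A), Module.Finite k E ∧ Algebra.Etale k E ∧
      (∀ E' : Subalgebra k B, E' ≤ A → Module.Finite k E' → Algebra.Etale k E' → E' ≤ E) ∧
      Function.Surjective (PrimeSpectrum.comap (Subalgebra.inclusion hE).toRingHom) ∧
      ∀ p q : PrimeSpectrum A, PrimeSpectrum.comap (Subalgebra.inclusion hE).toRingHom p =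
          PrimeSpectrum.comap (Subalgebra.inclusion hE).toRingHom q ↔
        connectedComponent p = connectedComponent q := by
  classical
  obtain ⟨E, hE, hfin, het, hmax⟩ := exists_largest A
  refine ⟨E, hE, hfin, het, hmax, ?_, ?_⟩
  all_goals
    have hArt : IsArtinianRing E := IsArtinianRing.of_finite k E
    have hred : IsReduced E := Algebra.FormallyUnramified.isReduced_of_field k E
    have hιinj : Function.Injective (Subalgebra.inclusion hE).toRingHom :=
      Subalgebra.inclusion_injective hE
  · intro p'
    have hmin : p'.asIdeal ∈ minimalPrimes E := Ideal.mem_minimalPrimes_of_krullDimLE_zero _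
    obtain ⟨q, hq, hqp⟩ := Ideal.exists_minimalPrimes_comap_eq (I := ⊥)
      (Subalgebra.inclusion hE).toRingHom p'.asIdeal
      (by rwa [Ideal.comap_bot_of_injective _ hιinj])
    exact ⟨⟨q, hq.1.1⟩, PrimeSpectrum.ext hqp⟩
  · intro p q
    set ι := (Subalgebra.inclusion hE).toRingHom with hι
    set f := PrimeSpectrum.comap ι with hf
    have hfc : Continuous f := PrimeSpectrum.continuous_comap ι
    constructor
    swap
    · intro h
      have h1 := Continuous.image_connectedComponent_eq_singleton hfc p
      have h2 : q ∈ connectedComponent p := h ▸ mem_connectedComponent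
      have h3 : f q ∈ f '' connectedComponent p := ⟨q, h2, rfl⟩
      rw [h1] at h3
      exact h3.symm
    · intro hpq
      set p' := f p with hp'
      obtain ⟨e, hep', heid, heq⟩ := IsArtinianRing.exists_not_mem_forall_mem_of_ne p'.asIdeal
      set ê : A := ι e with hê
      have hêid : IsIdempotentElem ê := heid.map ι
      set U : Set (PrimeSpectrum A) := (PrimeSpectrum.basicOpen ê : Set (PrimeSpectrum A)) with hU
      have hUmem : ∀ P : PrimeSpectrum A, P ∈ U ↔ f P = p' := by
        intro P
        rw [hU, SetLike.mem_coe, PrimeSpectrum.mem_basicOpen]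
        constructor
        · intro h
          by_contra hne
          have h1 : (f P).asIdeal ≠ p'.asIdeal := fun h2 => hne (PrimeSpectrum.ext h2)
          have h2 : e ∈ (f P).asIdeal := heq _ (f P).isPrime h1
          exact h h2
        · intro h h2
          have h3 : e ∈ (f P).asIdeal := h2
          rw [h] at h3
          exact hep' h3
      have hUclopen : IsClopen U := PrimeSpectrum.isClopen_iff.2 ⟨ê, hêid, rfl⟩
      -- clopen subsets of `U` are trivial
      have hkey : ∀ V : Set (PrimeSpectrum A), IsClopen V → V ⊆ U → V = ∅ ∨ V = U := by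
        intro V hV hVU
        obtain ⟨e', he'id, rfl⟩ := PrimeSpectrum.isClopen_iff.1 hV
        set e'' : A := e' * ê with he''
        have he''id : IsIdempotentElem e'' := he'id.mul hêid
        have hVeq : (PrimeSpectrum.basicOpen e' : Set (PrimeSpectrum A)) =
            (PrimeSpectrum.basicOpen e'' : Set (PrimeSpectrum A)) := by
          rw [he'', PrimeSpectrum.basicOpen_mul, TopologicalSpace.Opens.coe_inf]
          exact (Set.inter_eq_left.2 hVU).symm
        obtain ⟨T, hTA, heT, hTfin, hTet⟩ :=
          exists_etale_subalgebra_of_idempotent A (e'' : B) e''.2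
            (by
              have := congrArg Subtype.val he''id.eq
              exact this)
        have hTE : T ≤ E := hmax T hTA hTfin hTet
        let x : E := ⟨(e'' : B), hTE heT⟩
        have hιx : ι x = e'' := Subtype.ext rfl
        have hxid : IsIdempotentElem x := by
          apply hιinj
          rw [map_mul, hιx]
          exact he''id.eq
        have hxe : x * e = x := by
          apply hιinj
          rw [map_mul, hιx, he'', ← hê, mul_assoc, hêid.eq]
        have hxq : ∀ q' : Ideal E, q'.IsPrime → q' ≠ p'.asIdeal → x ∈ q' := by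
          intro q' hq' hne
          rw [← hxe]
          exact q'.mul_mem_left _ (heq q' hq' hne)
        have hx01 : x * (1 - x) = 0 := by rw [mul_sub, mul_one, hxid.eq, sub_self]
        by_cases hxp : x ∈ p'.asIdeal
        · left
          have hx0 : x = 0 := by
            apply eq_zero_of_forall_mem_prime
            intro q' hq'
            by_cases hne : q' = p'.asIdeal
            · rw [hne]; exact hxp
            · exact hxq q' hq' hne
          rw [hVeq, ← hιx, hx0, map_zero, PrimeSpectrum.basicOpen_zero]
          rfl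
        · right
          have h1x : 1 - x ∈ p'.asIdeal := by
            have : x * (1 - x) ∈ p'.asIdeal := by rw [hx01]; exact zero_mem _
            exact (p'.isPrime.mem_or_mem this).resolve_left hxp
          have hy : e - x = 0 := by
            apply eq_zero_of_forall_mem_prime
            intro q' hq'
            by_cases hne : q' = p'.asIdeal
            · rw [hne]
              have : e - x = e * (1 - x) := by rw [mul_sub, mul_one, mul_comm, hxe]
              rw [this]
              exact Ideal.mul_mem_left _ _ h1x
            · exact q'.sub_mem (heq q' hq' hne) (hxq q' hq' hne)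
          have hxe' : x = e := (sub_eq_zero.1 hy).symm
          rw [hVeq, ← hιx, hxe']
      have hUpre : IsPreconnected U := by
        intro u v hu hv hUuv hUu hUv
        by_contra hcon
        rw [Set.not_nonempty_iff_eq_empty] at hcon
        have hVeq : U ∩ u = U ∩ vᶜ := by
          ext P
          constructor
          · rintro ⟨h1, h2⟩
            refine ⟨h1, fun h3 => ?_⟩
            have : P ∈ U ∩ (u ∩ v) := ⟨h1, h2, h3⟩
            rw [hcon] at this
            exact this
          · rintro ⟨h1, h2⟩
            exact ⟨h1, (hUuv h1).resolve_right h2⟩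
        have hVclopen : IsClopen (U ∩ u) :=
          ⟨hVeq ▸ hUclopen.1.inter hv.isClosed_compl, hUclopen.2.inter hu⟩
        rcases hkey (U ∩ u) hVclopen Set.inter_subset_left with h | h
        · rw [h] at hUu
          exact Set.not_nonempty_empty hUu
        · obtain ⟨P, hP1, hP2⟩ := hUv
          have hPu : P ∈ U ∩ u := by rw [h]; exact hP1
          have : P ∈ U ∩ (u ∩ v) := ⟨hP1, hPu.2, hP2⟩
          rw [hcon] at this
          exact this
      have hpU : p ∈ U := (hUmem p).2 rfl
      have hqU : q ∈ U := (hUmem q).2 hpq.symm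
      exact connectedComponent_eq (hUpre.subset_connectedComponent hpU hqU)

end Groth.Agent.Lib.Helper25.EtaleSubalgebra
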