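import Mathlib
import Groth.Prelude.Def_Curves

/-!
# Spectra of absolutely integrally closed local domains are the local objects for
Zariski + finite coverings (helper25, for S19345)
-/

set_option autoImplicit false
set_option linter.style.haveILetI false
universe u
open CategoryTheory CategoryTheory.Limits AlgebraicGeometry TopologicalSpace
open Polynomial

namespace Helper25.AICLocal

section ring
variable {A : Type u} [CommRing A]

/-- Over an AIC ring `A`, a root of a monic polynomial over `A` in a domain `L` comes from `A`. -/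
theorem mem_range_of_monic_root (hA : Curves.IsAIC A) {L : Type*} [CommRing L] [IsDomain L]
    [Algebra A L] :
    ∀ (n : ℕ) (f : A[X]), f.natDegree = n → f.Monic → ∀ t : L, aeval t f = 0 →
      t ∈ Set.range (algebraMap A L) := by
  intro n
  induction n with
  | zero =>
    intro f hn hf t ht
    have h1 : f = 1 := by
      rw [← hf.natDegree_eq_zero]; exact hn
    rw [h1] at ht
    simp at ht
  | succ n ih =>
    intro f hn hf t ht
    haveI : Nontrivial A := (algebraMap A L).domain_nontrivial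
    obtain ⟨r, hr⟩ := hA f hf (by omega)
    have hdvd : (X - C r) ∣ f := dvd_iff_isRoot.mpr hr
    obtain ⟨g, hg⟩ := hdvd
    have hgm : g.Monic := by
      have := hf
      rw [hg] at this
      exact (monic_X_sub_C r).of_mul_monic_left this
    have hdeg : g.natDegree = n := by
      have h2 := congrArg natDegree hg
      rw [(monic_X_sub_C r).natDegree_mul hgm, natDegree_X_sub_C, hn] at h2
      omega
    rw [hg, map_mul, mul_eq_zero] at ht
    rcases ht with ht | ht
    · refine ⟨r, ?_⟩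
      simp only [map_sub, aeval_X, aeval_C] at ht
      exact (sub_eq_zero.mp ht).symm
    · exact ih g hdeg hgm t ht

theorem mem_range_of_isIntegral (hA : Curves.IsAIC A) {L : Type*} [CommRing L] [IsDomain L]
    [Algebra A L] (t : L) (ht : IsIntegral A t) : t ∈ Set.range (algebraMap A L) := by
  obtain ⟨f, hf, hft⟩ := ht
  rw [← aeval_def] at hft
  exact mem_range_of_monic_root hA _ f rfl hf t hft

/-- The fraction field of an AIC domain is algebraically closed. -/
theorem isAlgClosed_of_isAIC [IsDomain A] (hA : Curves.IsAIC A) (K : Type*) [Field K] [Algebra A K]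
    [IsFractionRing A K] : IsAlgClosed K := by
  refine IsAlgClosed.of_exists_root K fun p hp hirr => ?_
  haveI : Fact (Irreducible p) := ⟨hirr⟩
  let L := AdjoinRoot p
  haveI : IsScalarTower A K L := inferInstance
  let α : L := AdjoinRoot.root p
  have hα : IsAlgebraic K α := (AdjoinRoot.isIntegral_root hp.ne_zero).isAlgebraic
  have hα' : IsAlgebraic A α := (IsFractionRing.isAlgebraic_iff A K L).mpr hα
  obtain ⟨d, hd, hint⟩ := hα'.exists_integral_multiple
  obtain ⟨r, hr⟩ := mem_range_of_isIntegral hA _ hint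
  have hdK : algebraMap A K d ≠ 0 := by
    intro h
    exact hd ((IsFractionRing.injective A K) (by rw [h, map_zero]))
  refine ⟨algebraMap A K r / algebraMap A K d, ?_⟩
  have hαeq : α = algebraMap K L (algebraMap A K r / algebraMap A K d) := by
    rw [map_div₀, ← IsScalarTower.algebraMap_apply, ← IsScalarTower.algebraMap_apply, hr,
      Algebra.smul_def, mul_comm, mul_div_assoc]
    have : algebraMap A L d ≠ 0 := by
      rw [IsScalarTower.algebraMap_apply A K L]
      exact (_root_.map_ne_zero _).mpr hdK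
    rw [div_self this, mul_one]
  have h0 : aeval α p = 0 := AdjoinRoot.aeval_eq p ▸ AdjoinRoot.mk_self
  rw [hαeq, aeval_algebraMap_apply] at h0
  have := (algebraMap K L).injective (h0.trans (map_zero _).symm)
  simpa using this

/-- The core algebraic statement: a finite (integral) algebra over an AIC domain with a prime lying
over zero has a retraction. -/
theorem exists_retraction [IsDomain A] (hA : Curves.IsAIC A) {B : Type u} [CommRing B]
    (φ : A →+* B) (hφ : φ.IsIntegral) (q : Ideal B) [q.IsPrime] (hq : q.comap φ = ⊥) :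
    ∃ s : B →+* A, s.comp φ = RingHom.id A := by
  letI : Algebra A B := φ.toAlgebra
  haveI : Algebra.IsIntegral A B := ⟨hφ⟩
  let K := FractionRing A
  haveI : IsAlgClosed K := isAlgClosed_of_isAIC hA K
  have hinj : Function.Injective (algebraMap A (B ⧸ q)) := by
    rw [injective_iff_map_eq_zero]
    intro a ha
    have h1 : φ a ∈ q := by
      rw [← Ideal.Quotient.eq_zero_iff_mem]
      exact ha
    have h2 : a ∈ q.comap φ := h1
    rw [hq] at h2
    exact h2
  haveI : Module.IsTorsionFree A (B ⧸ q) := Module.isTorsionFree_iff_algebraMap_injective.mpr hinj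
  haveI : Algebra.IsAlgebraic A (B ⧸ q) := inferInstance
  let f : (B ⧸ q) →ₐ[A] K := IsAlgClosed.lift
  -- the image lies in A
  have himg : ∀ b : B ⧸ q, ∃ a : A, algebraMap A K a = f b := by
    intro b
    have hb : IsIntegral A (f b) := (Algebra.IsIntegral.isIntegral b).map f
    exact mem_range_of_isIntegral hA _ hb
  choose s hs using himg
  have hKinj := IsFractionRing.injective A K
  let sHom : (B ⧸ q) →+* A :=
    { toFun := s
      map_one' := hKinj (by rw [hs, map_one, map_one])
      map_mul' := fun x y => hKinj (by rw [hs, map_mul, map_mul, hs, hs])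
      map_zero' := hKinj (by rw [hs, map_zero, map_zero])
      map_add' := fun x y => hKinj (by rw [hs, map_add, map_add, hs, hs]) }
  refine ⟨sHom.comp (Ideal.Quotient.mk q), ?_⟩
  ext a
  apply hKinj
  change algebraMap A K (s (Ideal.Quotient.mk q (φ a))) = algebraMap A K a
  rw [hs]
  have : Ideal.Quotient.mk q (φ a) = algebraMap A (B ⧸ q) a := rfl
  rw [this, f.commutes]

end ring

variable (P : Scheme.{u})

/-- Zariski locality of the spectrum of a local ring. -/
theorem zariski_local_of_isLocalRing [IsAffine P] [IsLocalRing Γ(P, ⊤)]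
    (X : Scheme.{u}) (R : Presieve X)
    (hR : R ∈ Scheme.precoverage (@IsOpenImmersion ⊓ @QuasiCompact) X) (g : P ⟶ X) :
    ∃ (Y : Scheme.{u}) (w : Y ⟶ X) (h : P ⟶ Y), R w ∧ h ≫ w = g := by
  let c : P := P.isoSpec.inv (IsLocalRing.closedPoint Γ(P, ⊤))
  obtain ⟨Y, w, hw, hx⟩ := (Presieve.mem_comap_jointlySurjectivePrecoverage_iff _).mp hR.1 (g c)
  have hwP : (@IsOpenImmersion ⊓ @QuasiCompact) w := hR.2 hw
  haveI : IsOpenImmersion w := hwP.1
  have hrange : Set.range g ⊆ Set.range w := by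
    rintro _ ⟨p, rfl⟩
    have h1 : P.isoSpec.hom p ⤳ IsLocalRing.closedPoint Γ(P, ⊤) :=
      IsLocalRing.specializes_closedPoint _
    have h2 : P.isoSpec.inv (P.isoSpec.hom p) ⤳ c := h1.map P.isoSpec.inv.continuous
    have h3 : P.isoSpec.inv (P.isoSpec.hom p) = p := by
      rw [← Scheme.Hom.comp_apply, Iso.hom_inv_id]; rfl
    rw [h3] at h2
    have h4 : g p ⤳ g c := h2.map g.continuous
    exact h4.mem_open w.isOpenEmbedding.isOpen_range hx
  exact ⟨Y, w, IsOpenImmersion.lift w g hrange, hw, IsOpenImmersion.lift_fac w g hrange⟩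

/-- Finite locality of the spectrum of an AIC domain. -/
theorem finite_local_of_isAIC [IsAffine P] [IsDomain Γ(P, ⊤)] (hA : Curves.IsAIC Γ(P, ⊤))
    (X : Scheme.{u}) (R : Presieve X)
    (hR : R ∈ Scheme.precoverage @IsFinite X) (g : P ⟶ X) :
    ∃ (Y : Scheme.{u}) (w : Y ⟶ X) (h : P ⟶ Y), R w ∧ h ≫ w = g := by
  let η0 : ↥(Spec Γ(P, ⊤)) := (⟨⊥, Ideal.isPrime_bot⟩ : PrimeSpectrum Γ(P, ⊤))
  let η : P := P.isoSpec.inv η0
  obtain ⟨Y, w, hw, y, hy⟩ := (Presieve.mem_comap_jointlySurjectivePrecoverage_iff _).mp hR.1 (g η)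
  haveI : IsFinite w := hR.2 hw
  obtain ⟨z, hz1, hz2⟩ := Scheme.Pullback.exists_preimage_pullback (f := g) (g := w) η y hy.symm
  let P' := pullback g w
  haveI : IsAffine P' := isAffine_of_isAffineHom (pullback.fst g w)
  let φ : Γ(P, ⊤) →+* Γ(P', ⊤) := (pullback.fst g w).appTop.hom
  have hφ : φ.Finite := Scheme.Hom.finite_appTop (pullback.fst g w)
  let q : Ideal Γ(P', ⊤) := (P'.isoSpec.hom z).asIdeal
  haveI : q.IsPrime := (P'.isoSpec.hom z).isPrime
  have hq : q.comap φ = ⊥ := by
    have h1 : (Spec.map (pullback.fst g w).appTop) (P'.isoSpec.hom z) = P.isoSpec.hom η := by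
      rw [← Scheme.Hom.comp_apply, Scheme.isoSpec_hom_naturality, Scheme.Hom.comp_apply, hz1]
    have h2 : P.isoSpec.hom η = η0 := by
      change (P.isoSpec.inv ≫ P.isoSpec.hom) η0 = η0
      rw [Iso.inv_hom_id]; rfl
    rw [h2] at h1
    have h3 := congrArg PrimeSpectrum.asIdeal h1
    exact h3
  obtain ⟨s, hs⟩ := exists_retraction hA φ hφ.to_isIntegral q hq
  let σ : P ⟶ P' := P.isoSpec.hom ≫ Spec.map (CommRingCat.ofHom s) ≫ P'.isoSpec.inv
  have hσ : σ ≫ pullback.fst g w = 𝟙 P := by
    change (P.isoSpec.hom ≫ Spec.map (CommRingCat.ofHom s) ≫ P'.isoSpec.inv) ≫ pullback.fst g w = 𝟙 P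
    simp only [Category.assoc]
    rw [← Scheme.isoSpec_inv_naturality, ← Spec.map_comp_assoc]
    have : (pullback.fst g w).appTop ≫ CommRingCat.ofHom s = 𝟙 _ := by
      ext x
      exact congrArg (fun f : Γ(P, ⊤) →+* Γ(P, ⊤) => f x) hs
    rw [this, Spec.map_id, Category.id_comp, Iso.hom_inv_id]
  refine ⟨Y, w, σ ≫ pullback.snd g w, hw, ?_⟩
  rw [Category.assoc, ← pullback.condition, ← Category.assoc, hσ, Category.id_comp]

theorem exists_section_of_local [IsAffine P] (Q : MorphismProperty Scheme.{u})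
    (hloc : ∀ (X : Scheme.{u}) (R : Presieve X), R ∈ Scheme.precoverage Q X →
        ∀ g : P ⟶ X, ∃ (Y : Scheme.{u}) (w : Y ⟶ X) (h : P ⟶ Y), R w ∧ h ≫ w = g)
    {ι : Type} (B : ι → Type u) [∀ i, CommRing (B i)] (φ : ∀ i, Γ(P, ⊤) →+* B i)
    (hsurj : ∀ x : PrimeSpectrum Γ(P, ⊤), ∃ i, x ∈ Set.range (PrimeSpectrum.comap (φ i)))
    (hQ : ∀ i, Q (Spec.map (CommRingCat.ofHom (φ i)))) :
    ∃ i, ∃ s : B i →+* Γ(P, ⊤), s.comp (φ i) = RingHom.id _ := by
  let R : Presieve (Spec Γ(P, ⊤)) := Presieve.ofArrows (fun i => Spec (CommRingCat.of (B i)))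
    (fun i => Spec.map (CommRingCat.ofHom (φ i)))
  have hR : R ∈ Scheme.precoverage Q (Spec Γ(P, ⊤)) := by
    rw [Scheme.ofArrows_mem_precoverage_iff]
    refine ⟨fun x => ?_, hQ⟩
    obtain ⟨i, y, hy⟩ := hsurj x
    exact ⟨i, y, hy⟩
  obtain ⟨Y, w, h, hw, hfac⟩ := hloc _ R hR P.isoSpec.hom
  obtain ⟨i⟩ := hw
  refine ⟨i, ?_⟩
  let t : Spec Γ(P, ⊤) ⟶ Spec (CommRingCat.of (B i)) := P.isoSpec.inv ≫ h
  have ht : t ≫ Spec.map (CommRingCat.ofHom (φ i)) = 𝟙 _ := by
    change (P.isoSpec.inv ≫ h) ≫ _ = _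
    rw [Category.assoc, hfac, Iso.inv_hom_id]
  refine ⟨(Spec.preimage t).hom, ?_⟩
  have h1 : CommRingCat.ofHom (φ i) ≫ Spec.preimage t = 𝟙 _ := by
    apply Spec.map_injective
    rw [Spec.map_comp, Spec.map_preimage, ht, Spec.map_id]
    rfl
  ext x
  exact congrArg (fun f : Γ(P, ⊤) ⟶ Γ(P, ⊤) => f.hom x) h1

section forward

variable (hZ : ∀ (X : Scheme.{u}) (R : Presieve X),
    R ∈ Scheme.precoverage (@IsOpenImmersion ⊓ @QuasiCompact) X →
      ∀ g : P ⟶ X, ∃ (Y : Scheme.{u}) (w : Y ⟶ X) (h : P ⟶ Y), R w ∧ h ≫ w = g)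
  (hF : ∀ (X : Scheme.{u}) (R : Presieve X), R ∈ Scheme.precoverage @IsFinite X →
      ∀ g : P ⟶ X, ∃ (Y : Scheme.{u}) (w : Y ⟶ X) (h : P ⟶ Y), R w ∧ h ≫ w = g)

include hZ in
theorem nonempty_of_local : Nonempty P := by
  by_contra hne
  haveI : IsEmpty P := not_nonempty_iff.mp hne
  obtain ⟨Y, w, h, hw, -⟩ := hZ P ⊥ (Scheme.bot_mem_precoverage _ P) (𝟙 P)
  exact hw

include hZ in
theorem isAffine_of_local [QuasiSeparatedSpace P] : IsAffine P := by
  let R : Presieve P := Presieve.ofArrows (fun U : P.affineOpens => ((U : P.Opens) : Scheme.{u}))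
    (fun U => (U : P.Opens).ι)
  have hR : R ∈ Scheme.precoverage (@IsOpenImmersion ⊓ @QuasiCompact) P := by
    rw [Scheme.ofArrows_mem_precoverage_iff]
    refine ⟨fun x => ?_, fun U => ⟨inferInstance, ?_⟩⟩
    · obtain ⟨_, ⟨U, hU, rfl⟩, hxU, -⟩ := P.isBasis_affineOpens.exists_subset_of_mem_open
        (Set.mem_univ x) isOpen_univ
      refine ⟨⟨U, hU⟩, ?_⟩
      rw [Scheme.Opens.range_ι]
      exact hxU
    · haveI : CompactSpace ((U : P.Opens) : Scheme.{u}) := inferInstance
      infer_instance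
  obtain ⟨Y, w, h, hw, hfac⟩ := hZ P R hR (𝟙 P)
  obtain ⟨U⟩ := hw
  have h2 : (U : P.Opens).ι ≫ h = 𝟙 _ := by
    rw [← cancel_mono (U : P.Opens).ι, Category.assoc, hfac, Category.comp_id, Category.id_comp]
  haveI : IsIso h := ⟨(U : P.Opens).ι, hfac, h2⟩
  exact IsAffine.of_isIso h

include hZ in
theorem isLocalRing_of_local [IsAffine P] [Nontrivial Γ(P, ⊤)] : IsLocalRing Γ(P, ⊤) := by
  refine IsLocalRing.of_isUnit_or_isUnit_one_sub_self fun a => ?_
  let c : Bool → Γ(P, ⊤) := fun b => if b then a else 1 - a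
  have hsurj : ∀ x : PrimeSpectrum Γ(P, ⊤), ∃ b : Bool, x ∈ Set.range
      (PrimeSpectrum.comap (algebraMap Γ(P, ⊤) (Localization.Away (c b)))) := by
    intro x
    by_cases hax : a ∈ x.asIdeal
    · refine ⟨false, ?_⟩
      rw [PrimeSpectrum.localization_away_comap_range (Localization.Away (c false)) (c false)]
      change c false ∉ x.asIdeal
      intro h1
      have : (1 : Γ(P, ⊤)) ∈ x.asIdeal := by
        have := x.asIdeal.add_mem hax h1
        simpa [c] using this
      exact x.isPrime.ne_top ((Ideal.eq_top_iff_one _).mpr this)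
    · refine ⟨true, ?_⟩
      rw [PrimeSpectrum.localization_away_comap_range (Localization.Away (c true)) (c true)]
      exact hax
  have hQ : ∀ b : Bool, (@IsOpenImmersion ⊓ @QuasiCompact)
      (Spec.map (CommRingCat.ofHom (algebraMap Γ(P, ⊤) (Localization.Away (c b))))) :=
    fun b => ⟨inferInstance, inferInstance⟩
  obtain ⟨b, s, hs⟩ := exists_section_of_local P _ hZ (fun b => Localization.Away (c b))
    (fun b => algebraMap Γ(P, ⊤) (Localization.Away (c b))) hsurj hQ
  have hu : IsUnit (algebraMap Γ(P, ⊤) (Localization.Away (c b)) (c b)) :=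
    IsLocalization.Away.algebraMap_isUnit (c b)
  have hu2 : IsUnit (c b) := by
    have := hu.map s
    rwa [show s (algebraMap Γ(P, ⊤) (Localization.Away (c b)) (c b)) = c b from
      congrArg (fun f : Γ(P, ⊤) →+* Γ(P, ⊤) => f (c b)) hs] at this
  cases b
  · exact Or.inr hu2
  · exact Or.inl hu2

include hF in
theorem isDomain_of_local [IsAffine P] [Nontrivial Γ(P, ⊤)] : IsDomain Γ(P, ⊤) := by
  haveI : NoZeroDivisors Γ(P, ⊤) := by
    refine ⟨fun {a b} hab => ?_⟩
    let c : Bool → Γ(P, ⊤) := fun t => if t then a else b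
    have hsurj : ∀ x : PrimeSpectrum Γ(P, ⊤), ∃ t : Bool, x ∈ Set.range
        (PrimeSpectrum.comap (Ideal.Quotient.mk (Ideal.span {c t}))) := by
      intro x
      have hmem : a * b ∈ x.asIdeal := by rw [hab]; exact x.asIdeal.zero_mem
      have hrange : ∀ t, c t ∈ x.asIdeal →
          x ∈ Set.range (PrimeSpectrum.comap (Ideal.Quotient.mk (Ideal.span {c t}))) := by
        intro t ht
        rw [range_comap_of_surjective _ _ Ideal.Quotient.mk_surjective, Ideal.mk_ker]
        rw [PrimeSpectrum.mem_zeroLocus]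
        exact (Ideal.span_singleton_le_iff_mem _).mpr ht
      rcases x.isPrime.mem_or_mem hmem with h | h
      · exact ⟨true, hrange true h⟩
      · exact ⟨false, hrange false h⟩
    have hQ : ∀ t : Bool, IsFinite (Spec.map (CommRingCat.ofHom
        (Ideal.Quotient.mk (Ideal.span {c t})))) := by
      intro t
      rw [IsFinite.SpecMap_iff]
      exact RingHom.Finite.of_surjective _ Ideal.Quotient.mk_surjective
    obtain ⟨t, s, hs⟩ := exists_section_of_local P _ hF (fun t => Γ(P, ⊤) ⧸ Ideal.span {c t})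
      (fun t => Ideal.Quotient.mk (Ideal.span {c t})) hsurj hQ
    have h0 : c t = 0 := by
      have h1 : s (Ideal.Quotient.mk (Ideal.span {c t}) (c t)) = c t :=
        congrArg (fun f : Γ(P, ⊤) →+* Γ(P, ⊤) => f (c t)) hs
      rw [Ideal.Quotient.eq_zero_iff_mem.mpr (Ideal.mem_span_singleton_self (c t)), map_zero] at h1
      exact h1.symm
    cases t
    · exact Or.inr h0
    · exact Or.inl h0
  exact NoZeroDivisors.to_isDomain _

include hF in
theorem isAIC_of_local [IsAffine P] [IsDomain Γ(P, ⊤)] : Curves.IsAIC Γ(P, ⊤) := by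
  intro f hf hdeg
  have hfin : (AdjoinRoot.of f).Finite := by
    haveI := hf.finite_adjoinRoot
    exact RingHom.finite_algebraMap.mpr inferInstance
  have hsurj : ∀ x : PrimeSpectrum Γ(P, ⊤), ∃ _ : Unit, x ∈ Set.range
      (PrimeSpectrum.comap (AdjoinRoot.of f)) := by
    intro x
    refine ⟨(), ?_⟩
    exact hfin.to_isIntegral.comap_surjective (AdjoinRoot.of.injective_of_degree_ne_zero (by
      rw [Polynomial.degree_eq_natDegree hf.ne_zero]
      exact_mod_cast hdeg.ne')) x
  have hQ : ∀ _ : Unit, IsFinite (Spec.map (CommRingCat.ofHom (AdjoinRoot.of f))) := by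
    intro _
    rw [IsFinite.SpecMap_iff]
    exact hfin
  obtain ⟨_, s, hs⟩ := exists_section_of_local P _ hF (fun _ : Unit => AdjoinRoot f)
    (fun _ => AdjoinRoot.of f) hsurj hQ
  refine ⟨s (AdjoinRoot.root f), ?_⟩
  have h1 : Polynomial.eval₂ (AdjoinRoot.of f) (AdjoinRoot.root f) f = 0 := AdjoinRoot.eval₂_root f
  have h2 := congrArg s h1
  rw [Polynomial.hom_eval₂, hs, map_zero] at h2
  simpa using h2

end forward

end Helper25.AICLocal
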