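import Mathlib
import Groth.Prelude.Def_QuadGrp2

/-!
# Schemes over an affine base are determined by their points with values in affine schemes

`isIso_of_bijective_points`: a morphism over `Spec R` bijective on `Spec A`-points for all `R`-algebras
`A` (same universe) is an isomorphism.  `isIso_of_rep`: representability criterion;
`smooth_iff_of_isIso`, `isAffineHom_of_isIso`.
-/

set_option autoImplicit false
set_option linter.style.haveILetI false
universe u
open CategoryTheory AlgebraicGeometry Limits

namespace Helper25.AffRep

variable {R : Type u} [CommRing R]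

/-- Any morphism `Spec C ⟶ Spec R` is the structure morphism of `specOver R C` for a suitable
algebra structure. -/
theorem exists_algebra_specOver (C : CommRingCat.{u}) (p : Spec C ⟶ Spec (CommRingCat.of R)) :
    ∃ (_ : Algebra R C), QuadGrp.specOver R C = Over.mk p := by
  letI : Algebra R C := (Spec.preimage p).hom.toAlgebra
  refine ⟨inferInstance, ?_⟩
  unfold QuadGrp.specOver
  have : CommRingCat.ofHom (algebraMap R C) = Spec.preimage p := by
    ext x
    rfl
  rw [this, Spec.map_preimage]

/-- Bijectivity on `specOver R A`-points gives bijectivity on `Over.mk p`-points for every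
`p : Spec C ⟶ Spec R`. -/
theorem bijective_of_specOver {X Y : Over (Spec (CommRingCat.of R))} (y : X ⟶ Y)
    (h : ∀ (A : Type u) [CommRing A] [Algebra R A],
      Function.Bijective (fun t : QuadGrp.specOver R A ⟶ X => t ≫ y))
    (C : CommRingCat.{u}) (p : Spec C ⟶ Spec (CommRingCat.of R)) :
    Function.Bijective (fun t : Over.mk p ⟶ X => t ≫ y) := by
  obtain ⟨inst, he⟩ := exists_algebra_specOver C p
  rw [← he]
  exact h C

/-- Scheme-level form: `f : X ⟶ Y` over `S = Spec R`, bijective on affine points. -/
theorem isIso_snd_of_bijective {X Y : Over (Spec (CommRingCat.of R))} (y : X ⟶ Y)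
    (hb : ∀ (C : CommRingCat.{u}) (p : Spec C ⟶ Spec (CommRingCat.of R)),
      Function.Bijective (fun t : Over.mk p ⟶ X => t ≫ y))
    (C : CommRingCat.{u}) (j : Spec C ⟶ Y.left) : IsIso (pullback.snd y.left j) := by
  -- the point `j` of `Y`
  let jY : Over.mk (j ≫ Y.hom) ⟶ Y := Over.homMk j rfl
  obtain ⟨s, hs⟩ := (hb C (j ≫ Y.hom)).2 jY
  have hs' : s.left ≫ y.left = j := congrArg CommaMorphism.left hs
  let σ : Spec C ⟶ pullback y.left j := pullback.lift s.left (𝟙 _) (by rw [hs', Category.id_comp])
  have h1 : σ ≫ pullback.snd y.left j = 𝟙 _ := pullback.lift_snd _ _ _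
  have key : pullback.snd y.left j ≫ s.left = pullback.fst y.left j := by
    refine (pullback y.left j).affineOpenCover.openCover.hom_ext _ _ fun k => ?_
    set ι := (pullback y.left j).affineOpenCover.openCover.f k with hι
    change Spec ((pullback y.left j).affineOpenCover.X k) ⟶ _ at ι
    let D := (pullback y.left j).affineOpenCover.X k
    -- two `D`-points of `X`
    let p : Spec D ⟶ Spec (CommRingCat.of R) := ι ≫ pullback.fst y.left j ≫ X.hom
    let t₁ : Over.mk p ⟶ X := Over.homMk (ι ≫ pullback.snd y.left j ≫ s.left) (by
      change (ι ≫ pullback.snd y.left j ≫ s.left) ≫ X.hom = ι ≫ pullback.fst y.left j ≫ X.hom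
      have e1 : s.left ≫ X.hom = j ≫ Y.hom := Over.w s
      have e2 : y.left ≫ Y.hom = X.hom := Over.w y
      simp only [Category.assoc]
      rw [e1, ← pullback.condition_assoc, e2])
    let t₂ : Over.mk p ⟶ X := Over.homMk (ι ≫ pullback.fst y.left j) (by
      change (ι ≫ pullback.fst y.left j) ≫ X.hom = ι ≫ pullback.fst y.left j ≫ X.hom
      simp only [Category.assoc])
    have : t₁ = t₂ := by
      apply (hb D p).1
      change t₁ ≫ y = t₂ ≫ y
      ext
      change (ι ≫ pullback.snd y.left j ≫ s.left) ≫ y.left = (ι ≫ pullback.fst y.left j) ≫ y.left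
      simp only [Category.assoc]
      rw [hs', pullback.condition]
    exact congrArg CommaMorphism.left this
  have h2 : pullback.snd y.left j ≫ σ = 𝟙 _ := by
    apply pullback.hom_ext
    · rw [Category.assoc, pullback.lift_fst, Category.id_comp, key]
    · rw [Category.assoc, h1, Category.id_comp, Category.comp_id]
  exact ⟨σ, h2, h1⟩

/-- A morphism of schemes over `Spec R` which is bijective on points with values in affine
`R`-schemes is an isomorphism. -/
theorem isIso_of_bijective_points {X Y : Over (Spec (CommRingCat.of R))} (y : X ⟶ Y)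
    (h : ∀ (A : Type u) [CommRing A] [Algebra R A],
      Function.Bijective (fun t : QuadGrp.specOver R A ⟶ X => t ≫ y)) : IsIso y := by
  have hb := bijective_of_specOver y h
  suffices IsIso y.left by
    haveI : IsIso ((Over.forget _).map y) := this
    exact isIso_of_reflects_iso y (Over.forget _)
  change MorphismProperty.isomorphisms Scheme y.left
  rw [IsZariskiLocalAtTarget.iff_of_openCover (P := MorphismProperty.isomorphisms Scheme)
    Y.left.affineOpenCover.openCover]
  intro i
  exact isIso_snd_of_bijective y hb _ _

/-- Morphisms `Spec A ⟶ Spec B` over `Spec R` are `R`-algebra maps `B → A`. -/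
theorem specOverMap_bijective (A B : Type u) [CommRing A] [Algebra R A] [CommRing B] [Algebra R B] :
    Function.Bijective (QuadGrp.specOverMap R : (B →ₐ[R] A) → (QuadGrp.specOver R A ⟶ QuadGrp.specOver R B)) := by
  constructor
  · intro φ ψ h
    have h1 : Spec.map (CommRingCat.ofHom φ.toRingHom) = Spec.map (CommRingCat.ofHom ψ.toRingHom) :=
      congrArg CommaMorphism.left h
    have h2 := Spec.map_injective h1
    have h3 : φ.toRingHom = ψ.toRingHom := by
      have := congrArg CommRingCat.Hom.hom h2
      simpa using this
    exact AlgHom.ext fun x => congrArg (fun f : B →+* A => f x) h3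
  · intro t
    let tl : Spec (CommRingCat.of A) ⟶ Spec (CommRingCat.of B) := t.left
    let f : B →+* A := (Spec.preimage tl).hom
    have hw : tl ≫ Spec.map (CommRingCat.ofHom (algebraMap R B)) =
        Spec.map (CommRingCat.ofHom (algebraMap R A)) := Over.w t
    have hf : f.comp (algebraMap R B) = algebraMap R A := by
      have h1 : Spec.map (CommRingCat.ofHom (algebraMap R B) ≫ Spec.preimage tl) =
          Spec.map (CommRingCat.ofHom (algebraMap R A)) := by
        rw [Spec.map_comp, Spec.map_preimage]; exact hw
      have h2 := congrArg CommRingCat.Hom.hom (Spec.map_injective h1)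
      simpa using h2
    let φ : B →ₐ[R] A := { f with commutes' := fun r => congrArg (fun g : R →+* A => g r) hf }
    refine ⟨φ, ?_⟩
    ext : 1
    change Spec.map (CommRingCat.ofHom φ.toRingHom) = tl
    have : CommRingCat.ofHom φ.toRingHom = Spec.preimage tl := by
      ext x; rfl
    rw [this, Spec.map_preimage]

/-- Representability criterion: if `B` represents the functor of points of `G` on affine
`R`-schemes compatibly with the point `y₀`, then `y₀ : Spec B ⟶ G` is an isomorphism. -/
theorem isIso_of_rep {G : Over (Spec (CommRingCat.of R))} (B : Type u) [CommRing B] [Algebra R B]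
    (y₀ : QuadGrp.specOver R B ⟶ G)
    (F : ∀ (A : Type u) [CommRing A] [Algebra R A], Type u)
    (pts : ∀ (A : Type u) [CommRing A] [Algebra R A], (QuadGrp.specOver R A ⟶ G) ≃ F A)
    (rep : ∀ (A : Type u) [CommRing A] [Algebra R A], (B →ₐ[R] A) ≃ F A)
    (h : ∀ (A : Type u) [CommRing A] [Algebra R A] (φ : B →ₐ[R] A),
      pts A (QuadGrp.specOverMap R φ ≫ y₀) = rep A φ) : IsIso y₀ := by
  apply isIso_of_bijective_points
  intro A _ _
  have hcomp : (fun t : QuadGrp.specOver R A ⟶ QuadGrp.specOver R B => t ≫ y₀) ∘
      (QuadGrp.specOverMap R : (B →ₐ[R] A) → _) = (pts A).symm ∘ rep A := by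
    funext φ
    simp only [Function.comp_apply]
    rw [← h A φ, Equiv.symm_apply_apply]
  have hbij : Function.Bijective ((fun t : QuadGrp.specOver R A ⟶ QuadGrp.specOver R B => t ≫ y₀) ∘
      (QuadGrp.specOverMap R : (B →ₐ[R] A) → _)) := by
    rw [hcomp]; exact (pts A).symm.bijective.comp (rep A).bijective
  exact (Function.Bijective.of_comp_iff _ (specOverMap_bijective A B)).mp hbij

set_option backward.isDefEq.respectTransparency.types false in
theorem smooth_iff_of_isIso {G : Over (Spec (CommRingCat.of R))} (B : Type u) [CommRing B] [Algebra R B]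
    (y₀ : QuadGrp.specOver R B ⟶ G) [IsIso y₀] : Smooth G.hom ↔ Algebra.Smooth R B := by
  have hw : y₀.left ≫ G.hom = Spec.map (CommRingCat.ofHom (algebraMap R B)) := Over.w y₀
  haveI : IsIso y₀.left := inferInstanceAs (IsIso ((Over.forget _).map y₀))
  have h1 := MorphismProperty.cancel_left_of_respectsIso @Smooth y₀.left G.hom
  rw [hw] at h1
  have h2 : Smooth (Spec.map (CommRingCat.ofHom (algebraMap R B))) ↔ (algebraMap R B).Smooth :=
    HasRingHomProperty.Spec_iff (P := @Smooth)
  have h3 : Smooth (Spec.map (CommRingCat.ofHom (algebraMap R B))) ↔ Smooth G.hom := h1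
  rw [← h3, h2]
  exact RingHom.smooth_algebraMap

set_option backward.isDefEq.respectTransparency.types false in
theorem isAffineHom_of_isIso {G : Over (Spec (CommRingCat.of R))} (B : Type u) [CommRing B] [Algebra R B]
    (y₀ : QuadGrp.specOver R B ⟶ G) [IsIso y₀] : IsAffineHom G.hom := by
  have hw : y₀.left ≫ G.hom = Spec.map (CommRingCat.ofHom (algebraMap R B)) := Over.w y₀
  haveI : IsIso y₀.left := inferInstanceAs (IsIso ((Over.forget _).map y₀))
  have h1 := MorphismProperty.cancel_left_of_respectsIso @IsAffineHom y₀.left G.hom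
  rw [hw] at h1
  have h3 : IsAffineHom (Spec.map (CommRingCat.ofHom (algebraMap R B))) ↔ IsAffineHom G.hom := h1
  exact h3.mp inferInstance

end Helper25.AffRep
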