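import Mathlib
import Groth.Agent.Lib.Helper85.AzumayaIdeals

/-!
# Azumaya algebras are central (no freeness assumption)
-/

set_option autoImplicit false
universe u v

namespace Helper25.AzCentral

open scoped TensorProduct
open MulOpposite

variable (R : Type u) [CommRing R] (A : Type v) [Ring A] [Algebra R A] [IsAzumaya R A]

/-- Every `R`-linear endomorphism of an Azumaya algebra multiplies central elements by its value
at `1`. -/
theorem end_apply_central (F : Module.End R A) (z : A) (hz : ∀ x, z * x = x * z) :
    F z = F 1 * z := by
  obtain ⟨t, rfl⟩ := (IsAzumaya.bij (R := R) (A := A)).2 F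
  induction t using TensorProduct.induction_on with
  | zero => simp
  | tmul a b =>
    rw [AlgHom.mulLeftRight_apply, AlgHom.mulLeftRight_apply, mul_one, mul_assoc, hz, ← mul_assoc]
  | add x y hx hy => rw [map_add, LinearMap.add_apply, LinearMap.add_apply, hx, hy, add_mul]

/-- The centre of an Azumaya algebra is the base ring. -/
theorem exists_algebraMap_eq_of_central (z : A) (hz : ∀ x, z * x = x * z) :
    ∃ r : R, algebraMap R A r = z := by
  obtain ⟨ρ, hρ⟩ := Groth.Agent.Lib.Helper85.exists_dual_one_eq_one R A
  let F : Module.End R A := (Algebra.linearMap R A) ∘ₗ ρ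
  have h := end_apply_central R A F z hz
  refine ⟨ρ z, ?_⟩
  have h1 : F z = algebraMap R A (ρ z) := rfl
  have h2 : F 1 = 1 := by
    show algebraMap R A (ρ 1) = 1
    rw [hρ, map_one]
  rw [h1, h2, one_mul] at h
  exact h

end Helper25.AzCentral
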