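import Mathlib
import Groth.Prelude.Def_AzInv
import Groth.Prelude.Def_W4c2azumayainvolQEt

/-!
# Isomorphisms of algebras with involution after base change: towers, symmetry, transitivity
-/

set_option autoImplicit false
set_option linter.unusedSectionVars false
set_option linter.style.haveILetI false
universe u v w w' w''
open scoped TensorProduct

namespace Groth.Agent.Lib.Helper25.AzInvTower

section Twr
variable (S : Type*) (T : Type*) (T' : Type*) [CommRing S] [CommRing T] [CommRing T']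
  [Algebra S T] [Algebra S T'] [Algebra T T'] [IsScalarTower S T T']
  (X : Type*) [Ring X] [Algebra S X]

/-- `T' ⊗[T] (T ⊗[S] X) ≃ₐ[T'] T' ⊗[S] X` for a possibly noncommutative `X` -/
noncomputable def twr : T' ⊗[T] (T ⊗[S] X) ≃ₐ[T'] T' ⊗[S] X :=
  AlgEquiv.symm <| AlgEquiv.ofLinearEquiv
    (TensorProduct.AlgebraTensorModule.cancelBaseChange S T T' T' X).symm
    (by simp [Algebra.TensorProduct.one_def]) <|
      LinearMap.map_mul_of_map_mul_tmul (fun _ _ _ _ ↦ by simp)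

@[simp] theorem twr_tmul (a : T') (s : T) (b : X) :
    twr S T T' X (a ⊗ₜ[T] (s ⊗ₜ[S] b)) = (s • a) ⊗ₜ[S] b :=
  TensorProduct.AlgebraTensorModule.cancelBaseChange_tmul S T T' a b s

@[simp] theorem twr_symm_tmul (a : T') (b : X) :
    (twr S T T' X).symm (a ⊗ₜ[S] b) = a ⊗ₜ[T] ((1 : T) ⊗ₜ[S] b) :=
  TensorProduct.AlgebraTensorModule.cancelBaseChange_symm_tmul S T T' a b

theorem twr_baseChange (σ : X →ₗ[S] X) (z : T' ⊗[T] (T ⊗[S] X)) :
    twr S T T' X ((σ.baseChange T).baseChange T' z) = σ.baseChange T' (twr S T T' X z) := by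
  induction z using TensorProduct.induction_on with
  | zero => simp
  | add x y hx hy => simp only [map_add, hx, hy]
  | tmul a y =>
    induction y using TensorProduct.induction_on with
    | zero => simp
    | add x y hx hy => simp only [TensorProduct.tmul_add, map_add, hx, hy]
    | tmul s b =>
      rw [LinearMap.baseChange_tmul, LinearMap.baseChange_tmul, twr_tmul, twr_tmul,
        LinearMap.baseChange_tmul]

end Twr

section IsoOver
variable {S : Type u} [CommRing S] (R : Type v) [CommRing R] [Algebra S R]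
  {X : Type w} [Ring X] [Algebra S X] [Algebra R X] [IsScalarTower S R X]
  {Y : Type w'} [Ring Y] [Algebra S Y] [Algebra R Y] [IsScalarTower S R Y]
  {Z : Type w''} [Ring Z] [Algebra S Z] [Algebra R Z] [IsScalarTower S R Z]

/-- `(X, σ)` and `(Y, τ)` become isomorphic over `T`, compatibly with the `R`-structures -/
def IsoOver (T : Type*) [CommRing T] [Algebra S T] (σ : X →ₗ[S] X) (τ : Y →ₗ[S] Y) : Prop :=
  ∃ f : T ⊗[S] X ≃ₐ[T] T ⊗[S] Y,
    (∀ r : R, f ((1 : T) ⊗ₜ[S] algebraMap R X r) = (1 : T) ⊗ₜ[S] algebraMap R Y r) ∧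
    ∀ x, f (σ.baseChange T x) = τ.baseChange T (f x)

variable {R}

theorem IsoOver.refl (T : Type*) [CommRing T] [Algebra S T] (σ : X →ₗ[S] X) :
    IsoOver R T σ σ :=
  ⟨AlgEquiv.refl, fun _ => rfl, fun _ => rfl⟩

theorem IsoOver.symm {T : Type*} [CommRing T] [Algebra S T] {σ : X →ₗ[S] X} {τ : Y →ₗ[S] Y}
    (h : IsoOver R T σ τ) : IsoOver R T τ σ := by
  obtain ⟨f, hf1, hf2⟩ := h
  refine ⟨f.symm, fun r => ?_, fun y => ?_⟩
  · rw [AlgEquiv.symm_apply_eq, hf1]
  · apply f.injective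
    rw [f.apply_symm_apply, hf2, f.apply_symm_apply]

theorem IsoOver.trans {T : Type*} [CommRing T] [Algebra S T] {σ : X →ₗ[S] X} {τ : Y →ₗ[S] Y}
    {ρ : Z →ₗ[S] Z} (h : IsoOver R T σ τ) (h' : IsoOver R T τ ρ) : IsoOver R T σ ρ := by
  obtain ⟨f, hf1, hf2⟩ := h
  obtain ⟨g, hg1, hg2⟩ := h'
  refine ⟨f.trans g, fun r => ?_, fun x => ?_⟩
  · rw [AlgEquiv.trans_apply, hf1, hg1]
  · rw [AlgEquiv.trans_apply, hf2, hg2]
    rfl

/-- base change of an isomorphism over `T` to a `T`-algebra `T'` -/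
theorem IsoOver.baseChange {T : Type*} [CommRing T] [Algebra S T] (T' : Type*) [CommRing T']
    [Algebra S T'] [Algebra T T'] [IsScalarTower S T T'] {σ : X →ₗ[S] X} {τ : Y →ₗ[S] Y}
    (h : IsoOver R T σ τ) : IsoOver R T' σ τ := by
  obtain ⟨f, hf1, hf2⟩ := h
  let F : T' ⊗[T] (T ⊗[S] X) ≃ₐ[T'] T' ⊗[T] (T ⊗[S] Y) :=
    Algebra.TensorProduct.congr (AlgEquiv.refl : T' ≃ₐ[T'] T') f
  have hF : ∀ (a : T') (z : T ⊗[S] X), F (a ⊗ₜ[T] z) = a ⊗ₜ[T] f z := fun a z => by
    simp [F]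
  have hFσ : ∀ z, F ((σ.baseChange T).baseChange T' z) = (τ.baseChange T).baseChange T' (F z) := by
    intro z
    induction z using TensorProduct.induction_on with
    | zero => simp
    | add x y hx hy => simp only [map_add, hx, hy]
    | tmul a y =>
      rw [LinearMap.baseChange_tmul, hF, hF, LinearMap.baseChange_tmul, hf2]
  refine ⟨(twr S T T' X).symm.trans (F.trans (twr S T T' Y)), fun r => ?_, fun x => ?_⟩
  · rw [AlgEquiv.trans_apply, AlgEquiv.trans_apply, twr_symm_tmul, hF, hf1, twr_tmul, one_smul]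
  · rw [AlgEquiv.trans_apply, AlgEquiv.trans_apply, AlgEquiv.trans_apply, AlgEquiv.trans_apply]
    have h1 : (twr S T T' X).symm (σ.baseChange T' x) =
        (σ.baseChange T).baseChange T' ((twr S T T' X).symm x) := by
      rw [AlgEquiv.symm_apply_eq, twr_baseChange, AlgEquiv.apply_symm_apply]
    rw [h1, hFσ, twr_baseChange]

end IsoOver

section LocIsoEt
open AzInv
variable (S : Type u) {R : Type v} [CommRing S] [CommRing R] [Algebra S R]
  {X : Type w} [Ring X] [Algebra S X] [Algebra R X] [IsScalarTower S R X]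
  {Y : Type w'} [Ring Y] [Algebra S Y] [Algebra R Y] [IsScalarTower S R Y]
  {Z : Type w''} [Ring Z] [Algebra S Z] [Algebra R Z] [IsScalarTower S R Z]
  (lam : R ≃ₐ[S] R)

theorem locIsoEt_iff (t : LamInv R X lam) (t' : LamInv R Y lam) :
    LocIsoEt S lam t t' ↔ ∃ (S' : Type u) (_ : CommRing S') (_ : Algebra S S')
      (_ : Algebra.Etale S S') (_ : Module.FaithfullyFlat S S'),
      IsoOver R S' (t.linS S lam) (t'.linS S lam) := by
  constructor
  · rintro ⟨S', i1, i2, i3, i4, f, hf1, hf2⟩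
    refine ⟨S', i1, i2, i3, i4, f, fun r => ?_, hf2⟩
    have := hf1 r 1
    rwa [mul_one, map_one, mul_one] at this
  · rintro ⟨S', i1, i2, i3, i4, f, hf1, hf2⟩
    refine ⟨S', i1, i2, i3, i4, f, fun r x => ?_, hf2⟩
    rw [map_mul, hf1]

variable {S lam}

theorem locIsoEt_symm {t : LamInv R X lam} {t' : LamInv R Y lam} (h : LocIsoEt S lam t t') :
    LocIsoEt S lam t' t := by
  rw [locIsoEt_iff] at h ⊢
  obtain ⟨S', i1, i2, i3, i4, h⟩ := h
  exact ⟨S', i1, i2, i3, i4, h.symm⟩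

attribute [local instance] Algebra.TensorProduct.rightAlgebra in
theorem locIsoEt_trans {t : LamInv R X lam} {t' : LamInv R Y lam} {t'' : LamInv R Z lam}
    (h : LocIsoEt S lam t t') (h' : LocIsoEt S lam t' t'') : LocIsoEt S lam t t'' := by
  rw [locIsoEt_iff] at h h' ⊢
  obtain ⟨S₁, i1, i2, i3, i4, h⟩ := h
  obtain ⟨S₂, j1, j2, j3, j4, h'⟩ := h'
  haveI : Module.FaithfullyFlat S (S₁ ⊗[S] S₂) := Module.FaithfullyFlat.trans S S₁ (S₁ ⊗[S] S₂)
  haveI : Algebra.Etale S₁ (S₁ ⊗[S] S₂) := inferInstance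
  haveI : Algebra.Etale S (S₁ ⊗[S] S₂) := Algebra.Etale.comp S S₁ (S₁ ⊗[S] S₂)
  haveI : IsScalarTower S S₂ (S₁ ⊗[S] S₂) := IsScalarTower.of_algebraMap_eq fun s => by
    rw [Algebra.TensorProduct.algebraMap_apply]
    show _ = (1 : S₁) ⊗ₜ[S] algebraMap S S₂ s
    rw [Algebra.algebraMap_eq_smul_one s, Algebra.algebraMap_eq_smul_one s, TensorProduct.smul_tmul]
  exact ⟨S₁ ⊗[S] S₂, inferInstance, inferInstance, inferInstance, inferInstance,
    (h.baseChange (S₁ ⊗[S] S₂)).trans (h'.baseChange (S₁ ⊗[S] S₂))⟩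

end LocIsoEt

end Groth.Agent.Lib.Helper25.AzInvTower
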