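import Mathlib

/-!
# Assembling Zariski-local étale data into a single étale faithfully flat cover; families of
square roots
-/

set_option autoImplicit false
set_option linter.unusedSectionVars false
set_option linter.style.haveILetI false
universe u v w
open scoped TensorProduct

namespace Groth.Agent.Lib.Helper25.EtaleCover

section Cover
variable {S : Type u} [CommRing S]

/-- If a property of `S`-algebras is stable under finite products and holds, locally on `Spec S`,
for étale algebras covering a principal open neighbourhood, then it holds for an étale faithfully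
flat `S`-algebra. -/
theorem exists_etale_cover_of_local {P : ∀ (T : Type u) [CommRing T] [Algebra S T], Prop}
    (hprod : ∀ (ι : Type u) [Finite ι] (B : ι → Type u) [∀ i, CommRing (B i)]
      [∀ i, Algebra S (B i)], (∀ i, P (B i)) → P (∀ i, B i))
    (hloc : ∀ p : Ideal S, p.IsPrime → ∃ f : S, f ∉ p ∧ ∃ (T : Type u) (_ : CommRing T)
      (_ : Algebra S T) (_ : Algebra.Etale S T),
      (∀ q : PrimeSpectrum S, f ∉ q.asIdeal →
        q ∈ Set.range (PrimeSpectrum.comap (algebraMap S T))) ∧ P T) :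
    ∃ (S' : Type u) (_ : CommRing S') (_ : Algebra S S') (_ : Algebra.Etale S S')
      (_ : Module.FaithfullyFlat S S'), P S' := by
  classical
  choose f hf T iT1 iT2 iT3 hT hPT using fun p : PrimeSpectrum S => hloc p.asIdeal p.isPrime
  have hspan : Ideal.span (Set.range f) = ⊤ := by
    by_contra hne
    obtain ⟨m, hm, hle⟩ := Ideal.exists_le_maximal _ hne
    exact hf ⟨m, hm.isPrime⟩ (hle (Ideal.subset_span ⟨_, rfl⟩))
  obtain ⟨c, hc⟩ := Finsupp.mem_ideal_span_range_iff_exists_finsupp.1
    ((Ideal.eq_top_iff_one _).1 hspan)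
  let ι : Type u := {p // p ∈ c.support}
  let B : ι → Type u := fun i => T i.1
  letI : ∀ i, CommRing (B i) := fun i => iT1 i.1
  letI : ∀ i, Algebra S (B i) := fun i => iT2 i.1
  haveI hEt : ∀ i, Algebra.Etale S (B i) := fun i => iT3 i.1
  let S' : Type u := ∀ i, B i
  have hFlat : Module.Flat S S' :=
    Module.Flat.of_linearEquiv (DFinsupp.linearEquivFunOnFintype (R := S) (M := B)).symm
  have hff : Module.FaithfullyFlat S S' := by
    refine Module.FaithfullyFlat.of_comap_surjective fun q => ?_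
    obtain ⟨i, hi⟩ : ∃ i : ι, f i.1 ∉ q.asIdeal := by
      by_contra hcon
      push Not at hcon
      have h1 : (1 : S) ∈ q.asIdeal := by
        rw [← hc]
        exact Ideal.sum_mem _ fun p hp => q.asIdeal.mul_mem_left _ (hcon ⟨p, hp⟩)
      exact q.isPrime.ne_top ((Ideal.eq_top_iff_one _).2 h1)
    obtain ⟨Q0, hQ0⟩ := hT i.1 q hi
    refine ⟨⟨Q0.asIdeal.comap (Pi.evalRingHom B i), Ideal.comap_isPrime _ _⟩, ?_⟩
    ext1
    change (Q0.asIdeal.comap (Pi.evalRingHom B i)).comap (algebraMap S S') = q.asIdeal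
    rw [Ideal.comap_comap]
    exact congrArg PrimeSpectrum.asIdeal hQ0
  exact ⟨S', inferInstance, inferInstance, inferInstance, hff,
    hprod ι B fun i => hPT i.1⟩

end Cover

section Sqrt
variable {S : Type u} [CommRing S]

/-- adjoining square roots of finitely many units, given that single square roots exist étale
locally -/
theorem exists_sqrt_family
    (hsq : ∀ (S₁ : Type u) [CommRing S₁] [Algebra S S₁] [Algebra.Etale S S₁] (x : S₁ˣ),
      ∃ (S₂ : Type u) (_ : CommRing S₂) (_ : Algebra S₁ S₂) (_ : Algebra.Etale S₁ S₂)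
        (_ : Module.FaithfullyFlat S₁ S₂) (y : S₂), y * y = algebraMap S₁ S₂ ↑x)
    (S₁ : Type u) [CommRing S₁] [Algebra S S₁] [Algebra.Etale S S₁] (n : ℕ) (x : Fin n → S₁ˣ) :
    ∃ (S₂ : Type u) (_ : CommRing S₂) (_ : Algebra S₁ S₂) (_ : Algebra.Etale S₁ S₂)
      (_ : Module.FaithfullyFlat S₁ S₂) (y : Fin n → S₂),
      ∀ i, y i * y i = algebraMap S₁ S₂ ↑(x i) := by
  induction n with
  | zero =>
    exact ⟨S₁, inferInstance, inferInstance, inferInstance, inferInstance, fun i => i.elim0,
      fun i => i.elim0⟩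
  | succ n ih =>
    obtain ⟨S₂, i1, i2, i3, i4, y, hy⟩ := ih (Fin.init x)
    letI : Algebra S S₂ := ((algebraMap S₁ S₂).comp (algebraMap S S₁)).toAlgebra
    haveI : IsScalarTower S S₁ S₂ := IsScalarTower.of_algebraMap_eq fun _ => rfl
    haveI : Algebra.Etale S S₂ := Algebra.Etale.comp S S₁ S₂
    obtain ⟨S₃, j1, j2, j3, j4, z, hz⟩ := hsq S₂ (Units.map (algebraMap S₁ S₂ : S₁ →* S₂) (x (Fin.last n)))
    letI : Algebra S₁ S₃ := ((algebraMap S₂ S₃).comp (algebraMap S₁ S₂)).toAlgebra
    haveI : IsScalarTower S₁ S₂ S₃ := IsScalarTower.of_algebraMap_eq fun _ => rfl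
    haveI : Algebra.Etale S₁ S₃ := Algebra.Etale.comp S₁ S₂ S₃
    haveI : Module.FaithfullyFlat S₁ S₃ := Module.FaithfullyFlat.trans S₁ S₂ S₃
    refine ⟨S₃, inferInstance, inferInstance, inferInstance, inferInstance,
      Fin.snoc (fun i => algebraMap S₂ S₃ (y i)) z, ?_⟩
    intro i
    refine Fin.lastCases ?_ (fun j => ?_) i
    · rw [Fin.snoc_last]
      rw [hz]
      rfl
    · rw [Fin.snoc_castSucc, ← map_mul, hy]
      rfl

end Sqrt

section PiTensor
variable {S : Type u} [CommRing S] (A : Type w) [Ring A] [Algebra S A]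
  {ι : Type u} [Finite ι] (B : ι → Type u) [∀ i, CommRing (B i)] [∀ i, Algebra S (B i)]

/-- the `i`-th component `(∏ B) ⊗ A → B i ⊗ A` -/
noncomputable def piProj (i : ι) : (∀ i, B i) ⊗[S] A →ₐ[S] B i ⊗[S] A :=
  Algebra.TensorProduct.map (Pi.evalAlgHom S B i) (AlgHom.id S A)

@[simp] theorem piProj_tmul (i : ι) (s : ∀ i, B i) (a : A) :
    piProj A B i (s ⊗ₜ[S] a) = s i ⊗ₜ[S] a := by
  simp [piProj]

/-- the product decomposition `(∏ B) ⊗ A ≃ ∏ (B i ⊗ A)` -/
noncomputable def piEquiv : (∀ i, B i) ⊗[S] A ≃ₐ[S] ∀ i, B i ⊗[S] A :=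
  haveI := Fintype.ofFinite ι
  letI := Classical.decEq ι
  (Algebra.TensorProduct.comm S (∀ i, B i) A).trans
    ((Algebra.TensorProduct.piRight S S A B).trans
      (AlgEquiv.piCongrRight fun i => Algebra.TensorProduct.comm S A (B i)))

theorem piEquiv_apply (z : (∀ i, B i) ⊗[S] A) (i : ι) : piEquiv A B z i = piProj A B i z := by
  induction z using TensorProduct.induction_on with
  | zero => simp
  | add x y hx hy => simp only [map_add, Pi.add_apply, hx, hy]
  | tmul s a =>
    rw [piProj_tmul]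
    rfl

theorem piProj_injective {z z' : (∀ i, B i) ⊗[S] A} (h : ∀ i, piProj A B i z = piProj A B i z') :
    z = z' := by
  apply (piEquiv A B).injective
  funext i
  rw [piEquiv_apply, piEquiv_apply, h]

theorem piProj_surjective (x : ∀ i, B i ⊗[S] A) : ∃ z, ∀ i, piProj A B i z = x i :=
  ⟨(piEquiv A B).symm x, fun i => by rw [← piEquiv_apply, AlgEquiv.apply_symm_apply]⟩

theorem piProj_matrix_injective {n : Type*} {M M' : Matrix n n ((∀ i, B i) ⊗[S] A)}
    (h : ∀ i, M.map (piProj A B i) = M'.map (piProj A B i)) : M = M' := by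
  ext j k
  apply piProj_injective A B
  intro i
  have := congrFun (congrFun (h i) j) k
  simpa using this

theorem piProj_matrix_surjective {n : Type*} (x : ∀ i, Matrix n n (B i ⊗[S] A)) :
    ∃ M : Matrix n n ((∀ i, B i) ⊗[S] A), ∀ i, M.map (piProj A B i) = x i := by
  choose z hz using fun (jk : n × n) => piProj_surjective A B (fun i => x i jk.1 jk.2)
  refine ⟨Matrix.of fun j k => z (j, k), fun i => ?_⟩
  ext j k
  simp [hz]

end PiTensor

end Groth.Agent.Lib.Helper25.EtaleCover
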