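import Mathlib
import Groth.Prelude.Def_AzInv
import Groth.Prelude.Def_W4c2azumayainvolQEt
import Groth.Agent.S15583
import Groth.Agent.Lib.Helper79.RInvBC
import Groth.Agent.Lib.Helper1.HermSpread.Descend
import Groth.Agent.Lib.Helper25.EtaleCover

/-!
# Hermitian matrices of odd size over a ring with involution are étale-locally (on the fixed
ring) congruent to the identity
-/

set_option autoImplicit false
set_option linter.unusedSectionVars false
set_option linter.style.haveILetI false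
universe u v w
open scoped TensorProduct
open Groth.Agent.Lib.Helper79.RInvLib

namespace Groth.Agent.Lib.Helper25.HermOdd

section BcL
variable {S : Type u} [CommRing S] {R : Type v} [CommRing R] [Algebra S R] (lam : R ≃ₐ[S] R)
  (T : Type w) [CommRing T] [Algebra S T]

/-- the base-changed involution, as a `T`-algebra equivalence -/
noncomputable abbrev bcL : T ⊗[S] R ≃ₐ[T] T ⊗[S] R :=
  Algebra.TensorProduct.congr (AlgEquiv.refl : T ≃ₐ[T] T) lam

theorem bcL_tmul (t : T) (r : R) : bcL lam T (t ⊗ₜ[S] r) = t ⊗ₜ[S] lam r := by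
  simp [bcL]

theorem bcL_invol (hlam : ∀ r, lam (lam r) = r) (z : T ⊗[S] R) :
    bcL lam T (bcL lam T z) = z := by
  induction z using TensorProduct.induction_on with
  | zero => simp
  | tmul t r => rw [bcL_tmul, bcL_tmul, hlam]
  | add a b ha hb => rw [map_add, map_add, ha, hb]

theorem bcL_eq_bcLam (z : T ⊗[S] R) : bcL lam T z = bcLam (S' := T) lam z := by
  induction z using TensorProduct.induction_on with
  | zero => simp
  | tmul t r => rw [bcL_tmul, bcLam_tmul]
  | add a b ha hb => rw [map_add, map_add, ha, hb]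

theorem isFixedRing_bcL [Module.Flat S T] (hfix : RInv.IsFixedRing S R lam.toRingEquiv) :
    RInv.IsFixedRing T (T ⊗[S] R) (bcL lam T).toRingEquiv := by
  have h := isFixedRing_baseChange_of_flat (S' := T) lam hfix
  refine ⟨h.1, fun z => ?_⟩
  rw [← h.2 z]
  show bcL lam T z = z ↔ bcLam (S' := T) lam z = z
  rw [bcL_eq_bcLam]

theorem bcL_algebraMap (t : T) : bcL lam T (algebraMap T (T ⊗[S] R) t) = algebraMap T (T ⊗[S] R) t :=
  (bcL lam T).commutes t

end BcL

section LamTr
variable {A : Type*} [CommRing A] (σ : A ≃+* A) {n : Type*} [Fintype n] [DecidableEq n]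

/-- the `σ`-transpose of a matrix -/
def lamT (M : Matrix n n A) : Matrix n n A := (M.map σ).transpose

theorem lamT_apply (M : Matrix n n A) (i j : n) : lamT σ M i j = σ (M j i) := rfl

theorem lamT_mul (M N : Matrix n n A) : lamT σ (M * N) = lamT σ N * lamT σ M := by
  ext i j
  simp only [lamT_apply, Matrix.mul_apply, map_sum, map_mul]
  exact Finset.sum_congr rfl fun k _ => mul_comm _ _

theorem lamT_lamT (hσ : ∀ a, σ (σ a) = a) (M : Matrix n n A) : lamT σ (lamT σ M) = M := by
  ext i j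
  simp [lamT_apply, hσ]

theorem lamT_diagonal (d : n → A) : lamT σ (Matrix.diagonal d) = Matrix.diagonal (fun i => σ (d i)) := by
  ext i j
  rw [lamT_apply, Matrix.diagonal_apply, Matrix.diagonal_apply]
  by_cases hij : i = j
  · subst hij; simp
  · rw [if_neg hij, if_neg (Ne.symm hij), map_zero]

theorem lamT_one : lamT σ (1 : Matrix n n A) = 1 := by
  rw [← Matrix.diagonal_one, lamT_diagonal]
  simp

end LamTr

section Local
variable {S : Type u} [CommRing S] {R : Type v} [CommRing R] [Algebra S R] (lam : R ≃ₐ[S] R)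

/-- a fixed unit of `T ⊗ R` comes from a unit of `T`, for `T` flat over `S` -/
theorem exists_unit_of_fixed_unit (T : Type w) [CommRing T] [Algebra S T] [Module.Flat S T]
    (hfix : RInv.IsFixedRing S R lam.toRingEquiv) (d : T ⊗[S] R) (hd : IsUnit d)
    (hfd : bcL lam T d = d) : ∃ b : Tˣ, algebraMap T (T ⊗[S] R) b = d := by
  have hF := isFixedRing_bcL lam T hfix
  obtain ⟨u, rfl⟩ := hd
  have hw : bcL lam T ((u⁻¹ : (T ⊗[S] R)ˣ) : T ⊗[S] R) = ((u⁻¹ : (T ⊗[S] R)ˣ) : T ⊗[S] R) := by
    have h1 : bcL lam T ((u⁻¹ : (T ⊗[S] R)ˣ) : T ⊗[S] R) * (u : T ⊗[S] R) = 1 := by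
      rw [← hfd, ← map_mul, Units.inv_mul, map_one]
    exact (Units.eq_inv_of_mul_eq_one_right h1)
  obtain ⟨b, hb⟩ := (hF.2 _).1 hfd
  obtain ⟨b', hb'⟩ := (hF.2 _).1 hw
  have hbb' : b * b' = 1 := by
    apply hF.1
    rw [map_mul, hb, hb', Units.mul_inv, map_one]
  exact ⟨⟨b, b', hbb', by rw [mul_comm, hbb']⟩, hb⟩

theorem one_tmul_algebraMap (T : Type w) [CommRing T] [Algebra S T] (c : S) :
    ((1 : T) ⊗ₜ[S] algebraMap S R c : T ⊗[S] R) = algebraMap T (T ⊗[S] R) (algebraMap S T c) := by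
  rw [Algebra.TensorProduct.algebraMap_apply, Algebra.algebraMap_self, RingHom.id_apply,
    Algebra.algebraMap_eq_smul_one c, Algebra.algebraMap_eq_smul_one c, TensorProduct.smul_tmul]

/-- local diagonalisation of a hermitian matrix of odd size at a prime of the fixed ring, with
diagonal entries coming from `S` -/
theorem exists_local_diag (hlam : ∀ r, lam (lam r) = r)
    (hfix : RInv.IsFixedRing S R lam.toRingEquiv) (p : Ideal S) [p.IsPrime] (n : ℕ) (hn : Odd n)
    (h : Matrix (Fin n) (Fin n) R) (hh : IsUnit h) (herm : (h.map lam).transpose = h) :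
    ∃ c : Fin n → S, (∀ i, c i ∉ p) ∧
      ∃ v : Matrix (Fin n) (Fin n) (Localization.AtPrime p ⊗[S] R), IsUnit v ∧
        lamT (bcL lam (Localization.AtPrime p)).toRingEquiv v *
          h.map (Algebra.TensorProduct.includeRight : R →ₐ[S] Localization.AtPrime p ⊗[S] R) * v =
          Matrix.diagonal (fun i => (1 : Localization.AtPrime p) ⊗ₜ[S] algebraMap S R (c i)) := by
  classical
  let B := Localization.AtPrime p
  let A := B ⊗[S] R
  let σ : A ≃+* A := (bcL lam B).toRingEquiv
  have hσ : ∀ a, σ (σ a) = a := bcL_invol lam B hlam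
  have hF : RInv.IsFixedRing B A σ := isFixedRing_bcL lam B hfix
  let ι : R →ₐ[S] A := Algebra.TensorProduct.includeRight
  let hA : Matrix (Fin n) (Fin n) A := h.map ι
  have hhA : IsUnit hA := by
    have := hh.map (ι.toRingHom.mapMatrix : Matrix (Fin n) (Fin n) R →+* Matrix (Fin n) (Fin n) A)
    exact this
  have hermA : lamT σ hA = hA := by
    ext i j
    rw [lamT_apply]
    show σ (ι (h j i)) = ι (h i j)
    have h1 : σ (ι (h j i)) = ι (lam (h j i)) := by
      show bcL lam B ((1 : B) ⊗ₜ[S] h j i) = (1 : B) ⊗ₜ[S] lam (h j i)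
      rw [bcL_tmul]
    rw [h1]
    congr 1
    have := congrFun (congrFun herm i) j
    simpa using this
  obtain ⟨v₀, hv₀, d, hd⟩ := Groth.Agent.S15583.result B A σ hσ hF n 1 (Or.inl rfl) hA hhA
    (by rw [one_smul]; exact hermA) (Or.inr (Or.inr hn))
  change lamT σ v₀ * hA * v₀ = Matrix.diagonal d at hd
  -- the diagonal entries are fixed
  have hdfix : ∀ i, σ (d i) = d i := by
    have h1 : lamT σ (Matrix.diagonal d) = Matrix.diagonal d := by
      rw [← hd, lamT_mul, lamT_mul, lamT_lamT σ hσ, hermA, mul_assoc]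
    rw [lamT_diagonal] at h1
    intro i
    have := congrFun (congrFun h1 i) i
    simpa using this
  -- and units
  have hdu : ∀ i, IsUnit (d i) := by
    have h1 : IsUnit (Matrix.diagonal d) := by
      rw [← hd]
      have hl : IsUnit (lamT σ v₀) := by
        obtain ⟨u, rfl⟩ := hv₀
        refine ⟨⟨lamT σ (u : Matrix (Fin n) (Fin n) A), lamT σ ((u⁻¹ : (Matrix (Fin n) (Fin n) A)ˣ) :
          Matrix (Fin n) (Fin n) A), ?_, ?_⟩, rfl⟩
        · rw [← lamT_mul, Units.inv_mul, lamT_one]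
        · rw [← lamT_mul, Units.mul_inv, lamT_one]
      exact (hl.mul hhA).mul hv₀
    rw [Matrix.isUnit_iff_isUnit_det, Matrix.det_diagonal] at h1
    intro i
    exact isUnit_of_dvd_unit (Finset.dvd_prod_of_mem d (Finset.mem_univ i)) h1
  choose b hb using fun i => exists_unit_of_fixed_unit lam B hfix (d i) (hdu i) (hdfix i)
  have hsurj : ∀ i, ∃ (a : S) (s : p.primeCompl), IsLocalization.mk' B a s = ((b i : Bˣ) : B) :=
    fun i => by
      obtain ⟨⟨a, s⟩, h⟩ := IsLocalization.mk'_surjective p.primeCompl ((b i : Bˣ) : B)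
      exact ⟨a, s, h⟩
  choose a s has using hsurj
  have ha : ∀ i, a i ∉ p := by
    intro i hai
    have h1 : IsUnit (IsLocalization.mk' B (a i) (s i)) := by rw [has]; exact (b i).isUnit
    rw [IsLocalization.AtPrime.isUnit_mk'_iff (S := B) (I := p)] at h1
    exact h1 hai
  refine ⟨fun i => a i * (s i : S), fun i => ?_, ?_⟩
  · exact fun hmem => (Ideal.IsPrime.mem_or_mem inferInstance hmem).elim (ha i) (s i).2
  let D : Matrix (Fin n) (Fin n) A :=
    Matrix.diagonal (fun i => algebraMap B A (algebraMap S B (s i : S)))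
  have hDu : IsUnit D := by
    rw [Matrix.isUnit_iff_isUnit_det, Matrix.det_diagonal]
    refine IsUnit.prod_univ_iff.2 fun i => ?_  
    exact ((IsLocalization.map_units B (s i)).map (algebraMap B A))
  have hDfix : lamT σ D = D := by
    rw [lamT_diagonal]
    congr 1
    funext i
    exact bcL_algebraMap lam B _
  refine ⟨v₀ * D, hv₀.mul hDu, ?_⟩
  change lamT σ (v₀ * D) * hA * (v₀ * D) = _
  rw [lamT_mul, hDfix]
  have h2 : D * lamT σ v₀ * hA * (v₀ * D) = D * (lamT σ v₀ * hA * v₀) * D := by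
    simp only [mul_assoc]
  rw [h2, hd, Matrix.diagonal_mul_diagonal, Matrix.diagonal_mul_diagonal]
  congr 1
  funext i
  rw [one_tmul_algebraMap, ← hb i, ← map_mul, ← map_mul]
  congr 1
  rw [← has i, map_mul, mul_comm (algebraMap S B (a i))]
  show algebraMap S B ↑(s i) * IsLocalization.mk' B (a i) (s i) * algebraMap S B ↑(s i) =
    algebraMap S B ↑(s i) * algebraMap S B (a i)
  rw [mul_assoc, IsLocalization.mk'_spec]

attribute [local instance] Algebra.TensorProduct.rightAlgebra in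
/-- spreading out the local diagonalisation to a principal open neighbourhood -/
theorem exists_away_congr_diag (hlam : ∀ r, lam (lam r) = r)
    (hfix : RInv.IsFixedRing S R lam.toRingEquiv) (p : Ideal S) [p.IsPrime] (n : ℕ) (hn : Odd n)
    (h : Matrix (Fin n) (Fin n) R) (hh : IsUnit h) (herm : (h.map lam).transpose = h) :
    ∃ (f : S) (c : Fin n → S), f ∉ p ∧ (∀ i, c i ∣ f) ∧
      ∀ (T : Type u) [CommRing T] [Algebra S T], IsUnit (algebraMap S T f) →
        ∃ v : Matrix (Fin n) (Fin n) (T ⊗[S] R), IsUnit v ∧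
          lamT (bcL lam T).toRingEquiv v *
            h.map (Algebra.TensorProduct.includeRight : R →ₐ[S] T ⊗[S] R) * v =
            Matrix.diagonal (fun i => (1 : T) ⊗ₜ[S] algebraMap S R (c i)) := by
  classical
  obtain ⟨c, hc, v, hv, heq⟩ := exists_local_diag lam hlam hfix p n hn h hh herm
  let B := Localization.AtPrime p
  let A := B ⊗[S] R
  let N : Submonoid R := Algebra.algebraMapSubmonoid R p.primeCompl
  haveI : IsLocalization N A := IsLocalization.tensorRight (S := R) (A := B) p.primeCompl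
  have hN : ∀ x ∈ N, (lam : R →+* R) x = x := by
    rintro x ⟨s, -, rfl⟩
    exact lam.commutes s
  have hσ : ∀ x : R, ((bcL lam B : A ≃ₐ[B] A) : A →+* A) (algebraMap R A x) =
      algebraMap R A ((lam : R →+* R) x) := by
    intro x
    show bcL lam B ((1 : B) ⊗ₜ[S] x) = (1 : B) ⊗ₜ[S] lam x
    rw [bcL_tmul]
  let H' : Matrix (Fin n) (Fin n) R := Matrix.diagonal (fun i => algebraMap S R (c i))
  have heq' : (v.map ((bcL lam B : A ≃ₐ[B] A) : A →+* A)).transpose * h.map (algebraMap R A) * v =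
      H'.map (algebraMap R A) := by
    have : H'.map (algebraMap R A) =
        Matrix.diagonal (fun i => (1 : B) ⊗ₜ[S] algebraMap S R (c i)) := by
      rw [Matrix.diagonal_map (map_zero _)]
      rfl
    rw [this]
    exact heq
  obtain ⟨t, htN, ht⟩ := Groth.Agent.Lib.Helper1.HermSpread.descend_matrix.{_, _, max u v} N
    (lam : R →+* R) ((bcL lam B : A ≃ₐ[B] A) : A →+* A) hσ hN h H' v hv heq'
  obtain ⟨t', ht', rfl⟩ := htN
  refine ⟨t' * ∏ i, c i, c, ?_, ?_, ?_⟩
  · intro hmem
    rcases Ideal.IsPrime.mem_or_mem inferInstance hmem with h1 | h1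
    · exact ht' h1
    · obtain ⟨i, -, hi⟩ := (Ideal.IsPrime.prod_mem_iff (hp := (inferInstance : p.IsPrime))).1 h1
      exact hc i hi
  · intro i
    exact Dvd.dvd.mul_left (Finset.dvd_prod_of_mem c (Finset.mem_univ i)) t'
  · intro T _ _ hu
    have hut : IsUnit (algebraMap S T t') := by
      rw [map_mul] at hu
      exact isUnit_of_mul_isUnit_left hu
    obtain ⟨v'', hv'', heq''⟩ := ht (T ⊗[S] R)
      ((Algebra.TensorProduct.includeRight : R →ₐ[S] T ⊗[S] R) : R →+* T ⊗[S] R)
      ((bcL lam T : T ⊗[S] R ≃ₐ[T] T ⊗[S] R) : T ⊗[S] R →+* T ⊗[S] R)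
      (fun x => by
        show bcL lam T ((1 : T) ⊗ₜ[S] x) = (1 : T) ⊗ₜ[S] lam x
        rw [bcL_tmul])
      (by
        show IsUnit ((1 : T) ⊗ₜ[S] algebraMap S R t' : T ⊗[S] R)
        rw [one_tmul_algebraMap]
        exact hut.map _)
    refine ⟨v'', hv'', ?_⟩
    have : H'.map ((Algebra.TensorProduct.includeRight : R →ₐ[S] T ⊗[S] R) : R →+* T ⊗[S] R) =
        Matrix.diagonal (fun i => (1 : T) ⊗ₜ[S] algebraMap S R (c i)) := by
      rw [Matrix.diagonal_map (map_zero _)]
      rfl
    rw [← this]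
    exact heq''

end Local

section Main
open Groth.Agent.Lib.Helper25.EtaleCover
variable {S : Type u} [CommRing S] {R : Type v} [CommRing R] [Algebra S R] (lam : R ≃ₐ[S] R)

/-- the property: `h` becomes congruent to the identity over `T ⊗ R` -/
def CongrOne {n : ℕ} (h : Matrix (Fin n) (Fin n) R) (T : Type u) [CommRing T] [Algebra S T] : Prop :=
  ∃ v : Matrix (Fin n) (Fin n) (T ⊗[S] R), IsUnit v ∧
    lamT (bcL lam T).toRingEquiv v *
      h.map (Algebra.TensorProduct.includeRight : R →ₐ[S] T ⊗[S] R) * v = 1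

theorem isUnit_lamT {A : Type*} [CommRing A] (σ : A ≃+* A) {n : Type*} [Fintype n] [DecidableEq n]
    {v : Matrix n n A} (hv : IsUnit v) : IsUnit (lamT σ v) := by
  obtain ⟨u, rfl⟩ := hv
  refine ⟨⟨lamT σ (u : Matrix n n A), lamT σ ((u⁻¹ : (Matrix n n A)ˣ) : Matrix n n A), ?_, ?_⟩, rfl⟩
  · rw [← lamT_mul, Units.inv_mul, lamT_one]
  · rw [← lamT_mul, Units.mul_inv, lamT_one]

theorem lamT_map {A A' : Type*} [CommRing A] [CommRing A'] (σ : A ≃+* A) (σ' : A' ≃+* A')
    {F : Type*} [FunLike F A A'] [RingHomClass F A A']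
    (π : F) (hπ : ∀ a, π (σ a) = σ' (π a)) {n : Type*} [Fintype n] [DecidableEq n]
    (M : Matrix n n A) : (lamT σ M).map π = lamT σ' (M.map π) := by
  ext i j
  simp [lamT_apply, hπ]

theorem congrOne_pi {n : ℕ} (h : Matrix (Fin n) (Fin n) R) (ι : Type u) [Finite ι]
    (B : ι → Type u) [∀ i, CommRing (B i)] [∀ i, Algebra S (B i)]
    (hB : ∀ i, CongrOne lam h (B i)) : CongrOne lam h (∀ i, B i) := by
  classical
  choose v hv hveq using hB
  have hw : ∀ i, ∃ w : Matrix (Fin n) (Fin n) (B i ⊗[S] R), v i * w = 1 ∧ w * v i = 1 := by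
    intro i
    obtain ⟨u, hu⟩ := hv i
    exact ⟨((u⁻¹ : (Matrix (Fin n) (Fin n) (B i ⊗[S] R))ˣ) : Matrix (Fin n) (Fin n) (B i ⊗[S] R)),
      by rw [← hu, Units.mul_inv], by rw [← hu, Units.inv_mul]⟩
  choose w hvw hwv using hw
  obtain ⟨V, hV⟩ := piProj_matrix_surjective R B v
  obtain ⟨W, hW⟩ := piProj_matrix_surjective R B w
  have hmapmul : ∀ (i : ι) (X Y : Matrix (Fin n) (Fin n) ((∀ i, B i) ⊗[S] R)),
      (X * Y).map (piProj R B i) = X.map (piProj R B i) * Y.map (piProj R B i) := by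
    intro i X Y
    exact Matrix.map_mul
  have hmapone : ∀ i, (1 : Matrix (Fin n) (Fin n) ((∀ i, B i) ⊗[S] R)).map (piProj R B i) = 1 := by
    intro i
    exact Matrix.map_one _ (map_zero _) (map_one _)
  have hVW : V * W = 1 := by
    apply piProj_matrix_injective R B
    intro i
    rw [hmapmul, hV, hW, hvw, hmapone]
  have hWV : W * V = 1 := by
    apply piProj_matrix_injective R B
    intro i
    rw [hmapmul, hV, hW, hwv, hmapone]
  refine ⟨V, ⟨⟨V, W, hVW, hWV⟩, rfl⟩, ?_⟩
  apply piProj_matrix_injective R B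
  intro i
  have hπσ : ∀ a, piProj R B i
      ((bcL lam (∀ i, B i)).toRingEquiv a) = (bcL lam (B i)).toRingEquiv
        (piProj R B i a) := by
    intro a
    induction a using TensorProduct.induction_on with
    | zero => simp
    | add x y hx hy => simp only [map_add, hx, hy]
    | tmul s r =>
      show piProj R B i (bcL lam (∀ i, B i) (s ⊗ₜ[S] r)) = bcL lam (B i) (piProj R B i (s ⊗ₜ[S] r))
      rw [bcL_tmul, piProj_tmul, piProj_tmul, bcL_tmul]
  have hh : (h.map (Algebra.TensorProduct.includeRight : R →ₐ[S] (∀ i, B i) ⊗[S] R)).map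
      (piProj R B i) = h.map (Algebra.TensorProduct.includeRight : R →ₐ[S] B i ⊗[S] R) := by
    ext j k
    show piProj R B i ((1 : ∀ i, B i) ⊗ₜ[S] h j k) = (1 : B i) ⊗ₜ[S] h j k
    rw [piProj_tmul]
    rfl
  rw [hmapmul, hmapmul, hmapone, hh, hV]
  rw [lamT_map (bcL lam (∀ i, B i)).toRingEquiv (bcL lam (B i)).toRingEquiv
    (piProj R B i) hπσ V, hV, hveq]

/-- **Odd hermitian matrices are étale-locally congruent to the identity.** -/
theorem exists_etale_cover_congrOne (hlam : ∀ r, lam (lam r) = r)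
    (hfix : RInv.IsFixedRing S R lam.toRingEquiv)
    (hsq : ∀ (S₁ : Type u) [CommRing S₁] [Algebra S S₁] [Algebra.Etale S S₁] (x : S₁ˣ),
      ∃ (S₂ : Type u) (_ : CommRing S₂) (_ : Algebra S₁ S₂) (_ : Algebra.Etale S₁ S₂)
        (_ : Module.FaithfullyFlat S₁ S₂) (y : S₂), y * y = algebraMap S₁ S₂ ↑x)
    (n : ℕ) (hn : Odd n) (h : Matrix (Fin n) (Fin n) R) (hh : IsUnit h)
    (herm : (h.map lam).transpose = h) :
    ∃ (S' : Type u) (_ : CommRing S') (_ : Algebra S S') (_ : Algebra.Etale S S')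
      (_ : Module.FaithfullyFlat S S'), CongrOne lam h S' := by
  classical
  refine exists_etale_cover_of_local (P := fun T _ _ => CongrOne lam h T)
    (fun ι _ B _ _ hB => congrOne_pi lam h ι B hB) ?_
  intro p hp
  obtain ⟨f, c, hfp, hcf, hT⟩ := exists_away_congr_diag lam hlam hfix p n hn h hh herm
  let S₁ := Localization.Away f
  have hcu : ∀ i, IsUnit (algebraMap S S₁ (c i)) := fun i =>
    isUnit_of_dvd_unit (map_dvd (algebraMap S S₁) (hcf i)) (IsLocalization.Away.algebraMap_isUnit f)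
  obtain ⟨S₂, i1, i2, i3, i4, y, hy⟩ := exists_sqrt_family hsq S₁ n (fun i => (hcu i).unit)
  letI : Algebra S S₂ := ((algebraMap S₁ S₂).comp (algebraMap S S₁)).toAlgebra
  haveI : IsScalarTower S S₁ S₂ := IsScalarTower.of_algebraMap_eq fun _ => rfl
  haveI : Algebra.Etale S S₁ := Algebra.Etale.of_isLocalizationAway f
  haveI : Algebra.Etale S S₂ := Algebra.Etale.comp S S₁ S₂
  refine ⟨f, hfp, S₂, inferInstance, inferInstance, inferInstance, ?_, ?_⟩
  · intro q hq
    have h1 : q ∈ Set.range (PrimeSpectrum.comap (algebraMap S S₁)) := by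
      rw [PrimeSpectrum.localization_away_comap_range S₁ f]
      exact hq
    obtain ⟨Q₁, rfl⟩ := h1
    obtain ⟨Q₂, rfl⟩ := PrimeSpectrum.comap_surjective_of_faithfullyFlat (A := S₁) (B := S₂) Q₁
    refine ⟨Q₂, ?_⟩
    ext1
    show Q₂.asIdeal.comap (algebraMap S S₂) = (Q₂.asIdeal.comap (algebraMap S₁ S₂)).comap (algebraMap S S₁)
    rw [Ideal.comap_comap]
    rfl
  · have hfu : IsUnit (algebraMap S S₂ f) := by
      rw [IsScalarTower.algebraMap_apply S S₁ S₂]
      exact (IsLocalization.Away.algebraMap_isUnit f).map _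
    obtain ⟨v, hv, hveq⟩ := hT S₂ hfu
    have hyy : ∀ i, y i * y i = algebraMap S S₂ (c i) := by
      intro i
      rw [hy i, IsScalarTower.algebraMap_apply S S₁ S₂]
      rfl
    have hyu : ∀ i, IsUnit (y i) := by
      intro i
      have : IsUnit (y i * y i) := by
        rw [hyy, IsScalarTower.algebraMap_apply S S₁ S₂]
        exact (hcu i).map _
      exact isUnit_of_mul_isUnit_left this
    let A := S₂ ⊗[S] R
    let σ : A ≃+* A := (bcL lam S₂).toRingEquiv
    let D : Matrix (Fin n) (Fin n) A :=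
      Matrix.diagonal (fun i => algebraMap S₂ A (((hyu i).unit⁻¹ : S₂ˣ) : S₂))
    have hDu : IsUnit D := by
      rw [Matrix.isUnit_iff_isUnit_det, Matrix.det_diagonal]
      refine IsUnit.prod_univ_iff.2 fun i => ?_
      exact (Units.isUnit _).map (algebraMap S₂ A)
    have hDfix : lamT σ D = D := by
      rw [lamT_diagonal]
      congr 1
      funext i
      exact bcL_algebraMap lam S₂ _
    refine ⟨v * D, hv.mul hDu, ?_⟩
    change lamT σ (v * D) * _ * (v * D) = 1
    rw [lamT_mul, hDfix]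
    have h2 : ∀ X : Matrix (Fin n) (Fin n) A, D * lamT σ v * X * (v * D) = D * (lamT σ v * X * v) * D := by
      intro X
      simp only [mul_assoc]
    rw [h2, hveq, Matrix.diagonal_mul_diagonal, Matrix.diagonal_mul_diagonal, ← Matrix.diagonal_one]
    congr 1
    funext i
    rw [one_tmul_algebraMap, ← map_mul, ← map_mul, ← hyy i]
    have : (((hyu i).unit⁻¹ : S₂ˣ) : S₂) * (y i * y i) * (((hyu i).unit⁻¹ : S₂ˣ) : S₂) = 1 := by
      have h3 : (((hyu i).unit⁻¹ : S₂ˣ) : S₂) * y i = 1 := IsUnit.val_inv_mul (hyu i)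
      calc (((hyu i).unit⁻¹ : S₂ˣ) : S₂) * (y i * y i) * (((hyu i).unit⁻¹ : S₂ˣ) : S₂)
          = ((((hyu i).unit⁻¹ : S₂ˣ) : S₂) * y i) * ((((hyu i).unit⁻¹ : S₂ˣ) : S₂) * y i) := by ring
        _ = 1 := by rw [h3, one_mul]
    rw [this, map_one]

end Main

end Groth.Agent.Lib.Helper25.HermOdd
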