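import Mathlib
import Groth.Prelude.Def_AzInv
import Groth.Prelude.Def_W4c2azumayainvolQEt
import Groth.Agent.Lib.Helper1.GeoNbhd.QuadEtaleMain
import Groth.Agent.Lib.Helper25.HermOdd
import Groth.Agent.Lib.Helper25.AzInvTower

/-!
# Local isomorphism of algebras with involution is étale-local on the fixed ring
-/

set_option autoImplicit false
set_option linter.unusedSectionVars false
set_option linter.style.haveILetI false
universe u v w w'
open scoped TensorProduct

namespace Groth.Agent.Lib.Helper25.AzInvCover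
open AzInv Groth.Agent.Lib.Helper1.GeoNbhd Groth.Agent.Lib.Helper25.HermOdd
  Groth.Agent.Lib.Helper25.AzInvTower

section BcInv
variable {S : Type u} [CommRing S] {R : Type v} [CommRing R] [Algebra S R]
  {X : Type w} [Ring X] [Algebra S X] [Algebra R X] [IsScalarTower S R X]
  {Y : Type w'} [Ring Y] [Algebra S Y] [Algebra R Y] [IsScalarTower S R Y]
  (lam : R ≃ₐ[S] R) (T : Type u) [CommRing T] [Algebra S T]

attribute [local instance] algRT

theorem isScalarTower_RT : IsScalarTower T (T ⊗[S] R) (T ⊗[S] X) :=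
  IsScalarTower.of_algebraMap_eq (fun s => by
    show algebraMap T (T ⊗[S] X) s = baseMap S R X T (algebraMap T (T ⊗[S] R) s)
    exact ((baseMap S R X T).commutes s).symm)

/-- the base change of a `lam`-involution, as an involution over the base-changed ring -/
noncomputable def bcInv (σ : LamInv R X lam) : LamInv (T ⊗[S] R) (T ⊗[S] X) (bcL lam T) :=
  transportInv lam T σ AlgEquiv.refl

theorem bcInv_apply (σ : LamInv R X lam) (z : T ⊗[S] X) : bcInv lam T σ z = σ.bc S lam T z := rfl

end BcInv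

section Descent
variable {S : Type u} [CommRing S] {R : Type v} [CommRing R] [Algebra S R]
  {X : Type w} [Ring X] [Algebra S X] [Algebra R X] [IsScalarTower S R X]
  {Y : Type w'} [Ring Y] [Algebra S Y] [Algebra R Y] [IsScalarTower S R Y]
  (lam : R ≃ₐ[S] R)

attribute [local instance] algRT

/-- **Local isomorphism is local**: it can be checked after an étale faithfully flat base change
of the fixed ring. -/
theorem locIsoEt_of_cover (S₁ : Type u) [CommRing S₁] [Algebra S S₁] [Algebra.Etale S S₁]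
    [Module.FaithfullyFlat S S₁] (σ : LamInv R X lam) (τ : LamInv R Y lam)
    (h : haveI := isScalarTower_RT (S := S) (R := R) (X := X) S₁
      haveI := isScalarTower_RT (S := S) (R := R) (X := Y) S₁
      LocIsoEt S₁ (bcL lam S₁) (bcInv lam S₁ σ) (bcInv lam S₁ τ)) :
    LocIsoEt S lam σ τ := by
  haveI := isScalarTower_RT (S := S) (R := R) (X := X) S₁
  haveI := isScalarTower_RT (S := S) (R := R) (X := Y) S₁
  obtain ⟨S₂, i1, i2, i3, i4, f₂, hf1, hf2⟩ := h
  letI : Algebra S S₂ := ((algebraMap S₁ S₂).comp (algebraMap S S₁)).toAlgebra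
  haveI : IsScalarTower S S₁ S₂ := IsScalarTower.of_algebraMap_eq fun _ => rfl
  haveI : Algebra.Etale S S₂ := Algebra.Etale.comp S S₁ S₂
  haveI : Module.FaithfullyFlat S S₂ := Module.FaithfullyFlat.trans S S₁ S₂
  have hσ : ∀ z : S₂ ⊗[S₁] (S₁ ⊗[S] X), (bcInv lam S₁ σ).bc S₁ (bcL lam S₁) S₂ z =
      ((σ.linS S lam).baseChange S₁).baseChange S₂ z := fun z => rfl
  have hτ : ∀ z : S₂ ⊗[S₁] (S₁ ⊗[S] Y), (bcInv lam S₁ τ).bc S₁ (bcL lam S₁) S₂ z =
      ((τ.linS S lam).baseChange S₁).baseChange S₂ z := fun z => rfl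
  refine ⟨S₂, inferInstance, inferInstance, inferInstance, inferInstance,
    (twr S S₁ S₂ X).symm.trans (f₂.trans (twr S S₁ S₂ Y)), fun r x => ?_, fun x => ?_⟩
  · rw [map_mul]
    congr 1
    rw [AlgEquiv.trans_apply, AlgEquiv.trans_apply, twr_symm_tmul]
    have h1 := hf1 ((1 : S₁) ⊗ₜ[S] r) 1
    rw [mul_one, map_one, mul_one, algebraMap_RT_apply, baseMap_tmul, algebraMap_RT_apply,
      baseMap_tmul] at h1
    rw [h1, twr_tmul, one_smul]
  · rw [AlgEquiv.trans_apply, AlgEquiv.trans_apply, AlgEquiv.trans_apply, AlgEquiv.trans_apply]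
    have h1 : (twr S S₁ S₂ X).symm (σ.bc S lam S₂ x) =
        ((σ.linS S lam).baseChange S₁).baseChange S₂ ((twr S S₁ S₂ X).symm x) := by
      rw [AlgEquiv.symm_apply_eq, twr_baseChange, AlgEquiv.apply_symm_apply]
      rfl
    rw [h1, ← hσ, hf2, hτ, twr_baseChange]
    rfl

end Descent

end Groth.Agent.Lib.Helper25.AzInvCover
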