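import Mathlib
import Groth.Prelude.Def_AzInv
import Groth.Prelude.Def_W4c2azumayainvolQEt
import Groth.Agent.Lib.Helper25.AzInvCover

/-!
# Isomorphism of algebras with involution near a point of the fixed ring
-/

set_option autoImplicit false
set_option linter.unusedSectionVars false
set_option linter.style.haveILetI false
set_option linter.dupNamespace false
universe u v w w' w''
open scoped TensorProduct

namespace Groth.Agent.Lib.Helper25.IsoNear
open AzInv Groth.Agent.Lib.Helper1.GeoNbhd Groth.Agent.Lib.Helper25.HermOdd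
  Groth.Agent.Lib.Helper25.AzInvTower Groth.Agent.Lib.Helper25.AzInvCover
  Groth.Agent.Lib.Helper25.EtaleCover

section Range
variable {S : Type u} [CommRing S]

/-- a point in the image of two spectra is in the image of the spectrum of the tensor product -/
theorem mem_range_tensor (T₁ T₂ : Type u) [CommRing T₁] [CommRing T₂] [Algebra S T₁] [Algebra S T₂]
    (p : PrimeSpectrum S) (h₁ : p ∈ Set.range (PrimeSpectrum.comap (algebraMap S T₁)))
    (h₂ : p ∈ Set.range (PrimeSpectrum.comap (algebraMap S T₂))) :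
    p ∈ Set.range (PrimeSpectrum.comap (algebraMap S (T₁ ⊗[S] T₂))) := by
  let k := p.asIdeal.ResidueField
  rw [← PrimeSpectrum.nontrivial_iff_mem_rangeComap] at h₁ h₂ ⊢
  haveI := h₁
  haveI := h₂
  haveI : Nontrivial ((k ⊗[S] T₁) ⊗[k] (k ⊗[S] T₂)) :=
    (Module.FaithfullyFlat.nontrivial_tensorProduct_iff_right k (k ⊗[S] T₁)).2 inferInstance
  haveI : Nontrivial ((k ⊗[S] T₁) ⊗[S] T₂) :=
    (Algebra.TensorProduct.cancelBaseChange S k k (k ⊗[S] T₁) T₂).toEquiv.symm.nontrivial
  exact (Algebra.TensorProduct.assoc S S S k T₁ T₂).toEquiv.symm.nontrivial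

end Range

section IsoOverPi
variable {S : Type u} [CommRing S] {R : Type v} [CommRing R] [Algebra S R]
  {X : Type w} [Ring X] [Algebra S X] [Algebra R X] [IsScalarTower S R X]
  {Y : Type w'} [Ring Y] [Algebra S Y] [Algebra R Y] [IsScalarTower S R Y]

theorem piProj_baseChange (σ : X →ₗ[S] X) {ι : Type u} [Finite ι] (B : ι → Type u)
    [∀ i, CommRing (B i)] [∀ i, Algebra S (B i)] (i : ι) (z : (∀ i, B i) ⊗[S] X) :
    piProj X B i (σ.baseChange (∀ i, B i) z) = σ.baseChange (B i) (piProj X B i z) := by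
  induction z using TensorProduct.induction_on with
  | zero => simp
  | add x y hx hy => simp only [map_add, hx, hy]
  | tmul b x => rw [LinearMap.baseChange_tmul, piProj_tmul, piProj_tmul, LinearMap.baseChange_tmul]

/-- isomorphism over each factor gives isomorphism over a finite product -/
theorem IsoOver.pi (σ : X →ₗ[S] X) (τ : Y →ₗ[S] Y) (ι : Type u) [Finite ι] (B : ι → Type u)
    [∀ i, CommRing (B i)] [∀ i, Algebra S (B i)] (h : ∀ i, IsoOver R (B i) σ τ) :
    IsoOver R (∀ i, B i) σ τ := by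
  classical
  choose f hf1 hf2 using h
  let mid : (∀ i, B i ⊗[S] X) ≃ₐ[S] (∀ i, B i ⊗[S] Y) :=
    AlgEquiv.piCongrRight fun i => (f i).restrictScalars S
  let F₀ : (∀ i, B i) ⊗[S] X ≃ₐ[S] (∀ i, B i) ⊗[S] Y :=
    (piEquiv X B).trans (mid.trans (piEquiv Y B).symm)
  have hK : ∀ z i, piProj Y B i (F₀ z) = f i (piProj X B i z) := by
    intro z i
    rw [← piEquiv_apply]
    show piEquiv Y B ((piEquiv Y B).symm (mid (piEquiv X B z))) i = _
    rw [AlgEquiv.apply_symm_apply]
    show f i (piEquiv X B z i) = _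
    rw [piEquiv_apply]
  have hcomm : ∀ b : ∀ i, B i, F₀ (algebraMap (∀ i, B i) ((∀ i, B i) ⊗[S] X) b) =
      algebraMap (∀ i, B i) ((∀ i, B i) ⊗[S] Y) b := by
    intro b
    apply piProj_injective Y B
    intro i
    rw [hK, Algebra.TensorProduct.algebraMap_apply, Algebra.TensorProduct.algebraMap_apply,
      Algebra.algebraMap_self, RingHom.id_apply, piProj_tmul, piProj_tmul]
    have := (f i).commutes (b i)
    rw [Algebra.TensorProduct.algebraMap_apply, Algebra.TensorProduct.algebraMap_apply,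
      Algebra.algebraMap_self, RingHom.id_apply] at this
    exact this
  let F : (∀ i, B i) ⊗[S] X ≃ₐ[∀ i, B i] (∀ i, B i) ⊗[S] Y :=
    AlgEquiv.ofRingEquiv (f := F₀.toRingEquiv) hcomm
  have hFK : ∀ z i, piProj Y B i (F z) = f i (piProj X B i z) := hK
  refine ⟨F, fun r => ?_, fun x => ?_⟩
  · apply piProj_injective Y B
    intro i
    rw [hFK, piProj_tmul, piProj_tmul]
    exact hf1 i r
  · apply piProj_injective Y B
    intro i
    rw [hFK, piProj_baseChange, hf2, piProj_baseChange, hFK]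

end IsoOverPi

section Tower
variable {S : Type u} [CommRing S] {R : Type v} [CommRing R] [Algebra S R]
  {X : Type w} [Ring X] [Algebra S X] [Algebra R X] [IsScalarTower S R X]
  {Y : Type w'} [Ring Y] [Algebra S Y] [Algebra R Y] [IsScalarTower S R Y]
  (lam : R ≃ₐ[S] R)

attribute [local instance] algRT

/-- an isomorphism over `T` of the base changes to `S₁` is an isomorphism over `T` -/
theorem IsoOver.of_tower (S₁ : Type u) [CommRing S₁] [Algebra S S₁]
    (T : Type u) [CommRing T] [Algebra S T] [Algebra S₁ T] [IsScalarTower S S₁ T]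
    (σ : LamInv R X lam) (τ : LamInv R Y lam)
    (h : haveI := isScalarTower_RT (S := S) (R := R) (X := X) S₁
      haveI := isScalarTower_RT (S := S) (R := R) (X := Y) S₁
      IsoOver (S₁ ⊗[S] R) T ((bcInv lam S₁ σ).linS S₁ (bcL lam S₁))
        ((bcInv lam S₁ τ).linS S₁ (bcL lam S₁))) :
    IsoOver R T (σ.linS S lam) (τ.linS S lam) := by
  haveI := isScalarTower_RT (S := S) (R := R) (X := X) S₁
  haveI := isScalarTower_RT (S := S) (R := R) (X := Y) S₁
  obtain ⟨f₂, hf1, hf2⟩ := h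
  have hσ : ∀ z : T ⊗[S₁] (S₁ ⊗[S] X),
      ((bcInv lam S₁ σ).linS S₁ (bcL lam S₁)).baseChange T z =
      ((σ.linS S lam).baseChange S₁).baseChange T z := fun z => rfl
  have hτ : ∀ z : T ⊗[S₁] (S₁ ⊗[S] Y),
      ((bcInv lam S₁ τ).linS S₁ (bcL lam S₁)).baseChange T z =
      ((τ.linS S lam).baseChange S₁).baseChange T z := fun z => rfl
  refine ⟨(twr S S₁ T X).symm.trans (f₂.trans (twr S S₁ T Y)), fun r => ?_, fun x => ?_⟩
  · rw [AlgEquiv.trans_apply, AlgEquiv.trans_apply, twr_symm_tmul]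
    have h1 := hf1 ((1 : S₁) ⊗ₜ[S] r)
    rw [algebraMap_RT_apply, baseMap_tmul, algebraMap_RT_apply, baseMap_tmul] at h1
    rw [h1, twr_tmul, one_smul]
  · rw [AlgEquiv.trans_apply, AlgEquiv.trans_apply, AlgEquiv.trans_apply, AlgEquiv.trans_apply]
    have h1 : (twr S S₁ T X).symm ((σ.linS S lam).baseChange T x) =
        ((σ.linS S lam).baseChange S₁).baseChange T ((twr S S₁ T X).symm x) := by
      rw [AlgEquiv.symm_apply_eq, twr_baseChange, AlgEquiv.apply_symm_apply]
    rw [h1, ← hσ, hf2, hτ, twr_baseChange]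

end Tower

section Near
variable {S : Type u} [CommRing S] {R : Type v} [CommRing R] [Algebra S R]
  {X : Type w} [Ring X] [Algebra S X] [Algebra R X] [IsScalarTower S R X]
  {Y : Type w'} [Ring Y] [Algebra S Y] [Algebra R Y] [IsScalarTower S R Y]
  {Z : Type w''} [Ring Z] [Algebra S Z] [Algebra R Z] [IsScalarTower S R Z]
  (lam : R ≃ₐ[S] R)

/-- `(X, σ)` and `(Y, τ)` become isomorphic over an étale neighbourhood of the point `p` of
`Spec S` -/
def IsoNear (p : PrimeSpectrum S) (σ : LamInv R X lam) (τ : LamInv R Y lam) : Prop :=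
  ∃ (T : Type u) (_ : CommRing T) (_ : Algebra S T) (_ : Algebra.Etale S T),
    p ∈ Set.range (PrimeSpectrum.comap (algebraMap S T)) ∧
      IsoOver R T (σ.linS S lam) (τ.linS S lam)

variable {lam}

theorem IsoNear.symm {p : PrimeSpectrum S} {σ : LamInv R X lam} {τ : LamInv R Y lam}
    (h : IsoNear lam p σ τ) : IsoNear lam p τ σ := by
  obtain ⟨T, i1, i2, i3, hp, h⟩ := h
  exact ⟨T, i1, i2, i3, hp, h.symm⟩

attribute [local instance] Algebra.TensorProduct.rightAlgebra in
theorem IsoNear.trans {p : PrimeSpectrum S} {σ : LamInv R X lam} {τ : LamInv R Y lam}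
    {ρ : LamInv R Z lam} (h : IsoNear lam p σ τ) (h' : IsoNear lam p τ ρ) :
    IsoNear lam p σ ρ := by
  obtain ⟨S₁, i1, i2, i3, hp1, h⟩ := h
  obtain ⟨S₂, j1, j2, j3, hp2, h'⟩ := h'
  haveI : Algebra.Etale S₁ (S₁ ⊗[S] S₂) := inferInstance
  haveI : Algebra.Etale S (S₁ ⊗[S] S₂) := Algebra.Etale.comp S S₁ (S₁ ⊗[S] S₂)
  haveI : IsScalarTower S S₂ (S₁ ⊗[S] S₂) := IsScalarTower.of_algebraMap_eq fun s => by
    rw [Algebra.TensorProduct.algebraMap_apply]
    show _ = (1 : S₁) ⊗ₜ[S] algebraMap S S₂ s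
    rw [Algebra.algebraMap_eq_smul_one s, Algebra.algebraMap_eq_smul_one s, TensorProduct.smul_tmul]
  exact ⟨S₁ ⊗[S] S₂, inferInstance, inferInstance, inferInstance,
    mem_range_tensor S₁ S₂ p hp1 hp2,
    (h.baseChange (S₁ ⊗[S] S₂)).trans (h'.baseChange (S₁ ⊗[S] S₂))⟩

theorem IsoNear.of_locIsoEt {σ : LamInv R X lam} {τ : LamInv R Y lam}
    (h : LocIsoEt S lam σ τ) (p : PrimeSpectrum S) : IsoNear lam p σ τ := by
  rw [locIsoEt_iff] at h
  obtain ⟨T, i1, i2, i3, i4, h⟩ := h
  exact ⟨T, i1, i2, i3, PrimeSpectrum.comap_surjective_of_faithfullyFlat (A := S) (B := T) p, h⟩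

/-- isomorphism near every point gives a local isomorphism for the étale topology -/
theorem locIsoEt_of_isoNear {σ : LamInv R X lam} {τ : LamInv R Y lam}
    (h : ∀ p : PrimeSpectrum S, IsoNear lam p σ τ) : LocIsoEt S lam σ τ := by
  rw [locIsoEt_iff]
  refine exists_etale_cover_of_local
    (P := fun T _ _ => IsoOver R T (σ.linS S lam) (τ.linS S lam))
    (fun ι _ B _ _ hB => IsoOver.pi _ _ ι B hB) ?_
  intro p hp
  obtain ⟨T, i1, i2, i3, hpT, hiso⟩ := h ⟨p, hp⟩
  have hopen := Groth.Agent.Lib.Helper1.AzInvLib.isOpen_range_comap_of_etale S T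
  obtain ⟨_, ⟨f, rfl⟩, hpf, hsub⟩ :=
    PrimeSpectrum.isTopologicalBasis_basic_opens.exists_subset_of_mem_open hpT hopen
  exact ⟨f, hpf, T, i1, i2, i3, fun q hq => hsub hq, hiso⟩

attribute [local instance] algRT in
/-- transfer of isomorphism near a point along an étale algebra -/
theorem IsoNear.of_tower (S₁ : Type u) [CommRing S₁] [Algebra S S₁] [Algebra.Etale S S₁]
    (P₁ : PrimeSpectrum S₁) (σ : LamInv R X lam) (τ : LamInv R Y lam)
    (h : haveI := isScalarTower_RT (S := S) (R := R) (X := X) S₁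
      haveI := isScalarTower_RT (S := S) (R := R) (X := Y) S₁
      IsoNear (bcL lam S₁) P₁ (bcInv lam S₁ σ) (bcInv lam S₁ τ)) :
    IsoNear lam (PrimeSpectrum.comap (algebraMap S S₁) P₁) σ τ := by
  haveI := isScalarTower_RT (S := S) (R := R) (X := X) S₁
  haveI := isScalarTower_RT (S := S) (R := R) (X := Y) S₁
  obtain ⟨T, i1, i2, i3, hpT, hiso⟩ := h
  letI : Algebra S T := ((algebraMap S₁ T).comp (algebraMap S S₁)).toAlgebra
  haveI : IsScalarTower S S₁ T := IsScalarTower.of_algebraMap_eq fun _ => rfl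
  haveI : Algebra.Etale S T := Algebra.Etale.comp S S₁ T
  refine ⟨T, inferInstance, inferInstance, inferInstance, ?_, IsoOver.of_tower lam S₁ T σ τ hiso⟩
  obtain ⟨Q, rfl⟩ := hpT
  exact ⟨Q, rfl⟩

end Near

end Groth.Agent.Lib.Helper25.IsoNear
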