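import Mathlib
import Groth.Prelude.Def_AzInv
import Groth.Prelude.Def_W4c2azumayainvolQEt
import Groth.Agent.Lib.Helper25.IsoNear

/-!
# Amplification of isomorphisms of algebras with involution to matrix algebras
-/

set_option autoImplicit false
set_option linter.unusedSectionVars false
set_option linter.style.haveILetI false
set_option linter.dupNamespace false
universe u v w w' w''
open scoped TensorProduct

namespace Groth.Agent.Lib.Helper25.AzInvAmp
open AzInv Groth.Agent.Lib.Helper1.GeoNbhd Groth.Agent.Lib.Helper25.HermOdd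
  Groth.Agent.Lib.Helper25.AzInvTower Groth.Agent.Lib.Helper25.AzInvCover
  Groth.Agent.Lib.Helper25.EtaleCover Groth.Agent.Lib.Helper25.IsoNear

section Kappa
variable (S : Type*) [CommRing S] (T : Type*) [CommRing T] [Algebra S T]
  (X : Type*) [Ring X] [Algebra S X] (ι : Type*) [Fintype ι] [DecidableEq ι]

/-- `T ⊗ M_ι(X) ≃ M_ι(T ⊗ X)`, linear version -/
noncomputable def kappaL : T ⊗[S] Matrix ι ι X ≃ₗ[T] Matrix ι ι (T ⊗[S] X) :=
  (TensorProduct.piRight S T T (fun _ : ι => ι → X)).trans
    (LinearEquiv.piCongrRight fun _ => TensorProduct.piRight S T T (fun _ : ι => X))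

theorem kappaL_tmul (s : T) (M : Matrix ι ι X) (i j : ι) :
    kappaL S T X ι (s ⊗ₜ[S] M) i j = s ⊗ₜ[S] M i j := by
  simp [kappaL]
  rfl

/-- `T ⊗ M_ι(X) ≃ M_ι(T ⊗ X)` as algebras -/
noncomputable def kappa : T ⊗[S] Matrix ι ι X ≃ₐ[T] Matrix ι ι (T ⊗[S] X) :=
  AlgEquiv.ofLinearEquiv (kappaL S T X ι)
    (by
      ext i j
      rw [Algebra.TensorProduct.one_def, kappaL_tmul, Matrix.one_apply, Matrix.one_apply]
      split_ifs
      · rfl
      · rw [TensorProduct.tmul_zero])
    (LinearMap.map_mul_of_map_mul_tmul (fun a₁ a₂ b₁ b₂ => by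
      ext i j
      simp only [LinearEquiv.coe_coe, kappaL_tmul, Matrix.mul_apply, TensorProduct.tmul_sum,
        Algebra.TensorProduct.tmul_mul_tmul]))

theorem kappa_tmul (s : T) (M : Matrix ι ι X) (i j : ι) :
    kappa S T X ι (s ⊗ₜ[S] M) i j = s ⊗ₜ[S] M i j := kappaL_tmul S T X ι s M i j

end Kappa

section Amp
variable {S : Type u} [CommRing S] {R : Type v} [CommRing R] [Algebra S R]
  {X : Type w} [Ring X] [Algebra S X] [Algebra R X] [IsScalarTower S R X]
  {Y : Type w'} [Ring Y] [Algebra S Y] [Algebra R Y] [IsScalarTower S R Y]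
  (lam : R ≃ₐ[S] R)

theorem kappa_matrix_bc (T : Type u) [CommRing T] [Algebra S T] (σ : LamInv R X lam)
    (ι : Type*) [Fintype ι] [DecidableEq ι] (x : T ⊗[S] Matrix ι ι X) (i j : ι) :
    kappa S T X ι (((σ.matrix ι).linS S lam).baseChange T x) i j =
      (σ.linS S lam).baseChange T (kappa S T X ι x j i) := by
  induction x using TensorProduct.induction_on with
  | zero => simp
  | add x y hx hy => simp only [map_add, Matrix.add_apply, hx, hy]
  | tmul s M =>
    rw [LinearMap.baseChange_tmul, kappa_tmul, kappa_tmul, LinearMap.baseChange_tmul]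
    rfl

/-- **amplification**: an isomorphism of algebras with involution over `T` induces one of the
matrix algebras with the induced involutions -/
theorem IsoOver.matrix {T : Type u} [CommRing T] [Algebra S T] {σ : LamInv R X lam}
    {τ : LamInv R Y lam} (ι : Type*) [Fintype ι] [DecidableEq ι]
    (h : IsoOver R T (σ.linS S lam) (τ.linS S lam)) :
    IsoOver R T ((σ.matrix ι).linS S lam) ((τ.matrix ι).linS S lam) := by
  obtain ⟨f, hf1, hf2⟩ := h
  let F : T ⊗[S] Matrix ι ι X ≃ₐ[T] T ⊗[S] Matrix ι ι Y :=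
    (kappa S T X ι).trans ((f.mapMatrix (m := ι)).trans (kappa S T Y ι).symm)
  have hF : ∀ x i j, kappa S T Y ι (F x) i j = f (kappa S T X ι x i j) := by
    intro x i j
    show kappa S T Y ι ((kappa S T Y ι).symm (f.mapMatrix (kappa S T X ι x))) i j = _
    rw [AlgEquiv.apply_symm_apply]
    rfl
  refine ⟨F, fun r => ?_, fun x => ?_⟩
  · apply (kappa S T Y ι).injective
    ext i j
    rw [hF, kappa_tmul, kappa_tmul, Matrix.algebraMap_matrix_apply, Matrix.algebraMap_matrix_apply]
    split_ifs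
    · exact hf1 r
    · rw [TensorProduct.tmul_zero, map_zero, TensorProduct.tmul_zero]
  · apply (kappa S T Y ι).injective
    ext i j
    rw [hF, kappa_matrix_bc, hf2, kappa_matrix_bc, hF]

theorem IsoNear.matrix {p : PrimeSpectrum S} {σ : LamInv R X lam} {τ : LamInv R Y lam}
    (ι : Type*) [Fintype ι] [DecidableEq ι] (h : IsoNear lam p σ τ) :
    IsoNear lam p (σ.matrix ι) (τ.matrix ι) := by
  obtain ⟨T, i1, i2, i3, hp, h⟩ := h
  exact ⟨T, i1, i2, i3, hp, IsoOver.matrix lam ι h⟩

end Amp

section Transport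
variable {R : Type v} [CommRing R] {X : Type w} [Ring X] [Algebra R X] {Y : Type w'} [Ring Y]
  [Algebra R Y] {lam : R → R}

/-- transport of an involution along an algebra isomorphism -/
def transportAlg (σ : LamInv R X lam) (e : X ≃ₐ[R] Y) : LamInv R Y lam where
  toFun y := e (σ (e.symm y))
  map_add' a b := by rw [map_add, σ.map_add, map_add]
  map_mul' a b := by rw [map_mul, σ.map_mul, map_mul]
  map_smul' r a := by rw [map_smul, σ.map_smul, map_smul]
  invol' a := by rw [e.symm_apply_apply, σ.invol, e.apply_symm_apply]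

theorem transportAlg_apply (σ : LamInv R X lam) (e : X ≃ₐ[R] Y) (x : X) :
    transportAlg σ e (e x) = e (σ x) := by
  show e (σ (e.symm (e x))) = _
  rw [e.symm_apply_apply]

theorem isInvHom_transportAlg (σ : LamInv R X lam) (e : X ≃ₐ[R] Y) :
    IsInvHom σ (transportAlg σ e) e := fun a => (transportAlg_apply σ e a).symm

end Transport

section Xi
variable (R : Type v) [CommRing R]

/-- `M_k(M_n(R)) ≃ M_{kn}(R)` -/
def Xi (k n : ℕ) : Matrix (Fin k) (Fin k) (Matrix (Fin n) (Fin n) R) ≃ₐ[R]
    Matrix (Fin (k * n)) (Fin (k * n)) R :=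
  (Matrix.compAlgEquiv (Fin k) (Fin n) R R).trans (Matrix.reindexAlgEquiv R R finProdFinEquiv)

theorem Xi_apply (k n : ℕ) (M : Matrix (Fin k) (Fin k) (Matrix (Fin n) (Fin n) R))
    (a b : Fin (k * n)) :
    Xi R k n M a b = M (finProdFinEquiv.symm a).1 (finProdFinEquiv.symm b).1
      (finProdFinEquiv.symm a).2 (finProdFinEquiv.symm b).2 := rfl

variable {R}

theorem Xi_matrix_transpose {F : Type*} [FunLike F R R] [RingHomClass F R R] (lam : F)
    (hlam : ∀ r : R, lam (lam r) = r) (k n : ℕ)
    (M : Matrix (Fin k) (Fin k) (Matrix (Fin n) (Fin n) R)) :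
    Xi R k n ((LamInv.transpose lam (Fin n) hlam).matrix (Fin k) M) =
      LamInv.transpose lam (Fin (k * n)) hlam (Xi R k n M) := by
  ext a b
  rfl

theorem matrix_conj_eq {F : Type*} [FunLike F R R] [RingHomClass F R R] (lam : F)
    (hlam : ∀ r : R, lam (lam r) = r) (k n : ℕ)
    (σ : LamInv R (Matrix (Fin n) (Fin n) R) lam) (G Gi : Matrix (Fin n) (Fin n) R)
    (hσ : ∀ M, σ M = G * LamInv.transpose lam (Fin n) hlam M * Gi)
    (M : Matrix (Fin k) (Fin k) (Matrix (Fin n) (Fin n) R)) :
    σ.matrix (Fin k) M = Matrix.diagonal (fun _ => G) *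
      (LamInv.transpose lam (Fin n) hlam).matrix (Fin k) M * Matrix.diagonal (fun _ => Gi) := by
  ext1 i j
  rw [Matrix.mul_diagonal, Matrix.diagonal_mul, LamInv.matrix_apply, LamInv.matrix_apply, hσ]

/-- the transported involution on `M_{kn}(R)` of the amplification of an inner twist of the
transpose is an inner twist of the transpose -/
theorem transportAlg_matrix_conj {F : Type*} [FunLike F R R] [RingHomClass F R R] (lam : F)
    (hlam : ∀ r : R, lam (lam r) = r) (k n : ℕ)
    (σ : LamInv R (Matrix (Fin n) (Fin n) R) lam) (G Gi : Matrix (Fin n) (Fin n) R)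
    (hσ : ∀ M, σ M = G * LamInv.transpose lam (Fin n) hlam M * Gi)
    (M : Matrix (Fin (k * n)) (Fin (k * n)) R) :
    transportAlg (σ.matrix (Fin k)) (Xi R k n) M =
      Xi R k n (Matrix.diagonal (fun _ => G)) * LamInv.transpose lam (Fin (k * n)) hlam M *
        Xi R k n (Matrix.diagonal (fun _ => Gi)) := by
  obtain ⟨M, rfl⟩ := (Xi R k n).surjective M
  rw [transportAlg_apply, matrix_conj_eq lam hlam k n σ G Gi hσ, map_mul, map_mul,
    Xi_matrix_transpose]

theorem Xi_diagonal_mul (k n : ℕ) (A B : Matrix (Fin n) (Fin n) R) :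
    Xi R k n (Matrix.diagonal (fun _ => A)) * Xi R k n (Matrix.diagonal (fun _ => B)) =
      Xi R k n (Matrix.diagonal (fun _ => A * B)) := by
  rw [← map_mul, Matrix.diagonal_mul_diagonal]

theorem Xi_diagonal_one (k n : ℕ) :
    Xi R k n (Matrix.diagonal (fun _ => (1 : Matrix (Fin n) (Fin n) R))) = 1 := by
  rw [Matrix.diagonal_one, map_one]

theorem Xi_diagonal_neg (k n : ℕ) (A : Matrix (Fin n) (Fin n) R) :
    Xi R k n (Matrix.diagonal (fun _ => -A)) = -Xi R k n (Matrix.diagonal (fun _ => A)) := by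
  rw [← map_neg, Matrix.diagonal_neg]

theorem transpose_Xi_diagonal {F : Type*} [FunLike F R R] [RingHomClass F R R] (lam : F)
    (hlam : ∀ r : R, lam (lam r) = r) (k n : ℕ) (A : Matrix (Fin n) (Fin n) R) :
    LamInv.transpose lam (Fin (k * n)) hlam (Xi R k n (Matrix.diagonal (fun _ => A))) =
      Xi R k n (Matrix.diagonal (fun _ => LamInv.transpose lam (Fin n) hlam A)) := by
  rw [← Xi_matrix_transpose]
  congr 1
  ext1 i j
  rw [LamInv.matrix_apply, Matrix.diagonal_apply, Matrix.diagonal_apply]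
  by_cases h : i = j
  · subst h
    rw [if_pos rfl, if_pos rfl]
  · rw [if_neg h, if_neg (Ne.symm h), LamInv.map_zero]

end Xi

end Groth.Agent.Lib.Helper25.AzInvAmp
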