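import Groth.Agent.Lib.Helper85.MatrixUnits
import Groth.Agent.Lib.Helper85.AzumayaInner
import Groth.Agent.Lib.Helper85.AzumayaLocallyInner
import Mathlib

/-!
# Automorphisms of Azumaya algebras over `R` are inner Zariski-locally on the ring of invariants
of a finite group acting on `R` (helper25)
-/

set_option autoImplicit false
universe u v w

namespace Groth.Agent.Lib.Helper25.SemilocalInner

open scoped TensorProduct
open MulOpposite Groth.Agent.Lib.Helper85 Groth.Agent.Lib.Helper85.MatrixUnits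

/-- Skolem–Noether for free Azumaya algebras over a semilocal ring: every algebra automorphism is
inner. -/
theorem exists_unit_conj_of_semilocal (R : Type u) [CommRing R] [Finite (MaximalSpectrum R)]
    (A : Type v) [Ring A] [Algebra R A] [IsAzumaya R A] [Module.Free R A]
    (u : A ≃ₐ[R] A) : ∃ a : Aˣ, ∀ x : A, u x = (a : A) * x * (a⁻¹ : Aˣ) := by
  classical
  rcases subsingleton_or_nontrivial A with hs | hnt
  · exact ⟨1, fun x => Subsingleton.elim _ _⟩
  have hfin : Module.Finite R A := inferInstance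
  let b := Module.Free.chooseBasis R A
  obtain ⟨i0⟩ : Nonempty (Module.Free.ChooseBasisIndex R A) := b.index_nonempty
  let e : A ⊗[R] Aᵐᵒᵖ ≃ₐ[R] Module.End R A :=
    AlgEquiv.ofBijective (AlgHom.mulLeftRight R A) IsAzumaya.bij
  have he : ∀ t, e t = AlgHom.mulLeftRight R A t := fun _ => rfl
  let ρe : Module.End R A ≃ₐ[R] Module.End R A :=
    (e.symm.trans (Algebra.TensorProduct.congr u (AlgEquiv.refl : Aᵐᵒᵖ ≃ₐ[R] Aᵐᵒᵖ))).trans e
  let ρ : Module.End R A →ₐ[R] Module.End R A := ρe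
  have hρbij : Function.Bijective ρ := ρe.bijective
  have hρ : ∀ t, ρ (AlgHom.mulLeftRight R A t) =
      AlgHom.mulLeftRight R A (Algebra.TensorProduct.map (u : A →ₐ[R] A) (AlgHom.id R Aᵐᵒᵖ) t) := by
    intro t
    change e (Algebra.TensorProduct.congr u (AlgEquiv.refl : Aᵐᵒᵖ ≃ₐ[R] Aᵐᵒᵖ) (e.symm (e t))) = _
    rw [e.symm_apply_apply, he]
    rfl
  have hinv : Module.Invertible R (summand b i0 ρ) := summand_invertible b i0 ρ hρbij
  have hfree : Module.Free R (summand b i0 ρ) :=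
    Module.free_of_flat_of_finrank_eq R _ 1
      fun P => by
        let _ : Field (R ⧸ P.1) := Ideal.Quotient.field P.1
        exact Module.Invertible.finrank_eq_one ..
  obtain ⟨e'⟩ := Module.Invertible.free_iff_linearEquiv.mp hfree
  set p0 : A := ((e'.symm 1 : summand b i0 ρ) : A) with hp0
  have hspan : ∀ p ∈ summand b i0 ρ, ∃ c : R, p = c • p0 := by
    intro p hp
    refine ⟨e' ⟨p, hp⟩, ?_⟩
    have : (⟨p, hp⟩ : summand b i0 ρ) = e' ⟨p, hp⟩ • e'.symm 1 := by
      rw [← map_smul, smul_eq_mul, mul_one, e'.symm_apply_apply]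
    have := congrArg Subtype.val this
    rwa [Submodule.coe_smul] at this
  have hbij := intertwiner_bijective b i0 ρ hspan
  let θ : A ≃ₗ[R] A := LinearEquiv.ofBijective (intertwiner b i0 ρ p0) hbij
  have hθ : ∀ (f : Module.End R A) v, θ (f v) = ρ f (θ v) :=
    fun f v => intertwiner_comm b i0 ρ p0 f v
  -- compatibility with left and right multiplications
  have hleft : ∀ a x : A, θ (a * x) = u a * θ x := by
    intro a x
    have h1 := hθ (AlgHom.mulLeftRight R A (a ⊗ₜ (1 : Aᵐᵒᵖ))) x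
    rw [hρ, Algebra.TensorProduct.map_tmul, AlgHom.mulLeftRight_apply,
      AlgHom.mulLeftRight_apply] at h1
    simpa using h1
  have hright : ∀ x b : A, θ (x * b) = θ x * b := by
    intro x b
    have h1 := hθ (AlgHom.mulLeftRight R A ((1 : A) ⊗ₜ (op b))) x
    rw [hρ, Algebra.TensorProduct.map_tmul, AlgHom.mulLeftRight_apply,
      AlgHom.mulLeftRight_apply] at h1
    simpa using h1
  set c : A := θ 1 with hc
  have hθc : ∀ x, θ x = c * x := by
    intro x
    have := hright 1 x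
    rwa [one_mul] at this
  have hcomm : ∀ a, c * a = u a * c := by
    intro a
    have := hleft a 1
    rwa [mul_one, hθc] at this
  obtain ⟨x, hx⟩ := θ.surjective 1
  have hcx : c * x = 1 := by rw [← hθc, hx]
  have hxc : x * c = 1 := by
    apply θ.injective
    rw [hθc, hθc, ← mul_assoc, hcx, one_mul, mul_one]
  refine ⟨⟨c, x, hcx, hxc⟩, fun y => ?_⟩
  change u y = c * y * x
  rw [hcomm, mul_assoc, hcx, mul_one]

section Semilocal

variable (S : Type*) (R : Type*) [CommRing S] [CommRing R] [Algebra S R]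
  (G : Type*) [Group G] [Finite G] [MulSemiringAction G R] [SMulCommClass G S R]
  [Algebra.IsInvariant S R G]

include G in
theorem finite_primesOver (𝔭 : Ideal S) [𝔭.IsPrime] : (𝔭.primesOver R).Finite := by
  by_cases h : (𝔭.primesOver R).Nonempty
  · obtain ⟨Q, hQ⟩ := h
    have h1 := hQ.1
    have h2 := hQ.2
    rw [← Algebra.IsInvariant.orbit_eq_primesOver S R G 𝔭 Q]
    exact Set.finite_range _
  · rw [Set.not_nonempty_iff_eq_empty] at h
    rw [h]
    exact Set.finite_empty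

include G in
/-- the localization of `R` at the image of the complement of a prime of the ring of invariants is
semilocal -/
theorem finite_maximalSpectrum_localization (𝔭 : Ideal S) [𝔭.IsPrime]
    (Rp : Type*) [CommRing Rp] [Algebra R Rp]
    [IsLocalization (Algebra.algebraMapSubmonoid R 𝔭.primeCompl) Rp] :
    Finite (MaximalSpectrum Rp) := by
  have hint : Algebra.IsIntegral S R := Algebra.IsInvariant.isIntegral S R G
  set M := Algebra.algebraMapSubmonoid R 𝔭.primeCompl with hM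
  have hfin : Finite (𝔭.primesOver R) := (finite_primesOver S R G 𝔭).to_subtype
  have key : ∀ Q : MaximalSpectrum Rp, Q.asIdeal.under R ∈ 𝔭.primesOver R := by
    intro Q
    have hQp : Q.asIdeal.IsPrime := Q.isMaximal.isPrime
    obtain ⟨hq, hdisj⟩ := (IsLocalization.isPrime_iff_isPrime_disjoint M Rp Q.asIdeal).1 hQp
    set q := Q.asIdeal.under R with hqdef
    have hle : q.under S ≤ 𝔭 := by
      intro s hs
      by_contra hs'
      exact Set.disjoint_left.1 hdisj (⟨s, hs', rfl⟩ : algebraMap S R s ∈ M) hs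
    obtain ⟨q', hq'ge, hq'prime, hq'over⟩ :=
      Ideal.exists_ideal_over_prime_of_isIntegral_of_isPrime 𝔭 q hle
    have hdisj' : Disjoint (M : Set R) (q' : Set R) := by
      rw [Set.disjoint_left]
      rintro _ ⟨s, hs, rfl⟩ hs'
      have : s ∈ q'.comap (algebraMap S R) := hs'
      rw [hq'over] at this
      exact hs this
    have hQ'prime := IsLocalization.isPrime_of_isPrime_disjoint M Rp q' hq'prime hdisj'
    have hQle : Q.asIdeal ≤ Ideal.map (algebraMap R Rp) q' := by
      rw [← IsLocalization.map_under M Rp Q.asIdeal]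
      exact Ideal.map_mono hq'ge
    have hQeq : Q.asIdeal = Ideal.map (algebraMap R Rp) q' :=
      Q.isMaximal.eq_of_le hQ'prime.ne_top hQle
    have hqq' : q = q' := by
      rw [hqdef, hQeq, IsLocalization.under_map_of_isPrime_disjoint M Rp hq'prime hdisj']
    refine ⟨hq, ⟨?_⟩⟩
    rw [hqq']
    exact hq'over.symm
  refine Finite.of_injective (fun Q : MaximalSpectrum Rp => (⟨_, key Q⟩ : 𝔭.primesOver R)) ?_
  intro Q Q' h
  have h' : Q.asIdeal.under R = Q'.asIdeal.under R := congrArg Subtype.val h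
  ext1
  rw [← IsLocalization.map_under M Rp Q.asIdeal, ← IsLocalization.map_under M Rp Q'.asIdeal, h']

end Semilocal

section Spread

variable {S : Type u} [CommRing S] {A : Type w} [Ring A] [Algebra S A]

/-- formal second half of the spreading-out argument -/
theorem spread (φ : A →ₐ[S] A) (a a' : A) (σ t₁ t₂ t : S)
    (h1 : t₁ • (a * a') = t₁ • (σ • (1 : A)))
    (h2 : t₂ • (a' * a) = t₂ • (σ • (1 : A)))
    (h3 : ∀ y : A, t • (φ y * a) = t • (a * y)) :
    ∃ u : (Localization.Away (t₁ * t₂ * t * σ) ⊗[S] A)ˣ,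
      ∀ z : Localization.Away (t₁ * t₂ * t * σ) ⊗[S] A,
        Algebra.TensorProduct.map (AlgHom.id (Localization.Away (t₁ * t₂ * t * σ))
          (Localization.Away (t₁ * t₂ * t * σ))) φ z =
          (u : Localization.Away (t₁ * t₂ * t * σ) ⊗[S] A) * z *
            (u⁻¹ : (Localization.Away (t₁ * t₂ * t * σ) ⊗[S] A)ˣ) := by
  set f : S := t₁ * t₂ * t * σ with hf
  let Rf := Localization.Away f
  have hfu : IsUnit (algebraMap S Rf f) := IsLocalization.Away.algebraMap_isUnit f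
  have hu : ∀ g : S, g ∣ f → IsUnit (algebraMap S Rf g) := by
    rintro g ⟨k, hk⟩
    have hgk : algebraMap S Rf f = algebraMap S Rf g * algebraMap S Rf k := by
      rw [← map_mul, ← hk]
    rw [hgk] at hfu
    exact isUnit_of_mul_isUnit_left hfu
  have hut1 : IsUnit (algebraMap S Rf t₁) := hu _ ⟨t₂ * t * σ, by rw [hf]; ring⟩
  have hut2 : IsUnit (algebraMap S Rf t₂) := hu _ ⟨t₁ * t * σ, by rw [hf]; ring⟩
  have hut : IsUnit (algebraMap S Rf t) := hu _ ⟨t₁ * t₂ * σ, by rw [hf]; ring⟩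
  have huss : IsUnit (algebraMap S Rf σ) := hu _ ⟨t₁ * t₂ * t, by rw [hf]; ring⟩
  obtain ⟨w, hw⟩ := huss
  let uu : Rf ⊗[S] A := (1 : Rf) ⊗ₜ[S] a
  let vv : Rf ⊗[S] A := ((w⁻¹ : Rfˣ) : Rf) ⊗ₜ[S] a'
  have hone : ((w⁻¹ : Rfˣ) : Rf) ⊗ₜ[S] (σ • (1 : A)) = (1 : Rf ⊗[S] A) := by
    rw [← TensorProduct.smul_tmul, Algebra.smul_def, ← hw, Units.mul_inv,
      Algebra.TensorProduct.one_def]
  have huv : uu * vv = 1 := by
    simp only [uu, vv]
    rw [Algebra.TensorProduct.tmul_mul_tmul, one_mul,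
      tmul_eq_tmul_of_smul_eq_smul Rf hut1 h1, hone]
  have hvu : vv * uu = 1 := by
    simp only [uu, vv]
    rw [Algebra.TensorProduct.tmul_mul_tmul, mul_one,
      tmul_eq_tmul_of_smul_eq_smul Rf hut2 h2, hone]
  refine ⟨⟨uu, vv, huv, hvu⟩, fun z => ?_⟩
  change _ = uu * z * vv
  have key : ∀ z : Rf ⊗[S] A,
      Algebra.TensorProduct.map (AlgHom.id Rf Rf) φ z * uu = uu * z := by
    intro z
    induction z using TensorProduct.induction_on with
    | zero => simp
    | add x y hx hy => rw [map_add, add_mul, mul_add, hx, hy]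
    | tmul r y =>
      simp only [uu]
      rw [Algebra.TensorProduct.map_tmul, Algebra.TensorProduct.tmul_mul_tmul,
        Algebra.TensorProduct.tmul_mul_tmul, AlgHom.id_apply, mul_one, one_mul]
      exact tmul_eq_tmul_of_smul_eq_smul Rf hut (h3 y) r
  rw [← key z, mul_assoc, huv, mul_one]

end Spread

section Descend

variable {S : Type u} [CommRing S] {R : Type v} [CommRing R] [Algebra S R]
  {A : Type w} [Ring A] [Algebra S A] [Algebra R A] [IsScalarTower S R A] [Module.Finite R A]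

/-- first half of the spreading-out argument: a conjugating unit over the localization of `R` at
the image of the complement of a prime `𝔭` of `S` gives relations in `A` with denominators in
`S ∖ 𝔭` -/
theorem descend (𝔭 : Ideal S) [𝔭.IsPrime] (Rp : Type*) [CommRing Rp] [Algebra R Rp]
    [IsLocalization (Algebra.algebraMapSubmonoid R 𝔭.primeCompl) Rp]
    (φ : A →ₐ[R] A) (c : (Rp ⊗[R] A)ˣ)
    (hc : ∀ y : A, ((1 : Rp) ⊗ₜ[R] φ y) * (c : Rp ⊗[R] A) = (c : Rp ⊗[R] A) * ((1 : Rp) ⊗ₜ[R] y)) :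
    ∃ (a a' : A) (σ t₁ t₂ t : S), σ ∉ 𝔭 ∧ t₁ ∉ 𝔭 ∧ t₂ ∉ 𝔭 ∧ t ∉ 𝔭 ∧
      t₁ • (a * a') = t₁ • (σ • (1 : A)) ∧ t₂ • (a' * a) = t₂ • (σ • (1 : A)) ∧
      ∀ y : A, t • (φ y * a) = t • (a * y) := by
  classical
  set M := Algebra.algebraMapSubmonoid R 𝔭.primeCompl with hM
  let ι : A →ₗ[R] Rp ⊗[R] A := TensorProduct.mk R Rp A 1
  have hι : ∀ a, ι a = (1 : Rp) ⊗ₜ[R] a := fun _ => rfl
  have hloc : IsLocalizedModule M ι :=
    (isLocalizedModule_iff_isBaseChange M Rp ι).mpr (TensorProduct.isBaseChange R A Rp)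
  obtain ⟨⟨a, s⟩, has⟩ := IsLocalizedModule.surj M ι (c : Rp ⊗[R] A)
  obtain ⟨⟨a', s'⟩, has'⟩ := IsLocalizedModule.surj M ι ((c⁻¹ : (Rp ⊗[R] A)ˣ) : Rp ⊗[R] A)
  simp only at has has'
  rw [Submonoid.smul_def] at has has'
  have hss : ((s : R) * (s' : R)) • (1 : Rp ⊗[R] A) = ι (((s : R) * (s' : R)) • (1 : A)) := by
    rw [hι, TensorProduct.tmul_smul, Algebra.TensorProduct.one_def]
  have h1 : ι (a * a') = ι (((s : R) * (s' : R)) • (1 : A)) := by
    calc ι (a * a') = ι a * ι a' := by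
          rw [hι, hι, hι, Algebra.TensorProduct.tmul_mul_tmul, mul_one]
      _ = ((s : R) • (c : Rp ⊗[R] A)) * ((s' : R) • ((c⁻¹ : (Rp ⊗[R] A)ˣ) : Rp ⊗[R] A)) := by
          rw [has, has']
      _ = ((s : R) * (s' : R)) • (1 : Rp ⊗[R] A) := by
          rw [smul_mul_smul_comm, Units.mul_inv]
      _ = _ := hss
  have h2 : ι (a' * a) = ι (((s : R) * (s' : R)) • (1 : A)) := by
    calc ι (a' * a) = ι a' * ι a := by
          rw [hι, hι, hι, Algebra.TensorProduct.tmul_mul_tmul, mul_one]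
      _ = ((s' : R) • ((c⁻¹ : (Rp ⊗[R] A)ˣ) : Rp ⊗[R] A)) * ((s : R) • (c : Rp ⊗[R] A)) := by
          rw [has, has']
      _ = ((s : R) * (s' : R)) • (1 : Rp ⊗[R] A) := by
          rw [smul_mul_smul_comm, Units.inv_mul, mul_comm]
      _ = _ := hss
  have h3 : ∀ y : A, ι (φ y * a) = ι (a * y) := by
    intro y
    calc ι (φ y * a) = ((1 : Rp) ⊗ₜ[R] φ y) * ι a := by
          rw [hι, hι, Algebra.TensorProduct.tmul_mul_tmul, mul_one]
      _ = (s : R) • (((1 : Rp) ⊗ₜ[R] φ y) * (c : Rp ⊗[R] A)) := by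
          rw [← has, mul_smul_comm]
      _ = (s : R) • ((c : Rp ⊗[R] A) * ((1 : Rp) ⊗ₜ[R] y)) := by rw [hc]
      _ = ι a * ι y := by rw [← smul_mul_assoc, has, hι y]
      _ = ι (a * y) := by
          rw [hι, hι, hι, Algebra.TensorProduct.tmul_mul_tmul, mul_one]
  obtain ⟨t1, ht1⟩ := IsLocalizedModule.exists_of_eq (S := M) h1
  obtain ⟨t2, ht2⟩ := IsLocalizedModule.exists_of_eq (S := M) h2
  rw [Submonoid.smul_def, Submonoid.smul_def] at ht1 ht2
  obtain ⟨G, hG⟩ := (Module.Finite.fg_top : (⊤ : Submodule R A).FG)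
  choose t3 ht3 using fun y : A => IsLocalizedModule.exists_of_eq (S := M) (h3 y)
  -- preimages in `S`
  have hpre : ∀ m : M, ∃ m₀ : S, m₀ ∉ 𝔭 ∧ algebraMap S R m₀ = (m : R) := by
    rintro ⟨_, m₀, hm₀, rfl⟩
    exact ⟨m₀, hm₀, rfl⟩
  obtain ⟨s₀, hs₀, hs₀'⟩ := hpre s
  obtain ⟨s'₀, hs'₀, hs'₀'⟩ := hpre s'
  obtain ⟨t1₀, ht1₀, ht1₀'⟩ := hpre t1
  obtain ⟨t2₀, ht2₀, ht2₀'⟩ := hpre t2
  choose t3₀ ht3₀ ht3₀' using fun y : A => hpre (t3 y)
  let t : S := ∏ y ∈ G, t3₀ y
  have htp : t ∉ 𝔭 := by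
    have : t ∈ 𝔭.primeCompl := Submonoid.prod_mem _ fun y _ => ht3₀ y
    exact this
  have ht : ∀ y : A, t • (φ y * a) = t • (a * y) := by
    intro y
    have hy : y ∈ Submodule.span R (G : Set A) := by rw [hG]; trivial
    induction hy using Submodule.span_induction with
    | mem y hy =>
      have hdvd : t3₀ y ∣ t := Finset.dvd_prod_of_mem _ hy
      obtain ⟨k, hk⟩ := hdvd
      have := ht3 y
      rw [Submonoid.smul_def, Submonoid.smul_def, ← ht3₀' y, algebraMap_smul, algebraMap_smul]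
        at this
      rw [hk, mul_comm, mul_smul, mul_smul, this]
    | zero => simp
    | add x y _ _ hx hy => rw [map_add, add_mul, mul_add, smul_add, smul_add, hx, hy]
    | smul r x _ hx =>
      rw [map_smul, smul_mul_assoc, mul_smul_comm, smul_comm t r, smul_comm t r, hx]
  refine ⟨a, a', s₀ * s'₀, t1₀, t2₀, t, 𝔭.primeCompl.mul_mem hs₀ hs'₀, ht1₀, ht2₀, htp, ?_, ?_, ht⟩
  · rw [← ht1₀', algebraMap_smul, algebraMap_smul, ← hs₀', ← hs'₀', ← map_mul, algebraMap_smul]
      at ht1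
    exact ht1
  · rw [← ht2₀', algebraMap_smul, algebraMap_smul, ← hs₀', ← hs'₀', ← map_mul, algebraMap_smul]
      at ht2
    exact ht2

end Descend

/-- a finite projective module of constant rank over a semilocal ring is free -/
theorem free_of_rankAtStalk_const (R' : Type*) [CommRing R'] [Finite (MaximalSpectrum R')]
    (M' : Type*) [AddCommGroup M'] [Module R' M'] [Module.Finite R' M'] [Module.Projective R' M']
    (d : ℕ) (h : ∀ p : PrimeSpectrum R', Module.rankAtStalk M' p = d) : Module.Free R' M' := by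
  refine Module.free_of_flat_of_finrank_eq R' M' d fun P => ?_
  have hPm : P.asIdeal.IsMaximal := P.isMaximal
  let _ : Field (R' ⧸ P.asIdeal) := Ideal.Quotient.field _
  let κ := P.asIdeal.ResidueField
  have h1 := Module.rankAtStalk_eq (M := M') ⟨P.asIdeal, hPm.isPrime⟩
  rw [h] at h1
  let e : κ ⊗[R' ⧸ P.asIdeal] ((R' ⧸ P.asIdeal) ⊗[R'] M') ≃ₗ[κ] κ ⊗[R'] M' :=
    TensorProduct.AlgebraTensorModule.cancelBaseChange R' (R' ⧸ P.asIdeal) κ κ M'
  rw [← Module.finrank_baseChange (R := κ) (S := R' ⧸ P.asIdeal), e.finrank_eq]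
  exact h1.symm

section Local

variable {S : Type u} [CommRing S] {R : Type v} [CommRing R] [Algebra S R]
  {A : Type w} [Ring A] [Algebra S A] [Algebra R A] [IsScalarTower S R A] [IsAzumaya R A]

/-- If the localizations of `R` at the complements of the primes of `S` are semilocal, every
automorphism of an Azumaya `R`-algebra of constant rank is inner Zariski-locally on `Spec S`. -/
theorem exists_away_unit_conj (d : ℕ) (hrk : ∀ p : PrimeSpectrum R, Module.rankAtStalk A p = d)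
    (𝔭 : Ideal S) [𝔭.IsPrime]
    (hsl : Finite (MaximalSpectrum (Localization (Algebra.algebraMapSubmonoid R 𝔭.primeCompl))))
    (ψ : A ≃ₐ[R] A) :
    ∃ f : S, f ∉ 𝔭 ∧ ∃ u : (Localization.Away f ⊗[S] A)ˣ,
      ∀ z : Localization.Away f ⊗[S] A,
        Algebra.TensorProduct.map (AlgHom.id (Localization.Away f) (Localization.Away f))
          ((ψ.restrictScalars S : A ≃ₐ[S] A) : A →ₐ[S] A) z =
          (u : Localization.Away f ⊗[S] A) * z * (u⁻¹ : (Localization.Away f ⊗[S] A)ˣ) := by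
  let Rp := Localization (Algebra.algebraMapSubmonoid R 𝔭.primeCompl)
  have hAz : IsAzumaya Rp (Rp ⊗[R] A) := isAzumaya_baseChange R Rp A
  have hrk' : ∀ p : PrimeSpectrum Rp, Module.rankAtStalk (Rp ⊗[R] A) p = d := by
    intro p
    rw [Module.rankAtStalk_baseChange, hrk]
  have hfree : Module.Free Rp (Rp ⊗[R] A) := free_of_rankAtStalk_const Rp (Rp ⊗[R] A) d hrk'
  let Ψ : Rp ⊗[R] A ≃ₐ[Rp] Rp ⊗[R] A :=
    Algebra.TensorProduct.congr (AlgEquiv.refl : Rp ≃ₐ[Rp] Rp) ψ
  obtain ⟨c, hc⟩ := exists_unit_conj_of_semilocal Rp (Rp ⊗[R] A) Ψ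
  have hc' : ∀ y : A, ((1 : Rp) ⊗ₜ[R] (ψ : A →ₐ[R] A) y) * (c : Rp ⊗[R] A) =
      (c : Rp ⊗[R] A) * ((1 : Rp) ⊗ₜ[R] y) := by
    intro y
    have h1 : Ψ ((1 : Rp) ⊗ₜ[R] y) = (1 : Rp) ⊗ₜ[R] ψ y := by
      simp [Ψ]
    have h2 := hc ((1 : Rp) ⊗ₜ[R] y)
    rw [h1] at h2
    change ((1 : Rp) ⊗ₜ[R] ψ y) * (c : Rp ⊗[R] A) = _
    rw [h2, mul_assoc, Units.inv_mul, mul_one]
  obtain ⟨a, a', σ, t₁, t₂, t, hσ, ht₁, ht₂, ht, h1, h2, h3⟩ :=
    descend 𝔭 Rp (ψ : A →ₐ[R] A) c hc'
  refine ⟨t₁ * t₂ * t * σ, ?_, ?_⟩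
  · exact 𝔭.primeCompl.mul_mem (𝔭.primeCompl.mul_mem (𝔭.primeCompl.mul_mem ht₁ ht₂) ht) hσ
  · exact spread ((ψ.restrictScalars S : A ≃ₐ[S] A) : A →ₐ[S] A) a a' σ t₁ t₂ t h1 h2 h3

end Local

section Cover

variable {S : Type u} [CommRing S] {A : Type w} [Ring A] [Algebra S A]

/-- A Zariski-local inner description of an endomorphism gives one over a single etale faithfully
flat cover (a finite product of principal localizations). -/
theorem exists_etale_cover_unit_conj (φ : A →ₐ[S] A)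
    (h : ∀ (𝔭 : Ideal S), 𝔭.IsPrime → ∃ f : S, f ∉ 𝔭 ∧ ∃ u : (Localization.Away f ⊗[S] A)ˣ,
      ∀ z : Localization.Away f ⊗[S] A,
        Algebra.TensorProduct.map (AlgHom.id (Localization.Away f) (Localization.Away f)) φ z =
          (u : Localization.Away f ⊗[S] A) * z * (u⁻¹ : (Localization.Away f ⊗[S] A)ˣ)) :
    ∃ (S' : Type u) (_ : CommRing S') (_ : Algebra S S') (_ : Algebra.Etale S S')
      (_ : Module.FaithfullyFlat S S') (u : (S' ⊗[S] A)ˣ),
      ∀ x : S' ⊗[S] A, Algebra.TensorProduct.map (AlgHom.id S' S') φ x =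
        (u : S' ⊗[S] A) * x * (u⁻¹ : (S' ⊗[S] A)ˣ) := by
  classical
  choose f hf u hu using fun p : PrimeSpectrum S => h p.asIdeal p.isPrime
  have hspan : Ideal.span (Set.range f) = ⊤ := by
    by_contra hne
    obtain ⟨m, hm, hle⟩ := Ideal.exists_le_maximal _ hne
    exact hf ⟨m, hm.isPrime⟩ (hle (Ideal.subset_span ⟨_, rfl⟩))
  obtain ⟨c, hc⟩ := Finsupp.mem_ideal_span_range_iff_exists_finsupp.1
    ((Ideal.eq_top_iff_one _).1 hspan)
  let ι : Type u := {p // p ∈ c.support}
  let B : ι → Type u := fun i => Localization.Away (f i.1)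
  let S' : Type u := ∀ i, B i
  have hEt : ∀ i, Algebra.Etale S (B i) := fun i => Algebra.Etale.of_isLocalizationAway (f i.1)
  have hFlat : Module.Flat S S' :=
    Module.Flat.of_linearEquiv (DFinsupp.linearEquivFunOnFintype (R := S) (M := B)).symm
  have hff : Module.FaithfullyFlat S S' := by
    refine Module.FaithfullyFlat.of_comap_surjective fun q => ?_
    obtain ⟨i, hi⟩ : ∃ i : ι, f i.1 ∉ q.asIdeal := by
      by_contra hcon
      push Not at hcon
      have h1 : (1 : S) ∈ q.asIdeal := by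
        rw [← hc]
        exact Ideal.sum_mem _ fun p hp => q.asIdeal.mul_mem_left _ (hcon ⟨p, hp⟩)
      exact q.isPrime.ne_top ((Ideal.eq_top_iff_one _).2 h1)
    have hdisj : Disjoint (Submonoid.powers (f i.1) : Set S) (q.asIdeal : Set S) :=
      (Ideal.disjoint_powers_iff_notMem_of_isPrime _).2 hi
    let Q0 : Ideal (B i) := Ideal.map (algebraMap S (B i)) q.asIdeal
    have hQ0 : Q0.IsPrime :=
      IsLocalization.isPrime_of_isPrime_disjoint (Submonoid.powers (f i.1)) (B i) _ q.isPrime hdisj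
    have hQ0u : Q0.comap (algebraMap S (B i)) = q.asIdeal :=
      IsLocalization.under_map_of_isPrime_disjoint (Submonoid.powers (f i.1)) (B i) q.isPrime hdisj
    refine ⟨⟨Q0.comap (Pi.evalRingHom B i), Ideal.comap_isPrime _ _⟩, ?_⟩
    ext1
    change (Q0.comap (Pi.evalRingHom B i)).comap (algebraMap S S') = q.asIdeal
    rw [Ideal.comap_comap]
    exact hQ0u
  let Φ : S' ⊗[S] A ≃ₐ[S] ∀ i, B i ⊗[S] A :=
    (Algebra.TensorProduct.comm S S' A).trans
      ((Algebra.TensorProduct.piRight S S A B).trans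
        (AlgEquiv.piCongrRight fun i => Algebra.TensorProduct.comm S A (B i)))
  have hΦ : ∀ (s : S') (a : A) (i : ι), Φ (s ⊗ₜ[S] a) i = s i ⊗ₜ[S] a := fun s a i => rfl
  have hnat : ∀ (x : S' ⊗[S] A) (i : ι), Φ (Algebra.TensorProduct.map (AlgHom.id S' S') φ x) i =
      Algebra.TensorProduct.map (AlgHom.id (B i) (B i)) φ (Φ x i) := by
    intro x i
    induction x using TensorProduct.induction_on with
    | zero => simp
    | add x y hx hy => simp only [map_add, Pi.add_apply, hx, hy]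
    | tmul s a =>
      rw [Algebra.TensorProduct.map_tmul, hΦ, hΦ, Algebra.TensorProduct.map_tmul]
      rfl
  let U : ∀ i, B i ⊗[S] A := fun i => (u i.1 : B i ⊗[S] A)
  let V : ∀ i, B i ⊗[S] A := fun i => ((u i.1)⁻¹ : (B i ⊗[S] A)ˣ)
  have hUV : U * V = 1 := by
    funext i
    exact Units.mul_inv _
  have hVU : V * U = 1 := by
    funext i
    exact Units.inv_mul _
  refine ⟨S', inferInstance, inferInstance, inferInstance, hff,
    ⟨Φ.symm U, Φ.symm V, by rw [← map_mul, hUV, map_one], by rw [← map_mul, hVU, map_one]⟩, ?_⟩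
  intro x
  apply Φ.injective
  funext i
  rw [hnat, hu]
  change _ = Φ (Φ.symm U * x * Φ.symm V) i
  rw [map_mul, map_mul, Φ.apply_symm_apply, Φ.apply_symm_apply]
  rfl

end Cover

section Involution

variable (S : Type*) (R : Type*) [CommRing S] [CommRing R] [Algebra S R]

/-- for an involution `lam` of `R` whose fixed elements come from `S`, the localization of `R` at
the image of the complement of a prime of `S` is semilocal -/
theorem finite_maximalSpectrum_of_involution (lam : R ≃ₐ[S] R) (hlam : ∀ r, lam (lam r) = r)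
    (hfix : ∀ r, lam r = r → r ∈ Set.range (algebraMap S R)) (𝔭 : Ideal S) [𝔭.IsPrime] :
    Finite (MaximalSpectrum (Localization (Algebra.algebraMapSubmonoid R 𝔭.primeCompl))) := by
  let G := Subgroup.zpowers lam
  have hfo : IsOfFinOrder lam := by
    rw [isOfFinOrder_iff_pow_eq_one]
    refine ⟨2, by norm_num, ?_⟩
    ext r
    rw [pow_two]
    exact hlam r
  have hGfin : Finite G := (IsOfFinOrder.finite_zpowers hfo).to_subtype
  have hinv : Algebra.IsInvariant S R G :=
    ⟨fun b hb => hfix b (hb ⟨lam, Subgroup.mem_zpowers lam⟩)⟩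
  exact finite_maximalSpectrum_localization S R G 𝔭 _

end Involution

end Groth.Agent.Lib.Helper25.SemilocalInner
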