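import Mathlib
import Groth.Prelude.Def_AzInv
import Groth.Prelude.Def_W4c2azumayainvolQEt
import Groth.Agent.Lib.Helper25.AzInvCover
import Groth.Agent.S17357

/-!
# Involutions of Azumaya algebras of odd degree have the neutral type
-/

set_option autoImplicit false
set_option linter.unusedSectionVars false
set_option linter.style.haveILetI false
universe u v w w'
open scoped TensorProduct

namespace Groth.Agent.Lib.Helper25.AzInvOdd
open AzInv Groth.Agent.Lib.Helper1.GeoNbhd Groth.Agent.Lib.Helper25.HermOdd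
  Groth.Agent.Lib.Helper25.AzInvTower Groth.Agent.Lib.Helper25.AzInvCover

section Core
variable {A : Type*} [CommRing A] (σ : A ≃+* A) (hσ : ∀ a, σ (σ a) = a) {n : ℕ}

theorem lamT_smul (c : A) (M : Matrix (Fin n) (Fin n) A) : lamT σ (c • M) = σ c • lamT σ M := by
  ext i j
  simp [lamT_apply]

theorem det_lamT (M : Matrix (Fin n) (Fin n) A) : (lamT σ M).det = σ M.det := by
  unfold lamT
  rw [Matrix.det_transpose]
  exact (RingHom.map_det (σ : A →+* A) M).symm

include hσ in
/-- if `M ↦ g * lamT M * g⁻¹` is an involution, then `lamT g = e • g` for a scalar `e` with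
`σ e * e = 1` -/
theorem exists_scalar_of_invol (g : (Matrix (Fin n) (Fin n) A)ˣ)
    (hinv : ∀ M : Matrix (Fin n) (Fin n) A,
      (g : Matrix (Fin n) (Fin n) A) * lamT σ ((g : Matrix (Fin n) (Fin n) A) * lamT σ M *
        ((g⁻¹ : (Matrix (Fin n) (Fin n) A)ˣ) : Matrix (Fin n) (Fin n) A)) *
        ((g⁻¹ : (Matrix (Fin n) (Fin n) A)ˣ) : Matrix (Fin n) (Fin n) A) = M) :
    ∃ e : A, lamT σ (g : Matrix (Fin n) (Fin n) A) = e • (g : Matrix (Fin n) (Fin n) A) := by
  classical
  let G : Matrix (Fin n) (Fin n) A := g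
  let Gi : Matrix (Fin n) (Fin n) A := ((g⁻¹ : (Matrix (Fin n) (Fin n) A)ˣ) : Matrix (Fin n) (Fin n) A)
  have hGGi : G * Gi = 1 := Units.mul_inv g
  have hGiG : Gi * G = 1 := Units.inv_mul g
  have hlGi : lamT σ Gi * lamT σ G = 1 := by rw [← lamT_mul, hGGi, lamT_one]
  have hlGi' : lamT σ G * lamT σ Gi = 1 := by rw [← lamT_mul, hGiG, lamT_one]
  -- z := lamT G * Gi is central
  let z : Matrix (Fin n) (Fin n) A := lamT σ G * Gi
  have hz : ∀ M : Matrix (Fin n) (Fin n) A, Commute z M := by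
    intro M
    have h1 := hinv M
    change G * lamT σ (G * lamT σ M * Gi) * Gi = M at h1
    rw [lamT_mul, lamT_mul, lamT_lamT σ hσ] at h1
    -- G * (lamT Gi * (M * lamT G)) * Gi = M
    have h2 : lamT σ Gi * M * lamT σ G = Gi * M * G := by
      have : Gi * (G * (lamT σ Gi * (M * lamT σ G)) * Gi) * G = Gi * M * G := by rw [h1]
      calc lamT σ Gi * M * lamT σ G = (Gi * G) * (lamT σ Gi * (M * lamT σ G)) * (Gi * G) := by
            rw [hGiG, one_mul, mul_one, mul_assoc]
        _ = Gi * (G * (lamT σ Gi * (M * lamT σ G)) * Gi) * G := by simp only [mul_assoc]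
        _ = Gi * M * G := this
    show z * M = M * z
    calc z * M = lamT σ G * (Gi * M * G) * Gi := by
          simp only [z, mul_assoc]; rw [hGGi, mul_one]
      _ = lamT σ G * (lamT σ Gi * M * lamT σ G) * Gi := by rw [h2]
      _ = (lamT σ G * lamT σ Gi) * M * (lamT σ G * Gi) := by simp only [mul_assoc]
      _ = M * z := by rw [hlGi', one_mul]
  obtain ⟨e, he⟩ := Matrix.mem_range_scalar_iff_commute_single'.2 (fun i j => (hz _).symm)
  refine ⟨e, ?_⟩
  have : lamT σ G = z * G := by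
    simp only [z, mul_assoc]; rw [hGiG, mul_one]
  show lamT σ G = e • G
  rw [this, ← he]
  ext i j
  simp [Matrix.scalar_apply, Matrix.diagonal_mul]

include hσ in
/-- in odd size, a unit matrix with `lamT g = e • g` can be rescaled to a hermitian one -/
theorem exists_unit_scale_hermitian (hn : Odd n) (g : (Matrix (Fin n) (Fin n) A)ˣ) (e : A)
    (he : lamT σ (g : Matrix (Fin n) (Fin n) A) = e • (g : Matrix (Fin n) (Fin n) A)) :
    ∃ c : Aˣ, lamT σ ((c : A) • (g : Matrix (Fin n) (Fin n) A)) =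
      (c : A) • (g : Matrix (Fin n) (Fin n) A) := by
  classical
  obtain ⟨k, hk⟩ := hn
  let G : Matrix (Fin n) (Fin n) A := g
  have hdu : IsUnit G.det := (Matrix.isUnit_iff_isUnit_det G).1 g.isUnit
  have hd : σ G.det = e ^ n * G.det := by
    rw [← det_lamT, he, Matrix.det_smul, Fintype.card_fin]
  have hen : IsUnit (e ^ n) := by
    have h1 : IsUnit (e ^ n * G.det) := by rw [← hd]; exact hdu.map σ
    exact isUnit_of_mul_isUnit_left h1
  have heu : IsUnit e := (isUnit_pow_iff (by omega)).1 hen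
  have hee : σ e * e = 1 := by
    have h1 : lamT σ (lamT σ G) = G := lamT_lamT σ hσ G
    rw [he, lamT_smul, he, smul_smul] at h1
    have h2 : ((σ e * e) • G) * ((g⁻¹ : (Matrix (Fin n) (Fin n) A)ˣ) : Matrix (Fin n) (Fin n) A) =
        G * ((g⁻¹ : (Matrix (Fin n) (Fin n) A)ˣ) : Matrix (Fin n) (Fin n) A) := by rw [h1]
    rw [Matrix.smul_mul, Units.mul_inv] at h2
    have hpos : 0 < n := by omega
    have h3 := congrFun (congrFun h2 ⟨0, hpos⟩) ⟨0, hpos⟩
    simpa using h3
  have hee' : e * σ e = 1 := by rw [mul_comm]; exact hee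
  have hcu : IsUnit (σ G.det * (σ e) ^ k) := (hdu.map σ).mul ((heu.map σ).pow k)
  refine ⟨hcu.unit, ?_⟩
  show lamT σ ((σ G.det * (σ e) ^ k) • G) = (σ G.det * (σ e) ^ k) • G
  rw [lamT_smul, he, smul_smul, map_mul, map_pow, hσ, hσ]
  congr 1
  rw [hd]
  have hpow : e ^ n = e ^ (2 * k + 1) := by rw [hk]
  rw [hpow]
  generalize G.det = δ
  calc δ * e ^ k * e = e ^ (k + 1) * δ := by ring
    _ = e ^ (k + 1) * (e * σ e) ^ k * δ := by rw [hee', one_pow, mul_one]
    _ = e ^ (2 * k + 1) * δ * σ e ^ k := by ring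

end Core

section FY
variable (S : Type u) [CommRing S] (R : Type v) [CommRing R] [Algebra S R] (lam : R ≃ₐ[S] R)
  (hlam : ∀ r, lam (lam r) = r)

attribute [local instance] algRT

/-- the canonical isomorphism `T ⊗ M_n(R) ≃ M_n(T ⊗ R)`, compatible with the `lam`-transposes -/
theorem exists_fY (n : ℕ) (hn : 0 < n) (T : Type u) [CommRing T] [Algebra S T] :
    ∃ fY : T ⊗[S] Matrix (Fin n) (Fin n) R ≃ₐ[T ⊗[S] R] Matrix (Fin n) (Fin n) (T ⊗[S] R),
      (∀ (s : T) (M : Matrix (Fin n) (Fin n) R), fY (s ⊗ₜ[S] M) =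
        algebraMap T (Matrix (Fin n) (Fin n) (T ⊗[S] R)) s *
          M.map (Algebra.TensorProduct.includeRight : R →ₐ[S] T ⊗[S] R)) ∧
      ∀ z, fY ((LamInv.transpose lam (Fin n) hlam).bc S lam T z) =
        LamInv.transpose (bcL lam T) (Fin n) (bcL_invol lam T hlam) (fY z) := by
  classical
  haveI : Nonempty (Fin n) := ⟨⟨0, hn⟩⟩
  haveI hAzY : IsAzumaya R (Matrix (Fin n) (Fin n) R) := IsAzumaya.matrix R (Fin n)
  have hrkY : ∀ p : PrimeSpectrum R,
      Module.rankAtStalk (Matrix (Fin n) (Fin n) R) p = n ^ 2 := by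
    intro p
    haveI : Nontrivial R := p.nontrivial
    have := congrFun (Module.rankAtStalk_eq_finrank_of_free (R := R)
      (M := Matrix (Fin n) (Fin n) R)) p
    rw [this, Module.finrank_matrix]
    simp [sq]
  let incl : R →ₐ[S] T ⊗[S] R := Algebra.TensorProduct.includeRight
  let ϑY : Matrix (Fin n) (Fin n) R →+* Matrix (Fin n) (Fin n) (T ⊗[S] R) :=
    incl.toRingHom.mapMatrix
  have hϑY : ∀ r : R, ϑY (algebraMap R (Matrix (Fin n) (Fin n) R) r) =
      Matrix.scalar (Fin n) ((1 : T) ⊗ₜ[S] r) := by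
    intro r
    ext j k
    simp only [ϑY, RingHom.mapMatrix_apply, Matrix.map_apply, Matrix.scalar_apply,
      Matrix.diagonal_apply, Matrix.algebraMap_matrix_apply]
    split_ifs
    · rfl
    · exact map_zero _
  obtain ⟨fY, hfY⟩ := exists_equivRT_of_split S R (Matrix (Fin n) (Fin n) R) n hn hrkY T ϑY hϑY
  refine ⟨fY, fun s M => hfY s M, ?_⟩
  let τ : LamInv R (Matrix (Fin n) (Fin n) R) lam := LamInv.transpose lam (Fin n) hlam
  let τ' : LamInv (T ⊗[S] R) (Matrix (Fin n) (Fin n) (T ⊗[S] R)) (bcL lam T) :=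
    LamInv.transpose (bcL lam T) (Fin n) (bcL_invol lam T hlam)
  intro z
  show fY (τ.bc S lam T z) = τ' (fY z)
  induction z using TensorProduct.induction_on with
  | zero => simp
  | add a b ha hb => rw [map_add, map_add, ha, hb, map_add, τ'.map_add]
  | tmul s M =>
    rw [LamInv.bc_tmul, hfY, hfY, τ'.map_mul]
    have h1 : τ' (algebraMap T (Matrix (Fin n) (Fin n) (T ⊗[S] R)) s) =
        algebraMap T (Matrix (Fin n) (Fin n) (T ⊗[S] R)) s := by
      rw [IsScalarTower.algebraMap_apply T (T ⊗[S] R) (Matrix (Fin n) (Fin n) (T ⊗[S] R)),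
        τ'.map_algebraMap, AlgEquiv.commutes]
    have h2 : τ' (ϑY M) = ϑY (τ M) := by
      ext i j
      show bcL lam T (incl (M j i)) = incl (lam (M j i))
      show bcL lam T ((1 : T) ⊗ₜ[S] M j i) = (1 : T) ⊗ₜ[S] lam (M j i)
      rw [bcL_tmul]
    rw [h1, h2]
    exact Algebra.commutes s (ϑY (τ M))

end FY

section UnitConj
variable {K : Type*} [CommRing K] {B : Type*} [Ring B] [Algebra K B]

/-- conjugation by a unit, as an algebra automorphism -/
def unitConj (a ai : B) (h1 : a * ai = 1) (h2 : ai * a = 1) : B ≃ₐ[K] B where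
  toFun x := a * x * ai
  invFun x := ai * x * a
  left_inv x := by
    show ai * (a * x * ai) * a = x
    calc ai * (a * x * ai) * a = (ai * a) * x * (ai * a) := by simp only [mul_assoc]
      _ = x := by rw [h2, one_mul, mul_one]
  right_inv x := by
    show a * (ai * x * a) * ai = x
    calc a * (ai * x * a) * ai = (a * ai) * x * (a * ai) := by simp only [mul_assoc]
      _ = x := by rw [h1, one_mul, mul_one]
  map_mul' x y := by
    show a * (x * y) * ai = (a * x * ai) * (a * y * ai)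
    calc a * (x * y) * ai = a * x * ((ai * a) * y) * ai := by rw [h2, one_mul]; simp only [mul_assoc]
      _ = (a * x * ai) * (a * y * ai) := by simp only [mul_assoc]
  map_add' x y := by
    show a * (x + y) * ai = a * x * ai + a * y * ai
    rw [mul_add, add_mul]
  commutes' r := by
    show a * algebraMap K B r * ai = algebraMap K B r
    rw [← Algebra.commutes r a, mul_assoc, h1, mul_one]

@[simp] theorem unitConj_apply (a ai : B) (h1 : a * ai = 1) (h2 : ai * a = 1) (x : B) :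
    unitConj (K := K) a ai h1 h2 x = a * x * ai := rfl

end UnitConj

section MB
variable {S : Type u} [CommRing S] {R : Type v} [CommRing R] [Algebra S R] (lam : R ≃ₐ[S] R)

attribute [local instance] algRT

/-- an involution of an odd-size matrix algebra which is an inner twist of the `lam`-transpose
is étale-locally isomorphic to the `lam`-transpose -/
theorem locIsoEt_conj_transpose_of_odd (hlam : ∀ r, lam (lam r) = r)
    (hfix : RInv.IsFixedRing S R lam.toRingEquiv)
    (hsq : ∀ (S₁ : Type u) [CommRing S₁] [Algebra S S₁] [Algebra.Etale S S₁] (x : S₁ˣ),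
      ∃ (S₂ : Type u) (_ : CommRing S₂) (_ : Algebra S₁ S₂) (_ : Algebra.Etale S₁ S₂)
        (_ : Module.FaithfullyFlat S₁ S₂) (y : S₂), y * y = algebraMap S₁ S₂ ↑x)
    (n : ℕ) (hn : Odd n) (t' : LamInv R (Matrix (Fin n) (Fin n) R) lam)
    (g : (Matrix (Fin n) (Fin n) R)ˣ)
    (ht' : ∀ M, t' M = (g : Matrix (Fin n) (Fin n) R) * LamInv.transpose lam (Fin n) hlam M *
      ((g⁻¹ : (Matrix (Fin n) (Fin n) R)ˣ) : Matrix (Fin n) (Fin n) R)) :
    LocIsoEt S lam t' (LamInv.transpose lam (Fin n) hlam) := by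
  classical
  have hnpos : 0 < n := hn.pos
  let σ : R ≃+* R := lam.toRingEquiv
  have hσ : ∀ a, σ (σ a) = a := hlam
  let τ : LamInv R (Matrix (Fin n) (Fin n) R) lam := LamInv.transpose lam (Fin n) hlam
  have hτ : ∀ M, τ M = lamT σ M := fun M => rfl
  -- `lamT g = e • g`
  obtain ⟨e, he⟩ := exists_scalar_of_invol σ hσ g (fun M => by
    have h1 := t'.invol M
    rw [ht', ht'] at h1
    exact h1)
  obtain ⟨c, hc⟩ := exists_unit_scale_hermitian σ hσ hn g e he
  let G : Matrix (Fin n) (Fin n) R := (c : R) • (g : Matrix (Fin n) (Fin n) R)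
  let Gi : Matrix (Fin n) (Fin n) R :=
    ((c⁻¹ : Rˣ) : R) • ((g⁻¹ : (Matrix (Fin n) (Fin n) R)ˣ) : Matrix (Fin n) (Fin n) R)
  have hGGi : G * Gi = 1 := by
    show ((c : R) • (g : Matrix (Fin n) (Fin n) R)) * (((c⁻¹ : Rˣ) : R) • _) = 1
    rw [Matrix.smul_mul, Matrix.mul_smul, smul_smul, Units.mul_inv, Units.mul_inv, one_smul]
  have hGiG : Gi * G = 1 := by
    show (((c⁻¹ : Rˣ) : R) • _) * ((c : R) • (g : Matrix (Fin n) (Fin n) R)) = 1
    rw [Matrix.smul_mul, Matrix.mul_smul, smul_smul, Units.inv_mul, Units.inv_mul, one_smul]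
  have hGu : IsUnit G := ⟨⟨G, Gi, hGGi, hGiG⟩, rfl⟩
  have ht'G : ∀ M, t' M = G * τ M * Gi := by
    intro M
    rw [ht']
    show _ = ((c : R) • (g : Matrix (Fin n) (Fin n) R)) * τ M * (((c⁻¹ : Rˣ) : R) • _)
    rw [Matrix.smul_mul, Matrix.smul_mul, Matrix.mul_smul, smul_smul, Units.mul_inv, one_smul]
  obtain ⟨S', i1, i2, i3, i4, v, hv, hveq⟩ :=
    exists_etale_cover_congrOne lam hlam hfix hsq n hn G hGu hc
  rw [locIsoEt_iff]
  refine ⟨S', i1, i2, i3, i4, ?_⟩
  haveI := isScalarTower_RT (S := S) (R := R) (X := Matrix (Fin n) (Fin n) R) S'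
  let R' := S' ⊗[S] R
  let σ' : R' ≃+* R' := (bcL lam S').toRingEquiv
  have hσ' : ∀ a, σ' (σ' a) = a := bcL_invol lam S' hlam
  let incl : R →ₐ[S] R' := Algebra.TensorProduct.includeRight
  let τ' : LamInv R' (Matrix (Fin n) (Fin n) R') (bcL lam S') :=
    LamInv.transpose (bcL lam S') (Fin n) (bcL_invol lam S' hlam)
  have hτ' : ∀ M, τ' M = lamT σ' M := fun M => rfl
  obtain ⟨fY, hfY, hfYτ⟩ := exists_fY S R lam hlam n hnpos S'
  obtain ⟨vi, hvvi, hviv⟩ : ∃ vi, v * vi = 1 ∧ vi * v = 1 := by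
    obtain ⟨u, rfl⟩ := hv
    exact ⟨↑u⁻¹, u.mul_inv, u.inv_mul⟩
  let a : Matrix (Fin n) (Fin n) R' := lamT σ' v
  let ai : Matrix (Fin n) (Fin n) R' := lamT σ' vi
  have haai : a * ai = 1 := by rw [← lamT_mul, hviv, lamT_one]
  have haia : ai * a = 1 := by rw [← lamT_mul, hvvi, lamT_one]
  let G' : Matrix (Fin n) (Fin n) R' := G.map incl
  let Gi' : Matrix (Fin n) (Fin n) R' := Gi.map incl
  have hG'Gi' : G' * Gi' = 1 := by
    rw [← Matrix.map_mul, hGGi, Matrix.map_one _ (map_zero _) (map_one _)]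
  have hGi'G' : Gi' * G' = 1 := by
    rw [← Matrix.map_mul, hGiG, Matrix.map_one _ (map_zero _) (map_one _)]
  have haGv : a * G' * v = 1 := hveq
  -- a * G' = vi and Gi' * ai = v
  have h_aG : a * G' = vi := by
    calc a * G' = a * G' * (v * vi) := by rw [hvvi, mul_one]
      _ = (a * G' * v) * vi := by simp only [mul_assoc]
      _ = vi := by rw [haGv, one_mul]
  have h_Gia : Gi' * ai = v := by
    have h1 : ai = G' * v := by
      calc ai = ai * (a * G' * v) := by rw [haGv, mul_one]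
        _ = (ai * a) * (G' * v) := by simp only [mul_assoc]
        _ = G' * v := by rw [haia, one_mul]
    rw [h1, ← mul_assoc, hGi'G', one_mul]
  -- compatibility of `fY` with `t'`
  have hfYt' : ∀ x, fY (t'.bc S lam S' x) = G' * τ' (fY x) * Gi' := by
    intro x
    induction x using TensorProduct.induction_on with
    | zero => simp
    | add x y hx hy => rw [map_add, map_add, hx, hy, map_add, τ'.map_add, mul_add, add_mul]
    | tmul s M =>
      rw [← hfYτ, LamInv.bc_tmul, LamInv.bc_tmul, hfY, hfY, ht'G]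
      rw [Matrix.map_mul, Matrix.map_mul]
      show _ * (G' * _ * Gi') = G' * (_ * _) * Gi'
      have hcomm := Algebra.commutes s G'
      calc algebraMap S' (Matrix (Fin n) (Fin n) R') s * (G' * (τ M).map incl * Gi')
          = (algebraMap S' (Matrix (Fin n) (Fin n) R') s * G') * (τ M).map incl * Gi' := by
            simp only [mul_assoc]
        _ = (G' * algebraMap S' (Matrix (Fin n) (Fin n) R') s) * (τ M).map incl * Gi' := by
            rw [hcomm]
        _ = G' * (algebraMap S' (Matrix (Fin n) (Fin n) R') s * (τ M).map incl) * Gi' := by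
            simp only [mul_assoc]
  let F : S' ⊗[S] Matrix (Fin n) (Fin n) R ≃ₐ[R'] S' ⊗[S] Matrix (Fin n) (Fin n) R :=
    fY.trans ((unitConj (K := R') a ai haai haia).trans fY.symm)
  have hF : ∀ x, fY (F x) = a * fY x * ai := by
    intro x
    show fY (fY.symm (unitConj (K := R') a ai haai haia (fY x))) = _
    rw [fY.apply_symm_apply, unitConj_apply]
  refine ⟨F.restrictScalars S', fun r => ?_, fun x => ?_⟩
  · show F ((1 : S') ⊗ₜ[S] algebraMap R (Matrix (Fin n) (Fin n) R) r) = _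
    have h1 : ((1 : S') ⊗ₜ[S] algebraMap R (Matrix (Fin n) (Fin n) R) r :
        S' ⊗[S] Matrix (Fin n) (Fin n) R) =
        algebraMap R' (S' ⊗[S] Matrix (Fin n) (Fin n) R) ((1 : S') ⊗ₜ[S] r) := by
      rw [algebraMap_RT_apply, baseMap_tmul]
    rw [h1, AlgEquiv.commutes]
  · show F (t'.bc S lam S' x) = τ.bc S lam S' (F x)
    apply fY.injective
    rw [hF, hfYt', hfYτ, hF, τ'.map_mul, τ'.map_mul, hτ', hτ', hτ']
    have h2 : lamT σ' a = v := lamT_lamT σ' hσ' v
    have h3 : lamT σ' ai = vi := lamT_lamT σ' hσ' vi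
    rw [h2, h3]
    calc a * (G' * lamT σ' (fY x) * Gi') * ai
        = (a * G') * lamT σ' (fY x) * (Gi' * ai) := by simp only [mul_assoc]
      _ = vi * lamT σ' (fY x) * v := by rw [h_aG, h_Gia]
      _ = vi * (lamT σ' (fY x) * v) := by rw [mul_assoc]

end MB

section MA
variable {S : Type u} [CommRing S] {R : Type v} [CommRing R] [Algebra S R] (lam : R ≃ₐ[S] R)

attribute [local instance] algRT

theorem rankAtStalk_matrix (n : ℕ) (p : PrimeSpectrum R) :
    Module.rankAtStalk (Matrix (Fin n) (Fin n) R) p = n ^ 2 := by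
  haveI : Nontrivial R := p.nontrivial
  have := congrFun (Module.rankAtStalk_eq_finrank_of_free (R := R)
    (M := Matrix (Fin n) (Fin n) R)) p
  rw [this, Module.finrank_matrix]
  simp [sq]

/-- the square-root hypothesis passes to an étale algebra -/
theorem hsq_of_etale
    (hsq : ∀ (S₁ : Type u) [CommRing S₁] [Algebra S S₁] [Algebra.Etale S S₁] (x : S₁ˣ),
      ∃ (S₂ : Type u) (_ : CommRing S₂) (_ : Algebra S₁ S₂) (_ : Algebra.Etale S₁ S₂)
        (_ : Module.FaithfullyFlat S₁ S₂) (y : S₂), y * y = algebraMap S₁ S₂ ↑x)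
    (S' : Type u) [CommRing S'] [Algebra S S'] [Algebra.Etale S S'] :
    ∀ (S₁ : Type u) [CommRing S₁] [Algebra S' S₁] [Algebra.Etale S' S₁] (x : S₁ˣ),
      ∃ (S₂ : Type u) (_ : CommRing S₂) (_ : Algebra S₁ S₂) (_ : Algebra.Etale S₁ S₂)
        (_ : Module.FaithfullyFlat S₁ S₂) (y : S₂), y * y = algebraMap S₁ S₂ ↑x := by
  intro S₁ _ _ _ x
  letI : Algebra S S₁ := ((algebraMap S' S₁).comp (algebraMap S S')).toAlgebra
  haveI : IsScalarTower S S' S₁ := IsScalarTower.of_algebraMap_eq fun _ => rfl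
  haveI : Algebra.Etale S S₁ := Algebra.Etale.comp S S' S₁
  exact hsq S₁ x

/-- every `lam`-involution of an odd-size matrix algebra is étale-locally isomorphic to the
`lam`-transpose -/
theorem locIsoEt_transpose_of_odd_matrix (hlam : ∀ r, lam (lam r) = r)
    (hfix : RInv.IsFixedRing S R lam.toRingEquiv)
    (hsq : ∀ (S₁ : Type u) [CommRing S₁] [Algebra S S₁] [Algebra.Etale S S₁] (x : S₁ˣ),
      ∃ (S₂ : Type u) (_ : CommRing S₂) (_ : Algebra S₁ S₂) (_ : Algebra.Etale S₁ S₂)
        (_ : Module.FaithfullyFlat S₁ S₂) (y : S₂), y * y = algebraMap S₁ S₂ ↑x)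
    (n : ℕ) (hn : Odd n) (t' : LamInv R (Matrix (Fin n) (Fin n) R) lam) :
    LocIsoEt S lam t' (LamInv.transpose lam (Fin n) hlam) := by
  classical
  have hnpos : 0 < n := hn.pos
  haveI : Nonempty (Fin n) := ⟨⟨0, hnpos⟩⟩
  let τ : LamInv R (Matrix (Fin n) (Fin n) R) lam := LamInv.transpose lam (Fin n) hlam
  -- the automorphism `ψ = t' ∘ τ`
  let ψ : Matrix (Fin n) (Fin n) R ≃ₐ[R] Matrix (Fin n) (Fin n) R :=
    { toFun := fun M => t' (τ M)
      invFun := fun M => τ (t' M)
      left_inv := fun M => by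
        show τ (t' (t' (τ M))) = M
        rw [t'.invol, τ.invol]
      right_inv := fun M => by
        show t' (τ (τ (t' M))) = M
        rw [τ.invol, t'.invol]
      map_mul' := fun M N => by
        show t' (τ (M * N)) = t' (τ M) * t' (τ N)
        rw [τ.map_mul, t'.map_mul]
      map_add' := fun M N => by
        show t' (τ (M + N)) = t' (τ M) + t' (τ N)
        rw [τ.map_add, t'.map_add]
      commutes' := fun r => by
        show t' (τ (algebraMap R _ r)) = algebraMap R _ r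
        rw [τ.map_algebraMap, t'.map_algebraMap, hlam] }
  have hψ : ∀ M, ψ (τ M) = t' M := fun M => by
    show t' (τ (τ M)) = t' M
    rw [τ.invol]
  have hAz : IsAzumayaDeg R (Matrix (Fin n) (Fin n) R) n :=
    ⟨IsAzumaya.matrix R (Fin n), rankAtStalk_matrix n⟩
  obtain ⟨S', i1, i2, i3, i4, u, hu⟩ :=
    Groth.Agent.S17357.result S R lam hlam hfix (Matrix (Fin n) (Fin n) R) n hnpos hAz ψ
  apply locIsoEt_of_cover lam S' t' τ
  haveI := isScalarTower_RT (S := S) (R := R) (X := Matrix (Fin n) (Fin n) R) S'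
  let R' := S' ⊗[S] R
  let τ' : LamInv R' (Matrix (Fin n) (Fin n) R') (bcL lam S') :=
    LamInv.transpose (bcL lam S') (Fin n) (bcL_invol lam S' hlam)
  obtain ⟨fY, hfY, hfYτ⟩ := exists_fY S R lam hlam n hnpos S'
  let t'' : LamInv R' (Matrix (Fin n) (Fin n) R') (bcL lam S') := transportInv lam S' t' fY
  have ht''fY : ∀ x, t'' (fY x) = fY (t'.bc S lam S' x) := fun x => transportInv_apply lam S' t' fY x
  -- `t'` is the twist of `τ` by `u`
  have hbc : ∀ x : S' ⊗[S] Matrix (Fin n) (Fin n) R,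
      t'.bc S lam S' x = ↑u * τ.bc S lam S' x * ↑u⁻¹ := by
    intro x
    rw [← hu]
    induction x using TensorProduct.induction_on with
    | zero => simp
    | add x y hx hy => simp only [map_add, hx, hy]
    | tmul s M =>
      rw [LamInv.bc_tmul, LamInv.bc_tmul, Algebra.TensorProduct.congr_apply,
        Algebra.TensorProduct.map_tmul]
      congr 1
      exact (hψ M).symm
  let gU : (Matrix (Fin n) (Fin n) R')ˣ := Units.map (fY : _ →* _) u
  have hgU : (gU : Matrix (Fin n) (Fin n) R') = fY ↑u := rfl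
  have hgUi : ((gU⁻¹ : (Matrix (Fin n) (Fin n) R')ˣ) : Matrix (Fin n) (Fin n) R') = fY ↑u⁻¹ := rfl
  have ht'' : ∀ M, t'' M = (gU : Matrix (Fin n) (Fin n) R') * τ' M *
      ((gU⁻¹ : (Matrix (Fin n) (Fin n) R')ˣ) : Matrix (Fin n) (Fin n) R') := by
    intro M
    obtain ⟨x, rfl⟩ := fY.surjective M
    rw [ht''fY, hbc, map_mul, map_mul, hfYτ, hgU, hgUi]
  have h1 : LocIsoEt S' (bcL lam S') (bcInv lam S' t') t'' :=
    LocIsoEt.of_algEquiv S' (bcL lam S') (bcInv lam S' t') t'' fY (fun a => (ht''fY a).symm)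
  have h2 : LocIsoEt S' (bcL lam S') t'' τ' :=
    locIsoEt_conj_transpose_of_odd (bcL lam S') (bcL_invol lam S' hlam)
      (isFixedRing_bcL lam S' hfix) (hsq_of_etale hsq S') n hn t'' gU ht''
  have h3 : LocIsoEt S' (bcL lam S') (bcInv lam S' τ) τ' :=
    LocIsoEt.of_algEquiv S' (bcL lam S') (bcInv lam S' τ) τ' fY (fun a => hfYτ a)
  exact locIsoEt_trans (locIsoEt_trans h1 h2) (locIsoEt_symm h3)

end MA

section Main
variable (S : Type u) [CommRing S] (R : Type v) [CommRing R] [Algebra S R]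
  (X : Type w) [Ring X] [Algebra S X] [Algebra R X] [IsScalarTower S R X] [IsAzumaya R X]

attribute [local instance] algRT

/-- **Odd degree ⇒ neutral type**: every `lam`-involution of an Azumaya algebra of odd degree `n`
is étale-locally on `S` the `lam`-transpose of the matrix algebra -/
theorem locIsoEt_transpose_of_odd (lam : R ≃ₐ[S] R) (hlam : ∀ r, lam (lam r) = r)
    (hfix : RInv.IsFixedRing S R lam.toRingEquiv)
    (hsq : ∀ (S₁ : Type u) [CommRing S₁] [Algebra S S₁] [Algebra.Etale S S₁] (x : S₁ˣ),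
      ∃ (S₂ : Type u) (_ : CommRing S₂) (_ : Algebra S₁ S₂) (_ : Algebra.Etale S₁ S₂)
        (_ : Module.FaithfullyFlat S₁ S₂) (y : S₂), y * y = algebraMap S₁ S₂ ↑x)
    (n : ℕ) (hn : Odd n) (hrk : ∀ p : PrimeSpectrum R, Module.rankAtStalk X p = n ^ 2)
    (σ : LamInv R X lam) :
    LocIsoEt S lam σ (LamInv.transpose lam (Fin n) hlam) := by
  classical
  have hnpos : 0 < n := hn.pos
  have hfix' : ∀ r, lam r = r → r ∈ Set.range (algebraMap S R) := fun r hr => (hfix.2 r).1 hr
  obtain ⟨S₁, a1, a2, a3, a4, ϑ₁, hϑ₁⟩ := exists_cover_split S R X n fun p =>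
    exists_local_split S R X lam hlam hfix.1 hfix' n hnpos hrk p
  obtain ⟨fX, -⟩ := exists_equivRT_of_split S R X n hnpos hrk S₁ ϑ₁ hϑ₁
  let τ : LamInv R (Matrix (Fin n) (Fin n) R) lam := LamInv.transpose lam (Fin n) hlam
  apply locIsoEt_of_cover lam S₁ σ τ
  haveI := isScalarTower_RT (S := S) (R := R) (X := Matrix (Fin n) (Fin n) R) S₁
  haveI := isScalarTower_RT (S := S) (R := R) (X := X) S₁
  let R' := S₁ ⊗[S] R
  let τ' : LamInv R' (Matrix (Fin n) (Fin n) R') (bcL lam S₁) :=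
    LamInv.transpose (bcL lam S₁) (Fin n) (bcL_invol lam S₁ hlam)
  obtain ⟨fY, -, hfYτ⟩ := exists_fY S R lam hlam n hnpos S₁
  let t'' : LamInv R' (Matrix (Fin n) (Fin n) R') (bcL lam S₁) := transportInv lam S₁ σ fX
  have ht''fX : ∀ x, t'' (fX x) = fX (σ.bc S lam S₁ x) := fun x => transportInv_apply lam S₁ σ fX x
  have h1 : LocIsoEt S₁ (bcL lam S₁) (bcInv lam S₁ σ) t'' :=
    LocIsoEt.of_algEquiv S₁ (bcL lam S₁) (bcInv lam S₁ σ) t'' fX (fun a => (ht''fX a).symm)
  have h2 : LocIsoEt S₁ (bcL lam S₁) t'' τ' :=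
    locIsoEt_transpose_of_odd_matrix (bcL lam S₁) (bcL_invol lam S₁ hlam)
      (isFixedRing_bcL lam S₁ hfix) (hsq_of_etale hsq S₁) n hn t''
  have h3 : LocIsoEt S₁ (bcL lam S₁) (bcInv lam S₁ τ) τ' :=
    LocIsoEt.of_algEquiv S₁ (bcL lam S₁) (bcInv lam S₁ τ) τ' fY (fun a => hfYτ a)
  exact locIsoEt_trans (locIsoEt_trans h1 h2) (locIsoEt_symm h3)

end Main

end Groth.Agent.Lib.Helper25.AzInvOdd
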