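import Mathlib
import Groth.Prelude.Def_AzInv
import Groth.Prelude.Def_W4c2azumayainvolQEt
import Groth.Agent.Lib.Helper25.HermOdd

/-!
# Congruence of (skew-)hermitian matrices over étale algebras of the fixed ring
-/

set_option autoImplicit false
set_option linter.unusedSectionVars false
set_option linter.style.haveILetI false
universe u v w
open scoped TensorProduct

namespace Groth.Agent.Lib.Helper25.HermCongr
open Groth.Agent.Lib.Helper25.HermOdd Groth.Agent.Lib.Helper25.EtaleCover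

section Congr
variable {S : Type u} [CommRing S] {R : Type v} [CommRing R] [Algebra S R] (lam : R ≃ₐ[S] R)
  {ι : Type*} [Fintype ι] [DecidableEq ι]

/-- the inclusion `R → T ⊗ R` -/
noncomputable abbrev inc (T : Type*) [CommRing T] [Algebra S T] : R →ₐ[S] T ⊗[S] R :=
  Algebra.TensorProduct.includeRight

/-- `g` and `g'` become congruent over `T ⊗ R`: `(lam v)ᵀ g v = g'` for an invertible `v` -/
def Congr (g g' : Matrix ι ι R) (T : Type*) [CommRing T] [Algebra S T] : Prop :=
  ∃ v : Matrix ι ι (T ⊗[S] R), IsUnit v ∧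
    lamT (bcL lam T).toRingEquiv v * g.map (inc (S := S) (R := R) T) * v =
      g'.map (inc (S := S) (R := R) T)

theorem lamT_inc (T : Type*) [CommRing T] [Algebra S T] (g : Matrix ι ι R) :
    lamT (bcL lam T).toRingEquiv (g.map (inc (S := S) (R := R) T)) =
      (lamT lam.toRingEquiv g).map (inc (S := S) (R := R) T) := by
  ext i j
  show bcL lam T ((1 : T) ⊗ₜ[S] g j i) = (1 : T) ⊗ₜ[S] lam (g j i)
  rw [bcL_tmul]

theorem Congr.refl (g : Matrix ι ι R) (T : Type*) [CommRing T] [Algebra S T] :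
    Congr lam g g T :=
  ⟨1, isUnit_one, by rw [lamT_one, one_mul, mul_one]⟩

theorem Congr.trans {g g' g'' : Matrix ι ι R} {T : Type*} [CommRing T] [Algebra S T]
    (h : Congr lam g g' T) (h' : Congr lam g' g'' T) : Congr lam g g'' T := by
  obtain ⟨v, hv, hveq⟩ := h
  obtain ⟨v', hv', hveq'⟩ := h'
  refine ⟨v * v', hv.mul hv', ?_⟩
  rw [lamT_mul, ← hveq', ← hveq]
  simp only [mul_assoc]

theorem Congr.symm {g g' : Matrix ι ι R} {T : Type*} [CommRing T] [Algebra S T]
    (h : Congr lam g g' T) : Congr lam g' g T := by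
  obtain ⟨v, hv, hveq⟩ := h
  obtain ⟨u, rfl⟩ := hv
  let w : Matrix ι ι (T ⊗[S] R) := ((u⁻¹ : (Matrix ι ι (T ⊗[S] R))ˣ) : Matrix ι ι (T ⊗[S] R))
  have h1 : lamT (bcL lam T).toRingEquiv w * lamT (bcL lam T).toRingEquiv (u : Matrix ι ι (T ⊗[S] R))
      = 1 := by
    rw [← lamT_mul, Units.mul_inv, lamT_one]
  refine ⟨w, (u⁻¹).isUnit, ?_⟩
  rw [← hveq]
  calc lamT (bcL lam T).toRingEquiv w * (lamT (bcL lam T).toRingEquiv (u : Matrix ι ι (T ⊗[S] R)) *
        g.map (inc (S := S) (R := R) T) * (u : Matrix ι ι (T ⊗[S] R))) * w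
      = (lamT (bcL lam T).toRingEquiv w * lamT (bcL lam T).toRingEquiv (u : Matrix ι ι (T ⊗[S] R))) *
        g.map (inc (S := S) (R := R) T) * ((u : Matrix ι ι (T ⊗[S] R)) * w) := by
        simp only [mul_assoc]
    _ = g.map (inc (S := S) (R := R) T) := by
        rw [h1, one_mul, Units.mul_inv, mul_one]

/-- scaling both matrices by a scalar of `R` -/
theorem Congr.smul {g g' : Matrix ι ι R} {T : Type*} [CommRing T] [Algebra S T]
    (h : Congr lam g g' T) (c : R) : Congr lam (c • g) (c • g') T := by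
  obtain ⟨v, hv, hveq⟩ := h
  refine ⟨v, hv, ?_⟩
  have h1 : ∀ M : Matrix ι ι R, (c • M).map (inc (S := S) (R := R) T) =
      (inc (S := S) (R := R) T c) • M.map (inc (S := S) (R := R) T) := by
    intro M
    ext i j
    simp [Matrix.map_apply, Matrix.smul_apply]
  rw [h1, h1, Matrix.mul_smul, Matrix.smul_mul, hveq]

/-- base change of a congruence -/
theorem Congr.baseChange {g g' : Matrix ι ι R} {T : Type*} [CommRing T] [Algebra S T]
    {T' : Type*} [CommRing T'] [Algebra S T'] (φ : T →ₐ[S] T')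
    (h : Congr lam g g' T) : Congr lam g g' T' := by
  obtain ⟨v, hv, hveq⟩ := h
  let Φ : T ⊗[S] R →ₐ[S] T' ⊗[S] R := Algebra.TensorProduct.map φ (AlgHom.id S R)
  have hΦσ : ∀ a, Φ ((bcL lam T).toRingEquiv a) = (bcL lam T').toRingEquiv (Φ a) := by
    intro a
    induction a using TensorProduct.induction_on with
    | zero => simp
    | add x y hx hy => simp only [map_add, hx, hy]
    | tmul s r =>
      show Φ (bcL lam T (s ⊗ₜ[S] r)) = bcL lam T' (Φ (s ⊗ₜ[S] r))
      rw [bcL_tmul]
      show (φ s) ⊗ₜ[S] (lam r) = bcL lam T' ((φ s) ⊗ₜ[S] r)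
      rw [bcL_tmul]
  have hΦinc : ∀ M : Matrix ι ι R, (M.map (inc (S := S) (R := R) T)).map Φ =
      M.map (inc (S := S) (R := R) T') := by
    intro M
    ext i j
    show Φ ((1 : T) ⊗ₜ[S] M i j) = (1 : T') ⊗ₜ[S] M i j
    show (φ 1) ⊗ₜ[S] (M i j) = _
    rw [map_one]
  refine ⟨v.map Φ, ?_, ?_⟩
  · exact hv.map (Φ.toRingHom.mapMatrix : Matrix ι ι (T ⊗[S] R) →+* Matrix ι ι (T' ⊗[S] R))
  · have := congrArg (fun M : Matrix ι ι (T ⊗[S] R) => M.map Φ) hveq
    change (lamT (bcL lam T).toRingEquiv v * g.map (inc (S := S) (R := R) T) * v).map Φ =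
      (g'.map (inc (S := S) (R := R) T)).map Φ at this
    rw [Matrix.map_mul, Matrix.map_mul, hΦinc, hΦinc,
      lamT_map (bcL lam T).toRingEquiv (bcL lam T').toRingEquiv Φ hΦσ v] at this
    exact this

/-- reindexing a congruence -/
theorem Congr.reindex {ι' : Type*} [Fintype ι'] [DecidableEq ι'] (e : ι' ≃ ι)
    {g g' : Matrix ι ι R} {T : Type*} [CommRing T] [Algebra S T]
    (h : Congr lam g g' T) : Congr lam (g.submatrix e e) (g'.submatrix e e) T := by
  obtain ⟨v, hv, hveq⟩ := h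
  refine ⟨v.submatrix e e, ?_, ?_⟩
  · exact hv.map (Matrix.reindexAlgEquiv (T ⊗[S] R) (T ⊗[S] R) e.symm :
      Matrix ι ι (T ⊗[S] R) ≃ₐ[T ⊗[S] R] Matrix ι' ι' (T ⊗[S] R))
  · have h1 : lamT (bcL lam T).toRingEquiv (v.submatrix e e) =
        (lamT (bcL lam T).toRingEquiv v).submatrix e e := rfl
    have h2 : ∀ M : Matrix ι ι R, (M.submatrix e e).map (inc (S := S) (R := R) T) =
        (M.map (inc (S := S) (R := R) T)).submatrix e e := fun M => rfl
    rw [h1, h2, h2, ← hveq, Matrix.submatrix_mul_equiv, Matrix.submatrix_mul_equiv]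

end Congr

section Pi
variable {S : Type u} [CommRing S] {R : Type v} [CommRing R] [Algebra S R] (lam : R ≃ₐ[S] R)
  {ι : Type*} [Fintype ι] [DecidableEq ι]

/-- congruence is stable under finite products of the base algebra -/
theorem congr_pi (g g' : Matrix ι ι R) (κ : Type u) [Finite κ]
    (B : κ → Type u) [∀ i, CommRing (B i)] [∀ i, Algebra S (B i)]
    (hB : ∀ i, Congr lam g g' (B i)) : Congr lam g g' (∀ i, B i) := by
  classical
  choose v hv hveq using hB
  have hw : ∀ i, ∃ w : Matrix ι ι (B i ⊗[S] R), v i * w = 1 ∧ w * v i = 1 := by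
    intro i
    obtain ⟨u, hu⟩ := hv i
    exact ⟨((u⁻¹ : (Matrix ι ι (B i ⊗[S] R))ˣ) : Matrix ι ι (B i ⊗[S] R)),
      by rw [← hu, Units.mul_inv], by rw [← hu, Units.inv_mul]⟩
  choose w hvw hwv using hw
  obtain ⟨V, hV⟩ := piProj_matrix_surjective R B v
  obtain ⟨W, hW⟩ := piProj_matrix_surjective R B w
  have hmapmul : ∀ (i : κ) (X Y : Matrix ι ι ((∀ i, B i) ⊗[S] R)),
      (X * Y).map (piProj R B i) = X.map (piProj R B i) * Y.map (piProj R B i) := by
    intro i X Y
    exact Matrix.map_mul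
  have hmapone : ∀ i, (1 : Matrix ι ι ((∀ i, B i) ⊗[S] R)).map (piProj R B i) = 1 := by
    intro i
    exact Matrix.map_one _ (map_zero _) (map_one _)
  have hVW : V * W = 1 := by
    apply piProj_matrix_injective R B
    intro i
    rw [hmapmul, hV, hW, hvw, hmapone]
  have hWV : W * V = 1 := by
    apply piProj_matrix_injective R B
    intro i
    rw [hmapmul, hV, hW, hwv, hmapone]
  refine ⟨V, ⟨⟨V, W, hVW, hWV⟩, rfl⟩, ?_⟩
  apply piProj_matrix_injective R B
  intro i
  have hπσ : ∀ a, piProj R B i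
      ((bcL lam (∀ i, B i)).toRingEquiv a) = (bcL lam (B i)).toRingEquiv
        (piProj R B i a) := by
    intro a
    induction a using TensorProduct.induction_on with
    | zero => simp
    | add x y hx hy => simp only [map_add, hx, hy]
    | tmul s r =>
      show piProj R B i (bcL lam (∀ i, B i) (s ⊗ₜ[S] r)) = bcL lam (B i) (piProj R B i (s ⊗ₜ[S] r))
      rw [bcL_tmul, piProj_tmul, piProj_tmul, bcL_tmul]
  have hh : ∀ M : Matrix ι ι R, (M.map (inc (S := S) (R := R) (∀ i, B i))).map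
      (piProj R B i) = M.map (inc (S := S) (R := R) (B i)) := by
    intro M
    ext j k
    show piProj R B i ((1 : ∀ i, B i) ⊗ₜ[S] M j k) = (1 : B i) ⊗ₜ[S] M j k
    rw [piProj_tmul]
    rfl
  rw [hmapmul, hmapmul, hh, hh, hV]
  rw [lamT_map (bcL lam (∀ i, B i)).toRingEquiv (bcL lam (B i)).toRingEquiv
    (piProj R B i) hπσ V, hV, hveq]

end Pi

section Herm
variable {S : Type u} [CommRing S] {R : Type v} [CommRing R] [Algebra S R] (lam : R ≃ₐ[S] R)

theorem two_notMem_jacobson {A : Type*} [CommRing A] [Nontrivial A] (h2 : IsUnit (2 : A)) :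
    (1 : A) + 1 ∉ Ring.jacobson A := by
  intro hmem
  rw [one_add_one_eq_two] at hmem
  obtain ⟨y, hy⟩ := h2.exists_right_inv
  rw [← Ideal.jacobson_bot, Ideal.mem_jacobson_bot] at hmem
  have := hmem (-y)
  rw [mul_neg, hy, neg_add_cancel] at this
  exact not_isUnit_zero this

/-- local diagonalisation of a hermitian matrix at a prime of the fixed ring (odd size, or `2`
invertible), with diagonal entries coming from `S` -/
theorem exists_local_diag2 (hlam : ∀ r, lam (lam r) = r)
    (hfix : RInv.IsFixedRing S R lam.toRingEquiv) (p : Ideal S) [p.IsPrime] (n : ℕ)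
    (hcase : Odd n ∨ IsUnit (2 : S))
    (h : Matrix (Fin n) (Fin n) R)
    (hh : IsUnit (h.map (inc (S := S) (R := R) (Localization.AtPrime p))))
    (herm : (h.map lam).transpose = h) :
    ∃ c : Fin n → S, (∀ i, c i ∉ p) ∧
      ∃ v : Matrix (Fin n) (Fin n) (Localization.AtPrime p ⊗[S] R), IsUnit v ∧
        lamT (bcL lam (Localization.AtPrime p)).toRingEquiv v *
          h.map (Algebra.TensorProduct.includeRight : R →ₐ[S] Localization.AtPrime p ⊗[S] R) * v =
          Matrix.diagonal (fun i => (1 : Localization.AtPrime p) ⊗ₜ[S] algebraMap S R (c i)) := by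
  classical
  let B := Localization.AtPrime p
  let A := B ⊗[S] R
  let σ : A ≃+* A := (bcL lam B).toRingEquiv
  have hσ : ∀ a, σ (σ a) = a := bcL_invol lam B hlam
  have hF : RInv.IsFixedRing B A σ := isFixedRing_bcL lam B hfix
  haveI : Nontrivial A := hF.1.nontrivial
  let ι : R →ₐ[S] A := Algebra.TensorProduct.includeRight
  let hA : Matrix (Fin n) (Fin n) A := h.map ι
  have hhA : IsUnit hA := hh
  have hermA : lamT σ hA = hA := by
    ext i j
    rw [lamT_apply]
    show σ (ι (h j i)) = ι (h i j)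
    have h1 : σ (ι (h j i)) = ι (lam (h j i)) := by
      show bcL lam B ((1 : B) ⊗ₜ[S] h j i) = (1 : B) ⊗ₜ[S] lam (h j i)
      rw [bcL_tmul]
    rw [h1]
    congr 1
    have := congrFun (congrFun herm i) j
    simpa using this
  have hcaseA : (∃ a : A, σ a - a ∉ Ring.jacobson A) ∨ (1 : A) + 1 ∉ Ring.jacobson A ∨ Odd n := by
    rcases hcase with hn | h2
    · exact Or.inr (Or.inr hn)
    · refine Or.inr (Or.inl (two_notMem_jacobson ?_))
      have := h2.map (algebraMap S A)
      rwa [map_ofNat] at this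
  obtain ⟨v₀, hv₀, d, hd⟩ := Groth.Agent.S15583.result B A σ hσ hF n 1 (Or.inl rfl) hA hhA
    (by rw [one_smul]; exact hermA) hcaseA
  change lamT σ v₀ * hA * v₀ = Matrix.diagonal d at hd
  -- the diagonal entries are fixed
  have hdfix : ∀ i, σ (d i) = d i := by
    have h1 : lamT σ (Matrix.diagonal d) = Matrix.diagonal d := by
      rw [← hd, lamT_mul, lamT_mul, lamT_lamT σ hσ, hermA, mul_assoc]
    rw [lamT_diagonal] at h1
    intro i
    have := congrFun (congrFun h1 i) i
    simpa using this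
  -- and units
  have hdu : ∀ i, IsUnit (d i) := by
    have h1 : IsUnit (Matrix.diagonal d) := by
      rw [← hd]
      exact ((isUnit_lamT σ hv₀).mul hhA).mul hv₀
    rw [Matrix.isUnit_iff_isUnit_det, Matrix.det_diagonal] at h1
    intro i
    exact isUnit_of_dvd_unit (Finset.dvd_prod_of_mem d (Finset.mem_univ i)) h1
  choose b hb using fun i => exists_unit_of_fixed_unit lam B hfix (d i) (hdu i) (hdfix i)
  have hsurj : ∀ i, ∃ (a : S) (s : p.primeCompl), IsLocalization.mk' B a s = ((b i : Bˣ) : B) :=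
    fun i => by
      obtain ⟨⟨a, s⟩, h⟩ := IsLocalization.mk'_surjective p.primeCompl ((b i : Bˣ) : B)
      exact ⟨a, s, h⟩
  choose a s has using hsurj
  have ha : ∀ i, a i ∉ p := by
    intro i hai
    have h1 : IsUnit (IsLocalization.mk' B (a i) (s i)) := by rw [has]; exact (b i).isUnit
    rw [IsLocalization.AtPrime.isUnit_mk'_iff (S := B) (I := p)] at h1
    exact h1 hai
  refine ⟨fun i => a i * (s i : S), fun i => ?_, ?_⟩
  · exact fun hmem => (Ideal.IsPrime.mem_or_mem inferInstance hmem).elim (ha i) (s i).2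
  let D : Matrix (Fin n) (Fin n) A :=
    Matrix.diagonal (fun i => algebraMap B A (algebraMap S B (s i : S)))
  have hDu : IsUnit D := by
    rw [Matrix.isUnit_iff_isUnit_det, Matrix.det_diagonal]
    refine IsUnit.prod_univ_iff.2 fun i => ?_
    exact ((IsLocalization.map_units B (s i)).map (algebraMap B A))
  have hDfix : lamT σ D = D := by
    rw [lamT_diagonal]
    congr 1
    funext i
    exact bcL_algebraMap lam B _
  refine ⟨v₀ * D, hv₀.mul hDu, ?_⟩
  change lamT σ (v₀ * D) * hA * (v₀ * D) = _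
  rw [lamT_mul, hDfix]
  have h2 : D * lamT σ v₀ * hA * (v₀ * D) = D * (lamT σ v₀ * hA * v₀) * D := by
    simp only [mul_assoc]
  rw [h2, hd, Matrix.diagonal_mul_diagonal, Matrix.diagonal_mul_diagonal]
  congr 1
  funext i
  rw [one_tmul_algebraMap, ← hb i, ← map_mul, ← map_mul]
  congr 1
  rw [← has i, map_mul, mul_comm (algebraMap S B (a i))]
  show algebraMap S B ↑(s i) * IsLocalization.mk' B (a i) (s i) * algebraMap S B ↑(s i) =
    algebraMap S B ↑(s i) * algebraMap S B (a i)
  rw [mul_assoc, IsLocalization.mk'_spec]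

attribute [local instance] Algebra.TensorProduct.rightAlgebra in
/-- spreading out the local diagonalisation to a principal open neighbourhood -/
theorem exists_away_congr_diag2 (hlam : ∀ r, lam (lam r) = r)
    (hfix : RInv.IsFixedRing S R lam.toRingEquiv) (p : Ideal S) [p.IsPrime] (n : ℕ)
    (hcase : Odd n ∨ IsUnit (2 : S))
    (h : Matrix (Fin n) (Fin n) R)
    (hh : IsUnit (h.map (inc (S := S) (R := R) (Localization.AtPrime p))))
    (herm : (h.map lam).transpose = h) :
    ∃ (f : S) (c : Fin n → S), f ∉ p ∧ (∀ i, c i ∣ f) ∧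
      ∀ (T : Type u) [CommRing T] [Algebra S T], IsUnit (algebraMap S T f) →
        ∃ v : Matrix (Fin n) (Fin n) (T ⊗[S] R), IsUnit v ∧
          lamT (bcL lam T).toRingEquiv v *
            h.map (Algebra.TensorProduct.includeRight : R →ₐ[S] T ⊗[S] R) * v =
            Matrix.diagonal (fun i => (1 : T) ⊗ₜ[S] algebraMap S R (c i)) := by
  classical
  obtain ⟨c, hc, v, hv, heq⟩ := exists_local_diag2 lam hlam hfix p n hcase h hh herm
  let B := Localization.AtPrime p
  let A := B ⊗[S] R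
  let N : Submonoid R := Algebra.algebraMapSubmonoid R p.primeCompl
  haveI : IsLocalization N A := IsLocalization.tensorRight (S := R) (A := B) p.primeCompl
  have hN : ∀ x ∈ N, (lam : R →+* R) x = x := by
    rintro x ⟨s, -, rfl⟩
    exact lam.commutes s
  have hσ : ∀ x : R, ((bcL lam B : A ≃ₐ[B] A) : A →+* A) (algebraMap R A x) =
      algebraMap R A ((lam : R →+* R) x) := by
    intro x
    show bcL lam B ((1 : B) ⊗ₜ[S] x) = (1 : B) ⊗ₜ[S] lam x
    rw [bcL_tmul]
  let H' : Matrix (Fin n) (Fin n) R := Matrix.diagonal (fun i => algebraMap S R (c i))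
  have heq' : (v.map ((bcL lam B : A ≃ₐ[B] A) : A →+* A)).transpose * h.map (algebraMap R A) * v =
      H'.map (algebraMap R A) := by
    have : H'.map (algebraMap R A) =
        Matrix.diagonal (fun i => (1 : B) ⊗ₜ[S] algebraMap S R (c i)) := by
      rw [Matrix.diagonal_map (map_zero _)]
      rfl
    rw [this]
    exact heq
  obtain ⟨t, htN, ht⟩ := Groth.Agent.Lib.Helper1.HermSpread.descend_matrix.{_, _, max u v} N
    (lam : R →+* R) ((bcL lam B : A ≃ₐ[B] A) : A →+* A) hσ hN h H' v hv heq'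
  obtain ⟨t', ht', rfl⟩ := htN
  refine ⟨t' * ∏ i, c i, c, ?_, ?_, ?_⟩
  · intro hmem
    rcases Ideal.IsPrime.mem_or_mem inferInstance hmem with h1 | h1
    · exact ht' h1
    · obtain ⟨i, -, hi⟩ := (Ideal.IsPrime.prod_mem_iff (hp := (inferInstance : p.IsPrime))).1 h1
      exact hc i hi
  · intro i
    exact Dvd.dvd.mul_left (Finset.dvd_prod_of_mem c (Finset.mem_univ i)) t'
  · intro T _ _ hu
    have hut : IsUnit (algebraMap S T t') := by
      rw [map_mul] at hu
      exact isUnit_of_mul_isUnit_left hu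
    obtain ⟨v'', hv'', heq''⟩ := ht (T ⊗[S] R)
      ((Algebra.TensorProduct.includeRight : R →ₐ[S] T ⊗[S] R) : R →+* T ⊗[S] R)
      ((bcL lam T : T ⊗[S] R ≃ₐ[T] T ⊗[S] R) : T ⊗[S] R →+* T ⊗[S] R)
      (fun x => by
        show bcL lam T ((1 : T) ⊗ₜ[S] x) = (1 : T) ⊗ₜ[S] lam x
        rw [bcL_tmul])
      (by
        show IsUnit ((1 : T) ⊗ₜ[S] algebraMap S R t' : T ⊗[S] R)
        rw [one_tmul_algebraMap]
        exact hut.map _)
    refine ⟨v'', hv'', ?_⟩
    have : H'.map ((Algebra.TensorProduct.includeRight : R →ₐ[S] T ⊗[S] R) : R →+* T ⊗[S] R) =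
        Matrix.diagonal (fun i => (1 : T) ⊗ₜ[S] algebraMap S R (c i)) := by
      rw [Matrix.diagonal_map (map_zero _)]
      rfl
    rw [← this]
    exact heq''

/-- range of `Spec` of an étale algebra over a localisation `S_f` -/
theorem mem_range_of_away {f : S} (S₁ : Type u) [CommRing S₁] [Algebra S S₁]
    [IsLocalization.Away f S₁] (S₂ : Type u) [CommRing S₂] [Algebra S₁ S₂] [Algebra S S₂]
    [IsScalarTower S S₁ S₂] [Module.FaithfullyFlat S₁ S₂] (q : PrimeSpectrum S)
    (hq : f ∉ q.asIdeal) : q ∈ Set.range (PrimeSpectrum.comap (algebraMap S S₂)) := by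
  have h1 : q ∈ Set.range (PrimeSpectrum.comap (algebraMap S S₁)) := by
    rw [PrimeSpectrum.localization_away_comap_range S₁ f]
    exact hq
  obtain ⟨Q₁, rfl⟩ := h1
  obtain ⟨Q₂, rfl⟩ := PrimeSpectrum.comap_surjective_of_faithfullyFlat (A := S₁) (B := S₂) Q₁
  refine ⟨Q₂, ?_⟩
  ext1
  show Q₂.asIdeal.comap (algebraMap S S₂) =
    (Q₂.asIdeal.comap (algebraMap S₁ S₂)).comap (algebraMap S S₁)
  rw [Ideal.comap_comap, ← IsScalarTower.algebraMap_eq]

/-- **Hermitian matrices are étale-locally congruent to the identity** near a prime at which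
they are invertible (odd size, or `2` invertible). -/
theorem exists_etale_nbhd_congrOne (hlam : ∀ r, lam (lam r) = r)
    (hfix : RInv.IsFixedRing S R lam.toRingEquiv)
    (hsq : ∀ (S₁ : Type u) [CommRing S₁] [Algebra S S₁] [Algebra.Etale S S₁] (x : S₁ˣ),
      ∃ (S₂ : Type u) (_ : CommRing S₂) (_ : Algebra S₁ S₂) (_ : Algebra.Etale S₁ S₂)
        (_ : Module.FaithfullyFlat S₁ S₂) (y : S₂), y * y = algebraMap S₁ S₂ ↑x)
    (p : Ideal S) [p.IsPrime] (n : ℕ) (hcase : Odd n ∨ IsUnit (2 : S))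
    (h : Matrix (Fin n) (Fin n) R)
    (hh : IsUnit (h.map (inc (S := S) (R := R) (Localization.AtPrime p))))
    (herm : (h.map lam).transpose = h) :
    ∃ f : S, f ∉ p ∧ ∃ (T : Type u) (_ : CommRing T) (_ : Algebra S T) (_ : Algebra.Etale S T),
      (∀ q : PrimeSpectrum S, f ∉ q.asIdeal →
        q ∈ Set.range (PrimeSpectrum.comap (algebraMap S T))) ∧ Congr lam h 1 T := by
  classical
  obtain ⟨f, c, hfp, hcf, hT⟩ := exists_away_congr_diag2 lam hlam hfix p n hcase h hh herm
  let S₁ := Localization.Away f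
  have hcu : ∀ i, IsUnit (algebraMap S S₁ (c i)) := fun i =>
    isUnit_of_dvd_unit (map_dvd (algebraMap S S₁) (hcf i)) (IsLocalization.Away.algebraMap_isUnit f)
  haveI : Algebra.Etale S S₁ := Algebra.Etale.of_isLocalizationAway f
  obtain ⟨S₂, i1, i2, i3, i4, y, hy⟩ := exists_sqrt_family hsq S₁ n (fun i => (hcu i).unit)
  letI : Algebra S S₂ := ((algebraMap S₁ S₂).comp (algebraMap S S₁)).toAlgebra
  haveI : IsScalarTower S S₁ S₂ := IsScalarTower.of_algebraMap_eq fun _ => rfl
  haveI : Algebra.Etale S S₂ := Algebra.Etale.comp S S₁ S₂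
  refine ⟨f, hfp, S₂, inferInstance, inferInstance, inferInstance, ?_, ?_⟩
  · intro q hq
    exact mem_range_of_away S₁ S₂ q hq
  · have hfu : IsUnit (algebraMap S S₂ f) := by
      rw [IsScalarTower.algebraMap_apply S S₁ S₂]
      exact (IsLocalization.Away.algebraMap_isUnit f).map _
    obtain ⟨v, hv, hveq⟩ := hT S₂ hfu
    have hyy : ∀ i, y i * y i = algebraMap S S₂ (c i) := by
      intro i
      rw [hy i, IsScalarTower.algebraMap_apply S S₁ S₂]
      rfl
    have hyu : ∀ i, IsUnit (y i) := by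
      intro i
      have : IsUnit (y i * y i) := by
        rw [hyy, IsScalarTower.algebraMap_apply S S₁ S₂]
        exact (hcu i).map _
      exact isUnit_of_mul_isUnit_left this
    let A := S₂ ⊗[S] R
    let σ : A ≃+* A := (bcL lam S₂).toRingEquiv
    let D : Matrix (Fin n) (Fin n) A :=
      Matrix.diagonal (fun i => algebraMap S₂ A (((hyu i).unit⁻¹ : S₂ˣ) : S₂))
    have hDu : IsUnit D := by
      rw [Matrix.isUnit_iff_isUnit_det, Matrix.det_diagonal]
      refine IsUnit.prod_univ_iff.2 fun i => ?_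
      exact (Units.isUnit _).map (algebraMap S₂ A)
    have hDfix : lamT σ D = D := by
      rw [lamT_diagonal]
      congr 1
      funext i
      exact bcL_algebraMap lam S₂ _
    refine ⟨v * D, hv.mul hDu, ?_⟩
    rw [Matrix.map_one _ (map_zero _) (map_one _)]
    change lamT σ (v * D) * _ * (v * D) = 1
    rw [lamT_mul, hDfix]
    have h2 : ∀ X : Matrix (Fin n) (Fin n) A, D * lamT σ v * X * (v * D) = D * (lamT σ v * X * v) * D := by
      intro X
      simp only [mul_assoc]
    rw [h2]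
    erw [hveq]
    rw [Matrix.diagonal_mul_diagonal, Matrix.diagonal_mul_diagonal, ← Matrix.diagonal_one]
    congr 1
    funext i
    rw [one_tmul_algebraMap, ← map_mul, ← map_mul, ← hyy i]
    have : (((hyu i).unit⁻¹ : S₂ˣ) : S₂) * (y i * y i) * (((hyu i).unit⁻¹ : S₂ˣ) : S₂) = 1 := by
      have h3 : (((hyu i).unit⁻¹ : S₂ˣ) : S₂) * y i = 1 := IsUnit.val_inv_mul (hyu i)
      calc (((hyu i).unit⁻¹ : S₂ˣ) : S₂) * (y i * y i) * (((hyu i).unit⁻¹ : S₂ˣ) : S₂)
          = ((((hyu i).unit⁻¹ : S₂ˣ) : S₂) * y i) * ((((hyu i).unit⁻¹ : S₂ˣ) : S₂) * y i) := by ring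
        _ = 1 := by rw [h3, one_mul]
    rw [this, map_one]

end Herm

end Groth.Agent.Lib.Helper25.HermCongr
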