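import Mathlib
import Groth.Prelude.Def_AzInv
import Groth.Prelude.Def_W4c2azumayainvolQEt
import Groth.Agent.Lib.Helper25.HermCongr
import Groth.Agent.S15584
import Groth.Agent.Lib.Helper1.SkewStd.Generic

/-!
# Skew-hermitian matrices at a ramified prime are étale-locally standard
-/

set_option autoImplicit false
set_option linter.unusedSectionVars false
set_option linter.style.haveILetI false
universe u v w
open scoped TensorProduct

namespace Groth.Agent.Lib.Helper25.SkewCongr
open Groth.Agent.Lib.Helper25.HermOdd Groth.Agent.Lib.Helper25.EtaleCover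
  Groth.Agent.Lib.Helper25.HermCongr Groth.Agent.Lib.Helper1.SkewStd

section Std2

/-- a `2 × 2` skew-hermitian matrix with invertible norm of the off-diagonal entry, invertible
determinant and a suitable square root is congruent to the standard alternating matrix -/
theorem std2 {A' : Type*} [CommRing A'] (L : A' →+* A') (hL : ∀ x, L (L x) = x)
    (h : Matrix (Fin 2) (Fin 2) A') (herm : -(h.map L).transpose = h)
    (i2 nbi Di ρ ui : A') (h2 : 2 * i2 = 1) (hnb : (h 0 1 * L (h 0 1)) * nbi = 1)
    (hD : h.det * Di = 1) (hρL : L ρ = ρ) (hρ : ρ * ρ = (h 0 1 * L (h 0 1)) * h.det)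
    (hui : (2 * (h 0 1 * L (h 0 1)) + h 0 0 * h 1 1 + 2 * ρ) * ui = 1) :
    ∃ v : Matrix (Fin 2) (Fin 2) A', IsUnit v ∧ (v.map L).transpose * h * v = Jstd := by
  have hent : ∀ i j, h i j = - L (h j i) := by
    intro i j
    have := congrFun (congrFun herm i) j
    simp only [Matrix.neg_apply, Matrix.transpose_apply, Matrix.map_apply] at this
    exact this.symm
  obtain ⟨a, ha⟩ : ∃ a, a = h 0 0 := ⟨_, rfl⟩
  obtain ⟨b, hb⟩ : ∃ b, b = h 0 1 := ⟨_, rfl⟩
  obtain ⟨d, hd⟩ : ∃ d, d = h 1 1 := ⟨_, rfl⟩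
  obtain ⟨bL, hbL⟩ : ∃ bL, bL = L b := ⟨_, rfl⟩
  rw [← hb, ← hbL] at hnb hρ hui
  rw [← ha, ← hd] at hui
  have hLa : L a = -a := by have := hent 0 0; rw [← ha] at this; linear_combination this
  have hLd : L d = -d := by have := hent 1 1; rw [← hd] at this; linear_combination this
  have hLbL : L bL = b := by rw [hbL, hL]
  have hc : h 1 0 = -bL := by rw [hbL, hb]; exact hent 1 0
  have hdet : h.det = a * d + b * bL := by rw [Matrix.det_fin_two, ← ha, ← hb, ← hd, hc]; ring
  rw [hdet] at hρ hD
  have hLnbi : L nbi = nbi := by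
    have h1 : (b * bL) * L nbi = 1 := by
      have := congrArg L hnb
      rw [map_mul, map_mul, map_one, hLbL, ← hbL] at this
      linear_combination this
    linear_combination nbi * h1 - L nbi * hnb
  have hLi2 : L i2 = i2 := by
    have h1 : 2 * L i2 = 1 := by
      have := congrArg L h2
      rw [map_mul, map_one, map_ofNat] at this
      exact this
    linear_combination i2 * h1 - L i2 * h2
  have hLui : L ui = ui := by
    have h1 : (2 * (b * bL) + a * d + 2 * ρ) * L ui = 1 := by
      have := congrArg L hui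
      rw [map_mul, map_add, map_add, map_mul, map_mul, map_mul, map_mul, map_one, map_ofNat, hLbL,
        ← hbL, hLa, hLd, hρL] at this
      linear_combination this
    linear_combination ui * h1 - L ui * hui
  obtain ⟨bi, hbi⟩ : ∃ bi, bi = bL * nbi := ⟨_, rfl⟩
  have hbbi : h 0 1 * bi = 1 := by rw [← hb, hbi]; linear_combination hnb
  have hLbi : L bi = b * nbi := by rw [hbi, map_mul, hLbL, hLnbi]
  obtain ⟨d', hd'⟩ : ∃ d', d' = h 1 1 * bi * L bi := ⟨_, rfl⟩
  have hd'eq : d' = d * nbi := by
    rw [hd', ← hd, hLbi, hbi]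
    linear_combination (d * nbi) * hnb
  obtain ⟨ν, hν⟩ : ∃ ν, ν = a * a * i2 * (b * bL) * ui := ⟨_, rfl⟩
  have hLν : L ν = ν := by
    rw [hν, map_mul, map_mul, map_mul, map_mul, map_mul, hLa, hLi2, hLbL, ← hbL, hLui]
    ring
  have hq : (h 1 1 * bi * L bi) * (h 1 1 * bi * L bi) * ν * ν
      - (2 + h 0 0 * (h 1 1 * bi * L bi)) * ν + h 0 0 * h 0 0 * i2 * i2 = 0 := by
    rw [← hd', ← ha, hd'eq, hν]
    linear_combination (d*d*a*a*a*a*i2*i2*ui*ui*(b*bL*nbi + 1) - a*a*a*d*i2*ui) * hnb
      + (a*a*i2*ui*(2*(b*bL) + a*d)) * h2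
      + (a*a*i2*i2*(2*ui*(2*(b*bL)+a*d) - ((2*(b*bL)+a*d+2*ρ)*ui + 1))) * hui
      + (4*a*a*i2*i2*ui*ui) * hρ
  obtain ⟨v, hv⟩ := exists_congr_std L hL h herm i2 bi Di ν h2 hbbi (by rw [hdet]; exact hD) hLν hq
  refine ⟨v, ?_, hv⟩
  have hdetJ : (Jstd : Matrix (Fin 2) (Fin 2) A').det = 1 := by
    simp [Jstd, Matrix.det_fin_two]
  have := congrArg Matrix.det hv
  rw [Matrix.det_mul, Matrix.det_mul, hdetJ] at this
  rw [Matrix.isUnit_iff_isUnit_det]
  exact IsUnit.of_mul_eq_one _ (by rw [mul_comm]; exact this)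

end Std2

section Blocks

/-- the index equivalence `(a, k) ↦ a + 2 k` -/
def eb (m : ℕ) : Fin 2 × Fin m ≃ Fin (m * 2) := (Equiv.prodComm _ _).trans finProdFinEquiv

theorem eb_val (m : ℕ) (a : Fin 2) (k : Fin m) : (eb m (a, k)).val = a.val + 2 * k.val := rfl

theorem eb_div (m : ℕ) (a : Fin 2) (k : Fin m) : (eb m (a, k)).val / 2 = k.val := by
  rw [eb_val]
  have := a.isLt
  omega

/-- the standard alternating matrix of size `2m` -/
def Jn (A : Type*) [CommRing A] (m : ℕ) : Matrix (Fin (m * 2)) (Fin (m * 2)) A :=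
  (Matrix.blockDiagonal (fun _ : Fin m => (Jstd : Matrix (Fin 2) (Fin 2) A))).submatrix
    (eb m).symm (eb m).symm

theorem Jstd_map {A A' : Type*} [CommRing A] [CommRing A'] (f : A →+* A') :
    (Jstd : Matrix (Fin 2) (Fin 2) A).map f = Jstd := by
  ext i j
  fin_cases i <;> fin_cases j <;> simp [Jstd]

theorem Jn_map {A A' : Type*} [CommRing A] [CommRing A'] (f : A →+* A') (m : ℕ) :
    (Jn A m).map f = Jn A' m := by
  unfold Jn
  rw [← Matrix.submatrix_map, Matrix.blockDiagonal_map _ _ (map_zero f)]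
  simp only [Jstd_map]

theorem lamT_blockDiagonal {A' : Type*} [CommRing A'] (σ : A' ≃+* A') {m : ℕ}
    (v : Fin m → Matrix (Fin 2) (Fin 2) A') :
    lamT σ (Matrix.blockDiagonal v) = Matrix.blockDiagonal (fun k => lamT σ (v k)) := by
  unfold lamT
  rw [Matrix.blockDiagonal_map _ _ (map_zero σ), Matrix.blockDiagonal_transpose]

end Blocks

section BlockStd
variable {S : Type u} [CommRing S] {R : Type v} [CommRing R] [Algebra S R] (lam : R ≃ₐ[S] R)

/-- **universal standard form**: a block-diagonal skew-hermitian matrix over `R` becomes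
congruent to the standard alternating matrix over any `S`-algebra in which the relevant norms
and determinants are invertible and have suitable square roots -/
theorem congr_blockStd (hlam : ∀ r, lam (lam r) = r) (m : ℕ)
    (H' : Matrix (Fin (m * 2)) (Fin (m * 2)) R)
    (hskew : -(H'.map lam).transpose = H')
    (hoff : ∀ i j : Fin (m * 2), i.val / 2 ≠ j.val / 2 → H' i j = 0)
    (nb ad : Fin m → S)
    (hnb : ∀ k, algebraMap S R (nb k) =
      H' (eb m (0, k)) (eb m (1, k)) * lam (H' (eb m (0, k)) (eb m (1, k))))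
    (had : ∀ k, algebraMap S R (ad k) =
      H' (eb m (0, k)) (eb m (0, k)) * H' (eb m (1, k)) (eb m (1, k)))
    (T : Type u) [CommRing T] [Algebra S T] (h2 : IsUnit (algebraMap S T 2))
    (hnbu : ∀ k, IsUnit (algebraMap S T (nb k)))
    (hdu : ∀ k, IsUnit (algebraMap S T (ad k + nb k)))
    (ρ : Fin m → T) (hρ : ∀ k, ρ k * ρ k = algebraMap S T (nb k * (ad k + nb k)))
    (hρu : ∀ k, IsUnit (algebraMap S T (2 * nb k + ad k) + 2 * ρ k)) :
    Congr lam H' (Jn R m) T := by
  classical
  let A' := T ⊗[S] R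
  let σ : A' ≃+* A' := (bcL lam T).toRingEquiv
  let L : A' →+* A' := (σ : A' →+* A')
  have hL : ∀ x, L (L x) = x := bcL_invol lam T hlam
  let ι : R →ₐ[S] A' := inc (S := S) (R := R) T
  have hιlam : ∀ r, L (ι r) = ι (lam r) := by
    intro r
    show bcL lam T ((1 : T) ⊗ₜ[S] r) = (1 : T) ⊗ₜ[S] lam r
    rw [bcL_tmul]
  have hιS : ∀ s : S, ι (algebraMap S R s) = algebraMap T A' (algebraMap S T s) :=
    fun s => one_tmul_algebraMap T s
  have hLT : ∀ t : T, L (algebraMap T A' t) = algebraMap T A' t := fun t => bcL_algebraMap lam T t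
  have hent : ∀ i j, H' i j = - lam (H' j i) := by
    intro i j
    have := congrFun (congrFun hskew i) j
    simp only [Matrix.neg_apply, Matrix.transpose_apply, Matrix.map_apply] at this
    exact this.symm
  -- the blocks
  let hb : Fin m → Matrix (Fin 2) (Fin 2) A' := fun k =>
    Matrix.of fun a b => ι (H' (eb m (a, k)) (eb m (b, k)))
  have hbherm : ∀ k, -((hb k).map L).transpose = hb k := by
    intro k
    ext a b
    show -(L (ι (H' (eb m (b, k)) (eb m (a, k))))) = ι (H' (eb m (a, k)) (eb m (b, k)))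
    rw [hιlam, ← map_neg, ← hent]
  have hblock : (H'.submatrix (eb m) (eb m)).map ι = Matrix.blockDiagonal hb := by
    ext ⟨a, k⟩ ⟨b, l⟩
    rw [Matrix.blockDiagonal_apply]
    show ι (H' (eb m (a, k)) (eb m (b, l))) = _
    split_ifs with hkl
    · subst hkl
      rfl
    · rw [hoff _ _ (by
        rw [eb_div, eb_div]
        exact fun h => hkl (Fin.ext h)), map_zero]
  -- the standardising matrices
  have hex : ∀ k, ∃ v : Matrix (Fin 2) (Fin 2) A', IsUnit v ∧
      (v.map L).transpose * hb k * v = Jstd := by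
    intro k
    obtain ⟨i2, hi2⟩ := h2.exists_right_inv
    obtain ⟨nbi, hnbi⟩ := (hnbu k).exists_right_inv
    obtain ⟨Di, hDi⟩ := (hdu k).exists_right_inv
    obtain ⟨ui, hui⟩ := (hρu k).exists_right_inv
    have hN : hb k 0 1 * L (hb k 0 1) = algebraMap T A' (algebraMap S T (nb k)) := by
      show ι (H' (eb m (0, k)) (eb m (1, k))) * L (ι (H' (eb m (0, k)) (eb m (1, k)))) = _
      rw [hιlam, ← map_mul, ← hnb k, hιS]
    have hAD : hb k 0 0 * hb k 1 1 = algebraMap T A' (algebraMap S T (ad k)) := by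
      show ι (H' (eb m (0, k)) (eb m (0, k))) * ι (H' (eb m (1, k)) (eb m (1, k))) = _
      rw [← map_mul, ← had k, hιS]
    have hdet : (hb k).det = algebraMap T A' (algebraMap S T (ad k + nb k)) := by
      have h10 : hb k 1 0 = - L (hb k 0 1) := by
        have := congrFun (congrFun (hbherm k) 1) 0
        simp only [Matrix.neg_apply, Matrix.transpose_apply, Matrix.map_apply] at this
        exact this.symm
      rw [Matrix.det_fin_two, h10, map_add, map_add, ← hAD, ← hN]
      ring
    refine std2 L hL (hb k) (hbherm k) (algebraMap T A' i2) (algebraMap T A' nbi)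
      (algebraMap T A' Di) (algebraMap T A' (ρ k)) (algebraMap T A' ui) ?_ ?_ ?_ (hLT _) ?_ ?_
    · have := congrArg (algebraMap T A') hi2
      rwa [map_mul, map_one, map_ofNat] at this
    · rw [hN, ← map_mul, hnbi, map_one]
    · rw [hdet, ← map_mul, hDi, map_one]
    · rw [hN, hdet, ← map_mul, ← map_mul, ← map_mul, hρ k]
    · rw [hN, hAD]
      have := congrArg (algebraMap T A') hui
      rw [map_one, map_mul, map_add, map_mul, map_ofNat, map_add (algebraMap S T), map_add,
        map_mul (algebraMap S T), map_mul, map_ofNat, map_ofNat] at this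
      exact this
  choose v hvu hv using hex
  have hwex : ∀ k, ∃ w : Matrix (Fin 2) (Fin 2) A', v k * w = 1 ∧ w * v k = 1 := by
    intro k
    obtain ⟨u, hu⟩ := hvu k
    exact ⟨((u⁻¹ : (Matrix (Fin 2) (Fin 2) A')ˣ) : Matrix (Fin 2) (Fin 2) A'),
      by rw [← hu, Units.mul_inv], by rw [← hu, Units.inv_mul]⟩
  choose w hvw hwv using hwex
  have hcongr : Congr lam (H'.submatrix (eb m) (eb m))
      (Matrix.blockDiagonal (fun _ : Fin m => (Jstd : Matrix (Fin 2) (Fin 2) R))) T := by
    refine ⟨Matrix.blockDiagonal v, ⟨⟨Matrix.blockDiagonal v, Matrix.blockDiagonal w, ?_, ?_⟩, rfl⟩, ?_⟩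
    · rw [← Matrix.blockDiagonal_mul]
      simp only [hvw]
      exact Matrix.blockDiagonal_one
    · rw [← Matrix.blockDiagonal_mul]
      simp only [hwv]
      exact Matrix.blockDiagonal_one
    · show lamT σ (Matrix.blockDiagonal v) * (H'.submatrix (eb m) (eb m)).map ι *
        Matrix.blockDiagonal v = _
      rw [hblock, lamT_blockDiagonal, ← Matrix.blockDiagonal_mul, ← Matrix.blockDiagonal_mul,
        Matrix.blockDiagonal_map _ _ (map_zero _)]
      congr 1
      funext k
      have hJ : (Jstd : Matrix (Fin 2) (Fin 2) R).map (inc (S := S) (R := R) T) = Jstd :=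
        Jstd_map ((inc (S := S) (R := R) T : R →ₐ[S] A') : R →+* A')
      rw [hJ]
      exact hv k
  have := Congr.reindex lam (eb m).symm hcongr
  have h1 : (H'.submatrix (eb m) (eb m)).submatrix (eb m).symm (eb m).symm = H' := by
    ext i j
    simp
  rw [h1] at this
  exact this

end BlockStd

section BlockForm
variable {S : Type u} [CommRing S] {R : Type v} [CommRing R] [Algebra S R] (lam : R ≃ₐ[S] R)

theorem isUnit_add_of_mem_jacobson {A : Type*} [CommRing A] {u j : A} (hu : IsUnit u)
    (hj : j ∈ Ring.jacobson A) : IsUnit (u + j) := by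
  obtain ⟨w, hw⟩ := hu.exists_right_inv
  rw [← Ideal.jacobson_bot, Ideal.mem_jacobson_bot] at hj
  have h1 := hj w
  have h2 : u + j = u * (j * w + 1) := by linear_combination (-j) * hw
  rw [h2]
  exact hu.mul h1

/-- an element of `S` whose image in `S_p ⊗ R` is a unit lies outside `p` -/
theorem notMem_of_isUnit_image (hfix : RInv.IsFixedRing S R lam.toRingEquiv) (p : Ideal S)
    [p.IsPrime] (x : S)
    (hx : IsUnit (inc (S := S) (R := R) (Localization.AtPrime p) (algebraMap S R x))) :
    x ∉ p := by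
  let B := Localization.AtPrime p
  have hF := isFixedRing_bcL lam B hfix
  have h1 : inc (S := S) (R := R) B (algebraMap S R x) =
      algebraMap B (B ⊗[S] R) (algebraMap S B x) := one_tmul_algebraMap B x
  rw [h1] at hx
  obtain ⟨b, hb⟩ := exists_unit_of_fixed_unit lam B hfix _ hx (bcL_algebraMap lam B _)
  have h2 : algebraMap S B x = (b : B) := (hF.1 hb).symm
  have h3 : IsUnit (algebraMap S B x) := by rw [h2]; exact b.isUnit
  exact (IsLocalization.AtPrime.isUnit_to_map_iff B p x).1 h3

attribute [local instance] Algebra.TensorProduct.rightAlgebra in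
/-- **block form near a ramified prime**: a skew-hermitian matrix, invertible at a ramified
prime `p` of the fixed ring, is congruent over a principal open neighbourhood of `p` to a
block-diagonal skew-hermitian matrix over `R` whose blocks have invertible norms at `p` -/
theorem exists_block_form (hlam : ∀ r, lam (lam r) = r)
    (hfix : RInv.IsFixedRing S R lam.toRingEquiv) (h2 : IsUnit (2 : S))
    (p : Ideal S) [p.IsPrime] (m : ℕ)
    (hram : ∀ a : Localization.AtPrime p ⊗[S] R,
      bcL lam (Localization.AtPrime p) a - a ∈ Ring.jacobson (Localization.AtPrime p ⊗[S] R))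
    (g : Matrix (Fin (m * 2)) (Fin (m * 2)) R)
    (hgu : IsUnit (g.map (inc (S := S) (R := R) (Localization.AtPrime p))))
    (hskew : -(g.map lam).transpose = g) :
    ∃ (H' : Matrix (Fin (m * 2)) (Fin (m * 2)) R) (t' : S) (nb ad : Fin m → S),
      t' ∉ p ∧ -(H'.map lam).transpose = H' ∧
      (∀ i j : Fin (m * 2), i.val / 2 ≠ j.val / 2 → H' i j = 0) ∧
      (∀ k, algebraMap S R (nb k) =
        H' (eb m (0, k)) (eb m (1, k)) * lam (H' (eb m (0, k)) (eb m (1, k)))) ∧
      (∀ k, algebraMap S R (ad k) =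
        H' (eb m (0, k)) (eb m (0, k)) * H' (eb m (1, k)) (eb m (1, k))) ∧
      (∀ k, nb k ∉ p) ∧ (∀ k, ad k + nb k ∉ p) ∧ (∀ k, 2 * nb k + ad k ∉ p) ∧
      ∀ (T : Type u) [CommRing T] [Algebra S T], IsUnit (algebraMap S T t') →
        Congr lam g H' T := by
  classical
  let B := Localization.AtPrime p
  let A := B ⊗[S] R
  let σ : A ≃+* A := (bcL lam B).toRingEquiv
  have hσ : ∀ a, σ (σ a) = a := bcL_invol lam B hlam
  have hF : RInv.IsFixedRing B A σ := isFixedRing_bcL lam B hfix
  haveI : Nontrivial A := hF.1.nontrivial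
  let ι : R →ₐ[S] A := inc (S := S) (R := R) B
  have hιlam : ∀ r, σ (ι r) = ι (lam r) := by
    intro r
    show bcL lam B ((1 : B) ⊗ₜ[S] r) = (1 : B) ⊗ₜ[S] lam r
    rw [bcL_tmul]
  have hιS : ∀ s : S, ι (algebraMap S R s) = algebraMap B A (algebraMap S B s) :=
    fun s => one_tmul_algebraMap B s
  have hσB : ∀ b : B, σ (algebraMap B A b) = algebraMap B A b := bcL_algebraMap lam B
  let gA : Matrix (Fin (m * 2)) (Fin (m * 2)) A := g.map ι
  have hgent : ∀ i j, lam (g j i) = - g i j := by
    intro i j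
    have := congrFun (congrFun hskew i) j
    simp only [Matrix.neg_apply, Matrix.transpose_apply, Matrix.map_apply] at this
    rw [← this, neg_neg]
  have hlamTgA : lamT σ gA = -gA := by
    ext i j
    show σ (ι (g j i)) = - ι (g i j)
    rw [hιlam, hgent, map_neg]
  have hskewA : -(gA.map σ).transpose = gA := by
    have : (gA.map σ).transpose = lamT σ gA := rfl
    rw [this, hlamTgA, neg_neg]
  have h2A : IsUnit (2 : A) := by
    have := h2.map (algebraMap S A)
    rwa [map_ofNat] at this
  obtain ⟨-, v₀, hv₀, hcond⟩ := Groth.Agent.S15584.result B A σ (fun a => hσ a) hF (m * 2) hram h2A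
    gA hgu hskewA
  obtain ⟨H, hHdef⟩ : ∃ H : Matrix (Fin (m * 2)) (Fin (m * 2)) A,
      H = (v₀.map σ).transpose * gA * v₀ := ⟨_, rfl⟩
  rw [← hHdef] at hcond
  have hHdef' : H = lamT σ v₀ * gA * v₀ := hHdef
  have hHskew : ∀ i j, σ (H j i) = - H i j := by
    have h1 : lamT σ H = -H := by
      rw [hHdef', lamT_mul, lamT_mul, lamT_lamT σ hσ, hlamTgA]
      simp only [mul_assoc, Matrix.neg_mul, Matrix.mul_neg]
    intro i j
    have := congrFun (congrFun h1 i) j
    simpa [lamT_apply] using this
  -- denominators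
  let N : Submonoid R := Algebra.algebraMapSubmonoid R p.primeCompl
  haveI : IsLocalization N A := IsLocalization.tensorRight (S := R) (A := B) p.primeCompl
  obtain ⟨d, hd⟩ := IsLocalization.exist_integer_multiples_of_finite N
    (fun x : Fin (m * 2) × Fin (m * 2) => H x.1 x.2)
  choose F hF' using hd
  obtain ⟨s, hs, hsd⟩ : ∃ s ∈ p.primeCompl, algebraMap S R s = (d : R) := d.2
  obtain ⟨dA, hdA⟩ : ∃ dA : A, dA = ι (d : R) := ⟨_, rfl⟩
  have hdAB : dA = algebraMap B A (algebraMap S B s) := by rw [hdA, ← hsd, hιS]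
  have hdAu : IsUnit dA := by
    rw [hdAB]
    exact (IsLocalization.map_units B (⟨s, hs⟩ : p.primeCompl)).map _
  have hdAσ : σ dA = dA := by rw [hdAB, hσB]
  have hFι : ∀ i j, ι (F (i, j)) = dA * H i j := by
    intro i j
    have := hF' (i, j)
    rw [Algebra.smul_def] at this
    rw [hdA]
    exact this
  obtain ⟨i2, hi2⟩ := h2.exists_right_inv
  have hi2A : ι (algebraMap S R i2) * 2 = 1 := by
    have := congrArg (fun x => ι (algebraMap S R x)) hi2
    simp only [map_mul, map_one, map_ofNat] at this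
    rw [mul_comm]
    exact this
  -- the matrix over `R`
  obtain ⟨H', hH'def⟩ : ∃ H' : Matrix (Fin (m * 2)) (Fin (m * 2)) R, H' = Matrix.of fun i j =>
      if i.val / 2 = j.val / 2 then
        algebraMap S R i2 * ((d : R) * F (i, j) - lam ((d : R) * F (j, i))) else 0 := ⟨_, rfl⟩
  have hH'ι : ∀ i j, ι (H' i j) = dA * dA * H i j := by
    intro i j
    rw [hH'def]
    show ι (if i.val / 2 = j.val / 2 then
        algebraMap S R i2 * ((d : R) * F (i, j) - lam ((d : R) * F (j, i))) else 0) = _
    split_ifs with hij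
    · rw [map_mul, map_sub, map_mul, ← hιlam, map_mul, ← hdA, hFι, hFι, map_mul, map_mul, hdAσ,
        hHskew]
      linear_combination (dA * dA * H i j) * hi2A
    · rw [(hcond i j).1 hij, mul_zero, map_zero]
  have hH'skew : -(H'.map lam).transpose = H' := by
    ext i j
    rw [hH'def]
    show -(lam (if j.val / 2 = i.val / 2 then
        algebraMap S R i2 * ((d : R) * F (j, i) - lam ((d : R) * F (i, j))) else 0)) =
      (if i.val / 2 = j.val / 2 then
        algebraMap S R i2 * ((d : R) * F (i, j) - lam ((d : R) * F (j, i))) else 0)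
    by_cases hij : i.val / 2 = j.val / 2
    · rw [if_pos hij, if_pos hij.symm, map_mul, map_sub, hlam, lam.commutes]
      ring
    · rw [if_neg hij, if_neg (Ne.symm hij), map_zero, neg_zero]
  have hH'off : ∀ i j : Fin (m * 2), i.val / 2 ≠ j.val / 2 → H' i j = 0 := by
    intro i j hij
    rw [hH'def]
    show (if i.val / 2 = j.val / 2 then _ else 0) = 0
    rw [if_neg hij]
  -- the congruence over `A`
  let D : Matrix (Fin (m * 2)) (Fin (m * 2)) A := Matrix.diagonal (fun _ => dA)
  have hDu : IsUnit D := by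
    rw [Matrix.isUnit_iff_isUnit_det, Matrix.det_diagonal]
    exact IsUnit.prod_univ_iff.2 fun _ => hdAu
  have hDfix : lamT σ D = D := by
    rw [lamT_diagonal]
    congr 1
    funext i
    exact hdAσ
  have heqA : lamT σ (v₀ * D) * gA * (v₀ * D) = H'.map ι := by
    rw [lamT_mul, hDfix]
    have h3 : D * lamT σ v₀ * gA * (v₀ * D) = D * (lamT σ v₀ * gA * v₀) * D := by
      simp only [mul_assoc]
    rw [h3, ← hHdef']
    ext i j
    rw [Matrix.mul_diagonal, Matrix.diagonal_mul, Matrix.map_apply, hH'ι]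
    ring
  have hN : ∀ x ∈ N, (lam : R →+* R) x = x := by
    rintro x ⟨s, -, rfl⟩
    exact lam.commutes s
  have hσR : ∀ x : R, ((bcL lam B : A ≃ₐ[B] A) : A →+* A) (algebraMap R A x) =
      algebraMap R A ((lam : R →+* R) x) := fun x => hιlam x
  obtain ⟨t, htN, ht⟩ := Groth.Agent.Lib.Helper1.HermSpread.descend_matrix.{_, _, max u v} N
    (lam : R →+* R) ((bcL lam B : A ≃ₐ[B] A) : A →+* A) hσR hN g H' (v₀ * D) (hv₀.mul hDu) heqA
  obtain ⟨t', ht', rfl⟩ := htN
  -- the norms
  have hH'ent : ∀ i j, lam (H' j i) = - H' i j := by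
    intro i j
    have := congrFun (congrFun hH'skew i) j
    simp only [Matrix.neg_apply, Matrix.transpose_apply, Matrix.map_apply] at this
    rw [← this, neg_neg]
  have hnbex : ∀ k : Fin m, ∃ x : S, algebraMap S R x =
      H' (eb m (0, k)) (eb m (1, k)) * lam (H' (eb m (0, k)) (eb m (1, k))) := by
    intro k
    refine (hfix.2 _).1 ?_
    show lam (_ * lam _) = _
    rw [map_mul, hlam, mul_comm]
  have hadex : ∀ k : Fin m, ∃ x : S, algebraMap S R x =
      H' (eb m (0, k)) (eb m (0, k)) * H' (eb m (1, k)) (eb m (1, k)) := by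
    intro k
    refine (hfix.2 _).1 ?_
    show lam (_ * _) = _
    rw [map_mul, hH'ent, hH'ent]
    ring
  choose nb hnb using hnbex
  choose ad had using hadex
  -- conditions at `p`
  have hev0 : ∀ k : Fin m, Even (eb m (0, k)).val := fun k => by
    rw [eb_val, Nat.even_iff]; simp
  have hev1 : ∀ k : Fin m, ¬ Even (eb m (1, k)).val := fun k => by
    rw [eb_val, Nat.even_iff]; simp
  have hdd : ∀ (a b : Fin 2) (k : Fin m), (eb m (a, k)).val / 2 = (eb m (b, k)).val / 2 := by
    intro a b k
    rw [eb_div, eb_div]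
  have hbu : ∀ k, IsUnit (ι (H' (eb m (0, k)) (eb m (1, k)))) := by
    intro k
    rw [hH'ι]
    refine (hdAu.mul hdAu).mul ?_
    have h1 := (hcond (eb m (0, k)) (eb m (1, k))).2.2.1 (hdd 0 1 k) (hev0 k) (hev1 k)
    have h3 := isUnit_add_of_mem_jacobson isUnit_one h1
    rwa [add_sub_cancel] at h3
  have haJ : ∀ k, ι (H' (eb m (0, k)) (eb m (0, k))) ∈ Ring.jacobson A := by
    intro k
    rw [hH'ι]
    exact Ideal.mul_mem_left _ _ ((hcond (eb m (0, k)) (eb m (0, k))).2.1 rfl Iff.rfl)
  have hNu : ∀ k, IsUnit (ι (algebraMap S R (nb k))) := by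
    intro k
    rw [hnb k, map_mul, ← hιlam]
    exact (hbu k).mul ((hbu k).map σ)
  have hadJ : ∀ k, ι (algebraMap S R (ad k)) ∈ Ring.jacobson A := by
    intro k
    rw [had k, map_mul]
    exact Ideal.mul_mem_right _ _ (haJ k)
  refine ⟨H', t', nb, ad, ht', hH'skew, hH'off, hnb, had, ?_, ?_, ?_, ?_⟩
  · intro k
    exact notMem_of_isUnit_image lam hfix p _ (hNu k)
  · intro k
    refine notMem_of_isUnit_image lam hfix p _ ?_
    rw [map_add, map_add, add_comm]
    exact isUnit_add_of_mem_jacobson (hNu k) (hadJ k)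
  · intro k
    refine notMem_of_isUnit_image lam hfix p _ ?_
    rw [map_add, map_add, map_mul, map_mul, map_ofNat, map_ofNat]
    exact isUnit_add_of_mem_jacobson (h2A.mul (hNu k)) (hadJ k)
  · intro T _ _ hu
    obtain ⟨v'', hv'', heq''⟩ := ht (T ⊗[S] R)
      ((Algebra.TensorProduct.includeRight : R →ₐ[S] T ⊗[S] R) : R →+* T ⊗[S] R)
      ((bcL lam T : T ⊗[S] R ≃ₐ[T] T ⊗[S] R) : T ⊗[S] R →+* T ⊗[S] R)
      (fun x => by
        show bcL lam T ((1 : T) ⊗ₜ[S] x) = (1 : T) ⊗ₜ[S] lam x
        rw [bcL_tmul])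
      (by
        show IsUnit ((1 : T) ⊗ₜ[S] algebraMap S R t' : T ⊗[S] R)
        rw [one_tmul_algebraMap]
        exact hu.map _)
    exact ⟨v'', hv'', heq''⟩

end BlockForm

section CoverTower
variable {S₀ : Type u} [CommRing S₀] {S : Type u} [CommRing S] [Algebra S₀ S]

/-- tower version of `exists_etale_cover_of_local`: the property lives on `S₀`-algebras, the
localisation takes place on an `S₀`-algebra `S` -/
theorem exists_etale_cover_of_local_tower {P : ∀ (T : Type u) [CommRing T] [Algebra S₀ T], Prop}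
    (hprod : ∀ (ι : Type u) [Finite ι] (B : ι → Type u) [∀ i, CommRing (B i)]
      [∀ i, Algebra S₀ (B i)], (∀ i, P (B i)) → P (∀ i, B i))
    (hloc : ∀ p : Ideal S, p.IsPrime → ∃ f : S, f ∉ p ∧ ∃ (T : Type u) (_ : CommRing T)
      (_ : Algebra S₀ T) (_ : Algebra S T) (_ : IsScalarTower S₀ S T) (_ : Algebra.Etale S T),
      (∀ q : PrimeSpectrum S, f ∉ q.asIdeal →
        q ∈ Set.range (PrimeSpectrum.comap (algebraMap S T))) ∧ P T) :
    ∃ (S' : Type u) (_ : CommRing S') (_ : Algebra S₀ S') (_ : Algebra S S')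
      (_ : IsScalarTower S₀ S S') (_ : Algebra.Etale S S')
      (_ : Module.FaithfullyFlat S S'), P S' := by
  classical
  choose f hf T iT1 iT0 iT2 iT4 iT3 hT hPT using
    fun p : PrimeSpectrum S => hloc p.asIdeal p.isPrime
  have hspan : Ideal.span (Set.range f) = ⊤ := by
    by_contra hne
    obtain ⟨m, hm, hle⟩ := Ideal.exists_le_maximal _ hne
    exact hf ⟨m, hm.isPrime⟩ (hle (Ideal.subset_span ⟨_, rfl⟩))
  obtain ⟨c, hc⟩ := Finsupp.mem_ideal_span_range_iff_exists_finsupp.1
    ((Ideal.eq_top_iff_one _).1 hspan)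
  let ι : Type u := {p // p ∈ c.support}
  let B : ι → Type u := fun i => T i.1
  letI : ∀ i, CommRing (B i) := fun i => iT1 i.1
  letI : ∀ i, Algebra S₀ (B i) := fun i => iT0 i.1
  letI : ∀ i, Algebra S (B i) := fun i => iT2 i.1
  haveI : ∀ i, IsScalarTower S₀ S (B i) := fun i => iT4 i.1
  haveI hEt : ∀ i, Algebra.Etale S (B i) := fun i => iT3 i.1
  let S' : Type u := ∀ i, B i
  have hFlat : Module.Flat S S' :=
    Module.Flat.of_linearEquiv (DFinsupp.linearEquivFunOnFintype (R := S) (M := B)).symm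
  have hff : Module.FaithfullyFlat S S' := by
    refine Module.FaithfullyFlat.of_comap_surjective fun q => ?_
    obtain ⟨i, hi⟩ : ∃ i : ι, f i.1 ∉ q.asIdeal := by
      by_contra hcon
      push Not at hcon
      have h1 : (1 : S) ∈ q.asIdeal := by
        rw [← hc]
        exact Ideal.sum_mem _ fun p hp => q.asIdeal.mul_mem_left _ (hcon ⟨p, hp⟩)
      exact q.isPrime.ne_top ((Ideal.eq_top_iff_one _).2 h1)
    obtain ⟨Q0, hQ0⟩ := hT i.1 q hi
    refine ⟨⟨Q0.asIdeal.comap (Pi.evalRingHom B i), Ideal.comap_isPrime _ _⟩, ?_⟩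
    ext1
    change (Q0.asIdeal.comap (Pi.evalRingHom B i)).comap (algebraMap S S') = q.asIdeal
    rw [Ideal.comap_comap]
    exact congrArg PrimeSpectrum.asIdeal hQ0
  exact ⟨S', inferInstance, inferInstance, inferInstance, inferInstance, inferInstance, hff,
    hprod ι B fun i => hPT i.1⟩

end CoverTower

section Main
variable {S : Type u} [CommRing S] {R : Type v} [CommRing R] [Algebra S R] (lam : R ≃ₐ[S] R)

/-- the size of a skew-hermitian matrix invertible at a ramified prime is even -/
theorem even_of_skew_ramified (hlam : ∀ r, lam (lam r) = r)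
    (hfix : RInv.IsFixedRing S R lam.toRingEquiv) (h2 : IsUnit (2 : S))
    (p : Ideal S) [p.IsPrime] (n : ℕ)
    (hram : ∀ a : Localization.AtPrime p ⊗[S] R,
      bcL lam (Localization.AtPrime p) a - a ∈ Ring.jacobson (Localization.AtPrime p ⊗[S] R))
    (g : Matrix (Fin n) (Fin n) R)
    (hgu : IsUnit (g.map (inc (S := S) (R := R) (Localization.AtPrime p))))
    (hskew : -(g.map lam).transpose = g) : Even n := by
  classical
  let B := Localization.AtPrime p
  let A := B ⊗[S] R
  let σ : A ≃+* A := (bcL lam B).toRingEquiv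
  have hσ : ∀ a, σ (σ a) = a := bcL_invol lam B hlam
  have hF : RInv.IsFixedRing B A σ := isFixedRing_bcL lam B hfix
  let ι : R →ₐ[S] A := inc (S := S) (R := R) B
  have hιlam : ∀ r, σ (ι r) = ι (lam r) := by
    intro r
    show bcL lam B ((1 : B) ⊗ₜ[S] r) = (1 : B) ⊗ₜ[S] lam r
    rw [bcL_tmul]
  let gA : Matrix (Fin n) (Fin n) A := g.map ι
  have hgent : ∀ i j, lam (g j i) = - g i j := by
    intro i j
    have := congrFun (congrFun hskew i) j
    simp only [Matrix.neg_apply, Matrix.transpose_apply, Matrix.map_apply] at this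
    rw [← this, neg_neg]
  have hskewA : -(gA.map σ).transpose = gA := by
    ext i j
    show -(σ (ι (g j i))) = ι (g i j)
    rw [hιlam, hgent, map_neg, neg_neg]
  have h2A : IsUnit (2 : A) := by
    have := h2.map (algebraMap S A)
    rwa [map_ofNat] at this
  exact (Groth.Agent.S15584.result B A σ (fun a => hσ a) hF n hram h2A gA hgu hskewA).1

/-- **Skew-hermitian matrices are étale-locally standard near a ramified prime** at which they
are invertible (`2` invertible). -/
theorem exists_etale_nbhd_congrJ (hlam : ∀ r, lam (lam r) = r)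
    (hfix : RInv.IsFixedRing S R lam.toRingEquiv)
    (hsq : ∀ (S₁ : Type u) [CommRing S₁] [Algebra S S₁] [Algebra.Etale S S₁] (x : S₁ˣ),
      ∃ (S₂ : Type u) (_ : CommRing S₂) (_ : Algebra S₁ S₂) (_ : Algebra.Etale S₁ S₂)
        (_ : Module.FaithfullyFlat S₁ S₂) (y : S₂), y * y = algebraMap S₁ S₂ ↑x)
    (h2 : IsUnit (2 : S)) (p : Ideal S) [p.IsPrime] (m : ℕ)
    (hram : ∀ a : Localization.AtPrime p ⊗[S] R,
      bcL lam (Localization.AtPrime p) a - a ∈ Ring.jacobson (Localization.AtPrime p ⊗[S] R))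
    (g : Matrix (Fin (m * 2)) (Fin (m * 2)) R)
    (hgu : IsUnit (g.map (inc (S := S) (R := R) (Localization.AtPrime p))))
    (hskew : -(g.map lam).transpose = g) :
    ∃ f : S, f ∉ p ∧ ∃ (T : Type u) (_ : CommRing T) (_ : Algebra S T) (_ : Algebra.Etale S T),
      (∀ q : PrimeSpectrum S, f ∉ q.asIdeal →
        q ∈ Set.range (PrimeSpectrum.comap (algebraMap S T))) ∧ Congr lam g (Jn R m) T := by
  classical
  obtain ⟨H', t', nb, ad, ht', hH'skew, hoff, hnb, had, hnbp, hdp, h2p, hT⟩ :=
    exists_block_form lam hlam hfix h2 p m hram g hgu hskew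
  let f : S := t' * ∏ k, (nb k * (ad k + nb k) * (2 * nb k + ad k))
  have hfp : f ∉ p := by
    intro hmem
    rcases Ideal.IsPrime.mem_or_mem inferInstance hmem with h1 | h1
    · exact ht' h1
    · obtain ⟨k, -, hk⟩ := (Ideal.IsPrime.prod_mem_iff (hp := (inferInstance : p.IsPrime))).1 h1
      rcases Ideal.IsPrime.mem_or_mem inferInstance hk with h3 | h3
      · rcases Ideal.IsPrime.mem_or_mem inferInstance h3 with h4 | h4
        · exact hnbp k h4
        · exact hdp k h4
      · exact h2p k h3
  let S₁ := Localization.Away f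
  haveI : Algebra.Etale S S₁ := Algebra.Etale.of_isLocalizationAway f
  have hfu₁ : IsUnit (algebraMap S S₁ f) := IsLocalization.Away.algebraMap_isUnit f
  have hdvd : ∀ k, (nb k * (ad k + nb k) * (2 * nb k + ad k)) ∣ f := fun k =>
    Dvd.dvd.mul_left (Finset.dvd_prod_of_mem _ (Finset.mem_univ k)) t'
  have hu₁ : ∀ k, IsUnit (algebraMap S S₁ (nb k * (ad k + nb k) * (2 * nb k + ad k))) := fun k =>
    isUnit_of_dvd_unit (map_dvd (algebraMap S S₁) (hdvd k)) hfu₁
  have hxu : ∀ k, IsUnit (algebraMap S S₁ (nb k * (ad k + nb k))) := by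
    intro k
    have := hu₁ k
    rw [map_mul] at this
    exact isUnit_of_mul_isUnit_left this
  obtain ⟨S₂, i1, i2, i3, i4, y, hy⟩ := exists_sqrt_family hsq S₁ m (fun k => (hxu k).unit)
  letI : Algebra S S₂ := ((algebraMap S₁ S₂).comp (algebraMap S S₁)).toAlgebra
  haveI : IsScalarTower S S₁ S₂ := IsScalarTower.of_algebraMap_eq fun _ => rfl
  haveI : Algebra.Etale S S₂ := Algebra.Etale.comp S S₁ S₂
  have hu₂ : ∀ k, IsUnit (algebraMap S S₂ (nb k * (ad k + nb k) * (2 * nb k + ad k))) := fun k => by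
    rw [IsScalarTower.algebraMap_apply S S₁ S₂]
    exact (hu₁ k).map _
  have h2u₂ : IsUnit (algebraMap S S₂ 2) := h2.map _
  have hyy : ∀ k, y k * y k = algebraMap S S₂ (nb k * (ad k + nb k)) := by
    intro k
    rw [hy k, IsScalarTower.algebraMap_apply S S₁ S₂]
    rfl
  have ht'u₂ : IsUnit (algebraMap S S₂ t') := by
    have : IsUnit (algebraMap S S₂ f) := by
      rw [IsScalarTower.algebraMap_apply S S₁ S₂]
      exact hfu₁.map _
    rw [map_mul] at this
    exact isUnit_of_mul_isUnit_left this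
  -- Zariski-locally on `S₂` choose the signs of the square roots
  obtain ⟨S₃, j1, j0, j2, j4, j3, j5, hP⟩ := exists_etale_cover_of_local_tower (S₀ := S) (S := S₂)
    (P := fun T _ _ => Congr lam H' (Jn R m) T)
    (fun κ _ B _ _ hB => congr_pi lam H' (Jn R m) κ B hB) (by
      intro P hP
      have hsign : ∀ k, ∃ ε : S₂, ε * ε = 1 ∧
          algebraMap S S₂ (2 * nb k + ad k) + 2 * (ε * y k) ∉ P := by
        intro k
        by_contra hcon
        push Not at hcon
        have h1 := hcon 1 (one_mul 1)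
        have h3 := hcon (-1) (by ring)
        have h4 : algebraMap S S₂ 2 * algebraMap S S₂ (2 * nb k + ad k) ∈ P := by
          have := Ideal.add_mem _ h1 h3
          have e : algebraMap S S₂ (2 * nb k + ad k) + 2 * (1 * y k) +
              (algebraMap S S₂ (2 * nb k + ad k) + 2 * (-1 * y k)) =
              algebraMap S S₂ 2 * algebraMap S S₂ (2 * nb k + ad k) := by
            rw [map_ofNat]; ring
          rwa [e] at this
        have h5 : IsUnit (algebraMap S S₂ 2 * algebraMap S S₂ (2 * nb k + ad k)) := by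
          refine h2u₂.mul ?_
          have := hu₂ k
          rw [map_mul] at this
          exact isUnit_of_mul_isUnit_right this
        exact hP.ne_top (Ideal.eq_top_of_isUnit_mem _ h4 h5)
      choose ε hε hεP using hsign
      let fP : S₂ := ∏ k, (algebraMap S S₂ (2 * nb k + ad k) + 2 * (ε k * y k))
      have hfP : fP ∉ P := by
        intro hmem
        obtain ⟨k, -, hk⟩ := (Ideal.IsPrime.prod_mem_iff (hp := hP)).1 hmem
        exact hεP k hk
      refine ⟨fP, hfP, Localization.Away fP, inferInstance, inferInstance, inferInstance,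
        inferInstance, Algebra.Etale.of_isLocalizationAway fP, ?_, ?_⟩
      · intro q hq
        rw [PrimeSpectrum.localization_away_comap_range (Localization.Away fP) fP]
        exact hq
      · let T := Localization.Away fP
        have hST : ∀ s : S, algebraMap S T s = algebraMap S₂ T (algebraMap S S₂ s) :=
          fun s => IsScalarTower.algebraMap_apply S S₂ T s
        have hfPu : IsUnit (algebraMap S₂ T fP) := IsLocalization.Away.algebraMap_isUnit fP
        refine congr_blockStd lam hlam m H' hH'skew hoff nb ad hnb had T ?_ ?_ ?_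
          (fun k => algebraMap S₂ T (ε k * y k)) ?_ ?_
        · rw [hST]; exact h2u₂.map _
        · intro k
          rw [hST]
          have := hu₂ k
          rw [map_mul, map_mul] at this
          exact (isUnit_of_mul_isUnit_left (isUnit_of_mul_isUnit_left this)).map _
        · intro k
          rw [hST]
          have := hu₂ k
          rw [map_mul, map_mul] at this
          exact (isUnit_of_mul_isUnit_right (isUnit_of_mul_isUnit_left this)).map _
        · intro k
          rw [hST, ← hyy k, ← map_mul]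
          congr 1
          linear_combination (y k * y k) * hε k
        · intro k
          have h1 : algebraMap S T (2 * nb k + ad k) + 2 * algebraMap S₂ T (ε k * y k) =
              algebraMap S₂ T (algebraMap S S₂ (2 * nb k + ad k) + 2 * (ε k * y k)) := by
            simp only [hST, map_add, map_mul, map_ofNat]
          rw [h1]
          refine isUnit_of_dvd_unit (map_dvd _ ?_) hfPu
          exact Finset.dvd_prod_of_mem _ (Finset.mem_univ k))
  letI : Algebra S₁ S₃ := ((algebraMap S₂ S₃).comp (algebraMap S₁ S₂)).toAlgebra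
  haveI : IsScalarTower S₁ S₂ S₃ := IsScalarTower.of_algebraMap_eq fun _ => rfl
  haveI : IsScalarTower S S₁ S₃ := IsScalarTower.of_algebraMap_eq fun s => by
    rw [IsScalarTower.algebraMap_apply S S₂ S₃]
    rfl
  haveI : Module.FaithfullyFlat S₁ S₃ := Module.FaithfullyFlat.trans S₁ S₂ S₃
  haveI : Algebra.Etale S S₃ := Algebra.Etale.comp S S₂ S₃
  refine ⟨f, hfp, S₃, inferInstance, inferInstance, inferInstance, ?_, ?_⟩
  · intro q hq
    exact mem_range_of_away S₁ S₃ q hq
  · refine (hT S₃ ?_).trans lam hP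
    rw [IsScalarTower.algebraMap_apply S S₂ S₃]
    exact ht'u₂.map _

end Main

end Groth.Agent.Lib.Helper25.SkewCongr
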