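import Mathlib
import Groth.Prelude.Def_AzInv
import Groth.Prelude.Def_W4c2azumayainvolQEt
import Groth.Agent.Lib.Helper25.AzInvOdd
import Groth.Agent.Lib.Helper25.IsoNear
import Groth.Agent.Lib.Helper25.SkewCongr

/-!
# Local classification of involutions of Azumaya algebras when `2` is invertible
-/

set_option autoImplicit false
set_option linter.unusedSectionVars false
set_option linter.style.haveILetI false
set_option linter.dupNamespace false
universe u v w w'
open scoped TensorProduct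

namespace Groth.Agent.Lib.Helper25.AzInvLC
open AzInv Groth.Agent.Lib.Helper1.GeoNbhd Groth.Agent.Lib.Helper25.HermOdd
  Groth.Agent.Lib.Helper25.AzInvTower Groth.Agent.Lib.Helper25.AzInvCover
  Groth.Agent.Lib.Helper25.AzInvOdd Groth.Agent.Lib.Helper25.HermCongr
  Groth.Agent.Lib.Helper25.SkewCongr Groth.Agent.Lib.Helper25.IsoNear
  Groth.Agent.Lib.Helper1.SkewStd

section Std
variable {R : Type v} [CommRing R]

theorem Jstd_mul_Jstd : (Jstd : Matrix (Fin 2) (Fin 2) R) * Jstd = -1 := by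
  ext i j
  fin_cases i <;> fin_cases j <;> simp [Jstd, Matrix.mul_apply, Fin.sum_univ_two]

theorem Jn_mul_Jn (m : ℕ) : Jn R m * Jn R m = -1 := by
  unfold Jn
  rw [Matrix.submatrix_mul_equiv, ← Matrix.blockDiagonal_mul]
  simp only [Jstd_mul_Jstd]
  have h1 : (fun _ : Fin m => (-1 : Matrix (Fin 2) (Fin 2) R)) = -(fun _ => 1) := rfl
  rw [h1, Matrix.blockDiagonal_neg]
  have h2 : Matrix.blockDiagonal (fun _ : Fin m => (1 : Matrix (Fin 2) (Fin 2) R)) = 1 :=
    Matrix.blockDiagonal_one
  rw [h2, Matrix.submatrix_neg]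
  simp

theorem Jstd_transpose : (Jstd : Matrix (Fin 2) (Fin 2) R).transpose = -Jstd := by
  ext i j
  fin_cases i <;> fin_cases j <;> simp [Jstd]

theorem lamT_Jn (σ : R ≃+* R) (m : ℕ) : lamT σ (Jn R m) = -Jn R m := by
  unfold lamT
  have h0 : (Jn R m).map σ = Jn R m := Jn_map (σ : R →+* R) m
  rw [h0]
  unfold Jn
  rw [Matrix.transpose_submatrix, Matrix.blockDiagonal_transpose]
  simp only [Jstd_transpose]
  have h1 : (fun _ : Fin m => -(Jstd : Matrix (Fin 2) (Fin 2) R)) = -(fun _ => Jstd) := rfl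
  rw [h1, Matrix.blockDiagonal_neg, Matrix.submatrix_neg]
  rfl

/-- the standard alternating matrix as a unit -/
def JnU (R : Type v) [CommRing R] (m : ℕ) : (Matrix (Fin (m * 2)) (Fin (m * 2)) R)ˣ where
  val := Jn R m
  inv := -Jn R m
  val_inv := by rw [Matrix.mul_neg, Jn_mul_Jn, neg_neg]
  inv_val := by rw [Matrix.neg_mul, Jn_mul_Jn, neg_neg]

end Std

section TauMinus
variable {S : Type u} [CommRing S] {R : Type v} [CommRing R] [Algebra S R] (lam : R ≃ₐ[S] R)
  (hlam : ∀ r, lam (lam r) = r)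

/-- the standard symplectic `lam`-involution of the matrix algebra of size `2m` -/
noncomputable def tauMinus (m : ℕ) : LamInv R (Matrix (Fin (m * 2)) (Fin (m * 2)) R) lam :=
  (LamInv.transpose lam (Fin (m * 2)) hlam).conj (JnU R m) (-1)
    (by
      show lamT lam.toRingEquiv (Jn R m) = (-1 : R) • Jn R m
      rw [lamT_Jn, neg_one_smul])
    (by rw [map_neg, map_one]; ring)

theorem tauMinus_apply (m : ℕ) (M : Matrix (Fin (m * 2)) (Fin (m * 2)) R) :
    tauMinus lam hlam m M = Jn R m * LamInv.transpose lam (Fin (m * 2)) hlam M * (-Jn R m) := rfl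

end TauMinus

section FY
variable {S : Type u} [CommRing S] {R : Type v} [CommRing R] [Algebra S R] (lam : R ≃ₐ[S] R)
  (hlam : ∀ r, lam (lam r) = r)

attribute [local instance] algRT

/-- compatibility of the canonical isomorphism `fY` with an inner twist of the transpose -/
theorem fY_bc_conj (n : ℕ) (T : Type u) [CommRing T] [Algebra S T]
    (fY : T ⊗[S] Matrix (Fin n) (Fin n) R ≃ₐ[T ⊗[S] R] Matrix (Fin n) (Fin n) (T ⊗[S] R))
    (hfY : ∀ (s : T) (M : Matrix (Fin n) (Fin n) R), fY (s ⊗ₜ[S] M) =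
        algebraMap T (Matrix (Fin n) (Fin n) (T ⊗[S] R)) s *
          M.map (Algebra.TensorProduct.includeRight : R →ₐ[S] T ⊗[S] R))
    (hfYτ : ∀ z, fY ((LamInv.transpose lam (Fin n) hlam).bc S lam T z) =
        LamInv.transpose (bcL lam T) (Fin n) (bcL_invol lam T hlam) (fY z))
    (t : LamInv R (Matrix (Fin n) (Fin n) R) lam) (G Gi : Matrix (Fin n) (Fin n) R)
    (ht : ∀ M, t M = G * LamInv.transpose lam (Fin n) hlam M * Gi)
    (x : T ⊗[S] Matrix (Fin n) (Fin n) R) :
    fY (t.bc S lam T x) =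
      G.map (Algebra.TensorProduct.includeRight : R →ₐ[S] T ⊗[S] R) *
        LamInv.transpose (bcL lam T) (Fin n) (bcL_invol lam T hlam) (fY x) *
        Gi.map (Algebra.TensorProduct.includeRight : R →ₐ[S] T ⊗[S] R) := by
  classical
  let incl : R →ₐ[S] T ⊗[S] R := Algebra.TensorProduct.includeRight
  let τ : LamInv R (Matrix (Fin n) (Fin n) R) lam := LamInv.transpose lam (Fin n) hlam
  let τ' : LamInv (T ⊗[S] R) (Matrix (Fin n) (Fin n) (T ⊗[S] R)) (bcL lam T) :=
    LamInv.transpose (bcL lam T) (Fin n) (bcL_invol lam T hlam)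
  show fY (t.bc S lam T x) = G.map incl * τ' (fY x) * Gi.map incl
  induction x using TensorProduct.induction_on with
  | zero => simp
  | add x y hx hy => rw [map_add, map_add, hx, hy, map_add, τ'.map_add, mul_add, add_mul]
  | tmul s M =>
    rw [← hfYτ, LamInv.bc_tmul, LamInv.bc_tmul, hfY, hfY, ht]
    rw [Matrix.map_mul, Matrix.map_mul]
    have hcomm := Algebra.commutes s (G.map incl)
    calc algebraMap T (Matrix (Fin n) (Fin n) (T ⊗[S] R)) s *
          (G.map incl * (τ M).map incl * Gi.map incl)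
        = (algebraMap T (Matrix (Fin n) (Fin n) (T ⊗[S] R)) s * G.map incl) * (τ M).map incl *
            Gi.map incl := by simp only [mul_assoc]
      _ = (G.map incl * algebraMap T (Matrix (Fin n) (Fin n) (T ⊗[S] R)) s) * (τ M).map incl *
            Gi.map incl := by rw [hcomm]
      _ = G.map incl * (algebraMap T (Matrix (Fin n) (Fin n) (T ⊗[S] R)) s * (τ M).map incl) *
            Gi.map incl := by simp only [mul_assoc]

/-- **from a congruence to an isomorphism of algebras with involution**: if `c • G₁` and `G₂`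
are congruent over `T ⊗ R`, then the inner twists of the transpose by `G₁` and `G₂` are
isomorphic over `T` -/
theorem isoOver_of_congr (n : ℕ) (hn : 0 < n)
    (t₁ t₂ : LamInv R (Matrix (Fin n) (Fin n) R) lam)
    (G₁ Gi₁ G₂ Gi₂ : Matrix (Fin n) (Fin n) R)
    (h₁' : Gi₁ * G₁ = 1) (h₂ : G₂ * Gi₂ = 1)
    (ht₁ : ∀ M, t₁ M = G₁ * LamInv.transpose lam (Fin n) hlam M * Gi₁)
    (ht₂ : ∀ M, t₂ M = G₂ * LamInv.transpose lam (Fin n) hlam M * Gi₂)
    (c : R) (T : Type u) [CommRing T] [Algebra S T] (hc : Congr lam (c • G₁) G₂ T) :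
    IsoOver R T (t₁.linS S lam) (t₂.linS S lam) := by
  classical
  haveI := isScalarTower_RT (S := S) (R := R) (X := Matrix (Fin n) (Fin n) R) T
  let R' := T ⊗[S] R
  let σ' : R' ≃+* R' := (bcL lam T).toRingEquiv
  have hσ' : ∀ a, σ' (σ' a) = a := bcL_invol lam T hlam
  let incl : R →ₐ[S] R' := Algebra.TensorProduct.includeRight
  let τ' : LamInv R' (Matrix (Fin n) (Fin n) R') (bcL lam T) :=
    LamInv.transpose (bcL lam T) (Fin n) (bcL_invol lam T hlam)
  have hτ' : ∀ M, τ' M = lamT σ' M := fun M => rfl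
  obtain ⟨fY, hfY, hfYτ⟩ := exists_fY S R lam hlam n hn T
  obtain ⟨v, hv, hveq⟩ := hc
  obtain ⟨vi, hvvi, hviv⟩ : ∃ vi, v * vi = 1 ∧ vi * v = 1 := by
    obtain ⟨u, rfl⟩ := hv
    exact ⟨↑u⁻¹, u.mul_inv, u.inv_mul⟩
  let a : Matrix (Fin n) (Fin n) R' := lamT σ' v
  let ai : Matrix (Fin n) (Fin n) R' := lamT σ' vi
  have haai : a * ai = 1 := by rw [← lamT_mul, hviv, lamT_one]
  have haia : ai * a = 1 := by rw [← lamT_mul, hvvi, lamT_one]
  let G₁' : Matrix (Fin n) (Fin n) R' := G₁.map incl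
  let Gi₁' : Matrix (Fin n) (Fin n) R' := Gi₁.map incl
  let G₂' : Matrix (Fin n) (Fin n) R' := G₂.map incl
  let Gi₂' : Matrix (Fin n) (Fin n) R' := Gi₂.map incl
  let c' : R' := incl c
  have hmapone : (1 : Matrix (Fin n) (Fin n) R).map incl = 1 :=
    Matrix.map_one _ (map_zero _) (map_one _)
  have hG₁ : Gi₁' * G₁' = 1 := by rw [← Matrix.map_mul, h₁', hmapone]
  have hG₂ : G₂' * Gi₂' = 1 := by rw [← Matrix.map_mul, h₂, hmapone]
  have hE1 : a * (c' • G₁') * v = G₂' := by
    have h3 : (c • G₁).map (inc (S := S) (R := R) T) = c' • G₁' := by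
      ext i j
      show incl (c * G₁ i j) = incl c * incl (G₁ i j)
      rw [map_mul]
    rw [← h3]
    exact hveq
  -- `G₂' * vi = c' • (a * G₁')`
  have hA : G₂' * vi = c' • (a * G₁') := by
    rw [← hE1, mul_assoc, hvvi, mul_one, Matrix.mul_smul]
  -- `c' • (v * Gi₂') = Gi₁' * ai`
  have hB : c' • (v * Gi₂') = Gi₁' * ai := by
    have h3 : Gi₁' * ai * G₂' = c' • v := by
      rw [← hE1, Matrix.mul_smul, Matrix.smul_mul, Matrix.mul_smul]
      congr 1
      calc Gi₁' * ai * (a * G₁' * v) = Gi₁' * (ai * a) * G₁' * v := by simp only [mul_assoc]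
        _ = v := by rw [haia, mul_one, hG₁, one_mul]
    calc c' • (v * Gi₂') = (c' • v) * Gi₂' := by rw [Matrix.smul_mul]
      _ = Gi₁' * ai * (G₂' * Gi₂') := by rw [← h3]; simp only [mul_assoc]
      _ = Gi₁' * ai := by rw [hG₂, mul_one]
  let F : T ⊗[S] Matrix (Fin n) (Fin n) R ≃ₐ[R'] T ⊗[S] Matrix (Fin n) (Fin n) R :=
    fY.trans ((unitConj (K := R') a ai haai haia).trans fY.symm)
  have hF : ∀ x, fY (F x) = a * fY x * ai := by
    intro x
    show fY (fY.symm (unitConj (K := R') a ai haai haia (fY x))) = _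
    rw [fY.apply_symm_apply, unitConj_apply]
  refine ⟨F.restrictScalars T, fun r => ?_, fun x => ?_⟩
  · show F ((1 : T) ⊗ₜ[S] algebraMap R (Matrix (Fin n) (Fin n) R) r) = _
    have h1 : ((1 : T) ⊗ₜ[S] algebraMap R (Matrix (Fin n) (Fin n) R) r :
        T ⊗[S] Matrix (Fin n) (Fin n) R) =
        algebraMap R' (T ⊗[S] Matrix (Fin n) (Fin n) R) ((1 : T) ⊗ₜ[S] r) := by
      rw [algebraMap_RT_apply, baseMap_tmul]
    rw [h1, AlgEquiv.commutes]
  · show F (t₁.bc S lam T x) = t₂.bc S lam T (F x)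
    apply fY.injective
    rw [hF, fY_bc_conj lam hlam n T fY hfY hfYτ t₁ G₁ Gi₁ ht₁,
      fY_bc_conj lam hlam n T fY hfY hfYτ t₂ G₂ Gi₂ ht₂, hF]
    show a * (G₁' * τ' (fY x) * Gi₁') * ai = G₂' * τ' (a * fY x * ai) * Gi₂'
    rw [τ'.map_mul, τ'.map_mul, hτ', hτ', hτ']
    have h2 : lamT σ' a = v := lamT_lamT σ' hσ' v
    have h3 : lamT σ' ai = vi := lamT_lamT σ' hσ' vi
    rw [h2, h3]
    calc a * (G₁' * lamT σ' (fY x) * Gi₁') * ai
        = a * G₁' * lamT σ' (fY x) * (Gi₁' * ai) := by simp only [mul_assoc]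
      _ = a * G₁' * lamT σ' (fY x) * (c' • (v * Gi₂')) := by rw [hB]
      _ = (c' • (a * G₁')) * lamT σ' (fY x) * (v * Gi₂') := by
          rw [Matrix.mul_smul, Matrix.smul_mul, Matrix.smul_mul]
      _ = G₂' * vi * lamT σ' (fY x) * (v * Gi₂') := by rw [hA]
      _ = G₂' * (vi * (lamT σ' (fY x) * v)) * Gi₂' := by simp only [mul_assoc]

end FY

section Ram
variable {S : Type u} [CommRing S] {R : Type v} [CommRing R] [Algebra S R] (lam : R ≃ₐ[S] R)

/-- ramification of `Spec R → Spec S` at a prime `p` of the fixed ring: the involution is the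
identity modulo the Jacobson radical of `S_p ⊗ R` -/
def RamAt (p : Ideal S) [p.IsPrime] : Prop :=
  ∀ a : Localization.AtPrime p ⊗[S] R,
    bcL lam (Localization.AtPrime p) a - a ∈ Ring.jacobson (Localization.AtPrime p ⊗[S] R)

attribute [local instance] Algebra.TensorProduct.rightAlgebra in
/-- at an unramified prime there is a skew element of `R` which is a unit near `p` -/
theorem exists_skew_unit_of_not_ramAt (hlam : ∀ r, lam (lam r) = r)
    (hfix : RInv.IsFixedRing S R lam.toRingEquiv) (p : Ideal S) [p.IsPrime]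
    (hnr : ¬ RamAt lam p) :
    ∃ u : R, lam u = -u ∧ IsUnit (inc (S := S) (R := R) (Localization.AtPrime p) u) := by
  classical
  let B := Localization.AtPrime p
  let A := B ⊗[S] R
  let σ : A ≃+* A := (bcL lam B).toRingEquiv
  have hσ : ∀ a, σ (σ a) = a := bcL_invol lam B hlam
  have hF : RInv.IsFixedRing B A σ := isFixedRing_bcL lam B hfix
  haveI : Nontrivial A := hF.1.nontrivial
  let ι : R →ₐ[S] A := inc (S := S) (R := R) B
  have hιlam : ∀ r, σ (ι r) = ι (lam r) := by
    intro r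
    show bcL lam B ((1 : B) ⊗ₜ[S] r) = (1 : B) ⊗ₜ[S] lam r
    rw [bcL_tmul]
  have hιS : ∀ s : S, ι (algebraMap S R s) = algebraMap B A (algebraMap S B s) :=
    fun s => one_tmul_algebraMap B s
  unfold RamAt at hnr
  push Not at hnr
  obtain ⟨a, ha⟩ := hnr
  let N : Submonoid R := Algebra.algebraMapSubmonoid R p.primeCompl
  haveI : IsLocalization N A := IsLocalization.tensorRight (S := R) (A := B) p.primeCompl
  obtain ⟨⟨r, s⟩, hrs⟩ := IsLocalization.surj N a
  obtain ⟨s₀, hs₀, hs₀s⟩ : ∃ s₀ ∈ p.primeCompl, algebraMap S R s₀ = (s : R) := s.2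
  have hrs' : a * ι (s : R) = ι r := hrs
  have hsA : ι (s : R) = algebraMap B A (algebraMap S B s₀) := by rw [← hs₀s, hιS]
  have hsAu : IsUnit (ι (s : R)) := by
    rw [hsA]
    exact (IsLocalization.map_units B (⟨s₀, hs₀⟩ : p.primeCompl)).map _
  have hsAσ : σ (ι (s : R)) = ι (s : R) := by rw [hsA]; exact bcL_algebraMap lam B _
  let u : R := lam r - r
  have hu : lam u = -u := by
    show lam (lam r - r) = -(lam r - r)
    rw [map_sub, hlam]; ring
  have hιu : ι u = (bcL lam B a - a) * ι (s : R) := by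
    show ι (lam r - r) = _
    rw [map_sub, ← hιlam, ← hrs', map_mul, hsAσ]
    show σ a * ι (s : R) - a * ι (s : R) = (σ a - a) * ι (s : R)
    ring
  have hιuJ : ι u ∉ Ring.jacobson A := by
    intro hmem
    apply ha
    obtain ⟨w, hw⟩ := hsAu.exists_right_inv
    have : bcL lam B a - a = ι u * w := by
      rw [hιu, mul_assoc, hw, mul_one]
    rw [this]
    exact Ideal.mul_mem_right _ _ hmem
  refine ⟨u, hu, ?_⟩
  -- integrality
  haveI hint : Algebra.IsIntegral B A :=
    isIntegral_of_involution B A (bcL lam B) (bcL_invol lam B hlam) (fun x hx => (hF.2 x).1 hx)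
  by_contra hnu
  apply hιuJ
  -- `u * u` comes from `S`
  obtain ⟨su, hsu⟩ : ∃ su : S, algebraMap S R su = u * u := by
    refine (hfix.2 _).1 ?_
    show lam (u * u) = u * u
    rw [map_mul, hu]; ring
  have hιuu : ι u * ι u = algebraMap B A (algebraMap S B su) := by
    rw [← map_mul, ← hsu, hιS]
  obtain ⟨m, hm, hum⟩ := Ideal.exists_le_maximal (Ideal.span {ι u})
    (by rw [Ne, Ideal.span_singleton_eq_top]; exact hnu)
  have hum' : ι u ∈ m := hum (Ideal.subset_span rfl)
  have hcm : (m.comap (algebraMap B A)) = IsLocalRing.maximalIdeal B :=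
    IsLocalRing.eq_maximalIdeal (Ideal.isMaximal_comap_of_isIntegral_of_isMaximal m)
  have hsuB : algebraMap S B su ∈ IsLocalRing.maximalIdeal B := by
    rw [← hcm, Ideal.mem_comap, ← hιuu]
    exact Ideal.mul_mem_left _ _ hum'
  rw [← Ideal.jacobson_bot, Ideal.jacobson, Ideal.mem_sInf]
  rintro m' ⟨-, hm'⟩
  have hcm' : (m'.comap (algebraMap B A)) = IsLocalRing.maximalIdeal B :=
    IsLocalRing.eq_maximalIdeal (Ideal.isMaximal_comap_of_isIntegral_of_isMaximal m')
  have h1 : ι u * ι u ∈ m' := by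
    rw [hιuu, ← Ideal.mem_comap, hcm']
    exact hsuB
  exact (hm'.isPrime.mem_or_mem h1).elim id id

end Ram

section LCconj
variable {S : Type u} [CommRing S] {R : Type v} [CommRing R] [Algebra S R] (lam : R ≃ₐ[S] R)

theorem isUnit_smul_matrix {A : Type*} [CommRing A] {n : ℕ} {a : A} (ha : IsUnit a)
    {M : Matrix (Fin n) (Fin n) A} (hM : IsUnit M) : IsUnit (a • M) := by
  rw [Matrix.isUnit_iff_isUnit_det] at hM ⊢
  rw [Matrix.det_smul]
  exact (ha.pow _).mul hM

/-- **local classification, inner twists of the transpose**: an involution of the matrix algebra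
which is an inner twist of the `lam`-transpose is, near every point of `Spec S`, isomorphic to
the `lam`-transpose or (in even size) to the standard symplectic involution (`2` invertible) -/
theorem isoNear_std_of_conj (hlam : ∀ r, lam (lam r) = r)
    (hfix : RInv.IsFixedRing S R lam.toRingEquiv)
    (hsq : ∀ (S₁ : Type u) [CommRing S₁] [Algebra S S₁] [Algebra.Etale S S₁] (x : S₁ˣ),
      ∃ (S₂ : Type u) (_ : CommRing S₂) (_ : Algebra S₁ S₂) (_ : Algebra.Etale S₁ S₂)
        (_ : Module.FaithfullyFlat S₁ S₂) (y : S₂), y * y = algebraMap S₁ S₂ ↑x)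
    (h2 : IsUnit (2 : S)) (n : ℕ) (hn : 0 < n)
    (t : LamInv R (Matrix (Fin n) (Fin n) R) lam) (g : (Matrix (Fin n) (Fin n) R)ˣ)
    (ht : ∀ M, t M = (g : Matrix (Fin n) (Fin n) R) * LamInv.transpose lam (Fin n) hlam M *
      ((g⁻¹ : (Matrix (Fin n) (Fin n) R)ˣ) : Matrix (Fin n) (Fin n) R))
    (p : PrimeSpectrum S) :
    IsoNear lam p t (LamInv.transpose lam (Fin n) hlam) ∨
      ∃ m : ℕ, n = m * 2 ∧ IsoNear lam p t (tauMinus lam hlam m) := by
  classical
  haveI := p.isPrime
  let σ : R ≃+* R := lam.toRingEquiv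
  have hσ : ∀ a, σ (σ a) = a := hlam
  let τ : LamInv R (Matrix (Fin n) (Fin n) R) lam := LamInv.transpose lam (Fin n) hlam
  let G : Matrix (Fin n) (Fin n) R := g
  let Gi : Matrix (Fin n) (Fin n) R := ((g⁻¹ : (Matrix (Fin n) (Fin n) R)ˣ) : Matrix (Fin n) (Fin n) R)
  have hGGi : G * Gi = 1 := Units.mul_inv g
  have hGiG : Gi * G = 1 := Units.inv_mul g
  let B := Localization.AtPrime p.asIdeal
  let A := B ⊗[S] R
  let ι : R →ₐ[S] A := inc (S := S) (R := R) B
  have hιS : ∀ s : S, ι (algebraMap S R s) = algebraMap B A (algebraMap S B s) :=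
    fun s => one_tmul_algebraMap B s
  have hGu : IsUnit (G.map ι) :=
    g.isUnit.map (ι.toRingHom.mapMatrix : Matrix (Fin n) (Fin n) R →+* Matrix (Fin n) (Fin n) A)
  -- `lamT g = e • g`
  obtain ⟨e, he⟩ := exists_scalar_of_invol σ hσ g (fun M => by
    have h1 := t.invol M
    rw [ht, ht] at h1
    exact h1)
  have hee : lam e * e = 1 := by
    have h1 : lamT σ (lamT σ G) = G := lamT_lamT σ hσ G
    rw [he, lamT_smul, he, smul_smul] at h1
    have h2' : ((σ e * e) • G) * Gi = G * Gi := by rw [h1]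
    rw [Matrix.smul_mul, hGGi] at h2'
    have h3 := congrFun (congrFun h2' ⟨0, hn⟩) ⟨0, hn⟩
    have h4 : σ e * e = 1 := by simpa using h3
    exact h4
  -- the hermitian case
  have herm_case : ∀ c : R, lamT σ (c • G) = c • G → IsUnit (ι c) → IsoNear lam p t τ := by
    intro c hc hcu
    have hh : IsUnit ((c • G).map ι) := by
      have : (c • G).map ι = ι c • G.map ι := by
        ext i j
        show ι (c * G i j) = ι c * ι (G i j)
        rw [map_mul]
      rw [this]
      exact isUnit_smul_matrix hcu hGu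
    obtain ⟨f, hfp, T, i1, i2, i3, hT, hC⟩ := exists_etale_nbhd_congrOne lam hlam hfix hsq p.asIdeal n
      (Or.inr h2) (c • G) hh hc
    refine ⟨T, i1, i2, i3, hT p hfp, ?_⟩
    exact isoOver_of_congr lam hlam n hn t τ G Gi 1 1 hGiG (one_mul 1) ht
      (fun M => by rw [one_mul, mul_one]) c T hC
  -- the norms of `1 + e` and `1 - e`
  obtain ⟨np, hnp⟩ : ∃ np : S, algebraMap S R np = (1 + e) * lam (1 + e) := by
    refine (hfix.2 _).1 ?_
    show lam ((1 + e) * lam (1 + e)) = _
    rw [map_mul, hlam, mul_comm]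
  obtain ⟨nm, hnm⟩ : ∃ nm : S, algebraMap S R nm = (1 - e) * lam (1 - e) := by
    refine (hfix.2 _).1 ?_
    show lam ((1 - e) * lam (1 - e)) = _
    rw [map_mul, hlam, mul_comm]
  have hsum : np + nm = 4 := by
    apply hfix.1
    rw [map_add, hnp, hnm, map_add, map_sub, map_one, map_ofNat]
    linear_combination 2 * hee
  have hunit_of : ∀ (c : R) (x : S), algebraMap S R x = c * lam c → x ∉ p.asIdeal →
      IsUnit (ι c) := by
    intro c x hx hxp
    have h1 : IsUnit (ι (algebraMap S R x)) := by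
      rw [hιS]
      exact (IsLocalization.map_units B (⟨x, hxp⟩ : p.asIdeal.primeCompl)).map _
    rw [hx, map_mul] at h1
    exact isUnit_of_mul_isUnit_left h1
  by_cases hnpp : np ∈ p.asIdeal
  · -- then `1 - e` is a unit near `p`
    have hnmp : nm ∉ p.asIdeal := by
      intro hnmp
      have h4 : (4 : S) ∈ p.asIdeal := by rw [← hsum]; exact Ideal.add_mem _ hnpp hnmp
      have h4u : IsUnit (4 : S) := by
        have : (4 : S) = 2 * 2 := by norm_num
        rw [this]
        exact h2.mul h2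
      exact p.isPrime.ne_top (Ideal.eq_top_of_isUnit_mem _ h4 h4u)
    have hcu : IsUnit (ι (1 - e)) := hunit_of (1 - e) nm hnm hnmp
    have hskew : lamT σ ((1 - e) • G) = -((1 - e) • G) := by
      rw [lamT_smul, he, smul_smul, ← neg_smul]
      congr 1
      show lam (1 - e) * e = -(1 - e)
      rw [map_sub, map_one]
      linear_combination (-1 : R) * hee
    by_cases hram : RamAt lam p.asIdeal
    · -- ramified: the standard symplectic involution
      right
      have hskew' : -(((1 - e) • G).map lam).transpose = (1 - e) • G := by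
        have : (((1 - e) • G).map lam).transpose = lamT σ ((1 - e) • G) := rfl
        rw [this, hskew, neg_neg]
      have hh : IsUnit (((1 - e) • G).map ι) := by
        have : ((1 - e) • G).map ι = ι (1 - e) • G.map ι := by
          ext i j
          show ι ((1 - e) * G i j) = ι (1 - e) * ι (G i j)
          rw [map_mul]
        rw [this]
        exact isUnit_smul_matrix hcu hGu
      obtain ⟨r, hr⟩ := even_of_skew_ramified lam hlam hfix h2 p.asIdeal n hram ((1 - e) • G) hh hskew'
      obtain ⟨m, rfl⟩ : ∃ m, n = m * 2 := ⟨r, by omega⟩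
      refine ⟨m, rfl, ?_⟩
      obtain ⟨f, hfp, T, i1, i2, i3, hT, hC⟩ := exists_etale_nbhd_congrJ lam hlam hfix hsq h2 p.asIdeal m
        hram ((1 - e) • G) hh hskew'
      refine ⟨T, i1, i2, i3, hT p hfp, ?_⟩
      exact isoOver_of_congr lam hlam (m * 2) hn t (tauMinus lam hlam m) G Gi (Jn R m) (-Jn R m) hGiG
        (by rw [Matrix.mul_neg, Jn_mul_Jn, neg_neg]) ht (fun M => tauMinus_apply lam hlam m M)
        (1 - e) T hC
    · -- unramified: rescale by a skew unit
      left
      obtain ⟨u, hu, huu⟩ := exists_skew_unit_of_not_ramAt lam hlam hfix p.asIdeal hram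
      have h3 : (u * (1 - e)) • G = u • ((1 - e) • G) := by rw [smul_smul]
      refine herm_case (u * (1 - e)) ?_ ?_
      · rw [h3, lamT_smul, hskew, smul_neg, ← neg_smul]
        congr 1
        show -(lam u) = u
        rw [hu, neg_neg]
      · rw [map_mul]
        exact huu.mul hcu
  · -- `1 + e` is a unit near `p`
    left
    refine herm_case (1 + e) ?_ (hunit_of (1 + e) np hnp hnpp)
    rw [lamT_smul, he, smul_smul]
    congr 1
    show lam (1 + e) * e = 1 + e
    rw [map_add, map_one]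
    linear_combination hee

end LCconj

section StdBC
variable {S : Type u} [CommRing S] {R : Type v} [CommRing R] [Algebra S R] (lam : R ≃ₐ[S] R)
  (hlam : ∀ r, lam (lam r) = r)

attribute [local instance] algRT

/-- the base change of the `lam`-transpose is the transpose over the base-changed ring -/
theorem locIsoEt_bcInv_transpose (S' : Type u) [CommRing S'] [Algebra S S'] (n : ℕ) (hn : 0 < n) :
    haveI := isScalarTower_RT (S := S) (R := R) (X := Matrix (Fin n) (Fin n) R) S'
    LocIsoEt S' (bcL lam S') (bcInv lam S' (LamInv.transpose lam (Fin n) hlam))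
      (LamInv.transpose (bcL lam S') (Fin n) (bcL_invol lam S' hlam)) := by
  haveI := isScalarTower_RT (S := S) (R := R) (X := Matrix (Fin n) (Fin n) R) S'
  obtain ⟨fY, -, hfYτ⟩ := exists_fY S R lam hlam n hn S'
  exact LocIsoEt.of_algEquiv S' (bcL lam S') _ _ fY (fun a => hfYτ a)

/-- the base change of the standard symplectic involution is the standard symplectic involution
over the base-changed ring -/
theorem locIsoEt_bcInv_tauMinus (S' : Type u) [CommRing S'] [Algebra S S'] (m : ℕ)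
    (hm : 0 < m * 2) :
    haveI := isScalarTower_RT (S := S) (R := R) (X := Matrix (Fin (m * 2)) (Fin (m * 2)) R) S'
    LocIsoEt S' (bcL lam S') (bcInv lam S' (tauMinus lam hlam m))
      (tauMinus (bcL lam S') (bcL_invol lam S' hlam) m) := by
  haveI := isScalarTower_RT (S := S) (R := R) (X := Matrix (Fin (m * 2)) (Fin (m * 2)) R) S'
  obtain ⟨fY, hfY, hfYτ⟩ := exists_fY S R lam hlam (m * 2) hm S'
  refine LocIsoEt.of_algEquiv S' (bcL lam S') _ _ fY (fun a => ?_)
  show fY ((tauMinus lam hlam m).bc S lam S' a) = tauMinus (bcL lam S') _ m (fY a)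
  rw [fY_bc_conj lam hlam (m * 2) S' fY hfY hfYτ (tauMinus lam hlam m) (Jn R m) (-Jn R m)
    (fun M => tauMinus_apply lam hlam m M), tauMinus_apply]
  have h1 : (Jn R m).map (Algebra.TensorProduct.includeRight : R →ₐ[S] S' ⊗[S] R) =
      Jn (S' ⊗[S] R) m :=
    Jn_map ((Algebra.TensorProduct.includeRight : R →ₐ[S] S' ⊗[S] R) : R →+* S' ⊗[S] R) m
  have h2 : (-Jn R m).map (Algebra.TensorProduct.includeRight : R →ₐ[S] S' ⊗[S] R) =
      -Jn (S' ⊗[S] R) m := by
    rw [← h1]
    ext i j
    show (Algebra.TensorProduct.includeRight : R →ₐ[S] S' ⊗[S] R) (-Jn R m i j) =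
      -((Algebra.TensorProduct.includeRight : R →ₐ[S] S' ⊗[S] R) (Jn R m i j))
    rw [map_neg]
  rw [h1, h2]

end StdBC

section LCmat
variable {S : Type u} [CommRing S] {R : Type v} [CommRing R] [Algebra S R] (lam : R ≃ₐ[S] R)

attribute [local instance] algRT

/-- **local classification, matrix algebras**: every `lam`-involution of a matrix algebra is,
near every point of `Spec S`, isomorphic to the `lam`-transpose or to the standard symplectic
involution (`2` invertible) -/
theorem isoNear_std_of_matrix (hlam : ∀ r, lam (lam r) = r)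
    (hfix : RInv.IsFixedRing S R lam.toRingEquiv)
    (hsq : ∀ (S₁ : Type u) [CommRing S₁] [Algebra S S₁] [Algebra.Etale S S₁] (x : S₁ˣ),
      ∃ (S₂ : Type u) (_ : CommRing S₂) (_ : Algebra S₁ S₂) (_ : Algebra.Etale S₁ S₂)
        (_ : Module.FaithfullyFlat S₁ S₂) (y : S₂), y * y = algebraMap S₁ S₂ ↑x)
    (h2 : IsUnit (2 : S)) (n : ℕ) (hn : 0 < n)
    (t' : LamInv R (Matrix (Fin n) (Fin n) R) lam) (p : PrimeSpectrum S) :
    IsoNear lam p t' (LamInv.transpose lam (Fin n) hlam) ∨
      ∃ m : ℕ, n = m * 2 ∧ IsoNear lam p t' (tauMinus lam hlam m) := by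
  classical
  haveI : Nonempty (Fin n) := ⟨⟨0, hn⟩⟩
  let τ : LamInv R (Matrix (Fin n) (Fin n) R) lam := LamInv.transpose lam (Fin n) hlam
  let ψ : Matrix (Fin n) (Fin n) R ≃ₐ[R] Matrix (Fin n) (Fin n) R :=
    { toFun := fun M => t' (τ M)
      invFun := fun M => τ (t' M)
      left_inv := fun M => by
        show τ (t' (t' (τ M))) = M
        rw [t'.invol, τ.invol]
      right_inv := fun M => by
        show t' (τ (τ (t' M))) = M
        rw [τ.invol, t'.invol]
      map_mul' := fun M N => by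
        show t' (τ (M * N)) = t' (τ M) * t' (τ N)
        rw [τ.map_mul, t'.map_mul]
      map_add' := fun M N => by
        show t' (τ (M + N)) = t' (τ M) + t' (τ N)
        rw [τ.map_add, t'.map_add]
      commutes' := fun r => by
        show t' (τ (algebraMap R _ r)) = algebraMap R _ r
        rw [τ.map_algebraMap, t'.map_algebraMap, hlam] }
  have hψ : ∀ M, ψ (τ M) = t' M := fun M => by
    show t' (τ (τ M)) = t' M
    rw [τ.invol]
  have hAz : IsAzumayaDeg R (Matrix (Fin n) (Fin n) R) n :=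
    ⟨IsAzumaya.matrix R (Fin n), rankAtStalk_matrix n⟩
  obtain ⟨S', i1, i2, i3, i4, u, hu⟩ :=
    Groth.Agent.S17357.result S R lam hlam hfix (Matrix (Fin n) (Fin n) R) n hn hAz ψ
  obtain ⟨P', hP'⟩ := PrimeSpectrum.comap_surjective_of_faithfullyFlat (A := S) (B := S') p
  haveI := isScalarTower_RT (S := S) (R := R) (X := Matrix (Fin n) (Fin n) R) S'
  let R' := S' ⊗[S] R
  let τ' : LamInv R' (Matrix (Fin n) (Fin n) R') (bcL lam S') :=
    LamInv.transpose (bcL lam S') (Fin n) (bcL_invol lam S' hlam)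
  obtain ⟨fY, hfY, hfYτ⟩ := exists_fY S R lam hlam n hn S'
  let t'' : LamInv R' (Matrix (Fin n) (Fin n) R') (bcL lam S') := transportInv lam S' t' fY
  have ht''fY : ∀ x, t'' (fY x) = fY (t'.bc S lam S' x) := fun x => transportInv_apply lam S' t' fY x
  have hbc : ∀ x : S' ⊗[S] Matrix (Fin n) (Fin n) R,
      t'.bc S lam S' x = ↑u * τ.bc S lam S' x * ↑u⁻¹ := by
    intro x
    rw [← hu]
    induction x using TensorProduct.induction_on with
    | zero => simp
    | add x y hx hy => simp only [map_add, hx, hy]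
    | tmul s M =>
      rw [LamInv.bc_tmul, LamInv.bc_tmul, Algebra.TensorProduct.congr_apply,
        Algebra.TensorProduct.map_tmul]
      congr 1
      exact (hψ M).symm
  let gU : (Matrix (Fin n) (Fin n) R')ˣ := Units.map (fY : _ →* _) u
  have hgU : (gU : Matrix (Fin n) (Fin n) R') = fY ↑u := rfl
  have hgUi : ((gU⁻¹ : (Matrix (Fin n) (Fin n) R')ˣ) : Matrix (Fin n) (Fin n) R') = fY ↑u⁻¹ := rfl
  have ht'' : ∀ M, t'' M = (gU : Matrix (Fin n) (Fin n) R') * τ' M *
      ((gU⁻¹ : (Matrix (Fin n) (Fin n) R')ˣ) : Matrix (Fin n) (Fin n) R') := by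
    intro M
    obtain ⟨x, rfl⟩ := fY.surjective M
    rw [ht''fY, hbc, map_mul, map_mul, hfYτ, hgU, hgUi]
  have h2' : IsUnit (2 : S') := by
    have := h2.map (algebraMap S S')
    rwa [map_ofNat] at this
  have h1 : IsoNear (bcL lam S') P' (bcInv lam S' t') t'' :=
    IsoNear.of_locIsoEt (LocIsoEt.of_algEquiv S' (bcL lam S') (bcInv lam S' t') t'' fY
      (fun a => (ht''fY a).symm)) P'
  have key := isoNear_std_of_conj (bcL lam S') (bcL_invol lam S' hlam)
    (isFixedRing_bcL lam S' hfix) (hsq_of_etale hsq S') h2' n hn t'' gU ht'' P'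
  rw [← hP']
  rcases key with h | ⟨m, hm, h⟩
  · left
    refine IsoNear.of_tower S' P' t' τ ?_
    exact (h1.trans h).trans
      (IsoNear.of_locIsoEt (locIsoEt_bcInv_transpose lam hlam S' n hn) P').symm
  · right
    refine ⟨m, hm, ?_⟩
    subst hm
    refine IsoNear.of_tower S' P' t' (tauMinus lam hlam m) ?_
    exact (h1.trans h).trans
      (IsoNear.of_locIsoEt (locIsoEt_bcInv_tauMinus lam hlam S' m hn) P').symm

end LCmat

section LC
variable (S : Type u) [CommRing S] (R : Type v) [CommRing R] [Algebra S R]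
  (X : Type w) [Ring X] [Algebra S X] [Algebra R X] [IsScalarTower S R X] [IsAzumaya R X]

attribute [local instance] algRT

/-- **local classification**: with `2` invertible, every `lam`-involution of an Azumaya algebra
of degree `n` is, near every point of `Spec S`, isomorphic to the `lam`-transpose of the matrix
algebra or to the standard symplectic involution -/
theorem isoNear_std (lam : R ≃ₐ[S] R) (hlam : ∀ r, lam (lam r) = r)
    (hfix : RInv.IsFixedRing S R lam.toRingEquiv)
    (hsq : ∀ (S₁ : Type u) [CommRing S₁] [Algebra S S₁] [Algebra.Etale S S₁] (x : S₁ˣ),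
      ∃ (S₂ : Type u) (_ : CommRing S₂) (_ : Algebra S₁ S₂) (_ : Algebra.Etale S₁ S₂)
        (_ : Module.FaithfullyFlat S₁ S₂) (y : S₂), y * y = algebraMap S₁ S₂ ↑x)
    (h2 : IsUnit (2 : S)) (n : ℕ) (hn : 0 < n)
    (hrk : ∀ p : PrimeSpectrum R, Module.rankAtStalk X p = n ^ 2)
    (σ : LamInv R X lam) (p : PrimeSpectrum S) :
    IsoNear lam p σ (LamInv.transpose lam (Fin n) hlam) ∨
      ∃ m : ℕ, n = m * 2 ∧ IsoNear lam p σ (tauMinus lam hlam m) := by
  classical
  have hfix' : ∀ r, lam r = r → r ∈ Set.range (algebraMap S R) := fun r hr => (hfix.2 r).1 hr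
  obtain ⟨S₁, a1, a2, a3, a4, ϑ₁, hϑ₁⟩ := exists_cover_split S R X n fun p =>
    exists_local_split S R X lam hlam hfix.1 hfix' n hn hrk p
  obtain ⟨fX, -⟩ := exists_equivRT_of_split S R X n hn hrk S₁ ϑ₁ hϑ₁
  obtain ⟨P₁, hP₁⟩ := PrimeSpectrum.comap_surjective_of_faithfullyFlat (A := S) (B := S₁) p
  let τ : LamInv R (Matrix (Fin n) (Fin n) R) lam := LamInv.transpose lam (Fin n) hlam
  haveI := isScalarTower_RT (S := S) (R := R) (X := Matrix (Fin n) (Fin n) R) S₁
  haveI := isScalarTower_RT (S := S) (R := R) (X := X) S₁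
  let R' := S₁ ⊗[S] R
  let t'' : LamInv R' (Matrix (Fin n) (Fin n) R') (bcL lam S₁) := transportInv lam S₁ σ fX
  have ht''fX : ∀ x, t'' (fX x) = fX (σ.bc S lam S₁ x) := fun x => transportInv_apply lam S₁ σ fX x
  have h1 : IsoNear (bcL lam S₁) P₁ (bcInv lam S₁ σ) t'' :=
    IsoNear.of_locIsoEt (LocIsoEt.of_algEquiv S₁ (bcL lam S₁) (bcInv lam S₁ σ) t'' fX
      (fun a => (ht''fX a).symm)) P₁
  have h2' : IsUnit (2 : S₁) := by
    have := h2.map (algebraMap S S₁)
    rwa [map_ofNat] at this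
  have key := isoNear_std_of_matrix (bcL lam S₁) (bcL_invol lam S₁ hlam)
    (isFixedRing_bcL lam S₁ hfix) (hsq_of_etale hsq S₁) h2' n hn t'' P₁
  rw [← hP₁]
  rcases key with h | ⟨m, hm, h⟩
  · left
    refine IsoNear.of_tower S₁ P₁ σ τ ?_
    exact (h1.trans h).trans
      (IsoNear.of_locIsoEt (locIsoEt_bcInv_transpose lam hlam S₁ n hn) P₁).symm
  · right
    refine ⟨m, hm, ?_⟩
    subst hm
    refine IsoNear.of_tower S₁ P₁ σ (tauMinus lam hlam m) ?_
    exact (h1.trans h).trans
      (IsoNear.of_locIsoEt (locIsoEt_bcInv_tauMinus lam hlam S₁ m hn) P₁).symm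

end LC

end Groth.Agent.Lib.Helper25.AzInvLC
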