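import Mathlib
import Groth.Prelude.Def_AzInv
import Groth.Prelude.Def_W4c2azumayainvolQEt
import Groth.Agent.S17357
import Groth.Agent.Lib.Helper25.AzInvLC
import Groth.Agent.Lib.Helper25.AzInvAmp

/-!
# Rigidity of the type of an involution and the proof that involutions of the same type are
locally isomorphic (`2` invertible)
-/

set_option autoImplicit false
set_option linter.unusedSectionVars false
set_option linter.style.haveILetI false
set_option linter.dupNamespace false
universe u v w w' w''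
open scoped TensorProduct

namespace Groth.Agent.Lib.Helper25.AzInvRig
open AzInv Groth.Agent.Lib.Helper1.GeoNbhd Groth.Agent.Lib.Helper25.HermOdd
  Groth.Agent.Lib.Helper25.AzInvTower Groth.Agent.Lib.Helper25.AzInvCover
  Groth.Agent.Lib.Helper25.EtaleCover Groth.Agent.Lib.Helper25.IsoNear
  Groth.Agent.Lib.Helper25.AzInvOdd Groth.Agent.Lib.Helper25.HermCongr
  Groth.Agent.Lib.Helper25.SkewCongr Groth.Agent.Lib.Helper25.AzInvLC
  Groth.Agent.Lib.Helper25.AzInvAmp

section Rig
variable {S : Type u} [CommRing S] {R : Type v} [CommRing R] [Algebra S R] (lam : R ≃ₐ[S] R)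

attribute [local instance] algRT

theorem lamT_single {A : Type*} [CommRing A] (σ : A ≃+* A) {n : ℕ} (i j : Fin n) (a : A) :
    lamT σ (Matrix.single i j a) = Matrix.single j i (σ a) := by
  ext x y
  rw [lamT_apply, Matrix.single_apply, Matrix.single_apply]
  by_cases h : i = y ∧ j = x
  · rw [if_pos h, if_pos ⟨h.2, h.1⟩]
  · rw [if_neg h, if_neg (fun h' => h ⟨h'.2, h'.1⟩), map_zero]

/-- **rigidity**: if an algebra isomorphism of the matrix algebra carries the `lam`-transpose to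
its twist by a skew-hermitian invertible matrix, then étale-locally on `S` there is a skew
unit -/
theorem exists_skew_unit_of_intertwine (hlam : ∀ r, lam (lam r) = r)
    (hfix : RInv.IsFixedRing S R lam.toRingEquiv) (N : ℕ) (hN : 0 < N)
    (G Gi : Matrix (Fin N) (Fin N) R) (hGGi : G * Gi = 1) (hGiG : Gi * G = 1)
    (hsk : lamT lam.toRingEquiv Gi = -Gi)
    (φ : Matrix (Fin N) (Fin N) R ≃ₐ[R] Matrix (Fin N) (Fin N) R)
    (hφ : ∀ M, φ (lamT lam.toRingEquiv M) = G * lamT lam.toRingEquiv (φ M) * Gi) :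
    ∃ (S' : Type u) (_ : CommRing S') (_ : Algebra S S') (_ : Algebra.Etale S S')
      (_ : Module.FaithfullyFlat S S') (c : S' ⊗[S] R), IsUnit c ∧ bcL lam S' c = -c := by
  classical
  haveI : Nonempty (Fin N) := ⟨⟨0, hN⟩⟩
  have hAz : IsAzumayaDeg R (Matrix (Fin N) (Fin N) R) N :=
    ⟨IsAzumaya.matrix R (Fin N), rankAtStalk_matrix N⟩
  obtain ⟨S', i1, i2, i3, i4, u, hu⟩ :=
    Groth.Agent.S17357.result S R lam hlam hfix (Matrix (Fin N) (Fin N) R) N hN hAz φ
  refine ⟨S', i1, i2, i3, i4, ?_⟩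
  haveI := isScalarTower_RT (S := S) (R := R) (X := Matrix (Fin N) (Fin N) R) S'
  let R' := S' ⊗[S] R
  let σ' : R' ≃+* R' := (bcL lam S').toRingEquiv
  have hσ' : ∀ a, σ' (σ' a) = a := bcL_invol lam S' hlam
  let ι : R →ₐ[S] R' := inc (S := S) (R := R) S'
  obtain ⟨fY, hfY, -⟩ := exists_fY S R lam hlam N hN S'
  let g : Matrix (Fin N) (Fin N) R' := fY ↑u
  let gi : Matrix (Fin N) (Fin N) R' := fY ↑u⁻¹
  have hggi : g * gi = 1 := by
    show fY ↑u * fY ↑u⁻¹ = 1
    rw [← map_mul, Units.mul_inv, map_one]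
  have hgig : gi * g = 1 := by
    show fY ↑u⁻¹ * fY ↑u = 1
    rw [← map_mul, Units.inv_mul, map_one]
  have hfY1 : ∀ M : Matrix (Fin N) (Fin N) R, fY ((1 : S') ⊗ₜ[S] M) = M.map ι := by
    intro M
    rw [hfY, map_one, one_mul]
  -- the base change of `φ` is conjugation by `g`
  have key1 : ∀ M : Matrix (Fin N) (Fin N) R, (φ M).map ι = g * M.map ι * gi := by
    intro M
    have h1 := hu ((1 : S') ⊗ₜ[S] M)
    rw [Algebra.TensorProduct.congr_apply, Algebra.TensorProduct.map_tmul] at h1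
    have h2 := congrArg fY h1
    rw [map_mul, map_mul, hfY1] at h2
    rw [← hfY1]
    exact h2
  let G' : Matrix (Fin N) (Fin N) R' := G.map ι
  let Gi' : Matrix (Fin N) (Fin N) R' := Gi.map ι
  have hmapone : (1 : Matrix (Fin N) (Fin N) R).map ι = 1 :=
    Matrix.map_one _ (map_zero _) (map_one _)
  have hGGi' : G' * Gi' = 1 := by rw [← Matrix.map_mul, hGGi, hmapone]
  have hGiG' : Gi' * G' = 1 := by rw [← Matrix.map_mul, hGiG, hmapone]
  have hsk' : lamT σ' Gi' = -Gi' := by
    show lamT (bcL lam S').toRingEquiv (Gi.map (inc (S := S) (R := R) S')) = _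
    rw [lamT_inc, hsk]
    ext i j
    show ι (-Gi i j) = -ι (Gi i j)
    rw [map_neg]
  have hlg : lamT σ' g * lamT σ' gi = 1 := by rw [← lamT_mul, hgig, lamT_one]
  have hlg' : lamT σ' gi * lamT σ' g = 1 := by rw [← lamT_mul, hggi, lamT_one]
  -- the main identity
  have key2 : ∀ M : Matrix (Fin N) (Fin N) R,
      g * lamT σ' (M.map ι) * gi =
        G' * lamT σ' gi * lamT σ' (M.map ι) * lamT σ' g * Gi' := by
    intro M
    have h1 : (φ (lamT lam.toRingEquiv M)).map ι = g * lamT σ' (M.map ι) * gi := by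
      rw [key1]
      congr 2
    have h2 : (φ (lamT lam.toRingEquiv M)).map ι =
        G' * lamT σ' gi * lamT σ' (M.map ι) * lamT σ' g * Gi' := by
      rw [hφ, Matrix.map_mul, Matrix.map_mul]
      have h3 : (lamT lam.toRingEquiv (φ M)).map ι = lamT σ' ((φ M).map ι) :=
        (lamT_inc lam S' (φ M)).symm
      rw [h3, key1, lamT_mul, lamT_mul]
      simp only [mul_assoc]
      rfl
    rw [← h1, h2]
  let W : Matrix (Fin N) (Fin N) R' := lamT σ' g * Gi' * g
  have hWcomm : ∀ i j : Fin N, Commute (Matrix.single i j (1 : R')) W := by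
    intro i j
    have h1 := key2 (Matrix.single j i 1)
    have h2 : lamT σ' ((Matrix.single j i (1 : R)).map ι) = Matrix.single i j 1 := by
      rw [Matrix.map_single, lamT_single, map_one, map_one]
    rw [h2] at h1
    set Z : Matrix (Fin N) (Fin N) R' := Matrix.single i j 1
    show Z * W = W * Z
    calc Z * W = (lamT σ' g * (Gi' * G') * lamT σ' gi) * Z * W := by
          rw [hGiG', mul_one, hlg, one_mul]
      _ = lamT σ' g * Gi' * (G' * lamT σ' gi * Z * lamT σ' g * Gi') * g := by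
          simp only [W, mul_assoc]
      _ = lamT σ' g * Gi' * (g * Z * gi) * g := by rw [← h1]
      _ = W * Z * (gi * g) := by simp only [W, mul_assoc]
      _ = W * Z := by rw [hgig, mul_one]
  obtain ⟨c, hc⟩ := Matrix.mem_range_scalar_iff_commute_single'.2 hWcomm
  refine ⟨c, ?_, ?_⟩
  · -- `c` is a unit
    have hWu : IsUnit W := by
      refine ⟨⟨W, gi * G' * lamT σ' gi, ?_, ?_⟩, rfl⟩
      · calc W * (gi * G' * lamT σ' gi)
            = lamT σ' g * Gi' * (g * gi) * G' * lamT σ' gi := by simp only [W, mul_assoc]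
          _ = lamT σ' g * (Gi' * G') * lamT σ' gi := by rw [hggi, mul_one]; simp only [mul_assoc]
          _ = 1 := by rw [hGiG', mul_one, hlg]
      · calc gi * G' * lamT σ' gi * W
            = gi * G' * (lamT σ' gi * lamT σ' g) * Gi' * g := by simp only [W, mul_assoc]
          _ = gi * (G' * Gi') * g := by rw [hlg', mul_one]; simp only [mul_assoc]
          _ = 1 := by rw [hGGi', mul_one, hgig]
    rw [Matrix.isUnit_iff_isUnit_det, ← hc] at hWu
    have h1 : (Matrix.scalar (Fin N) c).det = c ^ N := by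
      rw [Matrix.scalar_apply, Matrix.det_diagonal, Finset.prod_const, Finset.card_univ,
        Fintype.card_fin]
    rw [h1] at hWu
    exact (isUnit_pow_iff (by omega)).1 hWu
  · -- `c` is skew
    have h1 : lamT σ' W = -W := by
      show lamT σ' (lamT σ' g * Gi' * g) = _
      rw [lamT_mul, lamT_mul, lamT_lamT σ' hσ', hsk']
      simp only [W, mul_assoc, Matrix.neg_mul, Matrix.mul_neg]
    rw [← hc] at h1
    have h2 := congrFun (congrFun h1 ⟨0, hN⟩) ⟨0, hN⟩
    rw [lamT_apply, Matrix.neg_apply, Matrix.scalar_apply, Matrix.diagonal_apply_eq] at h2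
    exact h2

end Rig


section Swap
variable {S : Type u} [CommRing S] {R : Type v} [CommRing R] [Algebra S R] (lam : R ≃ₐ[S] R)

attribute [local instance] algRT

/-- an isomorphism of the standard involutions near a point of an étale algebra descends -/
theorem isoNear_down (hlam : ∀ r, lam (lam r) = r)
    (T : Type u) [CommRing T] [Algebra S T] [Algebra.Etale S T] (P : PrimeSpectrum T) (m : ℕ)
    (hm : 0 < m * 2)
    (h : IsoNear (bcL lam T) P (tauMinus (bcL lam T) (bcL_invol lam T hlam) m)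
      (LamInv.transpose (bcL lam T) (Fin (m * 2)) (bcL_invol lam T hlam))) :
    IsoNear lam (PrimeSpectrum.comap (algebraMap S T) P) (tauMinus lam hlam m)
      (LamInv.transpose lam (Fin (m * 2)) hlam) := by
  haveI := isScalarTower_RT (S := S) (R := R) (X := Matrix (Fin (m * 2)) (Fin (m * 2)) R) T
  refine IsoNear.of_tower T P (tauMinus lam hlam m) (LamInv.transpose lam (Fin (m * 2)) hlam) ?_
  exact ((IsoNear.of_locIsoEt (locIsoEt_bcInv_tauMinus lam hlam T m hm) P).trans h).trans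
    (IsoNear.of_locIsoEt (locIsoEt_bcInv_transpose lam hlam T (m * 2) hm) P).symm

/-- **a skew unit near a point swaps the two standard involutions** -/
theorem isoNear_tauMinus_transpose_of_skew_unit (hlam : ∀ r, lam (lam r) = r)
    (hfix : RInv.IsFixedRing S R lam.toRingEquiv)
    (hsq : ∀ (S₁ : Type u) [CommRing S₁] [Algebra S S₁] [Algebra.Etale S S₁] (x : S₁ˣ),
      ∃ (S₂ : Type u) (_ : CommRing S₂) (_ : Algebra S₁ S₂) (_ : Algebra.Etale S₁ S₂)
        (_ : Module.FaithfullyFlat S₁ S₂) (y : S₂), y * y = algebraMap S₁ S₂ ↑x)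
    (h2 : IsUnit (2 : S))
    (S' : Type u) [CommRing S'] [Algebra S S'] [Algebra.Etale S S'] (P' : PrimeSpectrum S')
    (c : S' ⊗[S] R) (hcu : IsUnit c) (hc : bcL lam S' c = -c) (m : ℕ) (hm : 0 < m * 2) :
    IsoNear lam (PrimeSpectrum.comap (algebraMap S S') P') (tauMinus lam hlam m)
      (LamInv.transpose lam (Fin (m * 2)) hlam) := by
  classical
  haveI := P'.isPrime
  let R' := S' ⊗[S] R
  have hlam' : ∀ a : R', bcL lam S' (bcL lam S' a) = a := bcL_invol lam S' hlam
  have hfix' := isFixedRing_bcL lam S' hfix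
  have hsq' := hsq_of_etale hsq S'
  have h2' : IsUnit (2 : S') := by
    have := h2.map (algebraMap S S')
    rwa [map_ofNat] at this
  let h : Matrix (Fin (m * 2)) (Fin (m * 2)) R' := c • Jn R' m
  have herm : (h.map (bcL lam S')).transpose = h := by
    show lamT (bcL lam S').toRingEquiv (c • Jn R' m) = c • Jn R' m
    rw [lamT_smul, lamT_Jn, smul_neg, ← neg_smul]
    congr 1
    show -(bcL lam S' c) = c
    rw [hc, neg_neg]
  have hu : IsUnit h := isUnit_smul_matrix hcu (JnU R' m).isUnit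
  have hh : IsUnit (h.map (inc (S := S') (R := R') (Localization.AtPrime P'.asIdeal))) :=
    hu.map ((inc (S := S') (R := R') (Localization.AtPrime P'.asIdeal)).toRingHom.mapMatrix :
      Matrix (Fin (m * 2)) (Fin (m * 2)) R' →+* _)
  obtain ⟨f, hfp, T, i1, i2, i3, hT, hC⟩ := exists_etale_nbhd_congrOne (bcL lam S') hlam' hfix' hsq'
    P'.asIdeal (m * 2) (Or.inr h2') h hh herm
  have hiso := isoOver_of_congr (bcL lam S') hlam' (m * 2) hm (tauMinus (bcL lam S') hlam' m)
    (LamInv.transpose (bcL lam S') (Fin (m * 2)) hlam') (Jn R' m) (-Jn R' m) 1 1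
    (by rw [Matrix.neg_mul, Jn_mul_Jn, neg_neg]) (one_mul 1)
    (fun M => tauMinus_apply (bcL lam S') hlam' m M) (fun M => by rw [one_mul, mul_one]) c T hC
  exact isoNear_down lam hlam S' P' m hm ⟨T, i1, i2, i3, hT P' hfp, hiso⟩

/-- rigidity and swap combined -/
theorem isoNear_tauMinus_transpose_of_intertwine (hlam : ∀ r, lam (lam r) = r)
    (hfix : RInv.IsFixedRing S R lam.toRingEquiv)
    (hsq : ∀ (S₁ : Type u) [CommRing S₁] [Algebra S S₁] [Algebra.Etale S S₁] (x : S₁ˣ),
      ∃ (S₂ : Type u) (_ : CommRing S₂) (_ : Algebra S₁ S₂) (_ : Algebra.Etale S₁ S₂)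
        (_ : Module.FaithfullyFlat S₁ S₂) (y : S₂), y * y = algebraMap S₁ S₂ ↑x)
    (h2 : IsUnit (2 : S)) (N : ℕ) (hN : 0 < N)
    (G Gi : Matrix (Fin N) (Fin N) R) (hGGi : G * Gi = 1) (hGiG : Gi * G = 1)
    (hsk : lamT lam.toRingEquiv Gi = -Gi)
    (φ : Matrix (Fin N) (Fin N) R ≃ₐ[R] Matrix (Fin N) (Fin N) R)
    (hφ : ∀ M, φ (lamT lam.toRingEquiv M) = G * lamT lam.toRingEquiv (φ M) * Gi)
    (p : PrimeSpectrum S) (m : ℕ) (hm : 0 < m * 2) :
    IsoNear lam p (tauMinus lam hlam m) (LamInv.transpose lam (Fin (m * 2)) hlam) := by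
  obtain ⟨S', i1, i2, i3, i4, c, hcu, hc⟩ :=
    exists_skew_unit_of_intertwine lam hlam hfix N hN G Gi hGGi hGiG hsk φ hφ
  obtain ⟨P', rfl⟩ := PrimeSpectrum.comap_surjective_of_faithfullyFlat (A := S) (B := S') p
  exact isoNear_tauMinus_transpose_of_skew_unit lam hlam hfix hsq h2 S' P' c hcu hc m hm

end Swap


section Mix
variable {S : Type u} [CommRing S] {R : Type v} [CommRing R] [Algebra S R] (lam : R ≃ₐ[S] R)

attribute [local instance] algRT

/-- **mixed types force a swap**: if, over an étale neighbourhood of a point, the `lam`-transpose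
is isomorphic to a twist of the `lam`-transpose by a skew-hermitian invertible matrix, then near
that point the two standard involutions are isomorphic -/
theorem isoNear_tauMinus_transpose_of_isoOver (hlam : ∀ r, lam (lam r) = r)
    (hfix : RInv.IsFixedRing S R lam.toRingEquiv)
    (hsq : ∀ (S₁ : Type u) [CommRing S₁] [Algebra S S₁] [Algebra.Etale S S₁] (x : S₁ˣ),
      ∃ (S₂ : Type u) (_ : CommRing S₂) (_ : Algebra S₁ S₂) (_ : Algebra.Etale S₁ S₂)
        (_ : Module.FaithfullyFlat S₁ S₂) (y : S₂), y * y = algebraMap S₁ S₂ ↑x)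
    (h2 : IsUnit (2 : S)) (N N' : ℕ) (hN : 0 < N) (hN' : 0 < N')
    (t₂ : LamInv R (Matrix (Fin N') (Fin N') R) lam)
    (G Gi : Matrix (Fin N') (Fin N') R) (hGGi : G * Gi = 1) (hGiG : Gi * G = 1)
    (hsk : lamT lam.toRingEquiv Gi = -Gi)
    (ht₂ : ∀ M, t₂ M = G * LamInv.transpose lam (Fin N') hlam M * Gi)
    (T : Type u) [CommRing T] [Algebra S T] [Algebra.Etale S T] (P : PrimeSpectrum T)
    (h : IsoOver R T ((LamInv.transpose lam (Fin N) hlam).linS S lam) (t₂.linS S lam))
    (m : ℕ) (hm : 0 < m * 2) :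
    IsoNear lam (PrimeSpectrum.comap (algebraMap S T) P) (tauMinus lam hlam m)
      (LamInv.transpose lam (Fin (m * 2)) hlam) := by
  classical
  obtain ⟨f, hf1, hf2⟩ := h
  let R' := T ⊗[S] R
  haveI := isScalarTower_RT (S := S) (R := R) (X := Matrix (Fin N) (Fin N) R) T
  haveI := isScalarTower_RT (S := S) (R := R) (X := Matrix (Fin N') (Fin N') R) T
  have hlam' : ∀ a : R', bcL lam T (bcL lam T a) = a := bcL_invol lam T hlam
  have hfix' := isFixedRing_bcL lam T hfix
  haveI : Nontrivial T := P.nontrivial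
  haveI : Nontrivial R' := hfix'.1.nontrivial
  have h2' : IsUnit (2 : T) := by
    have := h2.map (algebraMap S T)
    rwa [map_ofNat] at this
  let σ' : R' ≃+* R' := (bcL lam T).toRingEquiv
  let ι : R →ₐ[S] R' := inc (S := S) (R := R) T
  -- upgrade `f` to an `R'`-algebra isomorphism
  have hcomm : ∀ a : R', f (algebraMap R' (T ⊗[S] Matrix (Fin N) (Fin N) R) a) =
      algebraMap R' (T ⊗[S] Matrix (Fin N') (Fin N') R) a := by
    intro a
    induction a using TensorProduct.induction_on with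
    | zero => simp
    | add x y hx hy => rw [map_add, map_add, hx, hy, map_add]
    | tmul s r =>
      rw [algebraMap_RT_apply, baseMap_tmul, algebraMap_RT_apply, baseMap_tmul]
      have h3 : ∀ (Z : Type _) [Ring Z] [Algebra S Z] (z : Z),
          (s ⊗ₜ[S] z : T ⊗[S] Z) = s • ((1 : T) ⊗ₜ[S] z) := by
        intro Z _ _ z
        rw [TensorProduct.smul_tmul', smul_eq_mul, mul_one]
      rw [h3, map_smul, hf1, ← h3]
  let f' : T ⊗[S] Matrix (Fin N) (Fin N) R ≃ₐ[R'] T ⊗[S] Matrix (Fin N') (Fin N') R :=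
    AlgEquiv.ofRingEquiv (f := f.toRingEquiv) hcomm
  have hf' : ∀ x, f' x = f x := fun _ => rfl
  obtain ⟨fY, hfY, hfYτ⟩ := exists_fY S R lam hlam N hN T
  obtain ⟨fY', hfY', hfYτ'⟩ := exists_fY S R lam hlam N' hN' T
  let φ₀ : Matrix (Fin N) (Fin N) R' ≃ₐ[R'] Matrix (Fin N') (Fin N') R' :=
    fY.symm.trans (f'.trans fY')
  have hφ₀ : ∀ x, φ₀ (fY x) = fY' (f x) := by
    intro x
    show fY' (f' (fY.symm (fY x))) = _
    rw [fY.symm_apply_apply, hf']
  have hNN : N = N' := by
    have h1 := φ₀.toLinearEquiv.finrank_eq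
    rw [Module.finrank_matrix, Module.finrank_matrix, Module.finrank_self, mul_one, mul_one,
      Fintype.card_fin, Fintype.card_fin] at h1
    exact Nat.mul_self_inj.1 h1
  subst hNN
  let G' : Matrix (Fin N) (Fin N) R' := G.map ι
  let Gi' : Matrix (Fin N) (Fin N) R' := Gi.map ι
  have hmapone : (1 : Matrix (Fin N) (Fin N) R).map ι = 1 :=
    Matrix.map_one _ (map_zero _) (map_one _)
  have hGGi' : G' * Gi' = 1 := by rw [← Matrix.map_mul, hGGi, hmapone]
  have hGiG' : Gi' * G' = 1 := by rw [← Matrix.map_mul, hGiG, hmapone]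
  have hsk' : lamT σ' Gi' = -Gi' := by
    show lamT (bcL lam T).toRingEquiv (Gi.map (inc (S := S) (R := R) T)) = _
    rw [lamT_inc, hsk]
    ext i j
    show ι (-Gi i j) = -ι (Gi i j)
    rw [map_neg]
  have hφ : ∀ M, φ₀ (lamT σ' M) = G' * lamT σ' (φ₀ M) * Gi' := by
    intro M
    obtain ⟨x, rfl⟩ := fY.surjective M
    have h1 : lamT σ' (fY x) = fY ((LamInv.transpose lam (Fin N) hlam).bc S lam T x) :=
      (hfYτ x).symm
    rw [h1, hφ₀, hφ₀]
    have h3 : f ((LamInv.transpose lam (Fin N) hlam).bc S lam T x) = t₂.bc S lam T (f x) := hf2 x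
    rw [h3, fY_bc_conj lam hlam N T fY' hfY' hfYτ' t₂ G Gi ht₂]
    rfl
  have key := isoNear_tauMinus_transpose_of_intertwine (bcL lam T) hlam' hfix'
    (hsq_of_etale hsq T) h2' N hN G' Gi' hGGi' hGiG' hsk' φ₀ hφ P m hm
  exact isoNear_down lam hlam T P m hm key

end Mix


section Main
variable (S : Type u) [CommRing S] (R : Type v) [CommRing R] [Algebra S R]

/-- **same type implies locally isomorphic** (`2` invertible) -/
theorem locIsoEt_of_sameType_of_two (lam : R ≃ₐ[S] R) (hlam : ∀ r, lam (lam r) = r)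
    (hfix : RInv.IsFixedRing S R lam.toRingEquiv)
    (hsq : ∀ (S₁ : Type u) [CommRing S₁] [Algebra S S₁] [Algebra.Etale S S₁] (x : S₁ˣ),
      ∃ (S₂ : Type u) (_ : CommRing S₂) (_ : Algebra S₁ S₂) (_ : Algebra.Etale S₁ S₂)
        (_ : Module.FaithfullyFlat S₁ S₂) (y : S₂), y * y = algebraMap S₁ S₂ ↑x)
    (h2 : IsUnit (2 : S)) (n : ℕ) (hn : 0 < n)
    (A : Type w) [Ring A] [Algebra S A] [Algebra R A] [IsScalarTower S R A]
    (A' : Type w') [Ring A'] [Algebra S A'] [Algebra R A'] [IsScalarTower S R A']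
    (hA : IsAzumayaDeg R A n) (hA' : IsAzumayaDeg R A' n)
    (t : LamInv R A lam) (t' : LamInv R A' lam) (h : SameType S lam t t') :
    LocIsoEt S lam t t' := by
  classical
  obtain ⟨hAz, hrk⟩ := hA
  obtain ⟨hAz', hrk'⟩ := hA'
  haveI := hAz
  haveI := hAz'
  obtain ⟨k, k', hk, hk', hloc⟩ := h
  apply locIsoEt_of_isoNear
  intro p
  have hmat : IsoNear lam p (t.matrix (Fin k)) (t'.matrix (Fin k')) := IsoNear.of_locIsoEt hloc p
  have mix : ∀ (m k₁ k₂ : ℕ), 0 < k₁ → 0 < k₂ → 0 < m * 2 →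
      IsoNear lam p ((LamInv.transpose lam (Fin (m * 2)) hlam).matrix (Fin k₁))
        ((tauMinus lam hlam m).matrix (Fin k₂)) →
      IsoNear lam p (tauMinus lam hlam m) (LamInv.transpose lam (Fin (m * 2)) hlam) := by
    intro m k₁ k₂ hk₁ hk₂ hm hnear
    let t₂ := transportAlg ((tauMinus lam hlam m).matrix (Fin k₂)) (Xi R k₂ (m * 2))
    have e1 : IsoNear lam p ((LamInv.transpose lam (Fin (m * 2)) hlam).matrix (Fin k₁))
        (LamInv.transpose lam (Fin (k₁ * (m * 2))) hlam) :=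
      IsoNear.of_locIsoEt (LocIsoEt.of_algEquiv S lam _ _ (Xi R k₁ (m * 2))
        (fun M => Xi_matrix_transpose lam hlam k₁ (m * 2) M)) p
    have e2 : IsoNear lam p ((tauMinus lam hlam m).matrix (Fin k₂)) t₂ :=
      IsoNear.of_locIsoEt (LocIsoEt.of_algEquiv S lam _ _ (Xi R k₂ (m * 2))
        (isInvHom_transportAlg _ _)) p
    obtain ⟨T, i1, i2, i3, ⟨P, rfl⟩, hiso⟩ := (e1.symm.trans hnear).trans e2
    refine isoNear_tauMinus_transpose_of_isoOver lam hlam hfix hsq h2 (k₁ * (m * 2))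
      (k₂ * (m * 2)) (Nat.mul_pos hk₁ hm) (Nat.mul_pos hk₂ hm) t₂
      (Xi R k₂ (m * 2) (Matrix.diagonal fun _ => Jn R m))
      (Xi R k₂ (m * 2) (Matrix.diagonal fun _ => -Jn R m)) ?_ ?_ ?_ ?_ T P hiso m hm
    · rw [Xi_diagonal_mul, Matrix.mul_neg, Jn_mul_Jn, neg_neg, Xi_diagonal_one]
    · rw [Xi_diagonal_mul, Matrix.neg_mul, Jn_mul_Jn, neg_neg, Xi_diagonal_one]
    · show LamInv.transpose lam (Fin (k₂ * (m * 2))) hlam
        (Xi R k₂ (m * 2) (Matrix.diagonal fun _ => -Jn R m)) = _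
      rw [transpose_Xi_diagonal, LamInv.map_neg]
      have h3 : LamInv.transpose lam (Fin (m * 2)) hlam (Jn R m) = -Jn R m :=
        lamT_Jn lam.toRingEquiv m
      rw [h3, neg_neg, Xi_diagonal_neg, neg_neg]
    · intro M
      exact transportAlg_matrix_conj lam hlam k₂ (m * 2) (tauMinus lam hlam m) (Jn R m) (-Jn R m)
        (fun M => tauMinus_apply lam hlam m M) M
  rcases isoNear_std S R A lam hlam hfix hsq h2 n hn hrk t p with h₁ | ⟨m, hm, h₁⟩ <;>
  rcases isoNear_std S R A' lam hlam hfix hsq h2 n hn hrk' t' p with h₂ | ⟨m', hm', h₂⟩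
  · exact h₁.trans h₂.symm
  · subst hm'
    have hnear : IsoNear lam p ((LamInv.transpose lam (Fin (m' * 2)) hlam).matrix (Fin k))
        ((tauMinus lam hlam m').matrix (Fin k')) :=
      ((IsoNear.matrix lam (Fin k) h₁).symm.trans hmat).trans (IsoNear.matrix lam (Fin k') h₂)
    have hsw := mix m' k k' hk hk' hn hnear
    exact (h₁.trans hsw.symm).trans h₂.symm
  · subst hm
    have hnear : IsoNear lam p ((LamInv.transpose lam (Fin (m * 2)) hlam).matrix (Fin k'))
        ((tauMinus lam hlam m).matrix (Fin k)) :=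
      ((IsoNear.matrix lam (Fin k') h₂).symm.trans hmat.symm).trans (IsoNear.matrix lam (Fin k) h₁)
    have hsw := mix m k' k hk' hk hn hnear
    exact (h₁.trans hsw).trans h₂.symm
  · have hmm : m = m' := by omega
    subst hmm
    exact h₁.trans h₂.symm

end Main

end Groth.Agent.Lib.Helper25.AzInvRig
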