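import Mathlib
import Groth.Prelude.Def_AzInv
import Groth.Prelude.Def_W4c2azumayainvolQEt
import Groth.Agent.Lib.Helper25.AzInvRig

/-!
# Ramified points: no skew units, quadratic etale criterion, disjointness of the two types
-/

set_option autoImplicit false
set_option linter.unusedSectionVars false
set_option linter.style.haveILetI false
set_option linter.dupNamespace false
universe u v w w' w''
open scoped TensorProduct

namespace Groth.Agent.Lib.Helper25.AzInvRam
open AzInv Groth.Agent.Lib.Helper1.GeoNbhd Groth.Agent.Lib.Helper25.HermOdd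
  Groth.Agent.Lib.Helper25.AzInvTower Groth.Agent.Lib.Helper25.AzInvCover
  Groth.Agent.Lib.Helper25.EtaleCover Groth.Agent.Lib.Helper25.IsoNear
  Groth.Agent.Lib.Helper25.AzInvOdd Groth.Agent.Lib.Helper25.HermCongr
  Groth.Agent.Lib.Helper25.SkewCongr Groth.Agent.Lib.Helper25.AzInvLC
  Groth.Agent.Lib.Helper25.AzInvAmp Groth.Agent.Lib.Helper25.AzInvRig

section Quad
variable {S : Type u} [CommRing S] {R : Type v} [CommRing R] [Algebra S R]

/-- a ring with involution in which `2` is invertible and which contains a skew unit is a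
quadratic étale algebra over its fixed ring -/
theorem isQuadEtale_of_skew_unit (lam : R ≃+* R) (hlam : ∀ r, lam (lam r) = r)
    (hfix : RInv.IsFixedRing S R lam) (h2 : IsUnit (2 : S)) (c : R) (hcu : IsUnit c)
    (hc : lam c = -c) : RInv.IsQuadEtale S R := by
  classical
  obtain ⟨t, ht⟩ := h2.exists_right_inv
  obtain ⟨ci, hci⟩ := hcu.exists_right_inv
  have hlamS : ∀ s, lam (algebraMap S R s) = algebraMap S R s := fun s => (hfix.2 _).2 ⟨s, rfl⟩
  have ht' : (2 : R) * algebraMap S R t = 1 := by
    rw [← map_ofNat (algebraMap S R) 2, ← map_mul, ht, map_one]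
  have hlci : lam ci = -ci := by
    have h1 : lam c * lam ci = 1 := by rw [← map_mul, hci, map_one]
    rw [hc] at h1
    calc lam ci = (c * ci) * lam ci := by rw [hci, one_mul]
      _ = -ci * (-c * lam ci) := by ring
      _ = -ci := by rw [h1, mul_one]
  let f : (Fin 2 → S) →ₗ[S] R :=
    (LinearMap.proj 0).smulRight (1 : R) + (LinearMap.proj 1).smulRight c
  have hf : ∀ v, f v = algebraMap S R (v 0) + algebraMap S R (v 1) * c := by
    intro v
    show v 0 • (1 : R) + v 1 • c = _
    rw [Algebra.smul_def, Algebra.smul_def, mul_one]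
  have hinj : Function.Injective f := by
    rw [injective_iff_map_eq_zero]
    intro v hv
    rw [hf] at hv
    have hv' : algebraMap S R (v 0) - algebraMap S R (v 1) * c = 0 := by
      have := congrArg lam hv
      rw [map_add, map_mul, hlamS, hlamS, hc, map_zero] at this
      linear_combination this
    have h0 : algebraMap S R (v 0) = 0 := by
      have h3 : (2 : R) * algebraMap S R (v 0) = 0 := by linear_combination hv + hv'
      calc algebraMap S R (v 0) = (2 * algebraMap S R t) * algebraMap S R (v 0) := by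
            rw [ht', one_mul]
        _ = algebraMap S R t * (2 * algebraMap S R (v 0)) := by ring
        _ = 0 := by rw [h3, mul_zero]
    have h1 : algebraMap S R (v 1) = 0 := by
      have h3 : algebraMap S R (v 1) * c = 0 := by linear_combination hv - h0
      calc algebraMap S R (v 1) = algebraMap S R (v 1) * c * ci := by rw [mul_assoc, hci, mul_one]
        _ = 0 := by rw [h3, zero_mul]
    ext i
    fin_cases i
    · exact hfix.1 (h0.trans (map_zero _).symm)
    · exact hfix.1 (h1.trans (map_zero _).symm)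
  have hsurj : Function.Surjective f := by
    intro r
    obtain ⟨a, ha⟩ : (r + lam r) * algebraMap S R t ∈ Set.range (algebraMap S R) := by
      refine (hfix.2 _).1 ?_
      rw [map_mul, map_add, hlam, hlamS, add_comm]
    obtain ⟨b, hb⟩ : (r - lam r) * ci * algebraMap S R t ∈ Set.range (algebraMap S R) := by
      refine (hfix.2 _).1 ?_
      rw [map_mul, map_mul, map_sub, hlam, hlamS, hlci]
      ring
    refine ⟨![a, b], ?_⟩
    rw [hf]
    show algebraMap S R a + algebraMap S R b * c = r
    rw [ha, hb]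
    have hcic : ci * c = 1 := by rw [mul_comm, hci]
    calc (r + lam r) * algebraMap S R t + (r - lam r) * ci * algebraMap S R t * c
        = (r + lam r) * algebraMap S R t + (r - lam r) * algebraMap S R t * (ci * c) := by ring
      _ = r * (2 * algebraMap S R t) := by rw [hcic]; ring
      _ = r := by rw [ht', mul_one]
  let e : (Fin 2 → S) ≃ₗ[S] R := LinearEquiv.ofBijective f ⟨hinj, hsurj⟩
  haveI : Module.Finite S R := Module.Finite.equiv e
  haveI : Module.Free S R := Module.Free.of_equiv e
  refine ⟨inferInstance, inferInstance, ⟨?_⟩, fun p => ?_⟩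
  · -- formally unramified
    have hD : ∀ r : R, KaehlerDifferential.D S R r = 0 := by
      have hDc : KaehlerDifferential.D S R c = 0 := by
        obtain ⟨d, hd⟩ : c * c ∈ Set.range (algebraMap S R) := by
          refine (hfix.2 _).1 ?_
          rw [map_mul, hc]
          ring
        have h1 : KaehlerDifferential.D S R (c * c) = 0 := by
          rw [← hd]
          exact (KaehlerDifferential.D S R).map_algebraMap d
        rw [Derivation.leibniz] at h1
        have h3 : (2 * c) • KaehlerDifferential.D S R c = 0 := by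
          rw [← h1, mul_smul, two_smul]
        calc KaehlerDifferential.D S R c
            = ((algebraMap S R t * ci) * (2 * c)) • KaehlerDifferential.D S R c := by
              have : (algebraMap S R t * ci) * (2 * c) = 1 := by
                calc (algebraMap S R t * ci) * (2 * c) = (2 * algebraMap S R t) * (c * ci) := by ring
                  _ = 1 := by rw [ht', hci, mul_one]
              rw [this, one_smul]
          _ = 0 := by rw [mul_smul, h3, smul_zero]
      intro r
      obtain ⟨v, rfl⟩ := hsurj r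
      rw [hf, map_add, Derivation.leibniz, hDc, smul_zero, zero_add]
      rw [(KaehlerDifferential.D S R).map_algebraMap, (KaehlerDifferential.D S R).map_algebraMap,
        smul_zero, add_zero]
    refine ⟨fun x y => ?_⟩
    have htop : ∀ z : Ω[R⁄S], z = 0 := by
      intro z
      have hz : z ∈ Submodule.span R (Set.range (KaehlerDifferential.D S R)) := by
        rw [KaehlerDifferential.span_range_derivation]; trivial
      refine Submodule.span_induction ?_ rfl ?_ ?_ hz
      · rintro _ ⟨r, rfl⟩
        exact hD r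
      · intro a b _ _ ha hb
        rw [ha, hb, add_zero]
      · intro a b _ hb
        rw [hb, smul_zero]
    rw [htop x, htop y]
  · haveI : Nontrivial S := p.nontrivial
    have := congrFun (Module.rankAtStalk_eq_finrank_of_free (R := S) (M := R)) p
    rw [this, ← e.finrank_eq, Module.finrank_fin_fun]
    rfl

end Quad


section Ram
variable {S : Type u} [CommRing S] {R : Type v} [CommRing R] [Algebra S R] (lam : R ≃ₐ[S] R)

/-- if the localisation at `p` is not quadratic étale, then `p` is ramified (`2` invertible) -/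
theorem ramAt_of_not_isQuadEtale (hlam : ∀ r, lam (lam r) = r)
    (hfix : RInv.IsFixedRing S R lam.toRingEquiv) (h2 : IsUnit (2 : S)) (p : Ideal S) [p.IsPrime]
    (hnq : ¬ RInv.IsQuadEtale (Localization.AtPrime p) (Localization.AtPrime p ⊗[S] R)) :
    RamAt lam p := by
  by_contra hnr
  obtain ⟨u, hu, huu⟩ := exists_skew_unit_of_not_ramAt lam hlam hfix p hnr
  apply hnq
  have hF := isFixedRing_bcL lam (Localization.AtPrime p) hfix
  have h2' : IsUnit (2 : Localization.AtPrime p) := by
    have := h2.map (algebraMap S (Localization.AtPrime p))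
    rwa [map_ofNat] at this
  refine isQuadEtale_of_skew_unit (bcL lam (Localization.AtPrime p)).toRingEquiv
    (bcL_invol lam (Localization.AtPrime p) hlam) hF h2' _ huu ?_
  show bcL lam (Localization.AtPrime p) ((1 : Localization.AtPrime p) ⊗ₜ[S] u) = _
  rw [bcL_tmul, hu, TensorProduct.tmul_neg]
  rfl

/-- at a ramified prime there is a prime of `R` above it containing all `lam r - r` -/
theorem exists_prime_of_ramAt (hlam : ∀ r, lam (lam r) = r)
    (hfix : RInv.IsFixedRing S R lam.toRingEquiv) (p : Ideal S) [p.IsPrime]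
    (hram : RamAt lam p) :
    ∃ q : Ideal R, q.IsPrime ∧ q.comap (algebraMap S R) = p ∧ ∀ r, lam r - r ∈ q := by
  classical
  let B := Localization.AtPrime p
  let A := B ⊗[S] R
  have hF : RInv.IsFixedRing B A (bcL lam B).toRingEquiv := isFixedRing_bcL lam B hfix
  haveI : Nontrivial A := hF.1.nontrivial
  let ι : R →ₐ[S] A := inc (S := S) (R := R) B
  haveI hint : Algebra.IsIntegral B A :=
    isIntegral_of_involution B A (bcL lam B) (bcL_invol lam B hlam) (fun x hx => (hF.2 x).1 hx)
  obtain ⟨m, hm⟩ := Ideal.exists_maximal A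
  have hcm : (m.comap (algebraMap B A)) = IsLocalRing.maximalIdeal B :=
    IsLocalRing.eq_maximalIdeal (Ideal.isMaximal_comap_of_isIntegral_of_isMaximal m)
  refine ⟨m.comap (ι : R →+* A), Ideal.comap_isPrime _ _, ?_, fun r => ?_⟩
  · rw [Ideal.comap_comap]
    have h1 : ((ι : R →+* A).comp (algebraMap S R)) = (algebraMap B A).comp (algebraMap S B) := by
      ext s
      exact one_tmul_algebraMap B s
    rw [h1, ← Ideal.comap_comap, hcm]
    exact IsLocalization.AtPrime.under_maximalIdeal B p
  · rw [Ideal.mem_comap]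
    have h1 : (ι : R →+* A) (lam r - r) = bcL lam B (ι r) - ι r := by
      show ι (lam r - r) = _
      rw [map_sub]
      congr 1
    rw [h1]
    have h3 := hram (ι r)
    rw [← Ideal.jacobson_bot, Ideal.jacobson, Ideal.mem_sInf] at h3
    exact h3 ⟨bot_le, hm⟩

/-- the tensor product of two algebras having primes over the same prime is nontrivial -/
theorem nontrivial_tensor_of_comap_eq (T₁ : Type*) (T₂ : Type*) [CommRing T₁] [CommRing T₂]
    [Algebra S T₁] [Algebra S T₂] (P₁ : Ideal T₁) [P₁.IsPrime] (P₂ : Ideal T₂) [P₂.IsPrime]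
    (h : P₁.comap (algebraMap S T₁) = P₂.comap (algebraMap S T₂)) : Nontrivial (T₁ ⊗[S] T₂) := by
  let p : PrimeSpectrum S := PrimeSpectrum.comap (algebraMap S T₁) ⟨P₁, inferInstance⟩
  have h₁ : p ∈ Set.range (PrimeSpectrum.comap (algebraMap S T₁)) := ⟨_, rfl⟩
  have h₂ : p ∈ Set.range (PrimeSpectrum.comap (algebraMap S T₂)) :=
    ⟨⟨P₂, inferInstance⟩, PrimeSpectrum.ext h.symm⟩
  let k := p.asIdeal.ResidueField
  rw [← PrimeSpectrum.nontrivial_iff_mem_rangeComap] at h₁ h₂
  haveI := h₁
  haveI := h₂
  haveI : Nontrivial ((k ⊗[S] T₁) ⊗[k] (k ⊗[S] T₂)) :=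
    (Module.FaithfullyFlat.nontrivial_tensorProduct_iff_right k (k ⊗[S] T₁)).2 inferInstance
  haveI : Nontrivial ((k ⊗[S] T₁) ⊗[S] T₂) :=
    (Algebra.TensorProduct.cancelBaseChange S k k (k ⊗[S] T₁) T₂).toEquiv.symm.nontrivial
  haveI : Nontrivial (k ⊗[S] (T₁ ⊗[S] T₂)) :=
    (Algebra.TensorProduct.assoc S S S k T₁ T₂).toEquiv.symm.nontrivial
  obtain ⟨q, -⟩ := (PrimeSpectrum.nontrivial_iff_mem_rangeComap (S := T₁ ⊗[S] T₂) p).1 inferInstance
  exact q.nontrivial

/-- **no skew units over a ramified point** (`2` invertible) -/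
theorem not_skew_unit_of_ramAt (hlam : ∀ r, lam (lam r) = r)
    (hfix : RInv.IsFixedRing S R lam.toRingEquiv) (h2 : IsUnit (2 : S)) (p : Ideal S) [p.IsPrime]
    (hram : RamAt lam p) (S' : Type*) [CommRing S'] [Algebra S S'] (P' : Ideal S') [P'.IsPrime]
    (hP' : P'.comap (algebraMap S S') = p) (c : S' ⊗[S] R) (hcu : IsUnit c)
    (hc : bcL lam S' c = -c) : False := by
  classical
  obtain ⟨q, hqp, hq, hlq⟩ := exists_prime_of_ramAt lam hlam hfix p hram
  haveI := hqp
  haveI : Nontrivial (S' ⊗[S] (R ⧸ q)) := by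
    refine nontrivial_tensor_of_comap_eq S' (R ⧸ q) P' (⊥ : Ideal (R ⧸ q)) ?_
    rw [hP', ← hq]
    have h1 : algebraMap S (R ⧸ q) = (Ideal.Quotient.mk q).comp (algebraMap S R) := rfl
    rw [h1, ← Ideal.comap_comap, ← RingHom.ker_eq_comap_bot, Ideal.mk_ker]
  let π : S' ⊗[S] R →ₐ[S] S' ⊗[S] (R ⧸ q) :=
    Algebra.TensorProduct.map (AlgHom.id S S') (Ideal.Quotient.mkₐ S q)
  have hπ : ∀ z, π (bcL lam S' z) = π z := by
    intro z
    induction z using TensorProduct.induction_on with
    | zero => simp
    | add x y hx hy => rw [map_add, map_add, hx, hy, map_add]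
    | tmul s r =>
      rw [bcL_tmul]
      show s ⊗ₜ[S] (Ideal.Quotient.mk q (lam r)) = s ⊗ₜ[S] (Ideal.Quotient.mk q r)
      congr 1
      rw [Ideal.Quotient.eq]
      exact hlq r
  have h1 : π (2 * c) = 0 := by
    have h3 := hπ c
    rw [hc, map_neg] at h3
    rw [map_mul, map_ofNat]
    linear_combination (-1 : S' ⊗[S] (R ⧸ q)) * h3
  have h2' : IsUnit (2 : S' ⊗[S] R) := by
    have := h2.map (algebraMap S (S' ⊗[S] R))
    rwa [map_ofNat] at this
  have h3 : IsUnit (π (2 * c)) := (h2'.mul hcu).map π
  rw [h1] at h3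
  exact not_isUnit_zero h3

end Ram


section Disjoint
variable {S : Type u} [CommRing S] {R : Type v} [CommRing R] [Algebra S R] (lam : R ≃ₐ[S] R)

attribute [local instance] algRT

/-- compatibility of the tower isomorphism with the base-changed involutions -/
theorem twr_bcL (T : Type*) [CommRing T] [Algebra S T] (S' : Type*) [CommRing S'] [Algebra S S']
    [Algebra T S'] [IsScalarTower S T S'] (z : S' ⊗[T] (T ⊗[S] R)) :
    twr S T S' R (bcL (bcL lam T) S' z) = bcL lam S' (twr S T S' R z) := by
  induction z using TensorProduct.induction_on with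
  | zero => simp
  | add x y hx hy => simp only [map_add, hx, hy]
  | tmul a y =>
    induction y using TensorProduct.induction_on with
    | zero => simp
    | add x y hx hy => simp only [TensorProduct.tmul_add, map_add, hx, hy]
    | tmul s b =>
      rw [bcL_tmul, bcL_tmul, twr_tmul, twr_tmul, bcL_tmul]

/-- an isomorphism over `T` between the `lam`-transpose and its twist by a skew-hermitian
invertible matrix produces a skew unit étale-locally on `T` -/
theorem exists_skew_unit_of_isoOver (hlam : ∀ r, lam (lam r) = r)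
    (hfix : RInv.IsFixedRing S R lam.toRingEquiv) (N : ℕ) (hN : 0 < N)
    (t₂ : LamInv R (Matrix (Fin N) (Fin N) R) lam)
    (G Gi : Matrix (Fin N) (Fin N) R) (hGGi : G * Gi = 1) (hGiG : Gi * G = 1)
    (hsk : lamT lam.toRingEquiv Gi = -Gi)
    (ht₂ : ∀ M, t₂ M = G * LamInv.transpose lam (Fin N) hlam M * Gi)
    (T : Type u) [CommRing T] [Algebra S T] [Algebra.Etale S T]
    (h : IsoOver R T ((LamInv.transpose lam (Fin N) hlam).linS S lam) (t₂.linS S lam)) :
    ∃ (S' : Type u) (_ : CommRing S') (_ : Algebra T S') (_ : Algebra.Etale T S')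
      (_ : Module.FaithfullyFlat T S') (c : S' ⊗[T] (T ⊗[S] R)),
      IsUnit c ∧ bcL (bcL lam T) S' c = -c := by
  classical
  obtain ⟨f, hf1, hf2⟩ := h
  let R' := T ⊗[S] R
  haveI := isScalarTower_RT (S := S) (R := R) (X := Matrix (Fin N) (Fin N) R) T
  have hlam' : ∀ a : R', bcL lam T (bcL lam T a) = a := bcL_invol lam T hlam
  have hfix' := isFixedRing_bcL lam T hfix
  let σ' : R' ≃+* R' := (bcL lam T).toRingEquiv
  let ι : R →ₐ[S] R' := inc (S := S) (R := R) T
  have hcomm : ∀ a : R', f (algebraMap R' (T ⊗[S] Matrix (Fin N) (Fin N) R) a) =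
      algebraMap R' (T ⊗[S] Matrix (Fin N) (Fin N) R) a := by
    intro a
    induction a using TensorProduct.induction_on with
    | zero => simp
    | add x y hx hy => rw [map_add, map_add, hx, hy]
    | tmul s r =>
      rw [algebraMap_RT_apply, baseMap_tmul]
      have h3 : ∀ (z : Matrix (Fin N) (Fin N) R),
          (s ⊗ₜ[S] z : T ⊗[S] Matrix (Fin N) (Fin N) R) = s • ((1 : T) ⊗ₜ[S] z) := by
        intro z
        rw [TensorProduct.smul_tmul', smul_eq_mul, mul_one]
      rw [h3, map_smul, hf1]
  let f' : T ⊗[S] Matrix (Fin N) (Fin N) R ≃ₐ[R'] T ⊗[S] Matrix (Fin N) (Fin N) R :=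
    AlgEquiv.ofRingEquiv (f := f.toRingEquiv) hcomm
  have hf' : ∀ x, f' x = f x := fun _ => rfl
  obtain ⟨fY, hfY, hfYτ⟩ := exists_fY S R lam hlam N hN T
  let φ₀ : Matrix (Fin N) (Fin N) R' ≃ₐ[R'] Matrix (Fin N) (Fin N) R' :=
    fY.symm.trans (f'.trans fY)
  have hφ₀ : ∀ x, φ₀ (fY x) = fY (f x) := by
    intro x
    show fY (f' (fY.symm (fY x))) = _
    rw [fY.symm_apply_apply, hf']
  let G' : Matrix (Fin N) (Fin N) R' := G.map ι
  let Gi' : Matrix (Fin N) (Fin N) R' := Gi.map ι
  have hmapone : (1 : Matrix (Fin N) (Fin N) R).map ι = 1 :=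
    Matrix.map_one _ (map_zero _) (map_one _)
  have hGGi' : G' * Gi' = 1 := by rw [← Matrix.map_mul, hGGi, hmapone]
  have hGiG' : Gi' * G' = 1 := by rw [← Matrix.map_mul, hGiG, hmapone]
  have hsk' : lamT σ' Gi' = -Gi' := by
    show lamT (bcL lam T).toRingEquiv (Gi.map (inc (S := S) (R := R) T)) = _
    rw [lamT_inc, hsk]
    ext i j
    show ι (-Gi i j) = -ι (Gi i j)
    rw [map_neg]
  have hφ : ∀ M, φ₀ (lamT σ' M) = G' * lamT σ' (φ₀ M) * Gi' := by
    intro M
    obtain ⟨x, rfl⟩ := fY.surjective M
    have h1 : lamT σ' (fY x) = fY ((LamInv.transpose lam (Fin N) hlam).bc S lam T x) :=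
      (hfYτ x).symm
    rw [h1, hφ₀, hφ₀]
    have h3 : f ((LamInv.transpose lam (Fin N) hlam).bc S lam T x) = t₂.bc S lam T (f x) := hf2 x
    rw [h3, fY_bc_conj lam hlam N T fY hfY hfYτ t₂ G Gi ht₂]
    rfl
  exact exists_skew_unit_of_intertwine (bcL lam T) hlam' hfix' N hN G' Gi' hGGi' hGiG' hsk' φ₀ hφ

/-- **the two types are disjoint over a ramified point**: near a ramified point the
`lam`-transpose is not isomorphic to a twist by a skew-hermitian matrix (`2` invertible) -/
theorem not_isoNear_of_ramAt (hlam : ∀ r, lam (lam r) = r)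
    (hfix : RInv.IsFixedRing S R lam.toRingEquiv) (h2 : IsUnit (2 : S)) (N : ℕ) (hN : 0 < N)
    (t₂ : LamInv R (Matrix (Fin N) (Fin N) R) lam)
    (G Gi : Matrix (Fin N) (Fin N) R) (hGGi : G * Gi = 1) (hGiG : Gi * G = 1)
    (hsk : lamT lam.toRingEquiv Gi = -Gi)
    (ht₂ : ∀ M, t₂ M = G * LamInv.transpose lam (Fin N) hlam M * Gi)
    (p : PrimeSpectrum S) (hram : RamAt lam p.asIdeal)
    (h : IsoNear lam p (LamInv.transpose lam (Fin N) hlam) t₂) : False := by
  obtain ⟨T, i1, i2, i3, ⟨P, hP⟩, hiso⟩ := h
  obtain ⟨S', j1, j2, j3, j4, c, hcu, hc⟩ :=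
    exists_skew_unit_of_isoOver lam hlam hfix N hN t₂ G Gi hGGi hGiG hsk ht₂ T hiso
  letI : Algebra S S' := ((algebraMap T S').comp (algebraMap S T)).toAlgebra
  haveI : IsScalarTower S T S' := IsScalarTower.of_algebraMap_eq fun _ => rfl
  obtain ⟨P', hP'⟩ := PrimeSpectrum.comap_surjective_of_faithfullyFlat (A := T) (B := S') P
  refine not_skew_unit_of_ramAt lam hlam hfix h2 p.asIdeal hram S' P'.asIdeal ?_
    (twr S T S' R c) (hcu.map (twr S T S' R)) ?_
  · have h1 : algebraMap S S' = (algebraMap T S').comp (algebraMap S T) := rfl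
    rw [h1, ← Ideal.comap_comap]
    have h3 : P'.asIdeal.comap (algebraMap T S') = P.asIdeal := congrArg PrimeSpectrum.asIdeal hP'
    rw [h3]
    exact congrArg PrimeSpectrum.asIdeal hP
  · rw [← twr_bcL, hc, map_neg]

end Disjoint

end Groth.Agent.Lib.Helper25.AzInvRam
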