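import Mathlib
import Groth.Prelude.Def_AzInv
import Groth.Prelude.Def_W4c2azumayainvolQEt
import Groth.Agent.Lib.Helper25.AzInvRam

/-!
# Every involution is ordinary when the quotient is everywhere ramified (`2` invertible)
-/

set_option autoImplicit false
set_option linter.unusedSectionVars false
set_option linter.style.haveILetI false
set_option linter.dupNamespace false
universe u v w w' w''
open scoped TensorProduct

namespace Groth.Agent.Lib.Helper25.AzInvOrd
open AzInv Groth.Agent.Lib.Helper1.GeoNbhd Groth.Agent.Lib.Helper25.HermOdd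
  Groth.Agent.Lib.Helper25.AzInvTower Groth.Agent.Lib.Helper25.AzInvCover
  Groth.Agent.Lib.Helper25.EtaleCover Groth.Agent.Lib.Helper25.IsoNear
  Groth.Agent.Lib.Helper25.AzInvOdd Groth.Agent.Lib.Helper25.HermCongr
  Groth.Agent.Lib.Helper25.SkewCongr Groth.Agent.Lib.Helper25.AzInvLC
  Groth.Agent.Lib.Helper25.AzInvAmp Groth.Agent.Lib.Helper25.AzInvRig
  Groth.Agent.Lib.Helper25.AzInvRam

section Open
variable {S : Type u} [CommRing S] {R : Type v} [CommRing R] [Algebra S R]
  {X : Type w} [Ring X] [Algebra S X] [Algebra R X] [IsScalarTower S R X]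
  {Y : Type w'} [Ring Y] [Algebra S Y] [Algebra R Y] [IsScalarTower S R Y]
  (lam : R ≃ₐ[S] R)

/-- the set of points near which two involutions are isomorphic is open -/
theorem isOpen_setOf_isoNear (σ : LamInv R X lam) (τ : LamInv R Y lam) :
    IsOpen {p : PrimeSpectrum S | IsoNear lam p σ τ} := by
  rw [isOpen_iff_forall_mem_open]
  rintro p ⟨T, i1, i2, i3, hp, hiso⟩
  refine ⟨Set.range (PrimeSpectrum.comap (algebraMap S T)), ?_,
    Groth.Agent.Lib.Helper1.AzInvLib.isOpen_range_comap_of_etale S T, hp⟩
  intro q hq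
  exact ⟨T, i1, i2, i3, hq, hiso⟩

end Open

section Idem
variable {R : Type v} [CommRing R] {ι : Type*} [Fintype ι] [DecidableEq ι]

theorem idem_mul (a b : R) (ha : a * a = a) (hb : b * b = b) (hab : a * b = 0)
    (X X' Y Y' : Matrix ι ι R) :
    (a • X + b • Y) * (a • X' + b • Y') = a • (X * X') + b • (Y * Y') := by
  have hba : b * a = 0 := by rw [mul_comm, hab]
  simp only [add_mul, mul_add, Matrix.smul_mul, Matrix.mul_smul, smul_smul, ha, hb, hab, hba,
    zero_smul, add_zero, zero_add]

end Idem

section Triv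
variable {S : Type u} [CommRing S] {R : Type v} [CommRing R] [Algebra S R]
  {X : Type w} [Ring X] [Algebra S X] [Algebra R X] [IsScalarTower S R X]
  (lam : R ≃ₐ[S] R)

/-- an involution locally isomorphic to the `lam`-transpose is ordinary -/
theorem exists_conj_of_locIsoEt_transpose (hlam : ∀ r, lam (lam r) = r) (n : ℕ)
    (t : LamInv R X lam) (h : LocIsoEt S lam t (LamInv.transpose lam (Fin n) hlam)) :
    ∃ (w : (Matrix (Fin n) (Fin n) R)ˣ) (e : R)
      (hw : LamInv.transpose lam (Fin n) hlam (↑w : Matrix (Fin n) (Fin n) R) =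
        e • (↑w : Matrix (Fin n) (Fin n) R))
      (he : lam e * e = 1),
      LocIsoEt S lam t ((LamInv.transpose lam (Fin n) hlam).conj w e hw he) := by
  refine ⟨1, 1, ?_, ?_, ?_⟩
  · rw [Units.val_one, LamInv.map_one, one_smul]
  · rw [map_one, one_mul]
  · have : (LamInv.transpose lam (Fin n) hlam).conj 1 1
        (by rw [Units.val_one, LamInv.map_one, one_smul]) (by rw [map_one, one_mul]) =
        LamInv.transpose lam (Fin n) hlam := by
      apply LamInv.ext
      intro M
      rw [LamInv.conj_apply, inv_one, Units.val_one, one_mul, mul_one]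
    rw [this]
    exact h

end Triv


section Main
variable (S : Type u) [CommRing S] (R : Type v) [CommRing R] [Algebra S R]
  (X : Type w) [Ring X] [Algebra S X] [Algebra R X] [IsScalarTower S R X] [IsAzumaya R X]

/-- a unit idempotent is one -/
theorem eq_one_of_isUnit_of_idem {A : Type*} [CommRing A] {x : A} (hu : IsUnit x)
    (hx : x * x = x) : x = 1 := by
  obtain ⟨y, hy⟩ := hu.exists_right_inv
  calc x = x * (x * y) := by rw [hy, mul_one]
    _ = (x * x) * y := by ring
    _ = 1 := by rw [hx, hy]

/-- **every involution is ordinary over an everywhere ramified quotient** (`2` invertible) -/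
theorem exists_conj_of_ramified (lam : R ≃ₐ[S] R) (hlam : ∀ r, lam (lam r) = r)
    (hfix : RInv.IsFixedRing S R lam.toRingEquiv)
    (hsq : ∀ (S₁ : Type u) [CommRing S₁] [Algebra S S₁] [Algebra.Etale S S₁] (x : S₁ˣ),
      ∃ (S₂ : Type u) (_ : CommRing S₂) (_ : Algebra S₁ S₂) (_ : Algebra.Etale S₁ S₂)
        (_ : Module.FaithfullyFlat S₁ S₂) (y : S₂), y * y = algebraMap S₁ S₂ ↑x)
    (h2 : IsUnit (2 : S)) (hram : ∀ p : PrimeSpectrum S, RamAt lam p.asIdeal)
    (n : ℕ) (hn : 0 < n)
    (hrk : ∀ p : PrimeSpectrum R, Module.rankAtStalk X p = n ^ 2)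
    (t : LamInv R X lam) :
    ∃ (w : (Matrix (Fin n) (Fin n) R)ˣ) (e : R)
      (hw : LamInv.transpose lam (Fin n) hlam (↑w : Matrix (Fin n) (Fin n) R) =
        e • (↑w : Matrix (Fin n) (Fin n) R))
      (he : lam e * e = 1),
      LocIsoEt S lam t ((LamInv.transpose lam (Fin n) hlam).conj w e hw he) := by
  classical
  by_cases hev : ∃ m, n = m * 2
  swap
  · -- odd degree: only the transpose occurs
    refine exists_conj_of_locIsoEt_transpose lam hlam n t (locIsoEt_of_isoNear fun p => ?_)
    rcases isoNear_std S R X lam hlam hfix hsq h2 n hn hrk t p with h | ⟨m, hm, -⟩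
    · exact h
    · exact absurd ⟨m, hm⟩ hev
  obtain ⟨m, rfl⟩ := hev
  let τ : LamInv R (Matrix (Fin (m * 2)) (Fin (m * 2)) R) lam :=
    LamInv.transpose lam (Fin (m * 2)) hlam
  let J : Matrix (Fin (m * 2)) (Fin (m * 2)) R := Jn R m
  have hJJ : J * J = -1 := Jn_mul_Jn m
  have hτJ : τ J = -J := lamT_Jn lam.toRingEquiv m
  let Up : Set (PrimeSpectrum S) := {p | IsoNear lam p t τ}
  let Um : Set (PrimeSpectrum S) := {p | IsoNear lam p t (tauMinus lam hlam m)}
  have hUp : IsOpen Up := isOpen_setOf_isoNear lam t τ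
  have hUm : IsOpen Um := isOpen_setOf_isoNear lam t (tauMinus lam hlam m)
  have hcover : ∀ p, p ∈ Up ∨ p ∈ Um := by
    intro p
    rcases isoNear_std S R X lam hlam hfix hsq h2 (m * 2) hn hrk t p with h | ⟨m', hm', h⟩
    · exact Or.inl h
    · have hmm : m' = m := by omega
      subst hmm
      exact Or.inr h
  have hdisj : ∀ p, p ∈ Up → p ∈ Um → False := by
    intro p h₁ h₂
    have h₁' : IsoNear lam p t τ := h₁
    have h₂' : IsoNear lam p t (tauMinus lam hlam m) := h₂
    exact not_isoNear_of_ramAt lam hlam hfix h2 (m * 2) hn (tauMinus lam hlam m) J (-J)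
      (by rw [Matrix.mul_neg, hJJ, neg_neg]) (by rw [Matrix.neg_mul, hJJ, neg_neg])
      (by
        show τ (-J) = -(-J)
        rw [LamInv.map_neg, hτJ])
      (fun M => tauMinus_apply lam hlam m M) p (hram p) (h₁'.symm.trans h₂')
  have hclopen : IsClopen Up := by
    refine ⟨?_, hUp⟩
    have : Upᶜ = Um := by
      ext p
      constructor
      · intro hp
        exact (hcover p).resolve_left hp
      · intro hp hp'
        exact hdisj p hp' hp
    rw [← isOpen_compl_iff, this]
    exact hUm
  obtain ⟨e₀, f₀, hef, hef1, hU⟩ := PrimeSpectrum.isClopen_iff_mul_add.1 hclopen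
  have he₀ : e₀ * e₀ = e₀ := by
    calc e₀ * e₀ = e₀ * (e₀ + f₀) - e₀ * f₀ := by ring
      _ = e₀ := by rw [hef1, hef, mul_one, sub_zero]
  have hf₀ : f₀ * f₀ = f₀ := by
    calc f₀ * f₀ = f₀ * (e₀ + f₀) - e₀ * f₀ := by ring
      _ = f₀ := by rw [hef1, hef, mul_one, sub_zero]
  let a : R := algebraMap S R e₀
  let b : R := algebraMap S R f₀
  have ha : a * a = a := by rw [← map_mul, he₀]
  have hb : b * b = b := by rw [← map_mul, hf₀]
  have hab : a * b = 0 := by rw [← map_mul, hef, map_zero]
  have hab1 : a + b = 1 := by rw [← map_add, hef1, map_one]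
  have hla : lam a = a := lam.commutes e₀
  have hlb : lam b = b := lam.commutes f₀
  let W : Matrix (Fin (m * 2)) (Fin (m * 2)) R := a • 1 + b • J
  let Wi : Matrix (Fin (m * 2)) (Fin (m * 2)) R := a • 1 + b • (-J)
  have hWWi : W * Wi = 1 := by
    rw [idem_mul a b ha hb hab, one_mul, Matrix.mul_neg, hJJ, neg_neg, ← add_smul, hab1, one_smul]
  have hWiW : Wi * W = 1 := by
    rw [idem_mul a b ha hb hab, one_mul, Matrix.neg_mul, hJJ, neg_neg, ← add_smul, hab1, one_smul]
  let w : (Matrix (Fin (m * 2)) (Fin (m * 2)) R)ˣ := ⟨W, Wi, hWWi, hWiW⟩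
  have hτW : τ W = (a - b) • W := by
    show τ (a • 1 + b • J) = (a - b) • (a • 1 + b • J)
    rw [τ.map_add, τ.map_smul, τ.map_smul, τ.map_one, hτJ, hla, hlb, smul_add, smul_smul, smul_smul]
    have h1 : (a - b) * a = a := by
      calc (a - b) * a = a * a - a * b := by ring
        _ = a := by rw [ha, hab, sub_zero]
    have h3 : (a - b) * b = -b := by
      calc (a - b) * b = a * b - b * b := by ring
        _ = -b := by rw [hab, hb, zero_sub]
    rw [h1, h3, neg_smul, smul_neg]
  have hee : lam (a - b) * (a - b) = 1 := by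
    rw [map_sub, hla, hlb]
    calc (a - b) * (a - b) = a * a + b * b - 2 * (a * b) := by ring
      _ = 1 := by rw [ha, hb, hab, mul_zero, sub_zero, hab1]
  refine ⟨w, a - b, hτW, hee, ?_⟩
  let tw : LamInv R (Matrix (Fin (m * 2)) (Fin (m * 2)) R) lam := τ.conj w (a - b) hτW hee
  have htw : ∀ M, tw M = W * τ M * Wi := fun M => rfl
  apply locIsoEt_of_isoNear
  intro p
  by_cases hp : p ∈ Up
  · -- near `p` the matrix `w` is the identity
    have hp' : p ∈ (PrimeSpectrum.basicOpen e₀ : Set (PrimeSpectrum S)) := by rw [← hU]; exact hp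
    let T := Localization.Away e₀
    haveI : Algebra.Etale S T := Algebra.Etale.of_isLocalizationAway e₀
    have hrange : p ∈ Set.range (PrimeSpectrum.comap (algebraMap S T)) := by
      rw [PrimeSpectrum.localization_away_comap_range T e₀]
      exact hp'
    have he1 : algebraMap S T e₀ = 1 :=
      eq_one_of_isUnit_of_idem (IsLocalization.Away.algebraMap_isUnit e₀) (by rw [← map_mul, he₀])
    have hf0 : algebraMap S T f₀ = 0 := by
      have : algebraMap S T e₀ + algebraMap S T f₀ = 1 := by rw [← map_add, hef1, map_one]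
      rw [he1] at this
      linear_combination this
    have hιS : ∀ s : S, inc (S := S) (R := R) T (algebraMap S R s) =
        algebraMap T (T ⊗[S] R) (algebraMap S T s) := fun s => one_tmul_algebraMap T s
    have hia : inc (S := S) (R := R) T a = 1 := by
      show inc (S := S) (R := R) T (algebraMap S R e₀) = 1
      rw [hιS, he1, map_one]
    have hib : inc (S := S) (R := R) T b = 0 := by
      show inc (S := S) (R := R) T (algebraMap S R f₀) = 0
      rw [hιS, hf0, map_zero]
    have hWmap : ((1 : R) • W).map (inc (S := S) (R := R) T) =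
        (1 : Matrix (Fin (m * 2)) (Fin (m * 2)) R).map (inc (S := S) (R := R) T) := by
      rw [one_smul]
      ext i j
      show inc (S := S) (R := R) T (a * (1 : Matrix _ _ R) i j + b * J i j) =
        inc (S := S) (R := R) T ((1 : Matrix _ _ R) i j)
      rw [map_add, map_mul, map_mul, hia, hib, zero_mul, add_zero, one_mul]
    have hC : Congr lam ((1 : R) • W) 1 T := by
      refine ⟨1, isUnit_one, ?_⟩
      rw [lamT_one, one_mul, mul_one, hWmap]
    have hiso : IsoOver R T (tw.linS S lam) (τ.linS S lam) :=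
      isoOver_of_congr lam hlam (m * 2) hn tw τ W Wi 1 1 hWiW (one_mul 1) htw
        (fun M => by rw [one_mul, mul_one]) 1 T hC
    have h₁ : IsoNear lam p t τ := hp
    exact h₁.trans (IsoNear.symm ⟨T, inferInstance, inferInstance, inferInstance, hrange, hiso⟩)
  · -- near `p` the matrix `w` is the standard alternating matrix
    have hpm : p ∈ Um := (hcover p).resolve_left hp
    have hp' : p ∉ (PrimeSpectrum.basicOpen e₀ : Set (PrimeSpectrum S)) := by rw [← hU]; exact hp
    have hpe : e₀ ∈ p.asIdeal := by
      by_contra hne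
      exact hp' hne
    have hpf : f₀ ∉ p.asIdeal := by
      intro hf
      have : (1 : S) ∈ p.asIdeal := by rw [← hef1]; exact Ideal.add_mem _ hpe hf
      exact p.isPrime.ne_top ((Ideal.eq_top_iff_one _).2 this)
    let T := Localization.Away f₀
    haveI : Algebra.Etale S T := Algebra.Etale.of_isLocalizationAway f₀
    have hrange : p ∈ Set.range (PrimeSpectrum.comap (algebraMap S T)) := by
      rw [PrimeSpectrum.localization_away_comap_range T f₀]
      exact hpf
    have hf1 : algebraMap S T f₀ = 1 :=
      eq_one_of_isUnit_of_idem (IsLocalization.Away.algebraMap_isUnit f₀) (by rw [← map_mul, hf₀])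
    have he0 : algebraMap S T e₀ = 0 := by
      have : algebraMap S T e₀ + algebraMap S T f₀ = 1 := by rw [← map_add, hef1, map_one]
      rw [hf1] at this
      linear_combination this
    have hιS : ∀ s : S, inc (S := S) (R := R) T (algebraMap S R s) =
        algebraMap T (T ⊗[S] R) (algebraMap S T s) := fun s => one_tmul_algebraMap T s
    have hia : inc (S := S) (R := R) T a = 0 := by
      show inc (S := S) (R := R) T (algebraMap S R e₀) = 0
      rw [hιS, he0, map_zero]
    have hib : inc (S := S) (R := R) T b = 1 := by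
      show inc (S := S) (R := R) T (algebraMap S R f₀) = 1
      rw [hιS, hf1, map_one]
    have hWmap : ((1 : R) • W).map (inc (S := S) (R := R) T) =
        J.map (inc (S := S) (R := R) T) := by
      rw [one_smul]
      ext i j
      show inc (S := S) (R := R) T (a * (1 : Matrix _ _ R) i j + b * J i j) =
        inc (S := S) (R := R) T (J i j)
      rw [map_add, map_mul, map_mul, hia, hib, zero_mul, zero_add, one_mul]
    have hC : Congr lam ((1 : R) • W) J T := by
      refine ⟨1, isUnit_one, ?_⟩
      rw [lamT_one, one_mul, mul_one, hWmap]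
    have hiso : IsoOver R T (tw.linS S lam) ((tauMinus lam hlam m).linS S lam) :=
      isoOver_of_congr lam hlam (m * 2) hn tw (tauMinus lam hlam m) W Wi J (-J) hWiW
        (by rw [Matrix.mul_neg, hJJ, neg_neg]) htw (fun M => tauMinus_apply lam hlam m M) 1 T hC
    have h₁ : IsoNear lam p t (tauMinus lam hlam m) := hpm
    exact h₁.trans (IsoNear.symm ⟨T, inferInstance, inferInstance, inferInstance, hrange, hiso⟩)

end Main

end Groth.Agent.Lib.Helper25.AzInvOrd
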