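import Mathlib
import Groth.Prelude.Def_AzInv
import Groth.Prelude.Def_W4c2azumayainvolQEt
import Groth.Agent.Lib.Helper25.AzInvOrd
import Groth.Agent.Lib.Helper25.SymSkew
import Groth.Agent.Lib.Helper95.AzSign
import Groth.Agent.Lib.Helper3.FiniteEtaleLift

/-!
# The sign of an involution at the ramification locus and the classification of types
-/

set_option autoImplicit false
set_option linter.unusedSectionVars false
set_option linter.style.haveILetI false
set_option linter.dupNamespace false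
universe u v w w' w''
open scoped TensorProduct

namespace Groth.Agent.Lib.Helper25.AzInvSign
open AzInv Groth.Agent.Lib.Helper1.GeoNbhd Groth.Agent.Lib.Helper25.HermOdd
  Groth.Agent.Lib.Helper25.AzInvTower Groth.Agent.Lib.Helper25.AzInvCover
  Groth.Agent.Lib.Helper25.EtaleCover Groth.Agent.Lib.Helper25.IsoNear
  Groth.Agent.Lib.Helper25.AzInvOdd Groth.Agent.Lib.Helper25.HermCongr
  Groth.Agent.Lib.Helper25.SkewCongr Groth.Agent.Lib.Helper25.AzInvLC
  Groth.Agent.Lib.Helper25.AzInvAmp Groth.Agent.Lib.Helper25.AzInvRig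
  Groth.Agent.Lib.Helper25.AzInvRam Groth.Agent.Lib.Helper25.AzInvOrd
  Groth.Agent.Lib.Helper95.AzSign Groth.Agent.Lib.Helper25.SymSkew

section Sqrt
open Polynomial

/-- adjoining a square root of a unit is an étale faithfully flat extension (`2` invertible) -/
theorem exists_sqrt_of_two {K : Type u} [CommRing K] (h2 : IsUnit (2 : K)) (d : Kˣ) :
    ∃ (K' : Type u) (_ : CommRing K') (_ : Algebra K K') (_ : Algebra.Etale K K')
      (_ : Module.FaithfullyFlat K K') (y : K'), y * y = algebraMap K K' ↑d := by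
  rcases subsingleton_or_nontrivial K with hs | hnt
  · exact ⟨K, inferInstance, inferInstance, inferInstance, inferInstance, 0, Subsingleton.elim _ _⟩
  set g : K[X] := X ^ 2 - C (d : K) with hg
  have hm : g.Monic := monic_X_pow_sub_C (d : K) (by norm_num)
  have hdeg : g.natDegree = 2 := natDegree_X_pow_sub_C
  have hroot : (AdjoinRoot.root g) ^ 2 = AdjoinRoot.of g (d : K) := by
    have h := AdjoinRoot.eval₂_root g
    rw [hg, eval₂_sub, eval₂_pow, eval₂_X, eval₂_C, sub_eq_zero] at h
    exact h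
  have hunit : IsUnit (AdjoinRoot.mk g (derivative g)) := by
    obtain ⟨c, hc⟩ := h2.exists_right_inv
    have hder : derivative g = C 2 * X := by
      rw [hg, derivative_sub, derivative_C, sub_zero, derivative_X_pow]
      norm_num
    refine IsUnit.of_mul_eq_one (AdjoinRoot.of g (c * ((d⁻¹ : Kˣ) : K)) * AdjoinRoot.root g) ?_
    rw [hder, map_mul, AdjoinRoot.mk_C, AdjoinRoot.mk_X]
    calc AdjoinRoot.of g 2 * AdjoinRoot.root g *
          (AdjoinRoot.of g (c * ((d⁻¹ : Kˣ) : K)) * AdjoinRoot.root g)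
        = AdjoinRoot.of g 2 * AdjoinRoot.of g (c * ((d⁻¹ : Kˣ) : K)) * (AdjoinRoot.root g) ^ 2 := by
          ring
      _ = 1 := by
        rw [hroot, ← map_mul, ← map_mul]
        have : 2 * (c * ((d⁻¹ : Kˣ) : K)) * (d : K) = 1 := by
          calc 2 * (c * ((d⁻¹ : Kˣ) : K)) * (d : K) = (2 * c) * (((d⁻¹ : Kˣ) : K) * (d : K)) := by ring
            _ = 1 := by rw [hc, Units.inv_mul, one_mul]
        rw [this, map_one]
  haveI het : Algebra.Etale K (AdjoinRoot g) :=
    Groth.Agent.Lib.Helper3.etale_adjoinRoot_of_isUnit g hm hunit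
  haveI hfinE : Module.Finite K (AdjoinRoot g) := hm.finite_adjoinRoot
  haveI hfreeE : Module.Free K (AdjoinRoot g) := hm.free_adjoinRoot
  have hrkE : Module.finrank K (AdjoinRoot g) = 2 := by
    rw [(AdjoinRoot.powerBasis' hm).finrank, AdjoinRoot.powerBasis'_dim, hdeg]
  haveI hntE : Nontrivial (AdjoinRoot g) :=
    Module.nontrivial_of_finrank_pos (R := K) (by rw [hrkE]; norm_num)
  haveI : Module.FaithfullyFlat K (AdjoinRoot g) := inferInstance
  refine ⟨AdjoinRoot g, inferInstance, inferInstance, inferInstance, inferInstance,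
    AdjoinRoot.root g, ?_⟩
  rw [← pow_two]
  exact hroot

/-- with `2` invertible, units have square roots étale-locally -/
theorem hsq_of_two {S : Type u} [CommRing S] (h2 : IsUnit (2 : S)) :
    ∀ (S₁ : Type u) [CommRing S₁] [Algebra S S₁] [Algebra.Etale S S₁] (x : S₁ˣ),
      ∃ (S₂ : Type u) (_ : CommRing S₂) (_ : Algebra S₁ S₂) (_ : Algebra.Etale S₁ S₂)
        (_ : Module.FaithfullyFlat S₁ S₂) (y : S₂), y * y = algebraMap S₁ S₂ ↑x := by
  intro S₁ _ _ _ x
  have h2' : IsUnit (2 : S₁) := by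
    have := h2.map (algebraMap S S₁)
    rwa [map_ofNat] at this
  exact exists_sqrt_of_two h2' x

end Sqrt

section SymDim0
variable {S : Type u} [CommRing S] {R : Type v} [CommRing R] [Algebra S R]
  {X : Type w} [Ring X] [Algebra S X] [Algebra R X] [IsScalarTower S R X]
  {lam : R ≃ₐ[S] R}

/-- the dimension over `L` of the span of the images of the symmetric elements -/
noncomputable def symDim (σ : LamInv R X lam) (L : Type*) [Field L] [Algebra R L] : ℕ :=
  Module.finrank L (Submodule.span L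
    (Set.range fun a : {a : X // σ a = a} => (1 : L) ⊗ₜ[R] (a : X)))

theorem toAddMonoidHom_smul (σ : LamInv R X lam) (r : R) (a : X) :
    σ.toAddMonoidHom (r • a) = lam r • σ.toAddMonoidHom a := σ.map_smul r a

variable {L : Type*} [Field L] [Algebra R L]

theorem symDim_eq_finrank_range (σ : LamInv R X lam)
    (hL : ∀ r, algebraMap R L (lam r) = algebraMap R L r) (h₀ : R) (h2 : 2 * h₀ = 1) :
    symDim σ L = Module.finrank L (LinearMap.range
      (eK σ.toAddMonoidHom lam (toAddMonoidHom_smul σ) L hL h₀)) := by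
  have h1 := span_sym_eq_range σ.toAddMonoidHom lam (toAddMonoidHom_smul σ) L hL
    (fun a => σ.invol a) h₀ h2
  have h1' : Submodule.span L (Set.range fun a : {a : X // σ a = a} => (1 : L) ⊗ₜ[R] (a : X)) =
      LinearMap.range (eK σ.toAddMonoidHom lam (toAddMonoidHom_smul σ) L hL h₀) := h1
  unfold symDim
  rw [h1']

end SymDim0

section SymDim
variable {S : Type u} [CommRing S] {R : Type v} [CommRing R] [Algebra S R]
  {X : Type w} [Ring X] [Algebra S X] [Algebra R X] [IsScalarTower S R X]
  {Y : Type w'} [Ring Y] [Algebra S Y] [Algebra R Y] [IsScalarTower S R Y]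
  {lam : R ≃ₐ[S] R}

variable (L : Type*) [Field L] [Algebra S L] [Algebra R L] [IsScalarTower S R L]

/-- the canonical surjection `L ⊗[S] X → L ⊗[R] X` -/
noncomputable abbrev piS (X : Type*) [Ring X] [Algebra S X] [Algebra R X] [IsScalarTower S R X] :
    L ⊗[S] X →ₐ[L] L ⊗[R] X :=
  Algebra.TensorProduct.mapOfCompatibleSMul R S L L X

theorem piS_surjective : Function.Surjective (piS (S := S) (R := R) L X) :=
  Algebra.TensorProduct.mapOfCompatibleSMul_surjective R S L L X

/-- an `L`-algebra map `L ⊗[S] X → L ⊗[S] Y` compatible with `R` descends to `L ⊗[R]` -/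
theorem exists_descend (F : L ⊗[S] X →ₐ[L] L ⊗[S] Y)
    (hF1 : ∀ r : R, F ((1 : L) ⊗ₜ[S] algebraMap R X r) = (1 : L) ⊗ₜ[S] algebraMap R Y r) :
    ∃ Φ : L ⊗[R] X →ₗ[L] L ⊗[R] Y,
      ∀ z, Φ (piS (S := S) (R := R) L X z) = piS (S := S) (R := R) L Y (F z) := by
  let b : L →ₗ[L] X →ₗ[R] L ⊗[R] Y :=
    LinearMap.mk₂' L R (fun l x => piS (S := S) (R := R) L Y (F (l ⊗ₜ[S] x)))
      (fun l l' x => by rw [TensorProduct.add_tmul, map_add, map_add])
      (fun c l x => by rw [← TensorProduct.smul_tmul', map_smul, map_smul])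
      (fun l x x' => by rw [TensorProduct.tmul_add, map_add, map_add])
      (fun r l x => by
        have h1 : (l ⊗ₜ[S] (r • x) : L ⊗[S] X) = ((1 : L) ⊗ₜ[S] algebraMap R X r) * (l ⊗ₜ[S] x) := by
          rw [Algebra.TensorProduct.tmul_mul_tmul, one_mul, Algebra.smul_def]
        rw [h1, map_mul, hF1, map_mul]
        have h3 : piS (S := S) (R := R) L Y ((1 : L) ⊗ₜ[S] algebraMap R Y r) =
            algebraMap R (L ⊗[R] Y) r := by
          rw [Algebra.TensorProduct.mapOfCompatibleSMul_tmul,
            Algebra.TensorProduct.algebraMap_apply, Algebra.algebraMap_eq_smul_one,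
            Algebra.algebraMap_eq_smul_one (A := L), TensorProduct.smul_tmul]
        rw [h3, ← Algebra.smul_def])
  refine ⟨TensorProduct.AlgebraTensorModule.lift b, fun z => ?_⟩
  induction z using TensorProduct.induction_on with
  | zero => simp
  | add x y hx hy => rw [map_add, map_add, hx, hy, map_add, map_add]
  | tmul l x =>
    rw [Algebra.TensorProduct.mapOfCompatibleSMul_tmul, TensorProduct.AlgebraTensorModule.lift_tmul]
    rfl


variable {L}

/-- the `L`-linear extension of an involution to `L ⊗[R] X`, when `lam` is trivial on `L` -/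
noncomputable abbrev tL (σ : LamInv R X lam)
    (hL : ∀ r, algebraMap R L (lam r) = algebraMap R L r) : L ⊗[R] X →ₗ[L] L ⊗[R] X :=
  tK σ.toAddMonoidHom lam (toAddMonoidHom_smul σ) L hL

theorem tL_piS (σ : LamInv R X lam) (hL : ∀ r, algebraMap R L (lam r) = algebraMap R L r)
    (z : L ⊗[S] X) :
    tL σ hL (piS (S := S) (R := R) L X z) =
      piS (S := S) (R := R) L X ((σ.linS S lam).baseChange L z) := by
  induction z using TensorProduct.induction_on with
  | zero => simp
  | add x y hx hy => rw [map_add, map_add, hx, hy, map_add, map_add]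
  | tmul l x =>
    rw [LinearMap.baseChange_tmul, Algebra.TensorProduct.mapOfCompatibleSMul_tmul,
      Algebra.TensorProduct.mapOfCompatibleSMul_tmul, tK_tmul]
    rfl

/-- **invariance of the symmetric dimension**: algebras with involution which become isomorphic
over a field `L` on which `lam` is trivial have the same symmetric dimension over `L` -/
theorem symDim_eq_of_isoOver (σ : LamInv R X lam) (τ : LamInv R Y lam) (h₀ : R) (h2 : 2 * h₀ = 1)
    (hL : ∀ r, algebraMap R L (lam r) = algebraMap R L r)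
    (h : IsoOver R L (σ.linS S lam) (τ.linS S lam)) : symDim σ L = symDim τ L := by
  obtain ⟨F, hF1, hF2⟩ := h
  have hF1' : ∀ r : R, F.symm ((1 : L) ⊗ₜ[S] algebraMap R Y r) = (1 : L) ⊗ₜ[S] algebraMap R X r := by
    intro r
    rw [AlgEquiv.symm_apply_eq, hF1]
  obtain ⟨Φ, hΦ⟩ := exists_descend L (F : L ⊗[S] X →ₐ[L] L ⊗[S] Y) hF1
  obtain ⟨Φ', hΦ'⟩ := exists_descend L (F.symm : L ⊗[S] Y →ₐ[L] L ⊗[S] X) hF1'
  have h12 : Φ' ∘ₗ Φ = LinearMap.id := by
    refine LinearMap.ext fun x => ?_
    obtain ⟨z, rfl⟩ := piS_surjective (S := S) (R := R) L x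
    rw [LinearMap.comp_apply, hΦ, hΦ']
    show piS (S := S) (R := R) L X (F.symm (F z)) = _
    rw [F.symm_apply_apply]
    rfl
  have h21 : Φ ∘ₗ Φ' = LinearMap.id := by
    refine LinearMap.ext fun x => ?_
    obtain ⟨z, rfl⟩ := piS_surjective (S := S) (R := R) L x
    rw [LinearMap.comp_apply, hΦ', hΦ]
    show piS (S := S) (R := R) L Y (F (F.symm z)) = _
    rw [F.apply_symm_apply]
    rfl
  let Ψ : L ⊗[R] X ≃ₗ[L] L ⊗[R] Y := LinearEquiv.ofLinearMap Φ Φ' h21 h12
  have hΨ : ∀ x, Ψ x = Φ x := fun _ => rfl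
  have hcomm : ∀ x, Ψ (tL σ hL x) = tL τ hL (Ψ x) := by
    intro x
    obtain ⟨z, rfl⟩ := piS_surjective (S := S) (R := R) L x
    rw [hΨ, hΨ, tL_piS, hΦ, hΦ, tL_piS]
    congr 1
    exact hF2 z
  have hcomme : ∀ x, Ψ (eK σ.toAddMonoidHom lam (toAddMonoidHom_smul σ) L hL h₀ x) =
      eK τ.toAddMonoidHom lam (toAddMonoidHom_smul τ) L hL h₀ (Ψ x) := by
    intro x
    rw [eK_apply, eK_apply, ← algebraMap_smul L h₀, ← algebraMap_smul L h₀, map_smul, map_add, hcomm]
  rw [symDim_eq_finrank_range σ hL h₀ h2, symDim_eq_finrank_range τ hL h₀ h2]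
  have hmap : Submodule.map Ψ.toLinearMap (LinearMap.range
      (eK σ.toAddMonoidHom lam (toAddMonoidHom_smul σ) L hL h₀)) =
      LinearMap.range (eK τ.toAddMonoidHom lam (toAddMonoidHom_smul τ) L hL h₀) := by
    ext y
    constructor
    · rintro ⟨_, ⟨x, rfl⟩, rfl⟩
      exact ⟨Ψ x, (hcomme x).symm⟩
    · rintro ⟨x, rfl⟩
      refine ⟨eK σ.toAddMonoidHom lam (toAddMonoidHom_smul σ) L hL h₀ (Ψ.symm x), ⟨_, rfl⟩, ?_⟩
      show Ψ _ = _
      rw [hcomme, Ψ.apply_symm_apply]
  rw [← hmap]
  exact (LinearEquiv.finrank_map_eq Ψ _).symm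

end SymDim


section FieldExt
variable {S : Type u} [CommRing S] {R : Type v} [CommRing R] [Algebra S R]
  {X : Type w} [Ring X] [Algebra S X] [Algebra R X] [IsScalarTower S R X]
  {lam : R ≃ₐ[S] R}

/-- the symmetric dimension does not change under a field extension -/
theorem symDim_fieldExt [Module.Finite R X] (σ : LamInv R X lam) (h₀ : R) (h2 : 2 * h₀ = 1)
    (K L : Type*) [Field K] [Field L] [Algebra R K] [Algebra R L] [Algebra K L]
    [IsScalarTower R K L] (hK : ∀ r, algebraMap R K (lam r) = algebraMap R K r) :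
    symDim σ L = symDim σ K := by
  have hL : ∀ r, algebraMap R L (lam r) = algebraMap R L r := by
    intro r
    rw [IsScalarTower.algebraMap_apply R K L, hK, ← IsScalarTower.algebraMap_apply R K L]
  rw [symDim_eq_finrank_range σ hL h₀ h2, symDim_eq_finrank_range σ hK h₀ h2,
    finrank_range_eK_eq σ.toAddMonoidHom lam (toAddMonoidHom_smul σ) K hK L hL h₀,
    finrank_range_baseChange_idem _
      (eK_idem σ.toAddMonoidHom lam (toAddMonoidHom_smul σ) K hK (fun a => σ.invol a) h₀ h2) L,
    Module.rankAtStalk_eq_finrank_of_free]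
  rfl

/-- a field receiving compatible maps from `T` and from the residue field of `q` -/
theorem exists_field_of_comap_eq (T : Type u) [CommRing T] [Algebra S T] (P : Ideal T) [P.IsPrime]
    (q : Ideal R) [q.IsPrime] (h : P.comap (algebraMap S T) = q.comap (algebraMap S R)) :
    ∃ (L : Type (max u v)) (_ : Field L) (φT : T →+* L) (φK : q.ResidueField →+* L),
      φT.comp (algebraMap S T) =
        (φK.comp (algebraMap R q.ResidueField)).comp (algebraMap S R) := by
  let K := q.ResidueField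
  haveI : Nontrivial (T ⊗[S] K) := by
    refine nontrivial_tensor_of_comap_eq T K P (⊥ : Ideal K) ?_
    rw [h, IsScalarTower.algebraMap_eq S R K, ← Ideal.comap_comap, ← RingHom.ker_eq_comap_bot,
      Ideal.ker_algebraMap_residueField]
  obtain ⟨M, hM⟩ := Ideal.exists_maximal (T ⊗[S] K)
  letI : Field ((T ⊗[S] K) ⧸ M) := Ideal.Quotient.field M
  refine ⟨(T ⊗[S] K) ⧸ M, inferInstance,
    (Ideal.Quotient.mk M).comp (Algebra.TensorProduct.includeLeftRingHom),
    (Ideal.Quotient.mk M).comp (Algebra.TensorProduct.includeRight : K →ₐ[S] T ⊗[S] K).toRingHom, ?_⟩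
  ext s
  show Ideal.Quotient.mk M ((algebraMap S T s) ⊗ₜ[S] (1 : K)) =
    Ideal.Quotient.mk M ((1 : T) ⊗ₜ[S] (algebraMap R K (algebraMap S R s)))
  congr 1
  rw [← IsScalarTower.algebraMap_apply S R K, Algebra.algebraMap_eq_smul_one,
    Algebra.algebraMap_eq_smul_one (A := K), TensorProduct.smul_tmul]

end FieldExt


section Invariance
variable {S : Type u} [CommRing S] {R : Type v} [CommRing R] [Algebra S R]
  {X : Type w} [Ring X] [Algebra S X] [Algebra R X] [IsScalarTower S R X]
  {Y : Type w'} [Ring Y] [Algebra S Y] [Algebra R Y] [IsScalarTower S R Y]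
  {lam : R ≃ₐ[S] R}

/-- `lam` is trivial on the residue field of a prime of the ramification locus -/
theorem algebraMap_residueField_lam (q : PrimeSpectrum R) (hq : ∀ r : R, lam r - r ∈ q.asIdeal)
    (r : R) : algebraMap R q.asIdeal.ResidueField (lam r) = algebraMap R q.asIdeal.ResidueField r := by
  have := Ideal.algebraMap_residueField_eq_zero.2 (hq r)
  rwa [map_sub, sub_eq_zero] at this

/-- **the symmetric dimension at a ramified prime is an invariant of the étale-local isomorphism
class** -/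
theorem symDim_eq_of_isoNear [Module.Finite R X] [Module.Finite R Y]
    (σ : LamInv R X lam) (τ : LamInv R Y lam) (h₀ : R) (h2 : 2 * h₀ = 1)
    (q : PrimeSpectrum R) (hq : ∀ r : R, lam r - r ∈ q.asIdeal)
    (h : IsoNear lam (PrimeSpectrum.comap (algebraMap S R) q) σ τ) :
    symDim σ q.asIdeal.ResidueField = symDim τ q.asIdeal.ResidueField := by
  obtain ⟨T, i1, i2, i3, ⟨P, hP⟩, hiso⟩ := h
  let K := q.asIdeal.ResidueField
  have hK : ∀ r, algebraMap R K (lam r) = algebraMap R K r := algebraMap_residueField_lam q hq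
  obtain ⟨L, iL, φT, φK, hc⟩ := exists_field_of_comap_eq T P.asIdeal q.asIdeal
    (congrArg PrimeSpectrum.asIdeal hP)
  letI : Algebra T L := φT.toAlgebra
  letI : Algebra K L := φK.toAlgebra
  letI : Algebra R L := (φK.comp (algebraMap R K)).toAlgebra
  letI : Algebra S L := ((φK.comp (algebraMap R K)).comp (algebraMap S R)).toAlgebra
  haveI : IsScalarTower R K L := IsScalarTower.of_algebraMap_eq fun _ => rfl
  haveI : IsScalarTower S R L := IsScalarTower.of_algebraMap_eq fun _ => rfl
  haveI : IsScalarTower S T L := IsScalarTower.of_algebraMap_eq fun s =>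
    (RingHom.congr_fun hc s).symm
  have hL : ∀ r, algebraMap R L (lam r) = algebraMap R L r := by
    intro r
    rw [IsScalarTower.algebraMap_apply R K L, hK, ← IsScalarTower.algebraMap_apply R K L]
  rw [← symDim_fieldExt σ h₀ h2 K L hK, ← symDim_fieldExt τ h₀ h2 K L hK]
  exact symDim_eq_of_isoOver σ τ h₀ h2 hL (hiso.baseChange L)

end Invariance


section Compute
variable {S : Type u} [CommRing S] {R : Type v} [CommRing R] [Algebra S R]
  {lam : R ≃ₐ[S] R}

/-- the range of the symmetrising projector is the fixed space of the involution -/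
theorem range_eK_eq_symSub {A : Type*} [AddCommGroup A] [Module R A] (t : A →+ A)
    (ht : ∀ r a, t (r • a) = lam r • t a) (K : Type*) [CommRing K] [Algebra R K]
    (hK : ∀ r, algebraMap R K (lam r) = algebraMap R K r) (htt : ∀ a, t (t a) = a)
    (h₀ : R) (h2 : 2 * h₀ = 1) :
    LinearMap.range (eK t lam ht K hK h₀) = symSub (tK t lam ht K hK) := by
  ext x
  rw [mem_symSub]
  constructor
  · rintro ⟨y, rfl⟩
    rw [eK_apply, ← algebraMap_smul K h₀, map_smul, map_add, tK_tK t lam ht K hK htt, add_comm]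
  · intro hx
    refine ⟨x, ?_⟩
    rw [eK_apply, hx, ← two_smul R x, smul_smul, mul_comm, h2, one_smul]

variable (K : Type*) [Field K] [Algebra R K] (hK : ∀ r, algebraMap R K (lam r) = algebraMap R K r)

theorem isUnit_two_of (h₀ : R) (h2 : 2 * h₀ = 1) : IsUnit (2 : K) := by
  refine IsUnit.of_mul_eq_one (algebraMap R K h₀) ?_
  rw [← map_ofNat (algebraMap R K) 2, ← map_mul, h2, map_one]

include hK in
/-- in matrix coordinates the extension of the `lam`-transpose is the swap -/
theorem coord_tL_transpose (hlam : ∀ r, lam (lam r) = r) (n : ℕ)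
    (x : K ⊗[R] Matrix (Fin n) (Fin n) R) :
    coord K (e₁ R (Fin n)) (tL (LamInv.transpose lam (Fin n) hlam) hK x) =
      swapOp K (Fin n) (coord K (e₁ R (Fin n)) x) := by
  induction x using TensorProduct.induction_on with
  | zero => simp
  | add x y hx hy => rw [map_add, map_add, hx, hy, map_add, map_add]
  | tmul k M =>
    ext p
    rw [tK_tmul, coord_tmul, swapOp_apply, coord_tmul, e₁_apply, e₁_apply, Algebra.smul_def,
      Algebra.smul_def]
    show algebraMap R K (lam (M p.2 p.1)) * k = _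
    rw [hK]
    rfl

include hK in
/-- the symmetric dimension of the `lam`-transpose -/
theorem symDim_transpose (hlam : ∀ r, lam (lam r) = r) (h₀ : R) (h2 : 2 * h₀ = 1) (n : ℕ) :
    symDim (LamInv.transpose lam (Fin n) hlam) K = (n + 1).choose 2 := by
  let τ := LamInv.transpose lam (Fin n) hlam
  rw [symDim_eq_finrank_range τ hK h₀ h2,
    range_eK_eq_symSub τ.toAddMonoidHom (toAddMonoidHom_smul τ) K hK (fun a => τ.invol a) h₀ h2,
    (symEquivOfComm (tL τ hK) (swapOp K (Fin n)) (coord K (e₁ R (Fin n)))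
      (coord_tL_transpose K hK hlam n)).finrank_eq, finrank_symSub_swapOp, Fintype.card_fin]

include hK in
/-- the symmetric dimension of the standard symplectic involution is not that of the
transpose -/
theorem symDim_tauMinus_ne (hlam : ∀ r, lam (lam r) = r) (h₀ : R) (h2 : 2 * h₀ = 1) (m : ℕ)
    (hm : 0 < m * 2) :
    symDim (tauMinus lam hlam m) K ≠ (m * 2 + 1).choose 2 := by
  classical
  let n := m * 2
  let τ := LamInv.transpose lam (Fin n) hlam
  let σ := tauMinus lam hlam m
  let J : Matrix (Fin n) (Fin n) R := Jn R m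
  have hJJ : J * J = -1 := Jn_mul_Jn m
  have hτJ : τ J = -J := lamT_Jn lam.toRingEquiv m
  -- right multiplication by `J`
  let ρ : Matrix (Fin n) (Fin n) R ≃ₗ[R] Matrix (Fin n) (Fin n) R :=
    { toFun := fun M => M * J
      invFun := fun M => M * (-J)
      map_add' := fun M N => add_mul M N J
      map_smul' := fun r M => Matrix.smul_mul r M J
      left_inv := fun M => by
        show M * J * (-J) = M
        rw [mul_assoc, Matrix.mul_neg, hJJ, neg_neg, mul_one]
      right_inv := fun M => by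
        show M * (-J) * J = M
        rw [mul_assoc, Matrix.neg_mul, hJJ, neg_neg, mul_one] }
  let ρK : K ⊗[R] Matrix (Fin n) (Fin n) R ≃ₗ[K] K ⊗[R] Matrix (Fin n) (Fin n) R :=
    LinearEquiv.baseChange R K _ _ ρ
  have hρK : ∀ (k : K) (M : Matrix (Fin n) (Fin n) R), ρK (k ⊗ₜ[R] M) = k ⊗ₜ[R] (M * J) :=
    fun k M => rfl
  have hanti : ∀ x, ρK (tL σ hK x) = -tL τ hK (ρK x) := by
    intro x
    induction x using TensorProduct.induction_on with
    | zero => simp
    | add x y hx hy => rw [map_add, map_add, hx, hy, map_add, map_add, neg_add]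
    | tmul k M =>
      rw [tK_tmul, hρK, hρK, tK_tmul, ← TensorProduct.tmul_neg]
      congr 1
      show σ M * J = -τ (M * J)
      rw [tauMinus_apply, τ.map_mul, hτJ]
      show J * τ M * -J * J = -(-J * τ M)
      rw [mul_assoc (J * τ M), Matrix.neg_mul J J, hJJ, neg_neg, mul_one, Matrix.neg_mul, neg_neg]
  let g : K ⊗[R] Matrix (Fin n) (Fin n) R ≃ₗ[K] (Fin n × Fin n → K) :=
    ρK.trans (coord K (e₁ R (Fin n)))
  have hg : ∀ x, g (tL σ hK x) = -swapOp K (Fin n) (g x) := by
    intro x
    show coord K (e₁ R (Fin n)) (ρK (tL σ hK x)) = _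
    rw [hanti, map_neg, coord_tL_transpose K hK hlam n]
    rfl
  have h2K : IsUnit (2 : K) := isUnit_two_of K h₀ h2
  have hcompl := isCompl_symSub_skewSub (swapOp K (Fin n)) (swapOp_swapOp K (Fin n)) h2K
  have hsum := Submodule.finrank_add_eq_of_isCompl hcompl
  rw [finrank_symSub_swapOp, Module.finrank_pi, Fintype.card_prod, Fintype.card_fin] at hsum
  rw [symDim_eq_finrank_range σ hK h₀ h2,
    range_eK_eq_symSub σ.toAddMonoidHom (toAddMonoidHom_smul σ) K hK (fun a => σ.invol a) h₀ h2,
    (symEquivSkewOfAnti (tL σ hK) (swapOp K (Fin n)) g hg).finrank_eq]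
  intro hEq
  rw [hEq] at hsum
  have h4 : (n + 1).choose 2 * 2 = (n + 1) * n := by
    rw [Nat.choose_two_right, Nat.add_sub_cancel]
    exact Nat.div_mul_cancel (Nat.even_mul_pred_self (n + 1)).two_dvd
  have hn : 0 < n := hm
  nlinarith

end Compute


section ClaimL
variable {S : Type u} [CommRing S] {R : Type v} [CommRing R] [Algebra S R]
  {X : Type w} [Ring X] [Algebra S X] [Algebra R X] [IsScalarTower S R X]
  {lam : R ≃ₐ[S] R}

/-- at a ramified prime, an involution locally isomorphic to the transpose is orthogonal -/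
theorem symDim_of_isoNear_transpose [Module.Finite R X] (hlam : ∀ r, lam (lam r) = r)
    (σ : LamInv R X lam) (h₀ : R) (h2 : 2 * h₀ = 1) (q : PrimeSpectrum R)
    (hq : ∀ r : R, lam r - r ∈ q.asIdeal) (n : ℕ)
    (h : IsoNear lam (PrimeSpectrum.comap (algebraMap S R) q) σ
      (LamInv.transpose lam (Fin n) hlam)) :
    symDim σ q.asIdeal.ResidueField = (n + 1).choose 2 := by
  rw [symDim_eq_of_isoNear σ _ h₀ h2 q hq h]
  exact symDim_transpose _ (algebraMap_residueField_lam q hq) hlam h₀ h2 n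

/-- at a ramified prime, an involution locally isomorphic to the standard symplectic involution
is not orthogonal -/
theorem symDim_of_isoNear_tauMinus [Module.Finite R X] (hlam : ∀ r, lam (lam r) = r)
    (σ : LamInv R X lam) (h₀ : R) (h2 : 2 * h₀ = 1) (q : PrimeSpectrum R)
    (hq : ∀ r : R, lam r - r ∈ q.asIdeal) (m : ℕ) (hm : 0 < m * 2)
    (h : IsoNear lam (PrimeSpectrum.comap (algebraMap S R) q) σ (tauMinus lam hlam m)) :
    symDim σ q.asIdeal.ResidueField ≠ (m * 2 + 1).choose 2 := by
  rw [symDim_eq_of_isoNear σ _ h₀ h2 q hq h]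
  exact symDim_tauMinus_ne _ (algebraMap_residueField_lam q hq) hlam h₀ h2 m hm

end ClaimL

section Std
variable {S : Type u} [CommRing S] {R : Type v} [CommRing R] [Algebra S R] (lam : R ≃ₐ[S] R)
  (hlam : ∀ r, lam (lam r) = r)

theorem IsoNear.refl' {X : Type w} [Ring X] [Algebra S X] [Algebra R X] [IsScalarTower S R X]
    (p : PrimeSpectrum S) (σ : LamInv R X lam) : IsoNear lam p σ σ :=
  ⟨S, inferInstance, inferInstance, inferInstance, ⟨p, PrimeSpectrum.ext (Ideal.ext fun _ => Iff.rfl)⟩,
    IsoOver.refl S _⟩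

theorem isoNear_transpose_cast (p : PrimeSpectrum S) {N N' : ℕ} (h : N = N') :
    IsoNear lam p (LamInv.transpose lam (Fin N) hlam) (LamInv.transpose lam (Fin N') hlam) := by
  subst h
  exact IsoNear.refl' lam p _

/-- amplification of the transpose -/
theorem isoNear_amp_transpose (p : PrimeSpectrum S) (k n : ℕ) :
    IsoNear lam p ((LamInv.transpose lam (Fin n) hlam).matrix (Fin k))
      (LamInv.transpose lam (Fin (k * n)) hlam) :=
  IsoNear.of_locIsoEt (LocIsoEt.of_algEquiv S lam _ _ (Xi R k n)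
    (fun M => Xi_matrix_transpose lam hlam k n M)) p

/-- the amplification of the standard symplectic involution, on the matrix algebra -/
noncomputable def ampNeg (k m : ℕ) :
    LamInv R (Matrix (Fin (k * (m * 2))) (Fin (k * (m * 2))) R) lam :=
  transportAlg ((tauMinus lam hlam m).matrix (Fin k)) (Xi R k (m * 2))

/-- the skew-hermitian matrix of `ampNeg` -/
def ampG (R : Type v) [CommRing R] (k m : ℕ) : Matrix (Fin (k * (m * 2))) (Fin (k * (m * 2))) R :=
  Xi R k (m * 2) (Matrix.diagonal fun _ => Jn R m)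

/-- its inverse -/
def ampGi (R : Type v) [CommRing R] (k m : ℕ) : Matrix (Fin (k * (m * 2))) (Fin (k * (m * 2))) R :=
  Xi R k (m * 2) (Matrix.diagonal fun _ => -Jn R m)

theorem ampG_mul_ampGi (k m : ℕ) : ampG R k m * ampGi R k m = 1 := by
  unfold ampG ampGi
  rw [Xi_diagonal_mul, Matrix.mul_neg, Jn_mul_Jn, neg_neg, Xi_diagonal_one]

theorem ampGi_mul_ampG (k m : ℕ) : ampGi R k m * ampG R k m = 1 := by
  unfold ampG ampGi
  rw [Xi_diagonal_mul, Matrix.neg_mul, Jn_mul_Jn, neg_neg, Xi_diagonal_one]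

include hlam in
theorem lamT_ampGi (k m : ℕ) : lamT lam.toRingEquiv (ampGi R k m) = -ampGi R k m := by
  unfold ampGi
  show LamInv.transpose lam (Fin (k * (m * 2))) hlam
    (Xi R k (m * 2) (Matrix.diagonal fun _ => -Jn R m)) = _
  rw [transpose_Xi_diagonal, LamInv.map_neg]
  have h3 : LamInv.transpose lam (Fin (m * 2)) hlam (Jn R m) = -Jn R m :=
    lamT_Jn lam.toRingEquiv m
  rw [h3, neg_neg, Xi_diagonal_neg, neg_neg]

theorem ampNeg_apply (k m : ℕ) (M : Matrix (Fin (k * (m * 2))) (Fin (k * (m * 2))) R) :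
    ampNeg lam hlam k m M =
      ampG R k m * LamInv.transpose lam (Fin (k * (m * 2))) hlam M * ampGi R k m :=
  transportAlg_matrix_conj lam hlam k (m * 2) (tauMinus lam hlam m) (Jn R m) (-Jn R m)
    (fun M => tauMinus_apply lam hlam m M) M

theorem isoNear_ampNeg (p : PrimeSpectrum S) (k m : ℕ) :
    IsoNear lam p ((tauMinus lam hlam m).matrix (Fin k)) (ampNeg lam hlam k m) :=
  IsoNear.of_locIsoEt (LocIsoEt.of_algEquiv S lam _ _ (Xi R k (m * 2))
    (isInvHom_transportAlg _ _)) p

end Std


section Local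
variable {S : Type u} [CommRing S] {R : Type v} [CommRing R] [Algebra S R] (lam : R ≃ₐ[S] R)

/-- at an unramified point the two standard involutions are locally isomorphic -/
theorem isoNear_tauMinus_transpose_of_not_ramAt (hlam : ∀ r, lam (lam r) = r)
    (hfix : RInv.IsFixedRing S R lam.toRingEquiv)
    (hsq : ∀ (S₁ : Type u) [CommRing S₁] [Algebra S S₁] [Algebra.Etale S S₁] (x : S₁ˣ),
      ∃ (S₂ : Type u) (_ : CommRing S₂) (_ : Algebra S₁ S₂) (_ : Algebra.Etale S₁ S₂)
        (_ : Module.FaithfullyFlat S₁ S₂) (y : S₂), y * y = algebraMap S₁ S₂ ↑x)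
    (h2 : IsUnit (2 : S)) (p : PrimeSpectrum S) (hnr : ¬ RamAt lam p.asIdeal) (m : ℕ)
    (hm : 0 < m * 2) :
    IsoNear lam p (tauMinus lam hlam m) (LamInv.transpose lam (Fin (m * 2)) hlam) := by
  classical
  haveI := p.isPrime
  obtain ⟨u, hu, huu⟩ := exists_skew_unit_of_not_ramAt lam hlam hfix p.asIdeal hnr
  let ι : R →ₐ[S] Localization.AtPrime p.asIdeal ⊗[S] R :=
    inc (S := S) (R := R) (Localization.AtPrime p.asIdeal)
  let h : Matrix (Fin (m * 2)) (Fin (m * 2)) R := u • Jn R m
  have herm : (h.map lam).transpose = h := by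
    show lamT lam.toRingEquiv (u • Jn R m) = u • Jn R m
    rw [lamT_smul, lamT_Jn, smul_neg, ← neg_smul]
    congr 1
    show -(lam u) = u
    rw [hu, neg_neg]
  have hJu : IsUnit ((Jn R m).map ι) :=
    (JnU R m).isUnit.map (ι.toRingHom.mapMatrix :
      Matrix (Fin (m * 2)) (Fin (m * 2)) R →+* Matrix (Fin (m * 2)) (Fin (m * 2)) _)
  have hh : IsUnit (h.map ι) := by
    have : h.map ι = ι u • (Jn R m).map ι := by
      ext i j
      show ι (u * Jn R m i j) = ι u * ι (Jn R m i j)
      rw [map_mul]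
    rw [this]
    exact isUnit_smul_matrix huu hJu
  obtain ⟨f, hfp, T, i1, i2, i3, hT, hC⟩ := exists_etale_nbhd_congrOne lam hlam hfix hsq p.asIdeal
    (m * 2) (Or.inr h2) h hh herm
  refine ⟨T, i1, i2, i3, hT p hfp, ?_⟩
  exact isoOver_of_congr lam hlam (m * 2) hm (tauMinus lam hlam m)
    (LamInv.transpose lam (Fin (m * 2)) hlam) (Jn R m) (-Jn R m) 1 1
    (by rw [Matrix.neg_mul, Jn_mul_Jn, neg_neg]) (one_mul 1)
    (fun M => tauMinus_apply lam hlam m M) (fun M => by rw [one_mul, mul_one]) u T hC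

/-- at a ramified point a twist of the transpose by a skew-hermitian invertible matrix is locally
the standard symplectic involution -/
theorem isoNear_tauMinus_of_ramAt (hlam : ∀ r, lam (lam r) = r)
    (hfix : RInv.IsFixedRing S R lam.toRingEquiv)
    (hsq : ∀ (S₁ : Type u) [CommRing S₁] [Algebra S S₁] [Algebra.Etale S S₁] (x : S₁ˣ),
      ∃ (S₂ : Type u) (_ : CommRing S₂) (_ : Algebra S₁ S₂) (_ : Algebra.Etale S₁ S₂)
        (_ : Module.FaithfullyFlat S₁ S₂) (y : S₂), y * y = algebraMap S₁ S₂ ↑x)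
    (h2 : IsUnit (2 : S)) (N : ℕ) (hN : 0 < N)
    (t₂ : LamInv R (Matrix (Fin N) (Fin N) R) lam)
    (G Gi : Matrix (Fin N) (Fin N) R) (hGGi : G * Gi = 1) (hGiG : Gi * G = 1)
    (hsk : lamT lam.toRingEquiv Gi = -Gi)
    (ht₂ : ∀ M, t₂ M = G * LamInv.transpose lam (Fin N) hlam M * Gi)
    (p : PrimeSpectrum S) (hram : RamAt lam p.asIdeal) :
    ∃ M : ℕ, N = M * 2 ∧ IsoNear lam p t₂ (tauMinus lam hlam M) := by
  let g : (Matrix (Fin N) (Fin N) R)ˣ := ⟨G, Gi, hGGi, hGiG⟩
  rcases isoNear_std_of_conj lam hlam hfix hsq h2 N hN t₂ g (fun M => ht₂ M) p with h | h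
  · exact (not_isoNear_of_ramAt lam hlam hfix h2 N hN t₂ G Gi hGGi hGiG hsk ht₂ p hram h.symm).elim
  · exact h

end Local

section Main
variable (S : Type u) [CommRing S] (R : Type v) [CommRing R] [Algebra S R]

/-- **same type iff the signs agree on the ramification locus** -/
theorem sameType_iff_symDim (lam : R ≃ₐ[S] R) (hlam : ∀ r, lam (lam r) = r)
    (hfix : RInv.IsFixedRing S R lam.toRingEquiv) (h2 : IsUnit (2 : S))
    (A : Type w) [Ring A] [Algebra S A] [Algebra R A] [IsScalarTower S R A]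
    (A' : Type w') [Ring A'] [Algebra S A'] [Algebra R A'] [IsScalarTower S R A']
    (n n' : ℕ) (hn : 0 < n) (hn' : 0 < n') (hA : IsAzumayaDeg R A n) (hA' : IsAzumayaDeg R A' n')
    (t : LamInv R A lam) (t' : LamInv R A' lam) :
    SameType S lam t t' ↔
      ∀ q : PrimeSpectrum R, (∀ r : R, lam r - r ∈ q.asIdeal) →
        (symDim t q.asIdeal.ResidueField = (n + 1).choose 2 ↔
          symDim t' q.asIdeal.ResidueField = (n' + 1).choose 2) := by
  classical
  obtain ⟨hAz, hrk⟩ := hA
  obtain ⟨hAz', hrk'⟩ := hA'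
  haveI := hAz
  haveI := hAz'
  have hsq := hsq_of_two h2
  obtain ⟨u2, hu2⟩ := h2
  have h2' : IsUnit (2 : S) := ⟨u2, hu2⟩
  let h₀ : R := algebraMap S R ↑u2⁻¹
  have h2h : (2 : R) * h₀ = 1 := by
    have : (2 : S) * ↑u2⁻¹ = 1 := by rw [← hu2]; exact u2.mul_inv
    have := congrArg (algebraMap S R) this
    rwa [map_mul, map_ofNat, map_one] at this
  have std := fun p => isoNear_std S R A lam hlam hfix hsq h2' n hn hrk t p
  have std' := fun p => isoNear_std S R A' lam hlam hfix hsq h2' n' hn' hrk' t' p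
  constructor
  · rintro ⟨k, k', hk, hk', hloc⟩ q hq
    let p := PrimeSpectrum.comap (algebraMap S R) q
    have hmat : IsoNear lam p (t.matrix (Fin k)) (t'.matrix (Fin k')) := IsoNear.of_locIsoEt hloc p
    have mix : ∀ (N k₁ k₂ m : ℕ), 0 < k₁ → 0 < N → 0 < k₂ → 0 < m * 2 →
        IsoNear lam p ((LamInv.transpose lam (Fin N) hlam).matrix (Fin k₁))
          ((tauMinus lam hlam m).matrix (Fin k₂)) →
        IsoNear lam p (tauMinus lam hlam m) (LamInv.transpose lam (Fin (m * 2)) hlam) := by
      intro N k₁ k₂ m hk₁ hN hk₂ hm hnear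
      obtain ⟨T, i1, i2, i3, ⟨P, hP⟩, hiso⟩ :=
        ((isoNear_amp_transpose lam hlam p k₁ N).symm.trans hnear).trans
          (isoNear_ampNeg lam hlam p k₂ m)
      rw [← hP]
      exact isoNear_tauMinus_transpose_of_isoOver lam hlam hfix hsq h2' (k₁ * N) (k₂ * (m * 2))
        (Nat.mul_pos hk₁ hN) (Nat.mul_pos hk₂ hm) (ampNeg lam hlam k₂ m) (ampG R k₂ m)
        (ampGi R k₂ m) (ampG_mul_ampGi k₂ m) (ampGi_mul_ampG k₂ m) (lamT_ampGi lam hlam k₂ m)
        (ampNeg_apply lam hlam k₂ m) T P hiso m hm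
    rcases std p with h₁ | ⟨m, hm, h₁⟩ <;> rcases std' p with h₂ | ⟨m', hm', h₂⟩
    · exact iff_of_true (symDim_of_isoNear_transpose hlam t h₀ h2h q hq n h₁)
        (symDim_of_isoNear_transpose hlam t' h₀ h2h q hq n' h₂)
    · subst hm'
      exfalso
      have hsw := mix n k k' m' hk hn hk' hn'
        (((IsoNear.matrix lam (Fin k) h₁).symm.trans hmat).trans (IsoNear.matrix lam (Fin k') h₂))
      exact symDim_of_isoNear_tauMinus hlam t' h₀ h2h q hq m' hn' h₂
        (symDim_of_isoNear_transpose hlam t' h₀ h2h q hq (m' * 2) (h₂.trans hsw))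
    · subst hm
      exfalso
      have hsw := mix n' k' k m hk' hn' hk hn
        (((IsoNear.matrix lam (Fin k') h₂).symm.trans hmat.symm).trans
          (IsoNear.matrix lam (Fin k) h₁))
      exact symDim_of_isoNear_tauMinus hlam t h₀ h2h q hq m hn h₁
        (symDim_of_isoNear_transpose hlam t h₀ h2h q hq (m * 2) (h₁.trans hsw))
    · subst hm
      subst hm'
      exact iff_of_false (symDim_of_isoNear_tauMinus hlam t h₀ h2h q hq m hn h₁)
        (symDim_of_isoNear_tauMinus hlam t' h₀ h2h q hq m' hn' h₂)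
  · intro H
    refine ⟨n', n, hn', hn, locIsoEt_of_isoNear fun p => ?_⟩
    have PP : IsoNear lam p t (LamInv.transpose lam (Fin n) hlam) →
        IsoNear lam p t' (LamInv.transpose lam (Fin n') hlam) →
        IsoNear lam p (t.matrix (Fin n')) (t'.matrix (Fin n)) := by
      intro h₁ h₂
      exact ((IsoNear.matrix lam (Fin n') h₁).trans (isoNear_amp_transpose lam hlam p n' n)).trans
        ((isoNear_transpose_cast lam hlam p (Nat.mul_comm n' n)).trans
          ((IsoNear.matrix lam (Fin n) h₂).trans (isoNear_amp_transpose lam hlam p n n')).symm)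
    by_cases hram : RamAt lam p.asIdeal
    · obtain ⟨q, hqp, hqc, hql⟩ := exists_prime_of_ramAt lam hlam hfix p.asIdeal hram
      let qq : PrimeSpectrum R := ⟨q, hqp⟩
      have hqq : PrimeSpectrum.comap (algebraMap S R) qq = p := PrimeSpectrum.ext hqc
      have Hq := H qq hql
      rcases std p with h₁ | ⟨m, hm, h₁⟩ <;> rcases std' p with h₂ | ⟨m', hm', h₂⟩
      · exact PP h₁ h₂
      · exfalso
        subst hm'
        rw [← hqq] at h₁ h₂
        exact symDim_of_isoNear_tauMinus hlam t' h₀ h2h qq hql m' hn' h₂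
          (Hq.1 (symDim_of_isoNear_transpose hlam t h₀ h2h qq hql n h₁))
      · exfalso
        subst hm
        rw [← hqq] at h₁ h₂
        exact symDim_of_isoNear_tauMinus hlam t h₀ h2h qq hql m hn h₁
          (Hq.2 (symDim_of_isoNear_transpose hlam t' h₀ h2h qq hql n' h₂))
      · subst hm
        subst hm'
        obtain ⟨M₁, hM₁, g₁⟩ := isoNear_tauMinus_of_ramAt lam hlam hfix hsq h2' ((m' * 2) * (m * 2))
          (Nat.mul_pos hn' hn) (ampNeg lam hlam (m' * 2) m) (ampG R (m' * 2) m) (ampGi R (m' * 2) m)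
          (ampG_mul_ampGi (m' * 2) m) (ampGi_mul_ampG (m' * 2) m) (lamT_ampGi lam hlam (m' * 2) m)
          (ampNeg_apply lam hlam (m' * 2) m) p hram
        obtain ⟨M₂, hM₂, g₂⟩ := isoNear_tauMinus_of_ramAt lam hlam hfix hsq h2' ((m * 2) * (m' * 2))
          (Nat.mul_pos hn hn') (ampNeg lam hlam (m * 2) m') (ampG R (m * 2) m') (ampGi R (m * 2) m')
          (ampG_mul_ampGi (m * 2) m') (ampGi_mul_ampG (m * 2) m') (lamT_ampGi lam hlam (m * 2) m')
          (ampNeg_apply lam hlam (m * 2) m') p hram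
        have hMM : M₁ = M₂ := by
          have : M₁ * 2 = M₂ * 2 := by rw [← hM₁, ← hM₂, Nat.mul_comm]
          omega
        subst hMM
        exact ((IsoNear.matrix lam (Fin (m' * 2)) h₁).trans
            ((isoNear_ampNeg lam hlam p (m' * 2) m).trans g₁)).trans
          ((IsoNear.matrix lam (Fin (m * 2)) h₂).trans
            ((isoNear_ampNeg lam hlam p (m * 2) m').trans g₂)).symm
    · have h₁ : IsoNear lam p t (LamInv.transpose lam (Fin n) hlam) := by
        rcases std p with h | ⟨m, hm, h⟩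
        · exact h
        · subst hm
          exact h.trans (isoNear_tauMinus_transpose_of_not_ramAt lam hlam hfix hsq h2' p hram m hn)
      have h₂ : IsoNear lam p t' (LamInv.transpose lam (Fin n') hlam) := by
        rcases std' p with h | ⟨m, hm, h⟩
        · exact h
        · subst hm
          exact h.trans (isoNear_tauMinus_transpose_of_not_ramAt lam hlam hfix hsq h2' p hram m hn')
      exact PP h₁ h₂

end Main

end Groth.Agent.Lib.Helper25.AzInvSign
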