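import Mathlib
import Groth.Prelude.Def_Curves
import Groth.Agent.Lib.Helper39.MatrixCancel

/-!
# Brauer equivalence phrased with matrix algebras, for arbitrary `k`-algebras
-/

set_option autoImplicit false
universe u v w
open scoped TensorProduct

namespace Groth.Agent.Lib.Helper25.BrauerRel

variable (k : Type u) [Field k]

/-- Matrix algebras of positive sizes over `X` and `Y` are isomorphic. -/
def BrEq (X : Type*) [Ring X] [Algebra k X] (Y : Type*) [Ring Y] [Algebra k Y] : Prop :=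
  ∃ n m : ℕ, n ≠ 0 ∧ m ≠ 0 ∧
    Nonempty (Matrix (Fin n) (Fin n) X ≃ₐ[k] Matrix (Fin m) (Fin m) Y)

variable {k}
variable {X : Type*} [Ring X] [Algebra k X] {Y : Type*} [Ring Y] [Algebra k Y]
  {Z : Type*} [Ring Z] [Algebra k Z]

theorem BrEq.symm (h : BrEq k X Y) : BrEq k Y X := by
  obtain ⟨n, m, hn, hm, ⟨φ⟩⟩ := h
  exact ⟨m, n, hm, hn, ⟨φ.symm⟩⟩

theorem BrEq.of_algEquiv (e : X ≃ₐ[k] Y) : BrEq k X Y :=
  ⟨1, 1, one_ne_zero, one_ne_zero, ⟨e.mapMatrix⟩⟩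

/-- `M_p(M_n(X)) ≃ M_{p n}(X)` -/
noncomputable def matMat (p n : ℕ) (X : Type*) [Ring X] [Algebra k X] :
    Matrix (Fin p) (Fin p) (Matrix (Fin n) (Fin n) X) ≃ₐ[k] Matrix (Fin (p * n)) (Fin (p * n)) X :=
  (Matrix.compAlgEquiv (Fin p) (Fin n) X k).trans (Matrix.reindexAlgEquiv k X finProdFinEquiv)

/-- `M_p(M_n(X)) ≃ M_n(M_p(X))` -/
noncomputable def matSwap (p n : ℕ) (X : Type*) [Ring X] [Algebra k X] :
    Matrix (Fin p) (Fin p) (Matrix (Fin n) (Fin n) X) ≃ₐ[k]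
      Matrix (Fin n) (Fin n) (Matrix (Fin p) (Fin p) X) :=
  (Matrix.compAlgEquiv (Fin p) (Fin n) X k).trans
    ((Matrix.reindexAlgEquiv k X (Equiv.prodComm (Fin p) (Fin n))).trans
      (Matrix.compAlgEquiv (Fin n) (Fin p) X k).symm)

theorem BrEq.trans (h : BrEq k X Y) (h' : BrEq k Y Z) : BrEq k X Z := by
  obtain ⟨n, m, hn, hm, ⟨φ⟩⟩ := h
  obtain ⟨p, q, hp, hq, ⟨ψ⟩⟩ := h'
  refine ⟨p * n, m * q, mul_ne_zero hp hn, mul_ne_zero hm hq, ⟨?_⟩⟩
  exact (matMat p n X).symm.trans (φ.mapMatrix.trans ((matSwap p m Y).trans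
    (ψ.mapMatrix.trans (matMat m q Z))))

/-- `M_n(X ⊗ A) ≃ M_n(X) ⊗ A` -/
noncomputable def matTensor (n : ℕ) (X : Type*) [Ring X] [Algebra k X] (A : Type*) [Ring A]
    [Algebra k A] :
    Matrix (Fin n) (Fin n) (X ⊗[k] A) ≃ₐ[k] Matrix (Fin n) (Fin n) X ⊗[k] A :=
  (matrixEquivTensor (Fin n) k (X ⊗[k] A)).trans
    ((Algebra.TensorProduct.assoc k k k X A (Matrix (Fin n) (Fin n) k)).trans
      ((Algebra.TensorProduct.congr AlgEquiv.refl
        (Algebra.TensorProduct.comm k A (Matrix (Fin n) (Fin n) k))).trans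
        ((Algebra.TensorProduct.assoc k k k X (Matrix (Fin n) (Fin n) k) A).symm.trans
          (Algebra.TensorProduct.congr (matrixEquivTensor (Fin n) k X).symm AlgEquiv.refl))))

theorem BrEq.tensor_right (h : BrEq k X Y) (A : Type*) [Ring A] [Algebra k A] :
    BrEq k (X ⊗[k] A) (Y ⊗[k] A) := by
  obtain ⟨n, m, hn, hm, ⟨φ⟩⟩ := h
  exact ⟨n, m, hn, hm, ⟨(matTensor n X A).trans
    ((Algebra.TensorProduct.congr φ AlgEquiv.refl).trans (matTensor m Y A).symm)⟩⟩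

/-- `X` is split over `k` iff it is Brauer equivalent to `k`. -/
theorem splits_iff_brEq : Curves.Splits k X k ↔ BrEq k X k := by
  classical
  constructor
  · rintro ⟨n, hn, ⟨φ⟩⟩
    have e : X ≃ₐ[k] Matrix (Fin n) (Fin n) k := (Algebra.TensorProduct.lid k X).symm.trans φ
    have e1 : Matrix (Fin 1) (Fin 1) X ≃ₐ[k] Matrix (Fin 1) (Fin 1) (Matrix (Fin n) (Fin n) k) :=
      e.mapMatrix
    exact ⟨1, 1 * n, one_ne_zero, by simpa using hn, ⟨e1.trans (matMat 1 n k)⟩⟩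
  · rintro ⟨n, m, hn, hm, ⟨φ⟩⟩
    have : NeZero n := ⟨hn⟩
    have : NeZero m := ⟨hm⟩
    -- `X` is simple and finite-dimensional
    have hsM : IsSimpleRing (Matrix (Fin n) (Fin n) X) :=
      IsSimpleRing.of_ringEquiv φ.symm.toRingEquiv inferInstance
    have hfM : Module.Finite k (Matrix (Fin n) (Fin n) X) :=
      Module.Finite.equiv φ.symm.toLinearEquiv
    have hs : IsSimpleRing X :=
      ⟨(TwoSidedIdeal.orderIsoMatrix (n := Fin n) (R := X)).isSimpleOrder⟩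
    have hf : Module.Finite k X :=
      .of_surjective (Matrix.entryLinearMap k X (0 : Fin n) (0 : Fin n))
        fun f ↦ ⟨fun _ _ ↦ f, rfl⟩
    -- `n ∣ m`
    have h1 := φ.toLinearEquiv.finrank_eq
    rw [Module.finrank_matrix, Module.finrank_matrix] at h1
    simp only [Fintype.card_fin, Module.finrank_self, mul_one] at h1
    have hdvd : n ∣ m := by
      have h2 : n ^ 2 ∣ m ^ 2 := ⟨Module.finrank k X, by rw [sq, sq, ← h1]⟩
      exact (Nat.pow_dvd_pow_iff (by norm_num)).mp h2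
    obtain ⟨t, rfl⟩ := hdvd
    have ht : t ≠ 0 := by
      rintro rfl
      exact hm (by simp)
    have ψ : Matrix (Fin n) (Fin n) X ≃ₐ[k] Matrix (Fin n) (Fin n) (Matrix (Fin t) (Fin t) k) :=
      φ.trans (matMat n t k).symm
    have : NeZero t := ⟨ht⟩
    obtain ⟨e⟩ := Groth.Agent.Lib.Helper39.nonempty_algEquiv_of_matrix_algEquiv k X
      (Matrix (Fin t) (Fin t) k) n ψ
    exact ⟨t, ht, ⟨(Algebra.TensorProduct.lid k X).trans e⟩⟩

end Groth.Agent.Lib.Helper25.BrauerRel
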