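import Mathlib
import Groth.Prelude.Def_Curves
import Groth.Agent.Lib.Helper1.CSA.TensorSimple

/-!
# A maximal subfield of a central simple algebra splits it

If `A` is central simple of dimension `m²` over `k` and `ι : K → A` embeds a field extension of
degree `m`, then `K ⊗[k] A ≃ₐ[K] M_m(K)`.
-/

set_option autoImplicit false
universe u v w
open scoped TensorProduct

namespace Groth.Agent.Lib.Helper25.MaximalSubfieldSplits

variable {k : Type u} [Field k] {K : Type v} [Field K] [Algebra k K]
  {A : Type w} [Ring A] [Algebra k A]

/-- `A` viewed as a `K`-vector space through right multiplication by `ι`. -/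
@[nolint unusedArguments]
def RightMod (_ι : K →ₐ[k] A) : Type w := A

namespace RightMod

variable (ι : K →ₐ[k] A)

instance : AddCommGroup (RightMod ι) := inferInstanceAs (AddCommGroup A)
instance : Module k (RightMod ι) := inferInstanceAs (Module k A)

/-- the underlying element -/
def out (v : RightMod ι) : A := v
/-- the element viewed in the module -/
def mk (a : A) : RightMod ι := a

instance : Module K (RightMod ι) where
  smul c v := mk ι (out ι v * ι c)
  one_smul v := by
    change out ι v * ι 1 = v
    rw [map_one, mul_one]; rfl
  mul_smul c d v := by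
    change out ι v * ι (c * d) = (out ι v * ι d) * ι c
    rw [mul_comm c d, map_mul, mul_assoc]
  smul_zero c := zero_mul (ι c)
  smul_add c v w := add_mul (out ι v) (out ι w) (ι c)
  add_smul c d v := by
    change out ι v * ι (c + d) = out ι v * ι c + out ι v * ι d
    rw [map_add, mul_add]
  zero_smul v := by
    change out ι v * ι 0 = 0
    rw [map_zero, mul_zero]

theorem smul_def (c : K) (v : RightMod ι) : c • v = mk ι (out ι v * ι c) := rfl

instance : IsScalarTower k K (RightMod ι) := ⟨fun r c v => by
  change out ι v * ι (r • c) = r • (out ι v * ι c)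
  rw [map_smul, mul_smul_comm]⟩

instance : SMulCommClass K k (RightMod ι) := ⟨fun c r v => by
  change (r • out ι v) * ι c = r • (out ι v * ι c)
  rw [smul_mul_assoc]⟩

/-- left multiplication, as a `K`-linear endomorphism -/
def lmul : A →ₐ[k] Module.End K (RightMod ι) where
  toFun a :=
    { toFun := fun v => mk ι (a * out ι v)
      map_add' := fun v w => mul_add a (out ι v) (out ι w)
      map_smul' := fun c v => (mul_assoc a (out ι v) (ι c)).symm }
  map_one' := by
    ext v
    exact one_mul (out ι v)
  map_mul' a a' := by
    ext v
    exact mul_assoc a a' (out ι v)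
  map_zero' := by
    ext v
    exact zero_mul (out ι v)
  map_add' a a' := by
    ext v
    exact add_mul a a' (out ι v)
  commutes' r := by
    ext v
    change algebraMap k A r * out ι v = r • v
    rw [← Algebra.smul_def]; rfl

end RightMod

/-- A maximal subfield of a central simple algebra splits it. -/
theorem splits_of_algHom [Algebra.IsCentral k A] [IsSimpleRing A] [FiniteDimensional k A]
    [FiniteDimensional k K] (ι : K →ₐ[k] A) (m : ℕ) (hK : Module.finrank k K = m)
    (hA : Module.finrank k A = m ^ 2) : Curves.Splits k A K := by
  classical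
  have hm : 0 < m := by rw [← hK]; exact Module.finrank_pos
  have hfinV : Module.Finite k (RightMod ι) := inferInstanceAs (Module.Finite k A)
  have : FiniteDimensional K (RightMod ι) := FiniteDimensional.right k K (RightMod ι)
  have hVk : Module.finrank k (RightMod ι) = m ^ 2 := hA
  have hV : Module.finrank K (RightMod ι) = m := by
    have h1 := Module.finrank_mul_finrank k K (RightMod ι)
    rw [hK, hVk, sq] at h1
    exact Nat.eq_of_mul_eq_mul_left hm h1
  let bas : Module.Basis (Fin m) K (RightMod ι) := Module.finBasisOfFinrankEq K (RightMod ι) hV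
  let M : A →ₐ[k] Matrix (Fin m) (Fin m) K :=
    ((algEquivMatrix bas).restrictScalars k).toAlgHom.comp (RightMod.lmul ι)
  let Ψ : K ⊗[k] A →ₐ[K] Matrix (Fin m) (Fin m) K :=
    Algebra.TensorProduct.lift (Algebra.ofId K _) M (fun c a => Algebra.commutes c (M a))
  have : NeZero m := ⟨hm.ne'⟩
  have hsimple : IsSimpleRing (K ⊗[k] A) :=
    Groth.Agent.Lib.Helper1.isSimpleRing_tensor_of_isCentral_of_isSimpleRing K A
  have hinj : Function.Injective Ψ := Ψ.toRingHom.injective
  have hdim : Module.finrank K (K ⊗[k] A) = Module.finrank K (Matrix (Fin m) (Fin m) K) := by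
    rw [Module.finrank_baseChange, hA, Module.finrank_matrix]
    simp [sq]
  have hsurj : Function.Surjective Ψ :=
    (LinearMap.injective_iff_surjective_of_finrank_eq_finrank (f := Ψ.toLinearMap) hdim).mp hinj
  exact ⟨m, hm.ne', ⟨AlgEquiv.ofBijective Ψ ⟨hinj, hsurj⟩⟩⟩

end Groth.Agent.Lib.Helper25.MaximalSubfieldSplits
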