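import Mathlib
import Groth.Prelude.Def_GSzCSA
import Groth.Prelude.Def_Curves
import Groth.Agent.Lib.Helper25.MaximalSubfieldSplits

/-!
# A cyclic algebra is central simple and split by its cyclic subfield
-/

set_option autoImplicit false
universe u v w
open scoped TensorProduct

namespace Groth.Agent.Lib.Helper25.CyclicCSA

section Basic

variable {k : Type u} [Field k] {K : Type v} [Field K] [Algebra k K]
  {A : Type w} [Ring A] [Algebra k A]
  (σ : K ≃ₐ[k] K) (ι : K →ₐ[k] A) (y : A)

theorem rel_pow (hrel : ∀ x : K, ι x * y = y * ι (σ x)) (i : ℕ) (x : K) :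
    ι x * y ^ i = y ^ i * ι ((σ ^ i) x) := by
  induction i generalizing x with
  | zero => simp
  | succ i ih =>
    rw [pow_succ, ← mul_assoc, ih, mul_assoc, hrel, ← mul_assoc, pow_succ' σ]
    rfl

/-- The coordinate map `(c_j) ↦ ∑ y^j ι(c_j)`. -/
noncomputable def Φ (m : ℕ) : (Fin m → K) →ₗ[k] A :=
  ∑ j : Fin m, (LinearMap.mulLeft k (y ^ (j : ℕ))) ∘ₗ ι.toLinearMap ∘ₗ
    (LinearMap.proj (R := k) (φ := fun _ : Fin m => K) j)

theorem Φ_apply (m : ℕ) (c : Fin m → K) :
    Φ ι y m c = ∑ j : Fin m, y ^ (j : ℕ) * ι (c j) := by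
  simp [Φ, LinearMap.sum_apply]

theorem Φ_single (m : ℕ) (j : Fin m) (x : K) :
    Φ ι y m (Pi.single j x) = y ^ (j : ℕ) * ι x := by
  classical
  rw [Φ_apply, Finset.sum_eq_single j]
  · simp
  · intro i _ hi
    simp [Pi.single_eq_of_ne hi]
  · simp

theorem Φ_mul_ι (m : ℕ) (c : Fin m → K) (x : K) :
    Φ ι y m c * ι x = Φ ι y m (fun j => c j * x) := by
  simp [Φ_apply, Finset.sum_mul, mul_assoc, ← map_mul]

theorem ι_mul_Φ (hrel : ∀ x : K, ι x * y = y * ι (σ x)) (m : ℕ) (c : Fin m → K) (x : K) :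
    ι x * Φ ι y m c = Φ ι y m (fun j => (σ ^ (j : ℕ)) x * c j) := by
  rw [Φ_apply, Φ_apply, Finset.mul_sum]
  refine Finset.sum_congr rfl fun j _ => ?_
  rw [← mul_assoc, rel_pow σ ι y hrel, mul_assoc, ← map_mul]

theorem Φ_surjective (hrel : ∀ x : K, ι x * y = y * ι (σ x)) (m : ℕ) (hm : 0 < m) (b : k)
    (hy : y ^ m = algebraMap k A b)
    (hgen : Algebra.adjoin k (Set.range ι ∪ {y}) = ⊤) : Function.Surjective (Φ ι y m) := by
  classical
  have key : ∀ a ∈ Algebra.adjoin k (Set.range ι ∪ {y}), ∀ w ∈ LinearMap.range (Φ ι y m),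
      a * w ∈ LinearMap.range (Φ ι y m) := by
    intro a ha
    induction ha using Algebra.adjoin_induction with
    | mem a ha =>
      rcases ha with ⟨x, rfl⟩ | ha
      · rintro _ ⟨c, rfl⟩
        exact ⟨_, (ι_mul_Φ σ ι y hrel m c x).symm⟩
      · rw [Set.mem_singleton_iff] at ha
        subst ha
        rintro _ ⟨c, rfl⟩
        rw [Φ_apply, Finset.mul_sum]
        apply Submodule.sum_mem
        intro j _
        rw [← mul_assoc, ← pow_succ']
        by_cases hj : (j : ℕ) + 1 < m
        · exact ⟨Pi.single ⟨(j : ℕ) + 1, hj⟩ (c j), by rw [Φ_single]⟩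
        · have hjm : (j : ℕ) + 1 = m := by have := j.2; omega
          rw [hjm, hy, ← AlgHom.commutes ι, ← map_mul]
          exact ⟨Pi.single ⟨0, hm⟩ (algebraMap k K b * c j), by rw [Φ_single]; simp⟩
    | algebraMap r =>
      intro w hw
      rw [← Algebra.smul_def]
      exact Submodule.smul_mem _ _ hw
    | add a a' _ _ iha iha' =>
      intro w hw
      rw [add_mul]
      exact Submodule.add_mem _ (iha w hw) (iha' w hw)
    | mul a a' _ _ iha iha' =>
      intro w hw
      rw [mul_assoc]
      exact iha _ (iha' w hw)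
  intro a
  have h1 : (1 : A) ∈ LinearMap.range (Φ ι y m) :=
    ⟨Pi.single ⟨0, hm⟩ 1, by rw [Φ_single]; simp⟩
  have h2 := key a (by rw [hgen]; trivial) 1 h1
  rwa [mul_one] at h2

theorem Φ_bijective [FiniteDimensional k K] (hrel : ∀ x : K, ι x * y = y * ι (σ x)) (m : ℕ)
    (hm : 0 < m) (b : k) (hy : y ^ m = algebraMap k A b)
    (hgen : Algebra.adjoin k (Set.range ι ∪ {y}) = ⊤) (hK : Module.finrank k K = m)
    (hA : Module.finrank k A = m ^ 2) : Function.Bijective (Φ ι y m) := by
  have hsurj := Φ_surjective σ ι y hrel m hm b hy hgen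
  have hfin : FiniteDimensional k A :=
    Module.finite_of_finrank_pos (by rw [hA]; positivity)
  refine ⟨(LinearMap.injective_iff_surjective_of_finrank_eq_finrank ?_).mpr hsurj, hsurj⟩
  rw [Module.finrank_pi_fintype]
  simp [hK, hA, sq]

end Basic

section Main

variable {k : Type u} [Field k] {K : Type v} [Field K] [Algebra k K]
  [FiniteDimensional k K] [IsGalois k K]
  {A : Type w} [Ring A] [Algebra k A]
  (σ : K ≃ₐ[k] K) (hσ : ∀ τ : K ≃ₐ[k] K, τ ∈ Subgroup.zpowers σ)

include hσ

theorem orderOf_eq : orderOf σ = Module.finrank k K := by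
  rw [orderOf_eq_card_of_forall_mem_zpowers hσ, IsGalois.card_aut_eq_finrank]

theorem exists_pow_ne {i j : ℕ} (hi : i < Module.finrank k K) (hj : j < Module.finrank k K)
    (hij : i ≠ j) : ∃ x : K, (σ ^ i) x ≠ (σ ^ j) x := by
  by_contra h
  push Not at h
  have h1 : σ ^ i = σ ^ j := by
    ext x
    exact h x
  rw [← orderOf_eq σ hσ] at hi hj
  exact hij (pow_injOn_Iio_orderOf hi hj h1)

theorem fixed_mem_range {c : K} (hc : σ c = c) : c ∈ Set.range (algebraMap k K) := by
  rw [IsGalois.mem_range_algebraMap_iff_fixed]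
  intro τ
  have h1 : Subgroup.zpowers σ ≤ MulAction.stabilizer (K ≃ₐ[k] K) c := by
    rw [Subgroup.zpowers_le]
    exact hc
  exact h1 (hσ τ)

variable (ι : K →ₐ[k] A) (y : A) (b : kˣ)
  (hy : y ^ Module.finrank k K = algebraMap k A (b : k))
  (hrel : ∀ x : K, ι x * y = y * ι (σ x))
  (hgen : Algebra.adjoin k (Set.range ι ∪ {y}) = ⊤)
  (hpos : 0 < Module.finrank k K)
  (hdim : Module.finrank k A = Module.finrank k K ^ 2)

include hy hpos in
omit hσ [FiniteDimensional k K] [IsGalois k K] in
theorem isUnit_y : IsUnit y := by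
  have h1 : IsUnit (y ^ Module.finrank k K) := by
    rw [hy]
    exact (b.isUnit).map (algebraMap k A)
  exact (isUnit_pow_iff hpos.ne').mp h1

include hy hrel hgen hpos hdim

theorem isCentral : Algebra.IsCentral k A := by
  classical
  have hbij := Φ_bijective σ ι y hrel _ hpos (b : k) hy hgen rfl hdim
  have hnt : Nontrivial A :=
    Module.nontrivial_of_finrank_pos (R := k) (by rw [hdim]; positivity)
  constructor
  intro z hz
  rw [Subalgebra.mem_center_iff] at hz
  obtain ⟨c, rfl⟩ := hbij.2 z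
  have h1 : ∀ x : K, (fun j => c j * x) = (fun j : Fin (Module.finrank k K) =>
      (σ ^ (j : ℕ)) x * c j) := by
    intro x
    apply hbij.1
    rw [← Φ_mul_ι, ← ι_mul_Φ σ ι y hrel]
    exact (hz (ι x)).symm
  have h2 : ∀ j : Fin (Module.finrank k K), (j : ℕ) ≠ 0 → c j = 0 := by
    intro j hj
    obtain ⟨x, hx⟩ := exists_pow_ne σ hσ j.2 hpos hj
    have h3 := congrFun (h1 x) j
    by_contra hc
    apply hx
    have h4 : c j * (σ ^ (j : ℕ)) x = c j * (σ ^ 0) x := by
      rw [pow_zero, AlgEquiv.one_apply, h3, mul_comm]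
    exact mul_left_cancel₀ hc h4
  have h3 : Φ ι y _ c = ι (c ⟨0, hpos⟩) := by
    rw [Φ_apply, Finset.sum_eq_single ⟨0, hpos⟩]
    · simp
    · intro j _ hj
      rw [h2 j (fun h => hj (Fin.ext h))]
      simp
    · simp
  rw [h3] at hz ⊢
  have h4 : σ (c ⟨0, hpos⟩) = c ⟨0, hpos⟩ := by
    apply ι.toRingHom.injective
    have h5 := hz y
    rw [hrel] at h5
    exact ((isUnit_y y b hy hpos).mul_left_cancel h5).symm
  obtain ⟨r, hr⟩ := fixed_mem_range σ hσ h4
  rw [← hr, AlgHom.commutes]
  exact Subalgebra.algebraMap_mem ⊥ r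

theorem isSimpleRing : IsSimpleRing A := by
  classical
  have hbij := Φ_bijective σ ι y hrel _ hpos (b : k) hy hgen rfl hdim
  have hnt : Nontrivial A :=
    Module.nontrivial_of_finrank_pos (R := k) (by rw [hdim]; positivity)
  have hyu := isUnit_y y b hy hpos
  apply IsSimpleRing.of_eq_bot_or_eq_top
  intro I
  by_cases hI : I = ⊥
  · exact Or.inl hI
  right
  obtain ⟨z, hzI, hz0⟩ : ∃ z ∈ I, z ≠ 0 := by
    by_contra h
    push Not at h
    apply hI
    rw [eq_bot_iff]
    intro z hz
    exact (TwoSidedIdeal.mem_bot _).mpr (h z hz)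
  have key : ∀ n : ℕ, ∀ c : Fin (Module.finrank k K) → K,
      (Finset.univ.filter (fun j => c j ≠ 0)).card = n → Φ ι y _ c ∈ I → Φ ι y _ c ≠ 0 →
      (1 : A) ∈ I := by
    intro n
    induction n using Nat.strong_induction_on with
    | _ n ih =>
      intro c hcard hcI hc0
      have hne : ∃ j0, c j0 ≠ 0 := by
        by_contra h
        push Not at h
        apply hc0
        have : c = 0 := funext h
        rw [this, map_zero]
      obtain ⟨j0, hj0⟩ := hne
      by_cases hsingle : ∀ j, j ≠ j0 → c j = 0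
      · have h1 : Φ ι y _ c = y ^ (j0 : ℕ) * ι (c j0) := by
          rw [Φ_apply, Finset.sum_eq_single j0]
          · intro j _ hj
            rw [hsingle j hj]
            simp
          · simp
        have hu : IsUnit (y ^ (j0 : ℕ) * ι (c j0)) :=
          (hyu.pow _).mul ((isUnit_iff_ne_zero.mpr hj0).map ι)
        obtain ⟨u, hu⟩ := hu
        have h2 : (1 : A) = ↑u⁻¹ * Φ ι y _ c := by
          rw [h1, ← hu]
          simp
        rw [h2]
        exact I.mul_mem_left _ _ hcI
      · push Not at hsingle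
        obtain ⟨j1, hj1ne, hj1⟩ := hsingle
        obtain ⟨x, hx⟩ := exists_pow_ne σ hσ j1.2 j0.2 (fun h => hj1ne (Fin.ext h))
        let c' : Fin (Module.finrank k K) → K :=
          fun j => ((σ ^ (j : ℕ)) x - (σ ^ (j0 : ℕ)) x) * c j
        have hc' : Φ ι y _ c' = ι x * Φ ι y _ c - Φ ι y _ c * ι ((σ ^ (j0 : ℕ)) x) := by
          rw [ι_mul_Φ σ ι y hrel, Φ_mul_ι, ← map_sub]
          congr 1
          ext j
          simp only [c', Pi.sub_apply]
          ring
        have hc'I : Φ ι y _ c' ∈ I := by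
          rw [hc']
          exact I.sub_mem (I.mul_mem_left _ _ hcI) (I.mul_mem_right _ _ hcI)
        have hc'0 : Φ ι y _ c' ≠ 0 := by
          intro h
          have h3 := hbij.1 (h.trans (map_zero _).symm)
          have h4 := congrFun h3 j1
          simp only [c', Pi.zero_apply, mul_eq_zero] at h4
          rcases h4 with h4 | h4
          · exact hx (sub_eq_zero.mp h4)
          · exact hj1 h4
        have hlt : (Finset.univ.filter (fun j => c' j ≠ 0)).card < n := by
          rw [← hcard]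
          apply Finset.card_lt_card
          rw [Finset.ssubset_iff_of_subset]
          · exact ⟨j0, by simp [hj0], by simp [c']⟩
          · intro j
            simp only [c', Finset.mem_filter, Finset.mem_univ, true_and, ne_eq, mul_eq_zero,
              not_or]
            exact fun h => h.2
        exact ih _ hlt c' rfl hc'I hc'0
  obtain ⟨c, rfl⟩ := hbij.2 z
  have h1 := key _ c rfl hzI hz0
  exact (TwoSidedIdeal.one_mem_iff _).mp h1

theorem splits : Curves.Splits k A K := by
  have hfin : FiniteDimensional k A :=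
    Module.finite_of_finrank_pos (by rw [hdim]; positivity)
  have := isCentral σ hσ ι y b hy hrel hgen hpos hdim
  have := isSimpleRing σ hσ ι y b hy hrel hgen hpos hdim
  exact Groth.Agent.Lib.Helper25.MaximalSubfieldSplits.splits_of_algHom ι _ rfl hdim

end Main

end Groth.Agent.Lib.Helper25.CyclicCSA
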