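import Mathlib
import Groth.Prelude.Def_GSzCSA
import Groth.Agent.Lib.Helper25.CyclicCSA

/-!
# Uniqueness of the cyclic algebra; independence of the powers of `y`
-/

set_option autoImplicit false
universe u v w

namespace Groth.Agent.Lib.Helper25.CyclicUnique

open Groth.Agent.Lib.Helper25.CyclicCSA

section Mul

variable {k : Type u} [Field k] {K : Type v} [Field K] [Algebra k K]
  {A : Type w} [Ring A] [Algebra k A]
  (σ : K ≃ₐ[k] K) (ι : K →ₐ[k] A) (y : A)

/-- coordinates of the product of two monomials -/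
noncomputable def mulCoord (m : ℕ) (β : k) (i j : Fin m) (c d : K) : Fin m → K :=
  if h : (i : ℕ) + (j : ℕ) < m then Pi.single ⟨(i : ℕ) + (j : ℕ), h⟩ ((σ ^ (j : ℕ)) c * d)
  else Pi.single ⟨(i : ℕ) + (j : ℕ) - m, by have := i.2; have := j.2; omega⟩
    (algebraMap k K β * ((σ ^ (j : ℕ)) c * d))

theorem Φ_single_mul (hrel : ∀ x : K, ι x * y = y * ι (σ x)) (m : ℕ) (β : k)
    (hy : y ^ m = algebraMap k A β) (i j : Fin m) (c d : K) :
    Φ ι y m (Pi.single i c) * Φ ι y m (Pi.single j d) = Φ ι y m (mulCoord σ m β i j c d) := by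
  rw [Φ_single, Φ_single]
  have h1 : y ^ (i : ℕ) * ι c * (y ^ (j : ℕ) * ι d) =
      y ^ ((i : ℕ) + (j : ℕ)) * ι ((σ ^ (j : ℕ)) c * d) := by
    rw [mul_assoc, ← mul_assoc (ι c), rel_pow σ ι y hrel, pow_add, map_mul]
    simp only [mul_assoc]
  rw [h1, mulCoord]
  split_ifs with h
  · rw [Φ_single]
  · rw [Φ_single]
    have hi := i.2
    have hj := j.2
    have h2 : (i : ℕ) + (j : ℕ) = ((i : ℕ) + (j : ℕ) - m) + m := by omega
    conv_lhs => rw [h2, pow_add, hy]
    rw [map_mul ι (algebraMap k K β), AlgHom.commutes, map_mul, mul_assoc]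

end Mul

section Unique

variable {k : Type u} [Field k] {K : Type v} [Field K] [Algebra k K] [FiniteDimensional k K]

/-- Two algebras presented as the cyclic algebra of the same `(K, σ, b)` are isomorphic. -/
theorem nonempty_algEquiv {A₁ : Type*} [Ring A₁] [Algebra k A₁] {A₂ : Type*} [Ring A₂]
    [Algebra k A₂] (σ : K ≃ₐ[k] K) (b : kˣ) (h₁ : CSAGal.IsCyclicAlg k K σ b A₁)
    (h₂ : CSAGal.IsCyclicAlg k K σ b A₂) : Nonempty (A₁ ≃ₐ[k] A₂) := by
  classical
  obtain ⟨ι₁, y₁, hy₁, hrel₁, hgen₁, hpos, hdim₁⟩ := h₁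
  obtain ⟨ι₂, y₂, hy₂, hrel₂, hgen₂, -, hdim₂⟩ := h₂
  have hb₁ := Φ_bijective σ ι₁ y₁ hrel₁ _ hpos (b : k) hy₁ hgen₁ rfl hdim₁
  have hb₂ := Φ_bijective σ ι₂ y₂ hrel₂ _ hpos (b : k) hy₂ hgen₂ rfl hdim₂
  let e₁ := LinearEquiv.ofBijective _ hb₁
  let e₂ := LinearEquiv.ofBijective _ hb₂
  have he₁ : ∀ c, e₁ c = Φ ι₁ y₁ (Module.finrank k K) c := fun c => rfl
  have he₂ : ∀ c, e₂ c = Φ ι₂ y₂ (Module.finrank k K) c := fun c => rfl
  let f : A₁ ≃ₗ[k] A₂ := e₁.symm ≪≫ₗ e₂
  have hf : ∀ c, f (Φ ι₁ y₁ (Module.finrank k K) c) = Φ ι₂ y₂ (Module.finrank k K) c := by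
    intro c
    change e₂ (e₁.symm (Φ ι₁ y₁ (Module.finrank k K) c)) = _
    rw [← he₁, LinearEquiv.symm_apply_apply, he₂]
  have hone : f 1 = 1 := by
    have h1 : (1 : A₁) = Φ ι₁ y₁ (Module.finrank k K) (Pi.single ⟨0, hpos⟩ 1) := by
      rw [Φ_single]; simp
    have h2 : (1 : A₂) = Φ ι₂ y₂ (Module.finrank k K) (Pi.single ⟨0, hpos⟩ 1) := by
      rw [Φ_single]; simp
    rw [h1, hf, ← h2]
  have hmul : ∀ u v, f (u * v) = f u * f v := by
    intro u v
    obtain ⟨c, rfl⟩ := hb₁.2 u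
    obtain ⟨d, rfl⟩ := hb₁.2 v
    rw [hf, hf]
    have hc : c = ∑ i, Pi.single i (c i) := (Finset.univ_sum_single c).symm
    have hd : d = ∑ j, Pi.single j (d j) := (Finset.univ_sum_single d).symm
    rw [hc, hd]
    simp only [map_sum, Finset.sum_mul, Finset.mul_sum]
    refine Finset.sum_congr rfl fun i _ => Finset.sum_congr rfl fun j _ => ?_
    rw [Φ_single_mul σ ι₁ y₁ hrel₁ _ (b : k) hy₁, Φ_single_mul σ ι₂ y₂ hrel₂ _ (b : k) hy₂, hf]
  exact ⟨AlgEquiv.ofLinearEquiv f hone hmul⟩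

end Unique

section Indep

variable {k : Type u} [Field k] {K : Type v} [Field K] [Algebra k K]
  [FiniteDimensional k K] [IsGalois k K]
  {A : Type w} [Ring A] [Algebra k A] [Nontrivial A]
  (σ : K ≃ₐ[k] K) (hσ : ∀ τ : K ≃ₐ[k] K, τ ∈ Subgroup.zpowers σ)
  (ι : K →ₐ[k] A) (y : A) (hyu : IsUnit y) (hrel : ∀ x : K, ι x * y = y * ι (σ x))

include hσ hyu hrel in
/-- If `y` is a unit normalising `ι(K)` through the generator `σ`, the powers `1, y, …, y^{m-1}`
are independent over `K`. -/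
theorem Φ_injective : Function.Injective (Φ ι y (Module.finrank k K)) := by
  classical
  rw [← LinearMap.ker_eq_bot, LinearMap.ker_eq_bot']
  have key : ∀ n : ℕ, ∀ c : Fin (Module.finrank k K) → K,
      (Finset.univ.filter (fun j => c j ≠ 0)).card = n → Φ ι y _ c = 0 → c = 0 := by
    intro n
    induction n using Nat.strong_induction_on with
    | _ n ih =>
      intro c hcard hc0
      by_contra hcne
      have hne : ∃ j0, c j0 ≠ 0 := by
        by_contra h
        push Not at h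
        exact hcne (funext h)
      obtain ⟨j0, hj0⟩ := hne
      by_cases hsingle : ∀ j, j ≠ j0 → c j = 0
      · have h1 : Φ ι y _ c = y ^ (j0 : ℕ) * ι (c j0) := by
          rw [Φ_apply, Finset.sum_eq_single j0]
          · intro j _ hj
            rw [hsingle j hj]
            simp
          · simp
        have hu : IsUnit (y ^ (j0 : ℕ) * ι (c j0)) :=
          (hyu.pow _).mul ((isUnit_iff_ne_zero.mpr hj0).map ι)
        rw [← h1, hc0] at hu
        exact not_isUnit_zero hu
      · push Not at hsingle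
        obtain ⟨j1, hj1ne, hj1⟩ := hsingle
        obtain ⟨x, hx⟩ := exists_pow_ne σ hσ j1.2 j0.2 (fun h => hj1ne (Fin.ext h))
        let c' : Fin (Module.finrank k K) → K :=
          fun j => ((σ ^ (j : ℕ)) x - (σ ^ (j0 : ℕ)) x) * c j
        have hc' : Φ ι y _ c' = ι x * Φ ι y _ c - Φ ι y _ c * ι ((σ ^ (j0 : ℕ)) x) := by
          rw [ι_mul_Φ σ ι y hrel, Φ_mul_ι, ← map_sub]
          congr 1
          ext j
          simp only [c', Pi.sub_apply]
          ring
        have hc'0 : Φ ι y _ c' = 0 := by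
          rw [hc', hc0, mul_zero, zero_mul, sub_zero]
        have hlt : (Finset.univ.filter (fun j => c' j ≠ 0)).card < n := by
          rw [← hcard]
          apply Finset.card_lt_card
          rw [Finset.ssubset_iff_of_subset]
          · exact ⟨j0, by simp [hj0], by simp [c']⟩
          · intro j
            simp only [c', Finset.mem_filter, Finset.mem_univ, true_and, ne_eq, mul_eq_zero,
              not_or]
            exact fun h => h.2
        have h3 := ih _ hlt c' rfl hc'0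
        have h4 := congrFun h3 j1
        simp only [c', Pi.zero_apply, mul_eq_zero] at h4
        rcases h4 with h4 | h4
        · exact hx (sub_eq_zero.mp h4)
        · exact hj1 h4
  intro c hc
  exact key _ c rfl hc

end Indep

end Groth.Agent.Lib.Helper25.CyclicUnique
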