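import Mathlib
import Groth.Prelude.Def_GSzCSA
import Groth.Prelude.Def_Curves
import Groth.Agent.Lib.Helper25.CyclicCSA
import Groth.Agent.Lib.Helper25.CyclicUnique

set_option autoImplicit false
universe u v w
open scoped TensorProduct

namespace Groth.Agent.Lib.Helper25.CyclicNorm

open Groth.Agent.Lib.Helper25.CyclicCSA

section NormProd

variable {k : Type u} [Field k] {K : Type v} [Field K] [Algebra k K] [FiniteDimensional k K]
  [IsGalois k K]

/-- The norm as a product over the powers of a generator of the Galois group. -/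
theorem prod_pow_eq_norm (τ : K ≃ₐ[k] K) (hτ : ∀ g : K ≃ₐ[k] K, g ∈ Subgroup.zpowers τ) (x : K) :
    ∏ i ∈ Finset.range (Module.finrank k K), (τ ^ i) x = algebraMap k K (Algebra.norm k x) := by
  classical
  rw [Algebra.norm_eq_prod_automorphisms]
  have hord : orderOf τ = Module.finrank k K := orderOf_eq τ hτ
  have hinj : ∀ i ∈ Finset.range (Module.finrank k K), ∀ j ∈ Finset.range (Module.finrank k K),
      τ ^ i = τ ^ j → i = j := by
    intro i hi j hj h
    rw [Finset.mem_range, ← hord] at hi hj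
    exact pow_injOn_Iio_orderOf hi hj h
  have himg : (Finset.range (Module.finrank k K)).image (fun i => τ ^ i) = Finset.univ := by
    apply Finset.eq_univ_of_card
    rw [Finset.card_image_of_injOn (fun i hi j hj h => hinj i hi j hj h), Finset.card_range,
      ← Nat.card_eq_fintype_card, IsGalois.card_aut_eq_finrank]
  rw [← himg, Finset.prod_image hinj]

end NormProd

section EndK

variable {k : Type u} [Field k] {K : Type v} [Field K] [Algebra k K] [FiniteDimensional k K]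
  [IsGalois k K] (σ : K ≃ₐ[k] K) (hσ : ∀ τ : K ≃ₐ[k] K, τ ∈ Subgroup.zpowers σ)

/-- the operator `v ↦ x₀ σ⁻¹(v)` -/
noncomputable def T (x₀ : K) : Module.End k K :=
  LinearMap.mulLeft k x₀ ∘ₗ (σ⁻¹ : K ≃ₐ[k] K).toLinearMap

omit [FiniteDimensional k K] [IsGalois k K] in
theorem T_apply (x₀ v : K) : T σ x₀ v = x₀ * (σ⁻¹ : K ≃ₐ[k] K) v := rfl

omit [FiniteDimensional k K] [IsGalois k K] in
theorem T_pow_apply (x₀ : K) (j : ℕ) (v : K) :
    (T σ x₀ ^ j) v = (∏ i ∈ Finset.range j, ((σ⁻¹ : K ≃ₐ[k] K) ^ i) x₀) *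
      ((σ⁻¹ : K ≃ₐ[k] K) ^ j) v := by
  induction j generalizing v with
  | zero => simp
  | succ j ih =>
    rw [pow_succ', Module.End.mul_apply, ih, T_apply, Finset.prod_range_succ', map_mul,
      map_prod]
    have h1 : ∀ i, (σ⁻¹ : K ≃ₐ[k] K) (((σ⁻¹ : K ≃ₐ[k] K) ^ i) x₀) =
        ((σ⁻¹ : K ≃ₐ[k] K) ^ (i + 1)) x₀ := by
      intro i
      rw [pow_succ', AlgEquiv.mul_apply]
    have h2 : (σ⁻¹ : K ≃ₐ[k] K) (((σ⁻¹ : K ≃ₐ[k] K) ^ j) v) =
        ((σ⁻¹ : K ≃ₐ[k] K) ^ (j + 1)) v := by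
      rw [pow_succ', AlgEquiv.mul_apply]
    simp only [h1, h2, pow_zero, AlgEquiv.one_apply]
    ring

include hσ in
theorem T_pow_finrank (x₀ : K) :
    T σ x₀ ^ Module.finrank k K = algebraMap k (Module.End k K) (Algebra.norm k x₀) := by
  have hσ' : ∀ g : K ≃ₐ[k] K, g ∈ Subgroup.zpowers (σ⁻¹ : K ≃ₐ[k] K) := by
    intro g
    rw [Subgroup.zpowers_inv]
    exact hσ g
  ext v
  rw [T_pow_apply, prod_pow_eq_norm _ hσ' x₀]
  have h1 : (σ⁻¹ : K ≃ₐ[k] K) ^ Module.finrank k K = 1 := by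
    rw [← orderOf_eq _ hσ']
    exact pow_orderOf_eq_one _
  rw [h1, AlgEquiv.one_apply, Module.algebraMap_end_apply, Algebra.smul_def]

omit [FiniteDimensional k K] [IsGalois k K] in
theorem lmul_T (x₀ x : K) :
    Algebra.lmul k K x * T σ x₀ = T σ x₀ * Algebra.lmul k K (σ x) := by
  ext v
  have hl : ∀ a b : K, Algebra.lmul k K a b = a * b := fun a b => rfl
  rw [Module.End.mul_apply, Module.End.mul_apply, T_apply, T_apply, hl, hl, map_mul]
  have h1 : (σ⁻¹ : K ≃ₐ[k] K) (σ x) = x := by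
    rw [← AlgEquiv.mul_apply, inv_mul_cancel, AlgEquiv.one_apply]
  rw [h1]
  ring

include hσ in
/-- `End_k(K)` is presented as the cyclic algebra of `(K, σ, N(x₀))`. -/
theorem isCyclicAlg_end (c : kˣ) (x₀ : K) (hx₀ : Algebra.norm k x₀ = (c : k)) :
    CSAGal.IsCyclicAlg k K σ c (Module.End k K) := by
  have hpos : 0 < Module.finrank k K := Module.finrank_pos
  have hTm : T σ x₀ ^ Module.finrank k K = algebraMap k (Module.End k K) (c : k) := by
    rw [T_pow_finrank σ hσ, hx₀]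
  have hTu : IsUnit (T σ x₀) := isUnit_y (T σ x₀) c hTm hpos
  have hrel : ∀ x : K, Algebra.lmul k K x * T σ x₀ = T σ x₀ * Algebra.lmul k K (σ x) :=
    lmul_T σ x₀
  have hinj := Groth.Agent.Lib.Helper25.CyclicUnique.Φ_injective σ hσ (Algebra.lmul k K)
    (T σ x₀) hTu hrel
  have hpi : Module.finrank k (Fin (Module.finrank k K) → K) = Module.finrank k K ^ 2 := by
    rw [Module.finrank_pi_fintype]; simp [sq]
  have hdim : Module.finrank k (Module.End k K) = Module.finrank k K ^ 2 := by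
    rw [Module.finrank_linearMap, sq]
  have hsurj : Function.Surjective (Φ (Algebra.lmul k K) (T σ x₀) (Module.finrank k K)) :=
    (LinearMap.injective_iff_surjective_of_finrank_eq_finrank (by rw [hpi, hdim])).mp hinj
  refine ⟨Algebra.lmul k K, T σ x₀, hTm, hrel, ?_, hpos, hdim⟩
  rw [eq_top_iff]
  rintro z -
  obtain ⟨d, rfl⟩ := hsurj z
  rw [Φ_apply]
  apply Subalgebra.sum_mem
  intro j _
  apply Subalgebra.mul_mem
  · have hY : T σ x₀ ∈ Algebra.adjoin k (Set.range (Algebra.lmul k K) ∪ {T σ x₀}) :=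
      Algebra.subset_adjoin (Or.inr rfl)
    exact pow_mem hY _
  · exact Algebra.subset_adjoin (Or.inl ⟨d j, rfl⟩)

include hσ in
/-- A cyclic algebra `(K, σ, c)` with `c` a norm is split. -/
theorem splits_of_norm {B : Type w} [Ring B] [Algebra k B] (c : kˣ)
    (hB : CSAGal.IsCyclicAlg k K σ c B) (x₀ : K) (hx₀ : Algebra.norm k x₀ = (c : k)) :
    Curves.Splits k B k := by
  classical
  obtain ⟨e⟩ := Groth.Agent.Lib.Helper25.CyclicUnique.nonempty_algEquiv σ c hB
    (isCyclicAlg_end σ hσ c x₀ hx₀)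
  let bas := Module.finBasis k K
  exact ⟨Module.finrank k K, Module.finrank_pos.ne',
    ⟨(Algebra.TensorProduct.lid k B).trans (e.trans (algEquivMatrix bas))⟩⟩

include hσ in
/-- If the cyclic algebra `(K, σ, c)` is split, `c` is a norm. -/
theorem exists_norm_of_splits {B : Type w} [Ring B] [Algebra k B] (c : kˣ)
    (hB : CSAGal.IsCyclicAlg k K σ c B) (hs : Curves.Splits k B k) :
    ∃ x : K, Algebra.norm k x = (c : k) := by
  classical
  obtain ⟨ι, y, hy, hrel, hgen, hpos, hdim⟩ := hB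
  obtain ⟨r, hr, ⟨φ⟩⟩ := hs
  let e : B ≃ₐ[k] Matrix (Fin r) (Fin r) k := (Algebra.TensorProduct.lid k B).symm.trans φ
  have hrm : r = Module.finrank k K := by
    have h1 := e.toLinearEquiv.finrank_eq
    rw [hdim, Module.finrank_matrix] at h1
    simp only [Fintype.card_fin, Module.finrank_self, mul_one] at h1
    rw [← sq] at h1
    exact (Nat.pow_left_injective (n := 2) (by norm_num) h1).symm
  -- the representation on `k^r`
  let ρ : B →ₐ[k] Module.End k (Fin r → k) :=
    (Matrix.toLinAlgEquiv' : Matrix (Fin r) (Fin r) k ≃ₐ[k] Module.End k (Fin r → k)).toAlgHom.comp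
      e.toAlgHom
  have : NeZero r := ⟨hr⟩
  let w₀ : Fin r → k := Pi.single 0 1
  have hw₀ : w₀ ≠ 0 := by
    intro h
    have := congrFun h 0
    simp [w₀] at this
  let ev : K →ₗ[k] (Fin r → k) :=
    (LinearMap.applyₗ w₀ : Module.End k (Fin r → k) →ₗ[k] (Fin r → k)) ∘ₗ
      (ρ.toLinearMap ∘ₗ ι.toLinearMap)
  have hev : ∀ x, ev x = ρ (ι x) w₀ := fun x => rfl
  have hevinj : Function.Injective ev := by
    rw [← LinearMap.ker_eq_bot, LinearMap.ker_eq_bot']
    intro x hx
    by_contra hx0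
    apply hw₀
    have h1 : ρ (ι x⁻¹) (ρ (ι x) w₀) = w₀ := by
      rw [← Module.End.mul_apply, ← map_mul, ← map_mul, inv_mul_cancel₀ hx0, map_one, map_one]
      rfl
    rw [← h1, ← hev, hx, map_zero]
  have hevsurj : Function.Surjective ev := by
    refine (LinearMap.injective_iff_surjective_of_finrank_eq_finrank ?_).mp hevinj
    rw [Module.finrank_pi_fintype]
    simp [hrm]
  obtain ⟨x₁, hx₁⟩ := hevsurj (ρ y w₀)
  rw [hev] at hx₁
  -- commutation of `y^j` with `ι`
  have hcomm : ∀ (j : ℕ) (x : K), y ^ j * ι x = ι (((σ⁻¹ : K ≃ₐ[k] K) ^ j) x) * y ^ j := by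
    intro j x
    rw [rel_pow σ ι y hrel j]
    congr 2
    rw [inv_pow, ← AlgEquiv.mul_apply, mul_inv_cancel, AlgEquiv.one_apply]
  have hpow : ∀ j : ℕ, ρ (y ^ j) w₀ =
      ρ (ι (∏ i ∈ Finset.range j, ((σ⁻¹ : K ≃ₐ[k] K) ^ i) x₁)) w₀ := by
    intro j
    induction j with
    | zero => simp
    | succ j ih =>
      rw [pow_succ, map_mul, Module.End.mul_apply, ← hx₁, ← Module.End.mul_apply, ← map_mul,
        hcomm, map_mul, Module.End.mul_apply, ih, ← Module.End.mul_apply, ← map_mul, ← map_mul,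
        Finset.prod_range_succ, mul_comm]
  have hσ' : ∀ g : K ≃ₐ[k] K, g ∈ Subgroup.zpowers (σ⁻¹ : K ≃ₐ[k] K) := by
    intro g
    rw [Subgroup.zpowers_inv]
    exact hσ g
  have h2 := hpow (Module.finrank k K)
  rw [hy, prod_pow_eq_norm _ hσ' x₁, ← AlgHom.commutes ι] at h2
  have h3 : ev (algebraMap k K (c : k)) = ev (algebraMap k K (Algebra.norm k x₁)) := by
    rw [hev, hev]; exact h2
  have h4 := hevinj h3
  exact ⟨x₁, ((algebraMap k K).injective h4).symm⟩

end EndK

end Groth.Agent.Lib.Helper25.CyclicNorm
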