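import Mathlib
import Groth.Agent.Lib.Helper1.CSA.SimpleModules
import Groth.Agent.Lib.Helper1.CSA.TensorSimple

/-!
# The commutant of a module over a central simple algebra is Brauer equivalent to it

For a central simple `k`-algebra `C` and a finite-dimensional `C`-module `V ≠ 0`,
`B = (End_C V)ᵐᵒᵖ` is central simple, and `M_s(C) ≃ M_r(B)` with `s = dim V`, `r = dim C`.
-/

set_option autoImplicit false
universe u v w

namespace Groth.Agent.Lib.Helper25.CommutantBrauer

variable {k : Type u} [Field k]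

/-- universe-polymorphic transport of centrality -/
theorem isCentral_of_algEquiv {D : Type*} [Ring D] [Algebra k D] {D' : Type*} [Ring D']
    [Algebra k D'] [Algebra.IsCentral k D] (e : D ≃ₐ[k] D') : Algebra.IsCentral k D' := by
  constructor
  intro z hz
  rw [Subalgebra.mem_center_iff] at hz
  have h1 : e.symm z ∈ Subalgebra.center k D := by
    rw [Subalgebra.mem_center_iff]
    intro d
    have := hz (e d)
    apply e.injective
    rw [map_mul, map_mul, e.apply_symm_apply]
    exact this
  obtain ⟨r, hr⟩ := Algebra.IsCentral.out h1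
  refine ⟨r, ?_⟩
  have h2 : e (e.symm z) = z := e.apply_symm_apply z
  rw [← h2, ← hr]
  simp

variable (C : Type v) [Ring C] [Algebra k C] [IsSimpleRing C] [FiniteDimensional k C]
  (V : Type w) [AddCommGroup V] [Module k V] [Module C V] [IsScalarTower k C V]
  [Module.Finite k V]

/-- `M_s(C) ≃ M_r((End_C V)ᵐᵒᵖ)` with `s = dim V`, `r = dim C`. -/
theorem matrix_equiv :
    Nonempty (Matrix (Fin (Module.finrank k V)) (Fin (Module.finrank k V)) C ≃ₐ[k]
      Matrix (Fin (Module.finrank k C)) (Fin (Module.finrank k C)) (Module.End C V)ᵐᵒᵖ) := by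
  classical
  have hart : IsArtinianRing C := IsArtinianRing.of_finite k C
  have hfin1 : Module.Finite k (ULift.{v} (Fin (Module.finrank k C) → V)) :=
    Module.Finite.equiv (ULift.moduleEquiv (R := k)).symm
  have hfin2 : Module.Finite k (ULift.{w} (Fin (Module.finrank k V) → C)) :=
    Module.Finite.equiv (ULift.moduleEquiv (R := k)).symm
  have hdim : Module.finrank k (ULift.{v} (Fin (Module.finrank k C) → V)) =
      Module.finrank k (ULift.{w} (Fin (Module.finrank k V) → C)) := by
    rw [(ULift.moduleEquiv (R := k)).finrank_eq, (ULift.moduleEquiv (R := k)).finrank_eq,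
      Module.finrank_pi_fintype, Module.finrank_pi_fintype]
    simp only [Finset.sum_const, Finset.card_univ, Fintype.card_fin, smul_eq_mul]
    ring
  obtain ⟨e⟩ := Groth.Agent.Lib.Helper1.nonempty_linearEquiv_of_finrank_eq k C
    (ULift.{v} (Fin (Module.finrank k C) → V)) (ULift.{w} (Fin (Module.finrank k V) → C)) hdim
  let emod : (Fin (Module.finrank k C) → V) ≃ₗ[C] (Fin (Module.finrank k V) → C) :=
    (ULift.moduleEquiv (R := C)).symm ≪≫ₗ e ≪≫ₗ ULift.moduleEquiv
  let iso1 : Matrix (Fin (Module.finrank k V)) (Fin (Module.finrank k V)) C ≃ₐ[k]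
      (Module.End C (Fin (Module.finrank k V) → C))ᵐᵒᵖ := matrixAlgEquivEndVecMulOpposite k
  let iso2 : (Module.End C (Fin (Module.finrank k V) → C))ᵐᵒᵖ ≃ₐ[k]
      (Module.End C (Fin (Module.finrank k C) → V))ᵐᵒᵖ := AlgEquiv.op (emod.symm.conjAlgEquiv k)
  let iso3 : (Module.End C (Fin (Module.finrank k C) → V))ᵐᵒᵖ ≃ₐ[k]
      (Matrix (Fin (Module.finrank k C)) (Fin (Module.finrank k C)) (Module.End C V))ᵐᵒᵖ :=
    AlgEquiv.op (endVecAlgEquivMatrixEnd (Fin (Module.finrank k C)) k C V)
  let iso4 : (Matrix (Fin (Module.finrank k C)) (Fin (Module.finrank k C))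
      (Module.End C V))ᵐᵒᵖ ≃ₐ[k]
      Matrix (Fin (Module.finrank k C)) (Fin (Module.finrank k C)) (Module.End C V)ᵐᵒᵖ :=
    AlgEquiv.mopMatrix.symm
  exact ⟨iso1.trans (iso2.trans (iso3.trans iso4))⟩

theorem end_props [Algebra.IsCentral k C] [Nontrivial V] :
    Algebra.IsCentral k (Module.End C V)ᵐᵒᵖ ∧ IsSimpleRing (Module.End C V)ᵐᵒᵖ ∧
      FiniteDimensional k (Module.End C V)ᵐᵒᵖ ∧
      Module.finrank k (Module.End C V)ᵐᵒᵖ * Module.finrank k C = Module.finrank k V ^ 2 := by
  classical
  obtain ⟨φ⟩ := matrix_equiv (k := k) C V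
  have hr : 0 < Module.finrank k C := Module.finrank_pos
  have hs : 0 < Module.finrank k V := Module.finrank_pos
  have : NeZero (Module.finrank k C) := ⟨hr.ne'⟩
  have : NeZero (Module.finrank k V) := ⟨hs.ne'⟩
  have hsM : IsSimpleRing (Matrix (Fin (Module.finrank k C)) (Fin (Module.finrank k C))
      (Module.End C V)ᵐᵒᵖ) := IsSimpleRing.of_ringEquiv φ.toRingEquiv inferInstance
  have hcM : Algebra.IsCentral k (Matrix (Fin (Module.finrank k C)) (Fin (Module.finrank k C))
      (Module.End C V)ᵐᵒᵖ) := isCentral_of_algEquiv φ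
  have hfM : Module.Finite k (Matrix (Fin (Module.finrank k C)) (Fin (Module.finrank k C))
      (Module.End C V)ᵐᵒᵖ) := Module.Finite.equiv φ.toLinearEquiv
  have hs' : IsSimpleRing (Module.End C V)ᵐᵒᵖ :=
    ⟨(TwoSidedIdeal.orderIsoMatrix (n := Fin (Module.finrank k C))
      (R := (Module.End C V)ᵐᵒᵖ)).isSimpleOrder⟩
  have hc : Algebra.IsCentral k (Module.End C V)ᵐᵒᵖ :=
    Groth.Agent.Lib.Helper1.isCentral_of_isCentral_matrix (Module.End C V)ᵐᵒᵖ
      (Module.finrank k C)
  have hf : Module.Finite k (Module.End C V)ᵐᵒᵖ :=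
    .of_surjective (Matrix.entryLinearMap k (Module.End C V)ᵐᵒᵖ
      (0 : Fin (Module.finrank k C)) (0 : Fin (Module.finrank k C)))
      fun f ↦ ⟨fun _ _ ↦ f, rfl⟩
  refine ⟨hc, hs', hf, ?_⟩
  have h1 := φ.toLinearEquiv.finrank_eq
  rw [Module.finrank_matrix, Module.finrank_matrix] at h1
  simp only [Fintype.card_fin] at h1
  have h2 : Module.finrank k C * (Module.finrank k V ^ 2) =
      Module.finrank k C * (Module.finrank k (Module.End C V)ᵐᵒᵖ * Module.finrank k C) := by
    calc Module.finrank k C * (Module.finrank k V ^ 2)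
        = Module.finrank k V * Module.finrank k V * Module.finrank k C := by ring
      _ = Module.finrank k C * Module.finrank k C * Module.finrank k (Module.End C V)ᵐᵒᵖ := h1
      _ = _ := by ring
  exact (Nat.eq_of_mul_eq_mul_left hr h2).symm

end Groth.Agent.Lib.Helper25.CommutantBrauer
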