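import Mathlib
import Groth.Prelude.Def_GSzCSA
import Groth.Agent.Lib.Helper25.CyclicCSA
import Groth.Agent.Lib.Helper25.CyclicUnique
import Groth.Agent.Lib.Helper25.CommutantBrauer
import Groth.Agent.Lib.Helper1.CSA.Centralizer
import Groth.Agent.Lib.Helper1.CSA.TensorSimple

set_option autoImplicit false
universe u v w
open scoped TensorProduct

namespace Groth.Agent.Lib.Helper25.CyclicTensor

section Ideal

variable {k : Type u} [Field k] {K : Type v} [Field K] [Algebra k K]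
  {A : Type w} [Ring A] [Algebra k A] {A' : Type w} [Ring A'] [Algebra k A']
  (ι : K →ₐ[k] A) (ι' : K →ₐ[k] A')

/-- generators of the left ideal -/
def gen (x : K) : A ⊗[k] A' := ι x ⊗ₜ[k] 1 - 1 ⊗ₜ[k] ι' x

/-- The left ideal `J` generated by the `ι x ⊗ 1 - 1 ⊗ ι' x`. -/
def J : Ideal (A ⊗[k] A') := Ideal.span (Set.range (gen ι ι'))

theorem gen_mem (x : K) : gen ι ι' x ∈ J ι ι' := Ideal.subset_span ⟨x, rfl⟩

/-- induction principle for the left ideal `J` -/
theorem J_induction {P : A ⊗[k] A' → Prop} (hgen : ∀ (c : A ⊗[k] A') (x : K), P (c * gen ι ι' x))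
    (hzero : P 0) (hadd : ∀ w w', P w → P w' → P (w + w')) {w : A ⊗[k] A'}
    (hw : w ∈ J ι ι') : P w := by
  have key : ∀ w ∈ J ι ι', ∀ c : A ⊗[k] A', P (c * w) := by
    intro w hw
    induction hw using Submodule.span_induction with
    | mem w hw =>
      obtain ⟨x, rfl⟩ := hw
      exact fun c => hgen c x
    | zero => intro c; rw [mul_zero]; exact hzero
    | add w w' _ _ ih ih' => intro c; rw [mul_add]; exact hadd _ _ (ih c) (ih' c)
    | smul c' w _ ih => intro c; rw [smul_eq_mul, ← mul_assoc]; exact ih (c * c')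
  have := key w hw 1
  rwa [one_mul] at this

/-- The idealizer of `J`. -/
def N : Subalgebra k (A ⊗[k] A') where
  carrier := {z | ∀ w ∈ J ι ι', w * z ∈ J ι ι'}
  mul_mem' {z z'} hz hz' := fun w hw => by
    rw [← mul_assoc]
    exact hz' _ (hz w hw)
  add_mem' {z z'} hz hz' := fun w hw => by
    rw [mul_add]
    exact (J ι ι').add_mem (hz w hw) (hz' w hw)
  algebraMap_mem' r := fun w hw => by
    rw [← Algebra.commutes, ← Algebra.smul_def]
    exact (J ι ι').smul_of_tower_mem r hw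

theorem mem_N_iff (z : A ⊗[k] A') : z ∈ N ι ι' ↔ ∀ w ∈ J ι ι', w * z ∈ J ι ι' := Iff.rfl

theorem mem_N_of_gen (z : A ⊗[k] A') (h : ∀ x, gen ι ι' x * z ∈ J ι ι') : z ∈ N ι ι' := by
  intro w hw
  refine J_induction ι ι' (P := fun w => w * z ∈ J ι ι') ?_ ?_ ?_ hw
  · intro c x
    rw [mul_assoc]
    exact (J ι ι').mul_mem_left c (h x)
  · rw [zero_mul]
    exact (J ι ι').zero_mem
  · intro w w' ih ih'
    rw [add_mul]
    exact (J ι ι').add_mem ih ih'

theorem includeLeft_mem_N (x : K) : ι x ⊗ₜ[k] (1 : A') ∈ N ι ι' := by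
  apply mem_N_of_gen
  intro z
  have h1 : gen ι ι' z * (ι x ⊗ₜ[k] (1 : A')) = (ι x ⊗ₜ[k] (1 : A')) * gen ι ι' z := by
    simp only [gen, sub_mul, mul_sub, Algebra.TensorProduct.tmul_mul_tmul, mul_one, one_mul,
      ← map_mul, mul_comm x z]
  rw [h1]
  exact (J ι ι').mul_mem_left _ (gen_mem ι ι' z)

/-- the module `V = (A ⊗ A') / J` -/
abbrev V : Type w := (A ⊗[k] A') ⧸ J ι ι'

/-- right multiplication by an element of the idealizer, on `V`. -/
def rmul (z : N ι ι') : Module.End (A ⊗[k] A') (V ι ι') :=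
  (J ι ι').mapQ (J ι ι') (LinearMap.toSpanSingleton (A ⊗[k] A') (A ⊗[k] A') z.1)
    (fun w hw => z.2 w hw)

theorem rmul_mk (z : N ι ι') (c : A ⊗[k] A') :
    rmul ι ι' z (Submodule.Quotient.mk c) = Submodule.Quotient.mk (c * z.1) := rfl

/-- The algebra map from the idealizer to the opposite of the commutant of `V`. -/
def ψ : N ι ι' →ₐ[k] (Module.End (A ⊗[k] A') (V ι ι'))ᵐᵒᵖ where
  toFun z := MulOpposite.op (rmul ι ι' z)
  map_one' := by
    apply MulOpposite.unop_injective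
    refine LinearMap.ext fun v => ?_
    obtain ⟨c, rfl⟩ := Submodule.Quotient.mk_surjective _ v
    change rmul ι ι' 1 _ = _
    rw [rmul_mk]
    simp
  map_mul' z z' := by
    apply MulOpposite.unop_injective
    refine LinearMap.ext fun v => ?_
    obtain ⟨c, rfl⟩ := Submodule.Quotient.mk_surjective _ v
    simp only [MulOpposite.unop_op, MulOpposite.unop_mul, Module.End.mul_apply, rmul_mk,
      Subalgebra.coe_mul, mul_assoc]
  map_zero' := by
    apply MulOpposite.unop_injective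
    refine LinearMap.ext fun v => ?_
    obtain ⟨c, rfl⟩ := Submodule.Quotient.mk_surjective _ v
    change rmul ι ι' 0 _ = 0
    rw [rmul_mk]
    simp
  map_add' z z' := by
    apply MulOpposite.unop_injective
    refine LinearMap.ext fun v => ?_
    obtain ⟨c, rfl⟩ := Submodule.Quotient.mk_surjective _ v
    change rmul ι ι' (z + z') _ = rmul ι ι' z _ + rmul ι ι' z' _
    rw [rmul_mk, rmul_mk, rmul_mk]
    simp [mul_add]
  commutes' r := by
    apply MulOpposite.unop_injective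
    refine LinearMap.ext fun v => ?_
    obtain ⟨c, rfl⟩ := Submodule.Quotient.mk_surjective _ v
    change rmul ι ι' (algebraMap k _ r) _ = r • _
    rw [rmul_mk]
    simp only [Subalgebra.coe_algebraMap]
    rw [← Algebra.commutes, ← Algebra.smul_def]
    rfl

/-- the functional used to show `1 ∉ J` -/
noncomputable def π (p : A →ₗ[k] K) (p' : A' →ₗ[k] K) : A ⊗[k] A' →ₗ[k] K :=
  TensorProduct.lift ((LinearMap.mul k K).compl₁₂ p p')

theorem π_tmul (p : A →ₗ[k] K) (p' : A' →ₗ[k] K) (a : A) (a' : A') :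
    π p p' (a ⊗ₜ[k] a') = p a * p' a' := by
  simp [π]

theorem π_mul_gen (p : A →ₗ[k] K) (p' : A' →ₗ[k] K) (hp : ∀ a x, p (a * ι x) = p a * x)
    (hp' : ∀ a x, p' (a * ι' x) = p' a * x) (c : A ⊗[k] A') (x : K) :
    π p p' (c * gen ι ι' x) = 0 := by
  induction c using TensorProduct.induction_on with
  | zero => simp
  | tmul a a' =>
    rw [gen, mul_sub, Algebra.TensorProduct.tmul_mul_tmul, Algebra.TensorProduct.tmul_mul_tmul,
      map_sub, π_tmul, π_tmul, hp, hp', mul_one, mul_one]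
    ring
  | add c c' hc hc' => rw [add_mul, map_add, hc, hc', add_zero]

theorem π_eq_zero (p : A →ₗ[k] K) (p' : A' →ₗ[k] K) (hp : ∀ a x, p (a * ι x) = p a * x)
    (hp' : ∀ a x, p' (a * ι' x) = p' a * x) {w : A ⊗[k] A'} (hw : w ∈ J ι ι') :
    π p p' w = 0 := by
  refine J_induction ι ι' (P := fun w => π p p' w = 0) ?_ ?_ ?_ hw
  · intro c x
    exact π_mul_gen ι ι' p p' hp hp' c x
  · exact map_zero _
  · intro w w' ih ih'
    rw [map_add, ih, ih', add_zero]

theorem J_ne_top (p : A →ₗ[k] K) (p' : A' →ₗ[k] K) (hp : ∀ a x, p (a * ι x) = p a * x)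
    (hp' : ∀ a x, p' (a * ι' x) = p' a * x) (h1 : p 1 = 1) (h1' : p' 1 = 1) : J ι ι' ≠ ⊤ := by
  intro h
  have h2 : (1 : A ⊗[k] A') ∈ J ι ι' := by rw [h]; trivial
  have h3 := π_eq_zero ι ι' p p' hp hp' h2
  rw [Algebra.TensorProduct.one_def, π_tmul, h1, h1', mul_one] at h3
  exact one_ne_zero h3

end Ideal

section Proj

open Groth.Agent.Lib.Helper25.CyclicCSA

variable {k : Type u} [Field k] {K : Type v} [Field K] [Algebra k K] [FiniteDimensional k K]
  {A : Type w} [Ring A] [Algebra k A]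

/-- For a cyclic algebra, the coefficient of `y^0`, a right-`K`-linear retraction of `ι`. -/
theorem exists_proj (σ : K ≃ₐ[k] K) (b : kˣ) (ι : K →ₐ[k] A) (y : A)
    (hy : y ^ Module.finrank k K = algebraMap k A (b : k))
    (hrel : ∀ x : K, ι x * y = y * ι (σ x))
    (hgen : Algebra.adjoin k (Set.range ι ∪ {y}) = ⊤)
    (hpos : 0 < Module.finrank k K)
    (hdim : Module.finrank k A = Module.finrank k K ^ 2) :
    ∃ p : A →ₗ[k] K, p 1 = 1 ∧ ∀ a x, p (a * ι x) = p a * x := by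
  have hb := Φ_bijective σ ι y hrel _ hpos (b : k) hy hgen rfl hdim
  let e := LinearEquiv.ofBijective _ hb
  have he : ∀ c, e c = Φ ι y (Module.finrank k K) c := fun c => rfl
  let p : A →ₗ[k] K :=
    (LinearMap.proj (R := k) (φ := fun _ : Fin (Module.finrank k K) => K) ⟨0, hpos⟩) ∘ₗ
      e.symm.toLinearMap
  have hpΦ : ∀ c, p (Φ ι y (Module.finrank k K) c) = c ⟨0, hpos⟩ := by
    intro c
    change (e.symm (Φ ι y (Module.finrank k K) c)) ⟨0, hpos⟩ = _
    rw [← he, LinearEquiv.symm_apply_apply]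
  refine ⟨p, ?_, ?_⟩
  · have h1 : (1 : A) = Φ ι y (Module.finrank k K) (Pi.single ⟨0, hpos⟩ 1) := by
      rw [Φ_single]; simp
    rw [h1, hpΦ]
    simp
  · intro a x
    obtain ⟨c, rfl⟩ := hb.2 a
    rw [Φ_mul_ι, hpΦ, hpΦ]

end Proj

section Main

open Groth.Agent.Lib.Helper25.CyclicCSA

variable {k : Type u} [Field k] {K : Type v} [Field K] [Algebra k K] [FiniteDimensional k K]
  {A : Type w} [Ring A] [Algebra k A] {A' : Type w} [Ring A'] [Algebra k A']
  (σ : K ≃ₐ[k] K) (ι : K →ₐ[k] A) (ι' : K →ₐ[k] A') (y : A) (y' : A')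

omit [FiniteDimensional k K] in
theorem tmul_mem_N (hrel : ∀ x : K, ι x * y = y * ι (σ x))
    (hrel' : ∀ x : K, ι' x * y' = y' * ι' (σ x)) : y ⊗ₜ[k] y' ∈ N ι ι' := by
  apply mem_N_of_gen
  intro z
  have h1 : gen ι ι' z * (y ⊗ₜ[k] y') = (y ⊗ₜ[k] y') * gen ι ι' (σ z) := by
    simp only [gen, sub_mul, mul_sub, Algebra.TensorProduct.tmul_mul_tmul, mul_one, one_mul,
      hrel, hrel']
  rw [h1]
  exact (J ι ι').mul_mem_left _ (gen_mem ι ι' (σ z))

/-- `V` is spanned by the classes of `a ⊗ y'^j`. -/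
theorem finrank_V_le (m : ℕ) (hsurj' : Function.Surjective (Φ ι' y' m))
    [FiniteDimensional k A] [FiniteDimensional k A'] :
    Module.finrank k (V ι ι') ≤ m * Module.finrank k A := by
  classical
  let g : (Fin m → A) →ₗ[k] V ι ι' :=
    ∑ j : Fin m, ((J ι ι').mkQ.restrictScalars k) ∘ₗ
      ((TensorProduct.mk k A A').flip (y' ^ (j : ℕ))) ∘ₗ
      (LinearMap.proj (R := k) (φ := fun _ : Fin m => A) j)
  have hg : ∀ a : Fin m → A, g a =
      ∑ j : Fin m, (Submodule.Quotient.mk (a j ⊗ₜ[k] (y' ^ (j : ℕ))) : V ι ι') := by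
    intro a
    simp [g, LinearMap.sum_apply]
  have hrange : ∀ c : A ⊗[k] A', (Submodule.Quotient.mk c : V ι ι') ∈ LinearMap.range g := by
    intro c
    induction c using TensorProduct.induction_on with
    | zero => exact ⟨0, by simp⟩
    | tmul a a' =>
      obtain ⟨d, rfl⟩ := hsurj' a'
      refine ⟨fun j => a * ι (d j), ?_⟩
      rw [hg, Φ_apply, TensorProduct.tmul_sum]
      have h2 : (Submodule.Quotient.mk (∑ j : Fin m, a ⊗ₜ[k] (y' ^ (j : ℕ) * ι' (d j))) :
          V ι ι') = ∑ j : Fin m, (Submodule.Quotient.mk (a ⊗ₜ[k] (y' ^ (j : ℕ) * ι' (d j))) :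
          V ι ι') := map_sum (J ι ι').mkQ _ _
      rw [h2]
      refine Finset.sum_congr rfl fun j _ => ?_
      rw [Submodule.Quotient.eq]
      have h1 : (a * ι (d j)) ⊗ₜ[k] (y' ^ (j : ℕ)) - a ⊗ₜ[k] (y' ^ (j : ℕ) * ι' (d j)) =
          (a ⊗ₜ[k] (y' ^ (j : ℕ))) * gen ι ι' (d j) := by
        simp only [gen, mul_sub, Algebra.TensorProduct.tmul_mul_tmul, mul_one]
      rw [h1]
      exact (J ι ι').mul_mem_left _ (gen_mem ι ι' (d j))
    | add c c' hc hc' =>
      have : (Submodule.Quotient.mk (c + c') : V ι ι') =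
          Submodule.Quotient.mk c + Submodule.Quotient.mk c' := rfl
      rw [this]
      exact (LinearMap.range g).add_mem hc hc'
  have hgsurj : Function.Surjective g := by
    intro v
    obtain ⟨c, rfl⟩ := Submodule.Quotient.mk_surjective _ v
    exact hrange c
  have h3 := LinearMap.finrank_le_finrank_of_surjective hgsurj
  rw [Module.finrank_pi_fintype] at h3
  simpa using h3

end Main

section Final

open Groth.Agent.Lib.Helper25.CyclicCSA

variable {k : Type u} [Field k] {K : Type v} [Field K] [Algebra k K] [FiniteDimensional k K]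
  [IsGalois k K]
  {A : Type w} [Ring A] [Algebra k A] {A' : Type w} [Ring A'] [Algebra k A']
  (σ : K ≃ₐ[k] K) (hσ : ∀ τ : K ≃ₐ[k] K, τ ∈ Subgroup.zpowers σ) (b b' : kˣ)

include hσ in
/-- The tensor product of the cyclic algebras of `(K, σ, b)` and `(K, σ, b')` is Brauer equivalent
to a cyclic algebra of `(K, σ, b b')` (in the same universe). -/
theorem exists_cyclic_brauerEquiv_tensor (hA : CSAGal.IsCyclicAlg k K σ b A)
    (hA' : CSAGal.IsCyclicAlg k K σ b' A') :
    ∃ (B : Type w) (_ : Ring B) (_ : Algebra k B), CSAGal.IsCyclicAlg k K σ (b * b') B ∧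
      ∃ n m : ℕ, n ≠ 0 ∧ m ≠ 0 ∧
        Nonempty (Matrix (Fin n) (Fin n) (A ⊗[k] A') ≃ₐ[k] Matrix (Fin m) (Fin m) B) := by
  classical
  obtain ⟨ι, y, hy, hrel, hgen, hpos, hdim⟩ := hA
  obtain ⟨ι', y', hy', hrel', hgen', -, hdim'⟩ := hA'
  have hcA := isCentral σ hσ ι y b hy hrel hgen hpos hdim
  have hsA := isSimpleRing σ hσ ι y b hy hrel hgen hpos hdim
  have hcA' := isCentral σ hσ ι' y' b' hy' hrel' hgen' hpos hdim'
  have hsA' := isSimpleRing σ hσ ι' y' b' hy' hrel' hgen' hpos hdim'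
  have hfA : FiniteDimensional k A :=
    Module.finite_of_finrank_pos (by rw [hdim]; positivity)
  have hfA' : FiniteDimensional k A' :=
    Module.finite_of_finrank_pos (by rw [hdim']; positivity)
  have hcC : Algebra.IsCentral k (A ⊗[k] A') := Groth.Agent.Lib.Helper1.isCentral_tensor
  have hsC : IsSimpleRing (A ⊗[k] A') :=
    Groth.Agent.Lib.Helper1.isSimpleRing_tensor_of_isCentral_of_isSimpleRing A A'
  obtain ⟨p, hp1, hp⟩ := exists_proj σ b ι y hy hrel hgen hpos hdim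
  obtain ⟨p', hp1', hp'⟩ := exists_proj σ b' ι' y' hy' hrel' hgen' hpos hdim'
  have hJ := J_ne_top ι ι' p p' hp hp' hp1 hp1'
  have hnt : Nontrivial (V ι ι') := Submodule.Quotient.nontrivial_iff.mpr hJ
  have hbij' := Φ_bijective σ ι' y' hrel' _ hpos (b' : k) hy' hgen' rfl hdim'
  have hdimV : Module.finrank k (V ι ι') ≤ Module.finrank k K * Module.finrank k A :=
    finrank_V_le ι ι' y' _ hbij'.2
  obtain ⟨hcB, hsB, hfB, hdimB⟩ :=
    Groth.Agent.Lib.Helper25.CommutantBrauer.end_props (k := k) (A ⊗[k] A') (V ι ι')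
  have hdimC : Module.finrank k (A ⊗[k] A') = Module.finrank k K ^ 4 := by
    rw [Module.finrank_tensorProduct, hdim, hdim']; ring
  have hBle : Module.finrank k (Module.End (A ⊗[k] A') (V ι ι'))ᵐᵒᵖ ≤
      Module.finrank k K ^ 2 := by
    have h1 : Module.finrank k (Module.End (A ⊗[k] A') (V ι ι'))ᵐᵒᵖ * Module.finrank k K ^ 4 ≤
        Module.finrank k K ^ 2 * Module.finrank k K ^ 4 := by
      rw [← hdimC, hdimB, hdimC]
      calc Module.finrank k (V ι ι') ^ 2
          ≤ (Module.finrank k K * Module.finrank k A) ^ 2 := Nat.pow_le_pow_left hdimV 2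
        _ = Module.finrank k K ^ 2 * Module.finrank k K ^ 4 := by rw [hdim]; ring
    exact Nat.le_of_mul_le_mul_right h1 (by positivity)
  let ιN : K →ₐ[k] N ι ι' :=
    AlgHom.codRestrict ((Algebra.TensorProduct.includeLeft : A →ₐ[k] A ⊗[k] A').comp ι)
      (N ι ι') (fun x => includeLeft_mem_N ι ι' x)
  let ιB : K →ₐ[k] (Module.End (A ⊗[k] A') (V ι ι'))ᵐᵒᵖ := (ψ ι ι').comp ιN
  let yN : N ι ι' := ⟨y ⊗ₜ[k] y', tmul_mem_N σ ι ι' y y' hrel hrel'⟩
  let Y : (Module.End (A ⊗[k] A') (V ι ι'))ᵐᵒᵖ := ψ ι ι' yN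
  have hrelN : ∀ x, ιN x * yN = yN * ιN (σ x) := by
    intro x
    apply Subtype.ext
    change (ι x ⊗ₜ[k] (1 : A')) * (y ⊗ₜ[k] y') = (y ⊗ₜ[k] y') * (ι (σ x) ⊗ₜ[k] (1 : A'))
    rw [Algebra.TensorProduct.tmul_mul_tmul, Algebra.TensorProduct.tmul_mul_tmul, hrel, one_mul,
      mul_one]
  have hrelB : ∀ x, ιB x * Y = Y * ιB (σ x) := by
    intro x
    change ψ ι ι' (ιN x) * ψ ι ι' yN = ψ ι ι' yN * ψ ι ι' (ιN (σ x))
    rw [← map_mul, ← map_mul, hrelN]
  have hyNm : yN ^ Module.finrank k K = algebraMap k (N ι ι') ((b * b' : kˣ) : k) := by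
    apply Subtype.ext
    rw [SubmonoidClass.coe_pow]
    change (y ⊗ₜ[k] y') ^ Module.finrank k K = algebraMap k (A ⊗[k] A') ((b * b' : kˣ) : k)
    rw [Algebra.TensorProduct.tmul_pow, hy, hy', Algebra.algebraMap_eq_smul_one,
      Algebra.algebraMap_eq_smul_one, TensorProduct.smul_tmul_smul,
      Algebra.algebraMap_eq_smul_one, Units.val_mul]
    rfl
  have hYm : Y ^ Module.finrank k K =
      algebraMap k (Module.End (A ⊗[k] A') (V ι ι'))ᵐᵒᵖ ((b * b' : kˣ) : k) := by
    change ψ ι ι' yN ^ Module.finrank k K = _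
    rw [← map_pow, hyNm, AlgHom.commutes]
  have hntB : Nontrivial (Module.End (A ⊗[k] A') (V ι ι'))ᵐᵒᵖ := inferInstance
  have hYu : IsUnit Y := isUnit_y Y (b * b') hYm hpos
  have hinj := Groth.Agent.Lib.Helper25.CyclicUnique.Φ_injective σ hσ ιB Y hYu hrelB
  have hpi : Module.finrank k (Fin (Module.finrank k K) → K) = Module.finrank k K ^ 2 := by
    rw [Module.finrank_pi_fintype]; simp [sq]
  have hBge : Module.finrank k K ^ 2 ≤
      Module.finrank k (Module.End (A ⊗[k] A') (V ι ι'))ᵐᵒᵖ := by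
    rw [← hpi]
    exact LinearMap.finrank_le_finrank_of_injective hinj
  have hBeq : Module.finrank k (Module.End (A ⊗[k] A') (V ι ι'))ᵐᵒᵖ =
      Module.finrank k K ^ 2 := le_antisymm hBle hBge
  have hsurj : Function.Surjective (Φ ιB Y (Module.finrank k K)) :=
    (LinearMap.injective_iff_surjective_of_finrank_eq_finrank (by rw [hpi, hBeq])).mp hinj
  have hB : CSAGal.IsCyclicAlg k K σ (b * b') (Module.End (A ⊗[k] A') (V ι ι'))ᵐᵒᵖ := by
    refine ⟨ιB, Y, hYm, hrelB, ?_, hpos, hBeq⟩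
    rw [eq_top_iff]
    rintro z -
    obtain ⟨c, rfl⟩ := hsurj z
    rw [Φ_apply]
    apply Subalgebra.sum_mem
    intro j _
    apply Subalgebra.mul_mem
    · have hY : Y ∈ Algebra.adjoin k (Set.range ιB ∪ {Y}) :=
        Algebra.subset_adjoin (Or.inr rfl)
      exact pow_mem hY _
    · exact Algebra.subset_adjoin (Or.inl ⟨c j, rfl⟩)
  obtain ⟨φ⟩ := Groth.Agent.Lib.Helper25.CommutantBrauer.matrix_equiv (k := k) (A ⊗[k] A')
    (V ι ι')
  exact ⟨(Module.End (A ⊗[k] A') (V ι ι'))ᵐᵒᵖ, inferInstance, inferInstance, hB,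
    Module.finrank k (V ι ι'), Module.finrank k (A ⊗[k] A'), Module.finrank_pos.ne',
    Module.finrank_pos.ne', ⟨φ⟩⟩

end Final

end Groth.Agent.Lib.Helper25.CyclicTensor
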