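import Mathlib
import Groth.Prelude.Def_GSzCSA

set_option autoImplicit false
universe u v w
open scoped TensorProduct
open PiTensorProduct

namespace Groth.Agent.Lib.Helper25.TPow

variable (k : Type u) [Field k] (A : Type v) [Ring A] [Algebra k A]

/-- linear version of `A^{⊗(e+1)} ≃ A^{⊗e} ⊗ A` -/
noncomputable def succLinear (e : ℕ) :
    (⨂[k] _ : Fin (e + 1), A) ≃ₗ[k] (⨂[k] _ : Fin e, A) ⊗[k] A :=
  ((PiTensorProduct.reindex k (fun _ : Fin (e + 1) => A) finSumFinEquiv.symm :
      (⨂[k] _ : Fin (e + 1), A) ≃ₗ[k] (⨂[k] _ : Fin e ⊕ Fin 1, A))) ≪≫ₗ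
    (PiTensorProduct.tmulEquiv k A).symm ≪≫ₗ
    (TensorProduct.congr (LinearEquiv.refl k _)
      (PiTensorProduct.subsingletonEquiv (s := fun _ : Fin 1 => A) (0 : Fin 1)))

theorem succLinear_tprod (e : ℕ) (a : Fin (e + 1) → A) :
    succLinear k A e (tprod k a) =
      (tprod k fun i : Fin e => a (Fin.castAdd 1 i)) ⊗ₜ[k] a (Fin.natAdd e 0) := by
  simp only [succLinear, LinearEquiv.trans_apply]
  rw [PiTensorProduct.reindex_tprod]
  erw [PiTensorProduct.tmulEquiv_symm_apply]
  simp

theorem succLinear_mul (e : ℕ) (x y : ⨂[k] _ : Fin (e + 1), A) :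
    succLinear k A e (x * y) = succLinear k A e x * succLinear k A e y := by
  refine (LinearMap.map_mul_iff (succLinear k A e).toLinearMap).mpr ?_ x y
  ext a b
  simp only [LinearMap.compMultilinearMap_apply, LinearMap.compr₂_apply, LinearMap.mul_apply',
    LinearMap.compl₂_apply, LinearMap.coe_comp, Function.comp_apply, LinearEquiv.coe_coe]
  rw [PiTensorProduct.tprod_mul_tprod, succLinear_tprod, succLinear_tprod, succLinear_tprod,
    Algebra.TensorProduct.tmul_mul_tmul, PiTensorProduct.tprod_mul_tprod]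
  rfl

/-- `A^{⊗(e+1)} ≃ A^{⊗e} ⊗ A` as algebras -/
noncomputable def succEquiv (e : ℕ) : CSAGal.tpow k A (e + 1) ≃ₐ[k] CSAGal.tpow k A e ⊗[k] A :=
  AlgEquiv.ofLinearEquiv (succLinear k A e)
    (by
      rw [PiTensorProduct.one_def, succLinear_tprod, Algebra.TensorProduct.one_def,
        PiTensorProduct.one_def]
      rfl)
    (succLinear_mul k A e)

/-- `A^{⊗0} ≃ k` as algebras -/
noncomputable def zeroEquiv : CSAGal.tpow k A 0 ≃ₐ[k] k :=
  AlgEquiv.ofLinearEquiv (PiTensorProduct.isEmptyEquiv (Fin 0))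
    (by rw [PiTensorProduct.one_def, PiTensorProduct.isEmptyEquiv_apply_tprod])
    (by
      intro x y
      refine (LinearMap.map_mul_iff (PiTensorProduct.isEmptyEquiv (R := k) (s := fun _ => A)
        (Fin 0)).toLinearMap).mpr ?_ x y
      ext a b
      simp only [LinearMap.compMultilinearMap_apply, LinearMap.compr₂_apply,
        LinearMap.mul_apply', LinearMap.compl₂_apply, LinearMap.coe_comp, Function.comp_apply,
        LinearEquiv.coe_coe]
      rw [PiTensorProduct.tprod_mul_tprod, PiTensorProduct.isEmptyEquiv_apply_tprod,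
        PiTensorProduct.isEmptyEquiv_apply_tprod, PiTensorProduct.isEmptyEquiv_apply_tprod,
        mul_one])

end Groth.Agent.Lib.Helper25.TPow
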