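import Mathlib
import Groth.Prelude.Def_GSzCSA
import Groth.Prelude.Def_Curves
import Groth.Agent.Lib.Helper25.CyclicTensor
import Groth.Agent.Lib.Helper25.CyclicNorm
import Groth.Agent.Lib.Helper25.BrauerRel
import Groth.Agent.Lib.Helper25.TPow

/-!
# Tensor powers of a cyclic algebra; splitting and period in terms of norms
-/

set_option autoImplicit false
universe u v w
open scoped TensorProduct

namespace Groth.Agent.Lib.Helper25.CyclicPeriod

open Groth.Agent.Lib.Helper25.BrauerRel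

variable {k : Type u} [Field k] {K : Type v} [Field K] [Algebra k K] [FiniteDimensional k K]
  [IsGalois k K] (σ : K ≃ₐ[k] K) (hσ : ∀ τ : K ≃ₐ[k] K, τ ∈ Subgroup.zpowers σ)
  (b : kˣ) {A : Type w} [Ring A] [Algebra k A]

include hσ in
/-- A cyclic algebra `(K, σ, c)` is split iff `c` is a norm. -/
theorem splits_iff_norm {B : Type w} [Ring B] [Algebra k B] (c : kˣ)
    (hB : CSAGal.IsCyclicAlg k K σ c B) :
    Curves.Splits k B k ↔ ∃ x : K, Algebra.norm k x = (c : k) :=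
  ⟨fun hs => Groth.Agent.Lib.Helper25.CyclicNorm.exists_norm_of_splits σ hσ c hB hs,
    fun ⟨x, hx⟩ => Groth.Agent.Lib.Helper25.CyclicNorm.splits_of_norm σ hσ c hB x hx⟩

include hσ in
/-- The `e`-th tensor power of the cyclic algebra `(K, σ, b)` is Brauer equivalent to a cyclic
algebra `(K, σ, b^e)`, for `e ≥ 1`. -/
theorem exists_cyclic_brEq_tpow (hA : CSAGal.IsCyclicAlg k K σ b A) (e : ℕ) :
    ∃ (B : Type w) (_ : Ring B) (_ : Algebra k B), CSAGal.IsCyclicAlg k K σ (b ^ (e + 1)) B ∧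
      BrEq k (CSAGal.tpow k A (e + 1)) B := by
  induction e with
  | zero =>
    refine ⟨A, inferInstance, inferInstance, by rwa [zero_add, pow_one], ?_⟩
    apply BrEq.of_algEquiv
    exact (Groth.Agent.Lib.Helper25.TPow.succEquiv k A 0).trans
      ((Algebra.TensorProduct.congr (Groth.Agent.Lib.Helper25.TPow.zeroEquiv k A)
        AlgEquiv.refl).trans (Algebra.TensorProduct.lid k A))
  | succ e ih =>
    obtain ⟨B, _, _, hB, hbr⟩ := ih
    obtain ⟨B', _, _, hB', n, m, hn, hm, ⟨φ⟩⟩ :=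
      Groth.Agent.Lib.Helper25.CyclicTensor.exists_cyclic_brauerEquiv_tensor σ hσ
        (b ^ (e + 1)) b hB hA
    refine ⟨B', inferInstance, inferInstance, by rwa [pow_succ _ (e + 1)], ?_⟩
    have h1 : BrEq k (CSAGal.tpow k A (e + 1 + 1)) (CSAGal.tpow k A (e + 1) ⊗[k] A) :=
      BrEq.of_algEquiv (Groth.Agent.Lib.Helper25.TPow.succEquiv k A (e + 1))
    have h2 : BrEq k (CSAGal.tpow k A (e + 1) ⊗[k] A) (B ⊗[k] A) := hbr.tensor_right A
    have h3 : BrEq k (B ⊗[k] A) B' := ⟨n, m, hn, hm, ⟨φ⟩⟩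
    exact (h1.trans h2).trans h3

include hσ in
theorem splits_tpow_iff_norm (hA : CSAGal.IsCyclicAlg k K σ b A) (e : ℕ) (he : 0 < e) :
    Curves.Splits k (CSAGal.tpow k A e) k ↔ ∃ x : K, Algebra.norm k x = (b : k) ^ e := by
  obtain ⟨e, rfl⟩ : ∃ e', e = e' + 1 := ⟨e - 1, by omega⟩
  obtain ⟨B, _, _, hB, hbr⟩ := exists_cyclic_brEq_tpow σ hσ b hA e
  rw [splits_iff_brEq, ← Units.val_pow_eq_pow_val, ← splits_iff_norm σ hσ (b ^ (e + 1)) hB,
    splits_iff_brEq]
  exact ⟨fun h => hbr.symm.trans h, fun h => hbr.trans h⟩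

include hσ in
/-- Splitting and period of a cyclic algebra in terms of norms. -/
theorem splits_and_period (hA : CSAGal.IsCyclicAlg k K σ b A) :
    (Curves.Splits k A k ↔ ∃ x : K, Algebra.norm k x = (b : k)) ∧
      ∀ e : ℕ, CSAGal.IsPeriod k A e ↔
        (0 < e ∧ (∃ x : K, Algebra.norm k x = (b : k) ^ e) ∧
          ∀ e' : ℕ, 0 < e' → e' < e → ¬ ∃ x : K, Algebra.norm k x = (b : k) ^ e') := by
  refine ⟨splits_iff_norm σ hσ b hA, fun e => ?_⟩
  unfold CSAGal.IsPeriod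
  constructor
  · rintro ⟨he, hs, hmin⟩
    refine ⟨he, (splits_tpow_iff_norm σ hσ b hA e he).mp hs, fun e' he' hlt h => ?_⟩
    exact hmin e' he' hlt ((splits_tpow_iff_norm σ hσ b hA e' he').mpr h)
  · rintro ⟨he, hs, hmin⟩
    refine ⟨he, (splits_tpow_iff_norm σ hσ b hA e he).mpr hs, fun e' he' hlt h => ?_⟩
    exact hmin e' he' hlt ((splits_tpow_iff_norm σ hσ b hA e' he').mp h)

end Groth.Agent.Lib.Helper25.CyclicPeriod
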