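import Mathlib
import Groth.Agent.Lib.Helper1.CSA.SkolemNoether
import Groth.Agent.Lib.Helper1.CSA.Centralizer

namespace Groth.Agent.Lib.Helper25.Cyclic

universe u v w

section

variable {k : Type u} [Field k] {A : Type v} [Ring A] [Algebra k A] [Algebra.IsCentral k A]
  [IsSimpleRing A] [FiniteDimensional k A]
  {K : Type w} [Field K] [Algebra k K] [FiniteDimensional k K]

/-- The centralizer of a maximal subfield of a central simple algebra is the subfield itself. -/
theorem mem_range_of_commute {m : ℕ} (hA : Module.finrank k A = m ^ 2)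
    (hK : Module.finrank k K = m) (ι : K →ₐ[k] A) {u : A} (hu : ∀ x, ι x * u = u * ι x) :
    u ∈ ι.range := by
  have hinj : Function.Injective ι := ι.toRingHom.injective
  let e : K ≃ₐ[k] ι.range := AlgEquiv.ofInjective ι hinj
  have : IsSimpleRing ι.range := IsSimpleRing.of_ringEquiv e.toRingEquiv inferInstance
  have hB : Module.finrank k ι.range = m := by
    rw [← LinearEquiv.finrank_eq e.toLinearEquiv, hK]
  have hm : 0 < m := by rw [← hK]; exact Module.finrank_pos
  have h1 := Groth.Agent.Lib.Helper1.finrank_eq_mul_finrank_centralizer ι.range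
  rw [hA, hB, sq] at h1
  have hC : Module.finrank k (Subalgebra.centralizer k (ι.range : Set A)) = m :=
    (Nat.eq_of_mul_eq_mul_left hm h1).symm
  have hle : ι.range ≤ Subalgebra.centralizer k (ι.range : Set A) := by
    rintro _ ⟨s, rfl⟩
    rw [Subalgebra.mem_centralizer_iff]
    rintro _ ⟨t, rfl⟩
    rw [← map_mul, ← map_mul, mul_comm]
  have heq : Subalgebra.toSubmodule ι.range =
      Subalgebra.toSubmodule (Subalgebra.centralizer k (ι.range : Set A)) :=
    Submodule.eq_of_le_of_finrank_eq hle (by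
      change Module.finrank k ι.range =
        Module.finrank k (Subalgebra.centralizer k (ι.range : Set A))
      rw [hB, hC])
  have humem : u ∈ Subalgebra.centralizer k (ι.range : Set A) := by
    rw [Subalgebra.mem_centralizer_iff]
    rintro _ ⟨s, rfl⟩
    exact hu s
  have : u ∈ Subalgebra.toSubmodule ι.range := by rw [heq]; exact humem
  exact this

/-- A central simple algebra of degree `m` containing a cyclic Galois extension of degree `m` is
generated by it together with a unit `y` inducing the generator of the Galois group, and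
`y ^ m` is central. -/
theorem exists_cyclic_generator [IsGalois k K] (m : ℕ) (hA : Module.finrank k A = m ^ 2)
    (hK : Module.finrank k K = m) (σ : K ≃ₐ[k] K)
    (hσ : ∀ τ : K ≃ₐ[k] K, τ ∈ Subgroup.zpowers σ) (ι : K →ₐ[k] A) :
    ∃ y : Aˣ, (∀ x : K, ι x * y = y * ι (σ x)) ∧ (∃ b : k, (y : A) ^ m = algebraMap k A b) ∧
      Algebra.adjoin k (Set.range ι ∪ {(y : A)}) = ⊤ := by
  classical
  have hinj : Function.Injective ι := ι.toRingHom.injective
  have hm : 0 < m := by rw [← hK]; exact Module.finrank_pos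
  -- Skolem–Noether
  obtain ⟨y, hy⟩ := Groth.Agent.Lib.Helper1.skolem_noether ι (ι.comp (σ : K →ₐ[k] K))
  have hrel : ∀ x : K, ι x * y = y * ι (σ x) := by
    intro x
    rw [hy x]
    simp [mul_assoc]
  have hrelpow : ∀ (i : ℕ) (x : K), ι x * (y : A) ^ i = (y : A) ^ i * ι ((σ ^ i) x) := by
    intro i
    induction i with
    | zero => intro x; simp
    | succ i ih =>
      intro x
      rw [pow_succ, ← mul_assoc, ih, mul_assoc, hrel, ← mul_assoc, pow_succ' σ]
      rfl
  -- the order of `σ`
  have hord : orderOf σ = m := by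
    rw [orderOf_eq_card_of_forall_mem_zpowers hσ, IsGalois.card_aut_eq_finrank, hK]
  have hσm : σ ^ m = 1 := by rw [← hord]; exact pow_orderOf_eq_one σ
  -- `y ^ m` is central
  have hym : ∃ l : K, ι l = (y : A) ^ m := by
    have h1 : ∀ x, ι x * (y : A) ^ m = (y : A) ^ m * ι x := by
      intro x
      rw [hrelpow m x, hσm]
      rfl
    exact mem_range_of_commute hA hK ι h1
  obtain ⟨l, hl⟩ := hym
  have hσl : σ l = l := by
    apply hinj
    have h1 : ι l * y = y * ι (σ l) := hrel l
    have h2 : ι l * y = y * ι l := by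
      rw [hl, ← pow_succ, pow_succ']
    rw [h1] at h2
    exact y.isUnit.mul_left_cancel h2
  have hlk : l ∈ Set.range (algebraMap k K) := by
    rw [IsGalois.mem_range_algebraMap_iff_fixed]
    intro τ
    have h1 : Subgroup.zpowers σ ≤ MulAction.stabilizer (K ≃ₐ[k] K) l := by
      rw [Subgroup.zpowers_le]
      exact hσl
    exact h1 (hσ τ)
  obtain ⟨b, hb⟩ := hlk
  refine ⟨y, hrel, ⟨b, ?_⟩, ?_⟩
  · rw [← hl, ← hb, AlgHom.commutes]
  -- generation
  let pb := Field.powerBasisOfFiniteOfSeparable k K
  let _ : Module K A := Module.compHom A ι.toRingHom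
  have hsmul : ∀ (x : K) (a : A), x • a = ι x * a := fun _ _ => rfl
  have htower : IsScalarTower k K A := ⟨fun c x a => by
    rw [hsmul, hsmul, map_smul, smul_mul_assoc]⟩
  let T : Module.End K A :=
    { toFun := fun a => a * ι pb.gen
      map_add' := fun a b => add_mul a b _
      map_smul' := fun x a => by
        simp only [RingHom.id_apply, hsmul, mul_assoc] }
  have hTapply : ∀ a, T a = a * ι pb.gen := fun _ => rfl
  let μ : Fin m → K := fun i => (σ ^ (i : ℕ))⁻¹ pb.gen
  have hμinj : Function.Injective μ := by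
    intro i j hij
    have h1 : ((σ ^ (i : ℕ))⁻¹ : K ≃ₐ[k] K).toAlgHom = ((σ ^ (j : ℕ))⁻¹ : K ≃ₐ[k] K).toAlgHom :=
      pb.algHom_ext hij
    have h2 : (σ ^ (i : ℕ))⁻¹ = (σ ^ (j : ℕ))⁻¹ := by
      ext x
      exact DFunLike.congr_fun h1 x
    have h3 : σ ^ (i : ℕ) = σ ^ (j : ℕ) := inv_injective h2
    have hi : (i : ℕ) < orderOf σ := by rw [hord]; exact i.2
    have hj : (j : ℕ) < orderOf σ := by rw [hord]; exact j.2
    exact Fin.ext (pow_injOn_Iio_orderOf hi hj h3)
  have heig : ∀ i : Fin m, T.HasEigenvector (μ i) ((y : A) ^ (i : ℕ)) := by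
    intro i
    refine ⟨?_, (y ^ (i : ℕ)).ne_zero⟩
    rw [Module.End.mem_eigenspace_iff, hTapply, hsmul, hrelpow (i : ℕ) (μ i)]
    congr 2
    change pb.gen = (σ ^ (i : ℕ)) ((σ ^ (i : ℕ))⁻¹ pb.gen)
    rw [← AlgEquiv.mul_apply, mul_inv_cancel, AlgEquiv.one_apply]
  have hli : LinearIndependent K (fun i : Fin m => (y : A) ^ (i : ℕ)) :=
    T.eigenvectors_linearIndependent' μ hμinj _ heig
  have : FiniteDimensional K A := FiniteDimensional.right k K A
  have hfinKA : Module.finrank K A = m := by
    have h1 := Module.finrank_mul_finrank k K A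
    rw [hK, hA, sq] at h1
    exact Nat.eq_of_mul_eq_mul_left hm h1
  have hspan : Submodule.span K (Set.range fun i : Fin m => (y : A) ^ (i : ℕ)) = ⊤ :=
    hli.span_eq_top_of_card_eq_finrank' (by rw [Fintype.card_fin, hfinKA])
  rw [eq_top_iff]
  rintro a -
  have ha : a ∈ Submodule.span K (Set.range fun i : Fin m => (y : A) ^ (i : ℕ)) := by
    rw [hspan]; trivial
  have hιmem : ∀ x : K, ι x ∈ Algebra.adjoin k (Set.range ι ∪ {(y : A)}) := fun x =>
    Algebra.subset_adjoin (Or.inl ⟨x, rfl⟩)
  have hymem : (y : A) ∈ Algebra.adjoin k (Set.range ι ∪ {(y : A)}) :=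
    Algebra.subset_adjoin (Or.inr rfl)
  induction ha using Submodule.span_induction with
  | mem z hz =>
    obtain ⟨i, rfl⟩ := hz
    exact pow_mem hymem _
  | zero => exact zero_mem _
  | add z w _ _ hz hw => exact add_mem hz hw
  | smul x z _ hz =>
    rw [hsmul]
    exact mul_mem (hιmem x) hz

end

end Groth.Agent.Lib.Helper25.Cyclic
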