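import Mathlib
import Groth.Prelude.Def_GSzCSA
import Groth.Prelude.Def_Curves
import Groth.Agent.Lib.Helper1.CSA.SimpleModules
import Groth.Agent.Lib.Helper1.CSA.TensorSimple
import Groth.Agent.Lib.Helper25.CyclicAlgebra
import Groth.Agent.Lib.Helper39.MatrixCancel

/-!
# A central simple algebra split by a cyclic extension is Brauer equivalent to a cyclic algebra
-/

set_option autoImplicit false
universe u v w
open scoped TensorProduct

namespace Groth.Agent.Lib.Helper25.CyclicSplit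

section Transport

variable {k : Type u} [Field k] {K : Type v} [Field K] [Algebra k K]

/-- Being presented as a cyclic algebra is invariant under algebra isomorphism. -/
theorem isCyclicAlg_of_algEquiv {B : Type*} [Ring B] [Algebra k B] {B' : Type*} [Ring B']
    [Algebra k B'] (e : B ≃ₐ[k] B') (σ : K ≃ₐ[k] K) (b : kˣ)
    (h : CSAGal.IsCyclicAlg k K σ b B) : CSAGal.IsCyclicAlg k K σ b B' := by
  obtain ⟨ι, y, hy, hrel, hgen, hpos, hdim⟩ := h
  refine ⟨(e : B →ₐ[k] B').comp ι, e y, ?_, ?_, ?_, hpos, ?_⟩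
  · rw [← map_pow, hy, AlgEquiv.commutes]
  · intro x
    change e (ι x) * e y = e y * e (ι (σ x))
    rw [← map_mul, hrel, map_mul]
  · have h1 : (Algebra.adjoin k (Set.range ι ∪ {y})).map (e : B →ₐ[k] B') =
        Algebra.adjoin k (Set.range ((e : B →ₐ[k] B').comp ι) ∪ {e y}) := by
      rw [AlgHom.map_adjoin]
      congr 1
      rw [Set.image_union, Set.image_singleton]
      congr 1
      ext z
      constructor
      · rintro ⟨_, ⟨x, rfl⟩, rfl⟩
        exact ⟨x, rfl⟩
      · rintro ⟨x, rfl⟩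
        exact ⟨ι x, ⟨x, rfl⟩, rfl⟩
    rw [← h1, hgen, Algebra.map_top]
    rw [eq_top_iff]
    rintro z -
    exact ⟨e.symm z, by simp⟩
  · rw [← e.toLinearEquiv.finrank_eq, hdim]

end Transport

section Module

variable {k : Type u} [Field k] {K : Type v} [Field K] [Algebra k K]
  {A : Type w} [Ring A] [Algebra k A]

/-- `Kⁿ` as a module over `A` through `ρ : A → M_n(K)`. -/
@[nolint unusedArguments]
def SplitMod {n : ℕ} (_ρ : A →ₐ[k] Matrix (Fin n) (Fin n) K) : Type v := Fin n → K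

namespace SplitMod

variable {n : ℕ} (ρ : A →ₐ[k] Matrix (Fin n) (Fin n) K)

instance : AddCommGroup (SplitMod ρ) := inferInstanceAs (AddCommGroup (Fin n → K))
instance : Module K (SplitMod ρ) := inferInstanceAs (Module K (Fin n → K))
instance : Module k (SplitMod ρ) := inferInstanceAs (Module k (Fin n → K))
instance : IsScalarTower k K (SplitMod ρ) := inferInstanceAs (IsScalarTower k K (Fin n → K))

/-- the underlying vector -/
def out (v : SplitMod ρ) : Fin n → K := v
/-- a vector viewed in the module -/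
def mk (v : Fin n → K) : SplitMod ρ := v

instance : Module A (SplitMod ρ) where
  smul a v := mk ρ ((ρ a).mulVec (out ρ v))
  one_smul v := by
    change (ρ 1).mulVec (out ρ v) = v
    rw [map_one, Matrix.one_mulVec]; rfl
  mul_smul a a' v := by
    change (ρ (a * a')).mulVec (out ρ v) = (ρ a).mulVec ((ρ a').mulVec (out ρ v))
    rw [map_mul, Matrix.mulVec_mulVec]
  smul_zero a := Matrix.mulVec_zero (ρ a)
  smul_add a v w := Matrix.mulVec_add (ρ a) (out ρ v) (out ρ w)
  add_smul a a' v := by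
    change (ρ (a + a')).mulVec (out ρ v) = (ρ a).mulVec (out ρ v) + (ρ a').mulVec (out ρ v)
    rw [map_add, Matrix.add_mulVec]
  zero_smul v := by
    change (ρ 0).mulVec (out ρ v) = 0
    rw [map_zero, Matrix.zero_mulVec]

theorem smul_def (a : A) (v : SplitMod ρ) : a • v = mk ρ ((ρ a).mulVec (out ρ v)) := rfl

instance : IsScalarTower k A (SplitMod ρ) := ⟨fun r a v => by
  change (ρ (r • a)).mulVec (out ρ v) = r • (ρ a).mulVec (out ρ v)
  rw [map_smul, Matrix.smul_mulVec]⟩

instance : SMulCommClass A K (SplitMod ρ) := ⟨fun a c v => by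
  change (ρ a).mulVec (c • out ρ v) = c • (ρ a).mulVec (out ρ v)
  rw [Matrix.mulVec_smul]⟩

/-- scalar multiplication by `K`, as `A`-linear endomorphisms -/
def scalar : K →ₐ[k] Module.End A (SplitMod ρ) where
  toFun x :=
    { toFun := fun v => x • v
      map_add' := smul_add x
      map_smul' := fun a v => (smul_comm a x v).symm }
  map_one' := by
    ext v
    exact one_smul K v
  map_mul' x x' := by
    ext v
    exact mul_smul x x' v
  map_zero' := by
    ext v
    exact zero_smul K v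
  map_add' x x' := by
    ext v
    exact add_smul x x' v
  commutes' r := by
    ext v
    change algebraMap k K r • v = r • v
    rw [algebraMap_smul]

theorem scalar_commute (x x' : K) : Commute (scalar ρ x) (scalar ρ x') := by
  rw [Commute, SemiconjBy, ← map_mul, ← map_mul, mul_comm]

end SplitMod

end Module

section Main

variable {k : Type u} [Field k] {K : Type v} [Field K] [Algebra k K] [FiniteDimensional k K]
  {A : Type w} [Ring A] [Algebra k A] [Algebra.IsCentral k A] [IsSimpleRing A]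
  [FiniteDimensional k A]

/-- The opposite of the commutant of `A` acting on `Kⁿ`. -/
abbrev Comm {n : ℕ} (ρ : A →ₐ[k] Matrix (Fin n) (Fin n) K) : Type v :=
  (Module.End A (SplitMod ρ))ᵐᵒᵖ

/-- `K` inside the commutant. -/
def ιComm {n : ℕ} (ρ : A →ₐ[k] Matrix (Fin n) (Fin n) K) : K →ₐ[k] Comm ρ :=
  (SplitMod.scalar ρ).toOpposite (SplitMod.scalar_commute ρ)

omit [Algebra.IsCentral k A] [IsSimpleRing A] [FiniteDimensional k A] in
theorem finrank_splitMod {n : ℕ} (ρ : A →ₐ[k] Matrix (Fin n) (Fin n) K) :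
    Module.finrank k (SplitMod ρ) = n * Module.finrank k K := by
  change Module.finrank k (Fin n → K) = _
  rw [Module.finrank_pi_fintype]
  simp

theorem matrix_equiv {n : ℕ} (_hn : n ≠ 0) (ρ : A →ₐ[k] Matrix (Fin n) (Fin n) K)
    (hA : Module.finrank k A = n ^ 2) :
    Nonempty (Matrix (Fin (n * Module.finrank k K)) (Fin (n * Module.finrank k K)) A ≃ₐ[k]
      Matrix (Fin (n ^ 2)) (Fin (n ^ 2)) (Comm ρ)) := by
  classical
  have hart : IsArtinianRing A := IsArtinianRing.of_finite k A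
  have hfinW : Module.Finite k (SplitMod ρ) := inferInstanceAs (Module.Finite k (Fin n → K))
  have hfin1 : Module.Finite k (ULift.{w} (Fin (n ^ 2) → SplitMod ρ)) :=
    Module.Finite.equiv (ULift.moduleEquiv (R := k)).symm
  have hfin2 : Module.Finite k (ULift.{v} (Fin (n * Module.finrank k K) → A)) :=
    Module.Finite.equiv (ULift.moduleEquiv (R := k)).symm
  have hdim : Module.finrank k (ULift.{w} (Fin (n ^ 2) → SplitMod ρ)) =
      Module.finrank k (ULift.{v} (Fin (n * Module.finrank k K) → A)) := by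
    rw [(ULift.moduleEquiv (R := k)).finrank_eq, (ULift.moduleEquiv (R := k)).finrank_eq,
      Module.finrank_pi_fintype, Module.finrank_pi_fintype]
    simp only [Finset.sum_const, Finset.card_univ, Fintype.card_fin, smul_eq_mul,
      finrank_splitMod, hA]
    ring
  obtain ⟨e⟩ := Groth.Agent.Lib.Helper1.nonempty_linearEquiv_of_finrank_eq k A
    (ULift.{w} (Fin (n ^ 2) → SplitMod ρ)) (ULift.{v} (Fin (n * Module.finrank k K) → A)) hdim
  let emod : (Fin (n ^ 2) → SplitMod ρ) ≃ₗ[A] (Fin (n * Module.finrank k K) → A) :=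
    (ULift.moduleEquiv (R := A)).symm ≪≫ₗ e ≪≫ₗ ULift.moduleEquiv
  let iso1 : Matrix (Fin (n * Module.finrank k K)) (Fin (n * Module.finrank k K)) A ≃ₐ[k]
      (Module.End A (Fin (n * Module.finrank k K) → A))ᵐᵒᵖ := matrixAlgEquivEndVecMulOpposite k
  let iso2 : (Module.End A (Fin (n * Module.finrank k K) → A))ᵐᵒᵖ ≃ₐ[k]
      (Module.End A (Fin (n ^ 2) → SplitMod ρ))ᵐᵒᵖ := AlgEquiv.op (emod.symm.conjAlgEquiv k)
  let iso3 : (Module.End A (Fin (n ^ 2) → SplitMod ρ))ᵐᵒᵖ ≃ₐ[k]
      (Matrix (Fin (n ^ 2)) (Fin (n ^ 2)) (Module.End A (SplitMod ρ)))ᵐᵒᵖ :=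
    AlgEquiv.op (endVecAlgEquivMatrixEnd (Fin (n ^ 2)) k A (SplitMod ρ))
  let iso4 : (Matrix (Fin (n ^ 2)) (Fin (n ^ 2)) (Module.End A (SplitMod ρ)))ᵐᵒᵖ ≃ₐ[k]
      Matrix (Fin (n ^ 2)) (Fin (n ^ 2)) (Comm ρ) := AlgEquiv.mopMatrix.symm
  exact ⟨iso1.trans (iso2.trans (iso3.trans iso4))⟩

omit [FiniteDimensional k K] [Algebra.IsCentral k A] [IsSimpleRing A] [FiniteDimensional k A] in
/-- universe-polymorphic transport of centrality -/
theorem isCentral_of_algEquiv' {D : Type*} [Ring D] [Algebra k D] {D' : Type*} [Ring D']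
    [Algebra k D'] [Algebra.IsCentral k D] (e : D ≃ₐ[k] D') : Algebra.IsCentral k D' := by
  constructor
  intro z hz
  rw [Subalgebra.mem_center_iff] at hz
  have h1 : e.symm z ∈ Subalgebra.center k D := by
    rw [Subalgebra.mem_center_iff]
    intro d
    have := hz (e d)
    apply e.injective
    rw [map_mul, map_mul, e.apply_symm_apply]
    exact this
  obtain ⟨r, hr⟩ := Algebra.IsCentral.out h1
  refine ⟨r, ?_⟩
  have h2 : e (e.symm z) = z := e.apply_symm_apply z
  rw [← h2, ← hr]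
  simp

theorem comm_props {n : ℕ} (hn : n ≠ 0) (ρ : A →ₐ[k] Matrix (Fin n) (Fin n) K)
    (hA : Module.finrank k A = n ^ 2) :
    Algebra.IsCentral k (Comm ρ) ∧ IsSimpleRing (Comm ρ) ∧ FiniteDimensional k (Comm ρ) ∧
      Module.finrank k (Comm ρ) = Module.finrank k K ^ 2 := by
  classical
  obtain ⟨φ⟩ := matrix_equiv hn ρ hA
  have hm : 0 < Module.finrank k K := Module.finrank_pos
  have : NeZero (n ^ 2) := ⟨pow_ne_zero 2 hn⟩
  have : NeZero (n * Module.finrank k K) := ⟨mul_ne_zero hn hm.ne'⟩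
  have hsM : IsSimpleRing (Matrix (Fin (n ^ 2)) (Fin (n ^ 2)) (Comm ρ)) :=
    IsSimpleRing.of_ringEquiv φ.toRingEquiv inferInstance
  have hcM : Algebra.IsCentral k (Matrix (Fin (n ^ 2)) (Fin (n ^ 2)) (Comm ρ)) :=
    isCentral_of_algEquiv' φ
  have hfM : Module.Finite k (Matrix (Fin (n ^ 2)) (Fin (n ^ 2)) (Comm ρ)) :=
    Module.Finite.equiv φ.toLinearEquiv
  have hs : IsSimpleRing (Comm ρ) :=
    ⟨(TwoSidedIdeal.orderIsoMatrix (n := Fin (n ^ 2)) (R := Comm ρ)).isSimpleOrder⟩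
  have hc : Algebra.IsCentral k (Comm ρ) :=
    Groth.Agent.Lib.Helper1.isCentral_of_isCentral_matrix (Comm ρ) (n ^ 2)
  have hf : Module.Finite k (Comm ρ) :=
    .of_surjective (Matrix.entryLinearMap k (Comm ρ) (0 : Fin (n ^ 2)) (0 : Fin (n ^ 2)))
      fun f ↦ ⟨fun _ _ ↦ f, rfl⟩
  refine ⟨hc, hs, hf, ?_⟩
  have h1 := φ.toLinearEquiv.finrank_eq
  rw [Module.finrank_matrix, Module.finrank_matrix, hA] at h1
  simp only [Fintype.card_fin] at h1
  have h2 : n ^ 2 * n ^ 2 * Module.finrank k K ^ 2 =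
      n ^ 2 * n ^ 2 * Module.finrank k (Comm ρ) := by
    rw [← h1]; ring
  exact (Nat.eq_of_mul_eq_mul_left (by positivity) h2).symm

theorem exists_isCyclicAlg_comm [IsGalois k K] (σ : K ≃ₐ[k] K)
    (hσ : ∀ τ : K ≃ₐ[k] K, τ ∈ Subgroup.zpowers σ) {n : ℕ} (hn : n ≠ 0)
    (ρ : A →ₐ[k] Matrix (Fin n) (Fin n) K) (hA : Module.finrank k A = n ^ 2) :
    ∃ b : kˣ, CSAGal.IsCyclicAlg k K σ b (Comm ρ) := by
  obtain ⟨hc, hs, hf, hdim⟩ := comm_props hn ρ hA
  obtain ⟨y, hrel, ⟨b, hb⟩, hgen⟩ := Groth.Agent.Lib.Helper25.Cyclic.exists_cyclic_generator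
    (Module.finrank k K) hdim rfl σ hσ (ιComm ρ)
  have hb0 : b ≠ 0 := by
    rintro rfl
    rw [map_zero] at hb
    have h1 : IsUnit ((y : Comm ρ) ^ Module.finrank k K) := (y.isUnit).pow _
    rw [hb] at h1
    exact not_isUnit_zero h1
  exact ⟨Units.mk0 b hb0, ιComm ρ, y, hb, hrel, hgen, Module.finrank_pos, hdim⟩

/-- The representation of `A` on `Kⁿ` attached to a splitting. -/
noncomputable def repOfSplits {n : ℕ} (φ : K ⊗[k] A ≃ₐ[K] Matrix (Fin n) (Fin n) K) :
    A →ₐ[k] Matrix (Fin n) (Fin n) K :=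
  ((φ.restrictScalars k) : K ⊗[k] A →ₐ[k] Matrix (Fin n) (Fin n) K).comp
    Algebra.TensorProduct.includeRight

omit [FiniteDimensional k K] [Algebra.IsCentral k A] [IsSimpleRing A] in
theorem finrank_of_splits {n : ℕ} (φ : K ⊗[k] A ≃ₐ[K] Matrix (Fin n) (Fin n) K) :
    Module.finrank k A = n ^ 2 := by
  have h1 := φ.toLinearEquiv.finrank_eq
  rw [Module.finrank_baseChange, Module.finrank_matrix] at h1
  simp only [Fintype.card_fin, Module.finrank_self, mul_one] at h1
  rw [h1, sq]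

/-- A central simple algebra split by a cyclic extension `K` is Brauer equivalent to a cyclic
algebra for `(K, σ)`, living in the universe of `A`. -/
theorem exists_brauerEquiv_cyclic [IsGalois k K] (σ : K ≃ₐ[k] K)
    (hσ : ∀ τ : K ≃ₐ[k] K, τ ∈ Subgroup.zpowers σ) (hS : Curves.Splits k A K) :
    ∃ (b : kˣ) (B : Type w) (_ : Ring B) (_ : Algebra k B), CSAGal.IsCyclicAlg k K σ b B ∧
      ∃ n m : ℕ, n ≠ 0 ∧ m ≠ 0 ∧
        Nonempty (Matrix (Fin n) (Fin n) A ≃ₐ[k] Matrix (Fin m) (Fin m) B) := by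
  classical
  obtain ⟨n, hn, ⟨φ⟩⟩ := hS
  have hA := finrank_of_splits φ
  obtain ⟨hc, hs, hf, hdim⟩ := comm_props hn (repOfSplits φ) hA
  obtain ⟨b, hb⟩ := exists_isCyclicAlg_comm σ hσ hn (repOfSplits φ) hA
  obtain ⟨ψ⟩ := matrix_equiv hn (repOfSplits φ) hA
  have hk : Small.{w} k := small_of_injective (algebraMap k A).injective
  have hsmall : Small.{w} (Comm (repOfSplits φ)) :=
    small_map (Module.finBasis k (Comm (repOfSplits φ))).equivFun.toEquiv
  let e : Shrink.{w} (Comm (repOfSplits φ)) ≃ₐ[k] Comm (repOfSplits φ) := Shrink.algEquiv k _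
  refine ⟨b, Shrink.{w} (Comm (repOfSplits φ)), inferInstance, inferInstance,
    isCyclicAlg_of_algEquiv e.symm σ b hb, n * Module.finrank k K, n ^ 2,
    mul_ne_zero hn Module.finrank_pos.ne', pow_ne_zero 2 hn, ⟨ψ.trans e.symm.mapMatrix⟩⟩

/-- A central simple algebra of degree `[K:k]` split by a cyclic extension `K` is a cyclic
algebra for `(K, σ)`. -/
theorem exists_isCyclicAlg [IsGalois k K] (σ : K ≃ₐ[k] K)
    (hσ : ∀ τ : K ≃ₐ[k] K, τ ∈ Subgroup.zpowers σ) (hS : Curves.Splits k A K)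
    (hdimA : Module.finrank k A = Module.finrank k K ^ 2) :
    ∃ b : kˣ, CSAGal.IsCyclicAlg k K σ b A := by
  classical
  obtain ⟨n, hn, ⟨φ⟩⟩ := hS
  have hA := finrank_of_splits φ
  have hnm : Module.finrank k K = n := by
    rw [hA] at hdimA
    exact (Nat.pow_left_injective (n := 2) (by norm_num) hdimA).symm
  obtain ⟨hc, hs, hf, hdim⟩ := comm_props hn (repOfSplits φ) hA
  obtain ⟨b, hb⟩ := exists_isCyclicAlg_comm σ hσ hn (repOfSplits φ) hA
  obtain ⟨ψ⟩ := matrix_equiv hn (repOfSplits φ) hA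
  rw [hnm, ← sq] at ψ
  have : NeZero (n ^ 2) := ⟨pow_ne_zero 2 hn⟩
  obtain ⟨e⟩ := Groth.Agent.Lib.Helper39.nonempty_algEquiv_of_matrix_algEquiv k A
    (Comm (repOfSplits φ)) (n ^ 2) ψ
  exact ⟨b, isCyclicAlg_of_algEquiv e.symm σ b hb⟩

end Main

end Groth.Agent.Lib.Helper25.CyclicSplit
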