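import Mathlib
import Groth.Prelude
import Groth.Agent.Lib.Helper25.BrauerRel
import Groth.Agent.Lib.Helper25.TPow
import Groth.Agent.Lib.Helper25.CommutantBrauer
import Groth.Agent.Lib.Helper1.CSA.SeparableSplitting
import Groth.Agent.Lib.Helper1.CSA.SplitDegree
import Groth.Agent.Lib.Helper1.CSA.FinrankSquare

set_option autoImplicit false
universe u v w
open scoped TensorProduct

namespace Groth.Agent.Lib.Helper25.SplitBaseChange

open Groth.Agent.Lib.Helper25.BrauerRel Groth.Agent.Lib.Helper25.TPow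

variable {k : Type u} [Field k] (k' : Type w) [Field k'] [Algebra k k']

/-- `k' ⊗ M_n(X) ≃ M_n(k' ⊗ X)` -/
noncomputable def baseChangeMatrix (n : ℕ) (X : Type*) [Ring X] [Algebra k X] :
    k' ⊗[k] Matrix (Fin n) (Fin n) X ≃ₐ[k'] Matrix (Fin n) (Fin n) (k' ⊗[k] X) :=
  (Algebra.TensorProduct.congr (Groth.Agent.Lib.Helper1.matOneAlgEquiv k' k').symm
    (AlgEquiv.refl : Matrix (Fin n) (Fin n) X ≃ₐ[k] Matrix (Fin n) (Fin n) X)).trans
  ((Matrix.kroneckerTMulAlgEquiv (Fin 1) (Fin n) k k' k' X).trans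
    (Matrix.reindexAlgEquiv k' (k' ⊗[k] X) (Equiv.uniqueProd (Fin n) (Fin 1))))

variable {k'}
variable {X : Type*} [Ring X] [Algebra k X] {Y : Type*} [Ring Y] [Algebra k Y]

theorem BrEq.baseChange (h : BrEq k X Y) : BrEq k' (k' ⊗[k] X) (k' ⊗[k] Y) := by
  obtain ⟨n, m, hn, hm, ⟨φ⟩⟩ := h
  exact ⟨n, m, hn, hm, ⟨(baseChangeMatrix k' n X).symm.trans
    ((Algebra.TensorProduct.congr (AlgEquiv.refl : k' ≃ₐ[k'] k') φ).trans
      (baseChangeMatrix k' m Y))⟩⟩

theorem splits_iff_brEq' : Curves.Splits k X k' ↔ BrEq k' (k' ⊗[k] X) k' := by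
  rw [← splits_iff_brEq]
  constructor
  · rintro ⟨n, hn, ⟨φ⟩⟩
    exact ⟨n, hn, ⟨(Algebra.TensorProduct.lid k' (k' ⊗[k] X)).trans φ⟩⟩
  · rintro ⟨n, hn, ⟨φ⟩⟩
    exact ⟨n, hn, ⟨(Algebra.TensorProduct.lid k' (k' ⊗[k] X)).symm.trans φ⟩⟩

theorem splits_of_brEq (h : BrEq k X Y) (hX : Curves.Splits k X k') : Curves.Splits k Y k' := by
  rw [splits_iff_brEq'] at hX ⊢
  exact (BrEq.baseChange h).symm.trans hX

theorem splits_of_algEquiv (e : X ≃ₐ[k] Y) (hX : Curves.Splits k X k') : Curves.Splits k Y k' :=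
  splits_of_brEq (BrEq.of_algEquiv e) hX

/-- noncommutative version of `Algebra.TensorProduct.cancelBaseChange` -/
noncomputable def cancelBaseChange' (A : Type*) [Ring A] [Algebra k' A] [Algebra k A]
    [IsScalarTower k k' A] (B : Type*) [Ring B] [Algebra k B] :
    A ⊗[k'] (k' ⊗[k] B) ≃ₐ[k'] A ⊗[k] B :=
  AlgEquiv.symm <| AlgEquiv.ofLinearEquiv
    (TensorProduct.AlgebraTensorModule.cancelBaseChange k k' k' A B).symm
    (by simp [Algebra.TensorProduct.one_def]) <|
      LinearMap.map_mul_of_map_mul_tmul (fun _ _ _ _ ↦ by simp)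

theorem splits_tensor (hX : Curves.Splits k X k') (hY : Curves.Splits k Y k') :
    Curves.Splits k (X ⊗[k] Y) k' := by
  obtain ⟨a, ha, ⟨φ⟩⟩ := hX
  obtain ⟨b, hb, ⟨ψ⟩⟩ := hY
  refine ⟨a * b, mul_ne_zero ha hb, ⟨?_⟩⟩
  exact (Algebra.TensorProduct.assoc k k k' k' X Y).symm.trans
    ((cancelBaseChange' (k := k) (k' := k') (k' ⊗[k] X) Y).symm.trans
      ((Algebra.TensorProduct.congr φ ψ).trans
        ((Matrix.kroneckerAlgEquiv (Fin a) (Fin b) k').trans
          (Matrix.reindexAlgEquiv k' k' finProdFinEquiv))))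

theorem splits_self : Curves.Splits k k k' :=
  ⟨1, one_ne_zero, ⟨(Algebra.TensorProduct.rid k k' k').trans
    (Groth.Agent.Lib.Helper1.matOneAlgEquiv k' k').symm⟩⟩

theorem splits_tpow (A : Type v) [Ring A] [Algebra k A] (hA : Curves.Splits k A k') (i : ℕ) :
    Curves.Splits k (CSAGal.tpow k A i) k' := by
  induction i with
  | zero => exact splits_of_algEquiv (zeroEquiv k A).symm splits_self
  | succ i ih => exact splits_of_algEquiv (succEquiv k A i).symm (splits_tensor ih hA)

theorem brEq_matrix (X : Type*) [Ring X] [Algebra k X] (n : ℕ) (hn : n ≠ 0) :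
    BrEq k X (Matrix (Fin n) (Fin n) X) :=
  ⟨n, 1, hn, one_ne_zero, ⟨(Groth.Agent.Lib.Helper1.matOneAlgEquiv k _).symm⟩⟩

open Groth.Agent.Lib.Helper1 in
/-- a central division algebra of dimension `d²` is split by a field of degree `d` -/
theorem exists_splitting_field_of_division (k : Type u) [Field k] (D : Type v) [DivisionRing D]
    [Algebra k D] [Algebra.IsCentral k D] [FiniteDimensional k D] (d : ℕ)
    (hd : Module.finrank k D = d ^ 2) :
    ∃ (k' : Type u) (_ : Field k') (_ : Algebra k k'), FiniteDimensional k k' ∧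
      Module.finrank k k' = d ∧ Curves.Splits k D k' := by
  obtain ⟨L, hL, hmax⟩ := exists_maximal_commutative_subalgebra (k := k) (D := D)
  obtain ⟨k', _, _, ⟨φ⟩⟩ := exists_field_algEquiv k L (fun x y => Subtype.ext (hL x.1 x.2 y.1 y.2))
  have hfin : FiniteDimensional k k' := Module.Finite.equiv φ.symm.toLinearEquiv
  have hdim : Module.finrank k D = Module.finrank k k' ^ 2 := by
    rw [finrank_eq_sq_of_maximal_commutative L hL hmax, φ.toLinearEquiv.finrank_eq]
  refine ⟨k', inferInstance, inferInstance, hfin, ?_,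
    splits_of_algHom_of_finrank_eq_sq (L.val.comp φ.toAlgHom) hdim⟩
  rw [hd] at hdim
  exact (Nat.pow_left_injective (n := 2) (by norm_num) hdim).symm

/-- the division algebra in the definition of the index of a central algebra is central -/
theorem isCentral_of_matrix_algEquiv (k : Type u) [Field k] (A : Type*) [Ring A] [Algebra k A]
    [Algebra.IsCentral k A] (D : Type*) [Ring D] [Algebra k D] (m : ℕ) (hm : 0 < m)
    (e : A ≃ₐ[k] Matrix (Fin m) (Fin m) D) : Algebra.IsCentral k D := by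
  have : NeZero m := ⟨hm.ne'⟩
  have : Algebra.IsCentral k (Matrix (Fin m) (Fin m) D) :=
    Groth.Agent.Lib.Helper25.CommutantBrauer.isCentral_of_algEquiv e
  exact Groth.Agent.Lib.Helper1.isCentral_of_isCentral_matrix D m

/-- If `A^{⊗i} ~ B`, the index of `B` divides the index of `A`. -/
theorem index_dvd_of_brEq_tpow (k : Type u) [Field k]
    (A : Type v) [Ring A] [Algebra k A] [Algebra.IsCentral k A] [FiniteDimensional k A]
    (B : Type w) [Ring B] [Algebra k B] [Algebra.IsCentral k B] [FiniteDimensional k B]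
    (i : ℕ) (h : BrEq k (CSAGal.tpow k A i) B) (d e : ℕ) (hd : CSAGal.IsIndex k A d)
    (he : CSAGal.IsIndex k B e) : e ∣ d := by
  obtain ⟨hd0, r, D, _, _, hr, hDd, ⟨eA⟩⟩ := hd
  obtain ⟨he0, s, E, _, _, hs, hEe, ⟨eB⟩⟩ := he
  have hcD : Algebra.IsCentral k D := isCentral_of_matrix_algEquiv k A D r hr eA
  have hcE : Algebra.IsCentral k E := isCentral_of_matrix_algEquiv k B E s hs eB
  have hfD : FiniteDimensional k D := by
    apply Module.finite_of_finrank_pos
    rw [hDd]; positivity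
  have hfE : FiniteDimensional k E := by
    apply Module.finite_of_finrank_pos
    rw [hEe]; positivity
  obtain ⟨K, _, _, hfin, hK, hsplit⟩ := exists_splitting_field_of_division k D d hDd
  have h1 : Curves.Splits k A K :=
    splits_of_brEq ((brEq_matrix D r hr.ne').trans (BrEq.of_algEquiv eA.symm)) hsplit
  have h2 : Curves.Splits k (CSAGal.tpow k A i) K := splits_tpow A h1 i
  have h3 : Curves.Splits k B K := splits_of_brEq h h2
  have h4 : Curves.Splits k E K :=
    splits_of_brEq ((BrEq.of_algEquiv eB).trans (brEq_matrix E s hs.ne').symm) h3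
  have := Groth.Agent.Lib.Helper1.dvd_finrank_of_splits k E e hEe K h4
  rwa [hK] at this

/-- existence of the index of a central simple algebra -/
theorem exists_isIndex (k : Type u) [Field k]
    (B : Type v) [Ring B] [Algebra k B] [Algebra.IsCentral k B] [IsSimpleRing B]
    [FiniteDimensional k B] : ∃ e, CSAGal.IsIndex k B e := by
  have : IsArtinianRing B := IsArtinianRing.of_finite k B
  obtain ⟨n, hn, E, hE, hEalg, hEfin, ⟨eB⟩⟩ :=
    IsSimpleRing.exists_algEquiv_matrix_divisionRing_finite k B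
  have hcE : Algebra.IsCentral k E :=
    isCentral_of_matrix_algEquiv k B E n (Nat.pos_of_ne_zero hn.out) eB
  obtain ⟨e, he⟩ := Groth.Agent.Lib.Helper1.isSquare_finrank_of_divisionRing (k := k) (D := E)
  have he0 : 0 < e := by
    rcases Nat.eq_zero_or_pos e with h | h
    · exfalso
      rw [h] at he
      have : 0 < Module.finrank k E := Module.finrank_pos
      omega
    · exact h
  exact ⟨e, he0, n, E, hE, hEalg, Nat.pos_of_ne_zero hn.out, by rw [he, sq], ⟨eB⟩⟩

/-- algebras generating the same subgroup of the Brauer group have the same index -/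
theorem isIndex_of_brEq_tpow (k : Type u) [Field k]
    (A : Type v) [Ring A] [Algebra k A] [Algebra.IsCentral k A] [IsSimpleRing A]
    [FiniteDimensional k A]
    (B : Type v) [Ring B] [Algebra k B] [Algebra.IsCentral k B] [IsSimpleRing B]
    [FiniteDimensional k B]
    (i j : ℕ) (h₁ : BrEq k (CSAGal.tpow k A i) B) (h₂ : BrEq k (CSAGal.tpow k B j) A)
    (d : ℕ) (hd : CSAGal.IsIndex k A d) : CSAGal.IsIndex k B d := by
  obtain ⟨e, he⟩ := exists_isIndex k B
  have h1 : e ∣ d := index_dvd_of_brEq_tpow k A B i h₁ d e hd he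
  have h2 : d ∣ e := index_dvd_of_brEq_tpow k B A j h₂ e d he hd
  rw [Nat.dvd_antisymm h2 h1]
  exact he

end Groth.Agent.Lib.Helper25.SplitBaseChange
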