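import Mathlib
import Groth.Prelude.Def_GSzCSA
import Groth.Prelude.Def_Curves
import Groth.Agent.Lib.Helper25.BrauerRel
import Groth.Agent.Lib.Helper25.TPow

/-!
# Tensor powers: `A^{⊗(a+b)} ≃ A^{⊗a} ⊗ A^{⊗b}`, `(A^{⊗r})^{⊗e} ≃ A^{⊗(re)}`, and the period
-/

set_option autoImplicit false
universe u v w
open scoped TensorProduct

namespace Groth.Agent.Lib.Helper25.TPow

open Groth.Agent.Lib.Helper25.BrauerRel

variable (k : Type u) [Field k] (A : Type v) [Ring A] [Algebra k A]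

/-- `A^{⊗(a+b)} ≃ A^{⊗a} ⊗ A^{⊗b}` -/
noncomputable def addEquiv (a : ℕ) : ∀ b : ℕ,
    CSAGal.tpow k A (a + b) ≃ₐ[k] CSAGal.tpow k A a ⊗[k] CSAGal.tpow k A b
  | 0 => (Algebra.TensorProduct.rid k k (CSAGal.tpow k A a)).symm.trans
      (Algebra.TensorProduct.congr AlgEquiv.refl (zeroEquiv k A).symm)
  | b + 1 => (succEquiv k A (a + b)).trans
      ((Algebra.TensorProduct.congr (addEquiv a b) AlgEquiv.refl).trans
        ((Algebra.TensorProduct.assoc k k k (CSAGal.tpow k A a) (CSAGal.tpow k A b) A).trans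
          (Algebra.TensorProduct.congr AlgEquiv.refl (succEquiv k A b).symm)))

/-- `(A^{⊗r})^{⊗e} ≃ A^{⊗(re)}` -/
noncomputable def mulEquiv (r : ℕ) : ∀ e : ℕ,
    CSAGal.tpow k (CSAGal.tpow k A r) e ≃ₐ[k] CSAGal.tpow k A (r * e)
  | 0 => (zeroEquiv k (CSAGal.tpow k A r)).trans (zeroEquiv k A).symm
  | e + 1 => (succEquiv k (CSAGal.tpow k A r) e).trans
      ((Algebra.TensorProduct.congr (mulEquiv r e) AlgEquiv.refl).trans
        (addEquiv k A (r * e) r).symm)

variable {k A}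

theorem brEq_zero : BrEq k (CSAGal.tpow k A 0) k := BrEq.of_algEquiv (zeroEquiv k A)

theorem brEq_add {a b : ℕ} (ha : BrEq k (CSAGal.tpow k A a) k)
    (hb : BrEq k (CSAGal.tpow k A b) k) : BrEq k (CSAGal.tpow k A (a + b)) k := by
  have h1 : BrEq k (CSAGal.tpow k A (a + b)) (CSAGal.tpow k A a ⊗[k] CSAGal.tpow k A b) :=
    BrEq.of_algEquiv (addEquiv k A a b)
  have h2 : BrEq k (CSAGal.tpow k A a ⊗[k] CSAGal.tpow k A b) (k ⊗[k] CSAGal.tpow k A b) :=
    ha.tensor_right _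
  have h3 : BrEq k (k ⊗[k] CSAGal.tpow k A b) (CSAGal.tpow k A b) :=
    BrEq.of_algEquiv (Algebra.TensorProduct.lid k _)
  exact ((h1.trans h2).trans h3).trans hb

theorem brEq_of_add {a b : ℕ} (ha : BrEq k (CSAGal.tpow k A a) k)
    (hab : BrEq k (CSAGal.tpow k A (a + b)) k) : BrEq k (CSAGal.tpow k A b) k := by
  have h1 : BrEq k (CSAGal.tpow k A (a + b)) (CSAGal.tpow k A a ⊗[k] CSAGal.tpow k A b) :=
    BrEq.of_algEquiv (addEquiv k A a b)
  have h2 : BrEq k (CSAGal.tpow k A a ⊗[k] CSAGal.tpow k A b) (k ⊗[k] CSAGal.tpow k A b) :=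
    ha.tensor_right _
  have h3 : BrEq k (k ⊗[k] CSAGal.tpow k A b) (CSAGal.tpow k A b) :=
    BrEq.of_algEquiv (Algebra.TensorProduct.lid k _)
  exact (((h1.trans h2).trans h3).symm).trans hab

theorem brEq_mul {a : ℕ} (ha : BrEq k (CSAGal.tpow k A a) k) (q : ℕ) :
    BrEq k (CSAGal.tpow k A (a * q)) k := by
  induction q with
  | zero => exact brEq_zero
  | succ q ih => exact brEq_add ih ha

/-- If `A` has period `p`, then `A^{⊗n}` is split iff `p ∣ n`. -/
theorem splits_tpow_iff_dvd {p : ℕ} (hp : CSAGal.IsPeriod k A p) (n : ℕ) :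
    Curves.Splits k (CSAGal.tpow k A n) k ↔ p ∣ n := by
  obtain ⟨hp0, hps, hmin⟩ := hp
  rw [splits_iff_brEq] at hps
  constructor
  · intro hn
    rw [splits_iff_brEq] at hn
    have h1 : BrEq k (CSAGal.tpow k A (p * (n / p))) k := brEq_mul hps _
    have h2 : BrEq k (CSAGal.tpow k A (p * (n / p) + n % p)) k := by
      rw [Nat.div_add_mod]; exact hn
    have h3 : BrEq k (CSAGal.tpow k A (n % p)) k := brEq_of_add h1 h2
    by_contra hdvd
    have h4 : 0 < n % p := Nat.pos_of_ne_zero (fun h => hdvd (Nat.dvd_of_mod_eq_zero h))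
    exact hmin (n % p) h4 (Nat.mod_lt n hp0) (splits_iff_brEq.mpr h3)
  · rintro ⟨q, rfl⟩
    rw [splits_iff_brEq]
    exact brEq_mul hps q

/-- The period of `A^{⊗r}` is `p / gcd(p, r)`. -/
theorem isPeriod_tpow {p : ℕ} (hp : CSAGal.IsPeriod k A p) (r : ℕ) :
    CSAGal.IsPeriod k (CSAGal.tpow k A r) (p / Nat.gcd p r) := by
  have hp0 : 0 < p := hp.1
  have hg : 0 < Nat.gcd p r := Nat.gcd_pos_of_pos_left r hp0
  have key : ∀ e : ℕ, Curves.Splits k (CSAGal.tpow k (CSAGal.tpow k A r) e) k ↔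
      p / Nat.gcd p r ∣ e := by
    intro e
    have h1 : Curves.Splits k (CSAGal.tpow k (CSAGal.tpow k A r) e) k ↔
        Curves.Splits k (CSAGal.tpow k A (r * e)) k := by
      rw [splits_iff_brEq, splits_iff_brEq]
      exact ⟨fun h => (BrEq.of_algEquiv (mulEquiv k A r e)).symm.trans h,
        fun h => (BrEq.of_algEquiv (mulEquiv k A r e)).trans h⟩
    rw [h1, splits_tpow_iff_dvd hp]
    -- p ∣ r * e ↔ p / g ∣ e
    obtain ⟨p', hp'⟩ := Nat.gcd_dvd_left p r
    obtain ⟨r', hr'⟩ := Nat.gcd_dvd_right p r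
    have hcop : Nat.Coprime p' r' := by
      have := Nat.coprime_div_gcd_div_gcd hg
      rwa [Nat.div_eq_of_eq_mul_right hg hp', Nat.div_eq_of_eq_mul_right hg hr'] at this
    have hdiv : p / Nat.gcd p r = p' := Nat.div_eq_of_eq_mul_right hg hp'
    rw [hdiv]
    constructor
    · intro h
      have h2 : Nat.gcd p r * p' ∣ Nat.gcd p r * (r' * e) := by
        rw [← hp', ← mul_assoc, ← hr']; exact h
      have h3 : p' ∣ r' * e := Nat.dvd_of_mul_dvd_mul_left hg h2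
      exact hcop.dvd_of_dvd_mul_left h3
    · intro h
      rw [hp']
      conv_rhs => rw [hr']
      rw [mul_assoc]
      exact Nat.mul_dvd_mul_left _ (h.mul_left r')
  have hpos : 0 < p / Nat.gcd p r := Nat.div_pos (Nat.le_of_dvd hp0 (Nat.gcd_dvd_left p r)) hg
  refine ⟨hpos, (key _).mpr dvd_rfl, fun e' he' hlt h => ?_⟩
  have := Nat.le_of_dvd he' ((key e').mp h)
  omega

end Groth.Agent.Lib.Helper25.TPow
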