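import Mathlib
import Groth.Prelude
import Groth.Agent.Lib.Helper25.SplitBaseChange
import Groth.Agent.Lib.Helper25.TPowPeriod
import Groth.Agent.Lib.Helper25.CyclicPeriod
import Groth.Agent.Lib.Helper25.CyclicSplit
import Groth.Agent.Lib.Helper25.InvolutionBaseChange
import Groth.Agent.Lib.Helper1.CSA.TensorSimple
import Groth.Agent.Lib.Helper1.CSA.Centralizer

/-!
# Tensor powers, base change and cyclic splitting fields (helper25)
-/

set_option autoImplicit false
universe u v w
open scoped TensorProduct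

namespace Groth.Agent.Lib.Helper25.TPowBaseChange

open Groth.Agent.Lib.Helper25.BrauerRel Groth.Agent.Lib.Helper25.TPow
  Groth.Agent.Lib.Helper25.SplitBaseChange

section BrEq

variable {k : Type u} [Field k]
variable {X : Type*} [Ring X] [Algebra k X] {Y : Type*} [Ring Y] [Algebra k Y]

theorem BrEq.tensor_left (h : BrEq k X Y) (A : Type*) [Ring A] [Algebra k A] :
    BrEq k (A ⊗[k] X) (A ⊗[k] Y) :=
  (BrEq.of_algEquiv (Algebra.TensorProduct.comm k A X)).trans
    ((h.tensor_right A).trans (BrEq.of_algEquiv (Algebra.TensorProduct.comm k Y A)))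

theorem BrEq.tpow (h : BrEq k X Y) (n : ℕ) :
    BrEq k (CSAGal.tpow k X n) (CSAGal.tpow k Y n) := by
  induction n with
  | zero =>
    exact (BrEq.of_algEquiv (zeroEquiv k X)).trans (BrEq.of_algEquiv (zeroEquiv k Y).symm)
  | succ n ih =>
    exact (BrEq.of_algEquiv (succEquiv k X n)).trans ((ih.tensor_right X).trans
      ((BrEq.tensor_left h _).trans (BrEq.of_algEquiv (succEquiv k Y n).symm)))

end BrEq

section CSA

variable (k : Type u) [Field k] (A : Type v) [Ring A] [Algebra k A]

/-- tensor powers of central simple algebras are central simple -/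
theorem tpow_props [Algebra.IsCentral k A] [IsSimpleRing A] [FiniteDimensional k A] (n : ℕ) :
    Algebra.IsCentral k (CSAGal.tpow k A n) ∧ IsSimpleRing (CSAGal.tpow k A n) ∧
      FiniteDimensional k (CSAGal.tpow k A n) := by
  induction n with
  | zero =>
    refine ⟨Groth.Agent.Lib.Helper25.CommutantBrauer.isCentral_of_algEquiv (zeroEquiv k A).symm,
      IsSimpleRing.of_ringEquiv (zeroEquiv k A).symm.toRingEquiv inferInstance,
      Module.Finite.equiv (zeroEquiv k A).symm.toLinearEquiv⟩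
  | succ n ih =>
    obtain ⟨h1, h2, h3⟩ := ih
    have hc : Algebra.IsCentral k (CSAGal.tpow k A n ⊗[k] A) :=
      Groth.Agent.Lib.Helper1.isCentral_tensor
    have hs : IsSimpleRing (CSAGal.tpow k A n ⊗[k] A) :=
      Groth.Agent.Lib.Helper1.isSimpleRing_tensor_of_isCentral_of_isSimpleRing _ A
    refine ⟨Groth.Agent.Lib.Helper25.CommutantBrauer.isCentral_of_algEquiv (succEquiv k A n).symm,
      IsSimpleRing.of_ringEquiv (succEquiv k A n).symm.toRingEquiv hs,
      Module.Finite.equiv (succEquiv k A n).symm.toLinearEquiv⟩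

end CSA

section Cyclic

variable {k : Type u} [Field k] {K : Type v} [Field K] [Algebra k K] [FiniteDimensional k K]
  [IsGalois k K]

/-- If a central simple algebra is split by a cyclic extension of degree `n`, its `n`-th tensor
power is split. -/
theorem splits_tpow_of_cyclic (σ : K ≃ₐ[k] K) (hσ : ∀ τ : K ≃ₐ[k] K, τ ∈ Subgroup.zpowers σ)
    {A : Type w} [Ring A] [Algebra k A] [Algebra.IsCentral k A] [IsSimpleRing A]
    [FiniteDimensional k A] (hS : Curves.Splits k A K) :
    Curves.Splits k (CSAGal.tpow k A (Module.finrank k K)) k := by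
  obtain ⟨b, B, _, _, hB, n, m, hn, hm, ⟨φ⟩⟩ :=
    Groth.Agent.Lib.Helper25.CyclicSplit.exists_brauerEquiv_cyclic σ hσ hS
  have hbr : BrEq k A B := ⟨n, m, hn, hm, ⟨φ⟩⟩
  have h1 : Curves.Splits k (CSAGal.tpow k B (Module.finrank k K)) k := by
    rw [Groth.Agent.Lib.Helper25.CyclicPeriod.splits_tpow_iff_norm σ hσ b hB _ Module.finrank_pos]
    exact ⟨algebraMap k K (b : k), Algebra.norm_algebraMap _⟩
  rw [splits_iff_brEq] at h1 ⊢
  exact (BrEq.tpow hbr _).trans h1

end Cyclic

section BaseChange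

variable {k : Type u} [Field k] (F : Type w) [Field F] [Algebra k F]

/-- `F ⊗ (X ⊗ Y) ≃ (F ⊗ X) ⊗_F (F ⊗ Y)` -/
noncomputable def distrib (X : Type*) [Ring X] [Algebra k X] (Y : Type*) [Ring Y] [Algebra k Y] :
    F ⊗[k] (X ⊗[k] Y) ≃ₐ[F] (F ⊗[k] X) ⊗[F] (F ⊗[k] Y) :=
  (Algebra.TensorProduct.assoc k k F F X Y).symm.trans
    (cancelBaseChange' (k := k) (k' := F) (F ⊗[k] X) Y).symm

/-- base change of tensor powers -/
noncomputable def tpowBaseChange (X : Type v) [Ring X] [Algebra k X] : ∀ m : ℕ,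
    F ⊗[k] CSAGal.tpow k X m ≃ₐ[F] CSAGal.tpow F (F ⊗[k] X) m
  | 0 => (Algebra.TensorProduct.congr (AlgEquiv.refl : F ≃ₐ[F] F) (zeroEquiv k X)).trans
      ((Algebra.TensorProduct.rid k F F).trans (zeroEquiv F (F ⊗[k] X)).symm)
  | m + 1 => (Algebra.TensorProduct.congr (AlgEquiv.refl : F ≃ₐ[F] F) (succEquiv k X m)).trans
      ((distrib F (CSAGal.tpow k X m) X).trans
        ((Algebra.TensorProduct.congr (tpowBaseChange X m) AlgEquiv.refl).trans
          (succEquiv F (F ⊗[k] X) m).symm))

variable {F}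

theorem splits_tpow_baseChange_iff (X : Type v) [Ring X] [Algebra k X] (m : ℕ) :
    Curves.Splits F (CSAGal.tpow F (F ⊗[k] X) m) F ↔ Curves.Splits k (CSAGal.tpow k X m) F := by
  constructor
  · rintro ⟨n, hn, ⟨φ⟩⟩
    exact ⟨n, hn, ⟨(tpowBaseChange F X m).trans
      ((Algebra.TensorProduct.lid F _).symm.trans φ)⟩⟩
  · rintro ⟨n, hn, ⟨φ⟩⟩
    exact ⟨n, hn, ⟨(Algebra.TensorProduct.lid F _).trans
      ((tpowBaseChange F X m).symm.trans φ)⟩⟩

end BaseChange

section Tower

variable {k : Type u} [Field k] {F : Type v} [Field F] [Algebra k F]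
  {K : Type w} [Field K] [Algebra k K] [Algebra F K] [IsScalarTower k F K]

/-- noncommutative version of `Algebra.TensorProduct.cancelBaseChange` in a tower -/
noncomputable def cancelBaseChangeTower (B : Type*) [Ring B] [Algebra k B] :
    K ⊗[F] (F ⊗[k] B) ≃ₐ[K] K ⊗[k] B :=
  AlgEquiv.symm <| AlgEquiv.ofLinearEquiv
    (TensorProduct.AlgebraTensorModule.cancelBaseChange k F K K B).symm
    (by simp [Algebra.TensorProduct.one_def]) <|
      LinearMap.map_mul_of_map_mul_tmul (fun _ _ _ _ ↦ by simp)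

theorem splits_tower_iff (X : Type*) [Ring X] [Algebra k X] :
    Curves.Splits F (F ⊗[k] X) K ↔ Curves.Splits k X K := by
  constructor
  · rintro ⟨n, hn, ⟨φ⟩⟩
    exact ⟨n, hn, ⟨(cancelBaseChangeTower (k := k) (F := F) (K := K) X).symm.trans φ⟩⟩
  · rintro ⟨n, hn, ⟨φ⟩⟩
    exact ⟨n, hn, ⟨(cancelBaseChangeTower (k := k) (F := F) (K := K) X).trans φ⟩⟩

end Tower

section FieldIso

variable {k : Type u} [Field k] {K : Type v} [Field K] [Algebra k K]
  {K' : Type w} [Field K'] [Algebra k K']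

theorem splits_of_fieldEquiv (e : K ≃ₐ[k] K') (X : Type*) [Ring X] [Algebra k X]
    [Algebra.IsCentral k X] [IsSimpleRing X] [FiniteDimensional k X]
    (h : Curves.Splits k X K) : Curves.Splits k X K' := by
  let _ : Algebra K K' := e.toAlgHom.toRingHom.toAlgebra
  have : IsScalarTower k K K' := IsScalarTower.of_algebraMap_eq (fun x => (e.commutes x).symm)
  exact Groth.Agent.Lib.Helper1.splits_of_tower k X K K' h

end FieldIso

end Groth.Agent.Lib.Helper25.TPowBaseChange
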