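import Mathlib
import Groth.Prelude
import Groth.Agent.Lib.Helper25.TPowBaseChange

/-!
# Splitting by towers of cyclic extensions of prime degree (helper25)
-/

set_option autoImplicit false
universe u v w
open scoped TensorProduct

namespace Groth.Agent.Lib.Helper25.PTower

open Groth.Agent.Lib.Helper25.BrauerRel Groth.Agent.Lib.Helper25.TPow
  Groth.Agent.Lib.Helper25.SplitBaseChange Groth.Agent.Lib.Helper25.TPowBaseChange

/-- A proper subgroup of a finite `p`-group is contained in a normal subgroup of index `p`. -/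
theorem exists_normal_index_prime {G : Type*} [Group G] [Finite G] (p : ℕ) [hp : Fact p.Prime]
    (hG : IsPGroup p G) (H : Subgroup G) (hH : H ≠ ⊤) :
    ∃ Q : Subgroup G, H ≤ Q ∧ Q.Normal ∧ Q.index = p := by
  obtain ⟨a, ha⟩ := IsPGroup.iff_card.mp hG
  obtain ⟨n, hn⟩ := IsPGroup.iff_card.mp (hG.to_subgroup H)
  have hna : n < a := by
    by_contra hcon
    push Not at hcon
    apply hH
    apply Subgroup.eq_top_of_card_eq
    have h1 : Nat.card H ∣ Nat.card G := Subgroup.card_subgroup_dvd_card H
    apply Nat.dvd_antisymm h1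
    rw [ha, hn]
    exact pow_dvd_pow p hcon
  obtain ⟨Q, hQ, hHQ⟩ := Sylow.exists_subgroup_card_pow_prime_le p
    (show p ^ (a - 1) ∣ Nat.card G by rw [ha]; exact pow_dvd_pow p (Nat.sub_le a 1)) H hn
    (by omega)
  have hidx : Q.index = p := by
    have h1 := Subgroup.card_mul_index Q
    rw [hQ, ha] at h1
    have h2 : p ^ a = p ^ (a - 1) * p := by
      rw [← pow_succ]; congr 1; omega
    rw [h2] at h1
    exact Nat.eq_of_mul_eq_mul_left (pow_pos hp.out.pos _) h1
  refine ⟨Q, hHQ, ?_, hidx⟩
  apply Subgroup.normal_of_index_eq_minFac_card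
  rw [hidx, ha, Nat.Prime.pow_minFac hp.out (by omega)]

/-- `A^{⊗1} ≃ A` -/
noncomputable def oneEquiv (k : Type u) [Field k] (A : Type v) [Ring A] [Algebra k A] :
    CSAGal.tpow k A 1 ≃ₐ[k] A :=
  (succEquiv k A 0).trans ((Algebra.TensorProduct.congr (zeroEquiv k A)
    AlgEquiv.refl).trans (Algebra.TensorProduct.lid k A))

section Galois

variable {F : Type u} {K : Type u} [Field F] [Field K] [Algebra F K] [FiniteDimensional F K]
  [IsGalois F K]

theorem finrank_fixedField_eq_index (Q : Subgroup (K ≃ₐ[F] K)) :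
    Module.finrank F (IntermediateField.fixedField Q) = Q.index := by
  have h1 := Module.finrank_mul_finrank F (IntermediateField.fixedField Q) K
  rw [IntermediateField.finrank_fixedField_eq_card, ← IsGalois.card_aut_eq_finrank F K,
    ← Subgroup.card_mul_index Q, mul_comm] at h1
  exact Nat.eq_of_mul_eq_mul_left Nat.card_pos h1

/-- `M` as an intermediate field over a smaller intermediate field, identified with `M` -/
def extendEquiv {F₁ M : IntermediateField F K} (h : F₁ ≤ M) :
    M ≃ₐ[F] IntermediateField.extendScalars h where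
  toFun x := ⟨x.1, x.2⟩
  invFun x := ⟨x.1, x.2⟩
  left_inv _ := rfl
  right_inv _ := rfl
  map_mul' _ _ := rfl
  map_add' _ _ := rfl
  commutes' _ := rfl

end Galois

/-- **Main tower theorem.** Let `K/F` be a finite Galois extension whose group is a `p`-group and
`M` an intermediate field of degree `p ^ n` over `F`.  If `M` splits the central simple
`F`-algebra `X`, then `X^{⊗ p^n}` is split. -/
theorem splits_tpow_of_pgroup (p : ℕ) [hp : Fact p.Prime] : ∀ (n : ℕ) (F K : Type u) [Field F]
    [Field K] [Algebra F K] [FiniteDimensional F K] [IsGalois F K],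
    IsPGroup p (K ≃ₐ[F] K) → ∀ (M : IntermediateField F K), Module.finrank F M = p ^ n →
    ∀ (X : Type (max u v)) [Ring X] [Algebra F X] [Algebra.IsCentral F X] [IsSimpleRing X]
      [FiniteDimensional F X], Curves.Splits F X M →
      Curves.Splits F (CSAGal.tpow F X (p ^ n)) F := by
  intro n
  induction n with
  | zero =>
    intro F K _ _ _ _ _ hG M hM X _ _ _ _ _ hS
    rw [pow_zero, IntermediateField.finrank_eq_one_iff] at hM
    subst hM
    have h1 : Curves.Splits F X F :=
      splits_of_fieldEquiv (IntermediateField.botEquiv F K) X hS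
    rw [pow_zero]
    exact splits_of_algEquiv (oneEquiv F X).symm h1
  | succ n ih =>
    intro F K _ _ _ _ _ hG M hM X _ _ _ _ _ hS
    -- the subgroup of `M`
    set H := M.fixingSubgroup with hH
    have hHM : IntermediateField.fixedField H = M := IsGalois.fixedField_fixingSubgroup M
    have hHtop : H ≠ ⊤ := by
      intro h
      have h1 := finrank_fixedField_eq_index (F := F) (K := K) H
      rw [hHM, hM, h, Subgroup.index_top] at h1
      have : 1 < p ^ (n + 1) := Nat.one_lt_pow (by omega) hp.out.one_lt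
      omega
    obtain ⟨Q, hHQ, hQn, hQi⟩ := exists_normal_index_prime p hG H hHtop
    set F₁ := IntermediateField.fixedField Q with hF₁
    have hle : F₁ ≤ M := by
      rw [← hHM]
      intro x hx
      rw [IntermediateField.mem_fixedField_iff] at hx ⊢
      intro g hg
      exact hx g (hHQ hg)
    have hgal : IsGalois F F₁ := IsGalois.of_fixedField_normal_subgroup Q
    have hdeg : Module.finrank F F₁ = p := by
      rw [hF₁, finrank_fixedField_eq_index, hQi]
    -- the Galois group of `F₁/F` is cyclic
    have hcard : Nat.card (F₁ ≃ₐ[F] F₁) = p := by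
      rw [IsGalois.card_aut_eq_finrank, hdeg]
    have hcyc : IsCyclic (F₁ ≃ₐ[F] F₁) := isCyclic_of_prime_card hcard
    obtain ⟨σ, hσ⟩ := hcyc.exists_generator
    -- `M` over `F₁`
    set M' : IntermediateField F₁ K := IntermediateField.extendScalars hle with hM'
    have hM'deg : Module.finrank F₁ M' = p ^ n := by
      have h1 := Module.finrank_mul_finrank F F₁ M'
      rw [← (extendEquiv hle).toLinearEquiv.finrank_eq, hM, hdeg, pow_succ, mul_comm] at h1
      exact Nat.eq_of_mul_eq_mul_right hp.out.pos h1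
    have hG₁ : IsPGroup p (K ≃ₐ[F₁] K) :=
      IsPGroup.of_equiv (hG.to_subgroup F₁.fixingSubgroup)
        (IntermediateField.fixingSubgroupEquiv F₁)
    -- base change of `X`
    have hc₁ : Algebra.IsCentral F₁ (F₁ ⊗[F] X) :=
      Groth.Agent.Lib.Helper25.Involution.isCentral_baseChange F F₁ X
    have hs₁ : IsSimpleRing (F₁ ⊗[F] X) :=
      Groth.Agent.Lib.Helper1.isSimpleRing_tensor_of_isCentral_of_isSimpleRing F₁ X
    have hS' : Curves.Splits F X M' := splits_of_fieldEquiv (extendEquiv hle) X hS
    have hS₁ : Curves.Splits F₁ (F₁ ⊗[F] X) M' :=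
      (splits_tower_iff (k := F) (F := F₁) (K := M') X).mpr hS'
    have h2 : Curves.Splits F₁ (CSAGal.tpow F₁ (F₁ ⊗[F] X) (p ^ n)) F₁ :=
      ih F₁ K hG₁ M' hM'deg (F₁ ⊗[F] X) hS₁
    have h3 : Curves.Splits F (CSAGal.tpow F X (p ^ n)) F₁ :=
      (splits_tpow_baseChange_iff X (p ^ n)).mp h2
    obtain ⟨hcY, hsY, hfY⟩ := tpow_props F X (p ^ n)
    have h4 := splits_tpow_of_cyclic σ hσ (A := CSAGal.tpow F X (p ^ n)) h3
    rw [hdeg] at h4
    rw [pow_succ]
    exact splits_of_algEquiv (mulEquiv F X (p ^ n) p) h4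

end Groth.Agent.Lib.Helper25.PTower
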