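import Mathlib
import Groth.Agent.Lib.Helper25.IndexBaseChange

/-!
# Brauer groups of finite separable extensions of a separable algebraic extension `F / K`

`forward`: if all finite separable extensions of `F` have trivial Brauer group then every central
division algebra over a finite separable `E / K` is split by every field containing `E` and `F`.
`backward`: the converse, by descending a central division algebra over `F'` to a finite separable
subextension of `F' / K` through its structure constants.
-/

set_option autoImplicit false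
set_option linter.style.haveILetI false
universe u
open scoped TensorProduct

namespace Groth.Agent.Lib.Helper25.BrauerSepAlg

open Groth.Agent.Lib.Helper25.SplitBaseChange

/-- a division algebra of dimension one is the base field. -/
theorem exists_algEquiv_of_finrank_eq_one (k : Type*) [Field k] (D : Type*) [Ring D] [Nontrivial D]
    [Algebra k D] (h : Module.finrank k D = 1) : Nonempty (k ≃ₐ[k] D) := by
  have hfin : FiniteDimensional k D := Module.finite_of_finrank_pos (by omega)
  have hinj : Function.Injective (Algebra.ofId k D) := (Algebra.ofId k D).toRingHom.injective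
  have hsurj : Function.Surjective (Algebra.ofId k D) := by
    have := (LinearMap.injective_iff_surjective_of_finrank_eq_finrank
      (f := (Algebra.ofId k D).toLinearMap) (by rw [Module.finrank_self, h])).1 hinj
    exact this
  exact ⟨AlgEquiv.ofBijective (Algebra.ofId k D) ⟨hinj, hsurj⟩⟩

/-- `M`-linear noncommutative version of `Algebra.TensorProduct.cancelBaseChange` -/
noncomputable def cancelBaseChangeSelf (k k' : Type*) [Field k] [Field k'] [Algebra k k']
    (A : Type*) [CommRing A] [Algebra k' A] [Algebra k A]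
    [IsScalarTower k k' A] (B : Type*) [Ring B] [Algebra k B] :
    A ⊗[k'] (k' ⊗[k] B) ≃ₐ[A] A ⊗[k] B :=
  AlgEquiv.symm <| AlgEquiv.ofLinearEquiv
    (TensorProduct.AlgebraTensorModule.cancelBaseChange k k' A A B).symm
    (by simp [Algebra.TensorProduct.one_def]) <|
      LinearMap.map_mul_of_map_mul_tmul (fun _ _ _ _ ↦ by simp)

/-- forward direction -/
theorem forward (K F : Type u) [Field K] [Field F] [Algebra K F] [Algebra.IsSeparable K F]
    (ha : ∀ (F' : Type u) [Field F'] [Algebra F F'] [FiniteDimensional F F'] [Algebra.IsSeparable F F']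
        (D : Type u) [DivisionRing D] [Algebra F' D] [Algebra.IsCentral F' D] [FiniteDimensional F' D],
        Module.finrank F' D = 1)
    (E : Type u) [Field E] [Algebra K E] [FiniteDimensional K E] [Algebra.IsSeparable K E]
    (D : Type u) [DivisionRing D] [Algebra E D] [Algebra.IsCentral E D] [FiniteDimensional E D]
    (M : Type u) [Field M] [Algebra K M] [Algebra E M] [Algebra F M] [IsScalarTower K E M]
    [IsScalarTower K F M] :
    ∃ n : ℕ, Nonempty ((M ⊗[E] D) ≃ₐ[M] Matrix (Fin n) (Fin n) M) := by
  classical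
  -- the compositum
  let b := Module.finBasis K E
  let S : Set M := Set.range (fun i => algebraMap E M (b i))
  let F' : IntermediateField F M := IntermediateField.adjoin F S
  have hSfin : S.Finite := Set.finite_range _
  have hsepS : ∀ x ∈ S, IsSeparable F x := by
    rintro _ ⟨i, rfl⟩
    have h1 : IsSeparable K (b i) := Algebra.IsSeparable.isSeparable K (b i)
    have h2 : IsSeparable K (algebraMap E M (b i)) :=
      h1.map (f := IsScalarTower.toAlgHom K E M) (algebraMap E M).injective
    exact IsSeparable.tower_top F h2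
  have hfin : FiniteDimensional F F' :=
    IntermediateField.finiteDimensional_adjoin (fun x hx => (hsepS x hx).isIntegral)
  have hsep : Algebra.IsSeparable F F' :=
    (IntermediateField.isSeparable_adjoin_iff_isSeparable F M).2 hsepS
  have hmem : ∀ x : E, algebraMap E M x ∈ F' := by
    intro x
    rw [← b.sum_repr x, map_sum]
    refine sum_mem fun i _ => ?_
    rw [Algebra.smul_def, map_mul]
    refine mul_mem ?_ (IntermediateField.subset_adjoin F S ⟨i, rfl⟩)
    rw [← IsScalarTower.algebraMap_apply K E M, IsScalarTower.algebraMap_apply K F M]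
    exact F'.algebraMap_mem _
  letI algEF' : Algebra E F' := (RingHom.codRestrict (algebraMap E M) F' hmem).toAlgebra
  have tower : IsScalarTower E F' M := IsScalarTower.of_algebraMap_eq (fun x => rfl)
  have hc₁ : Algebra.IsCentral F' (F' ⊗[E] D) :=
    Groth.Agent.Lib.Helper25.Involution.isCentral_baseChange E F' D
  have hs₁ : IsSimpleRing (F' ⊗[E] D) :=
    Groth.Agent.Lib.Helper1.isSimpleRing_tensor_of_isCentral_of_isSimpleRing F' D
  have : IsArtinianRing (F' ⊗[E] D) := IsArtinianRing.of_finite F' _
  obtain ⟨n, hn, Δ, hΔ, hΔalg, hΔfin, ⟨e₁⟩⟩ :=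
    IsSimpleRing.exists_algEquiv_matrix_divisionRing_finite F' (F' ⊗[E] D)
  have hcΔ : Algebra.IsCentral F' Δ :=
    isCentral_of_matrix_algEquiv F' (F' ⊗[E] D) Δ n (Nat.pos_of_ne_zero hn.out) e₁
  have h1 : Module.finrank F' Δ = 1 := ha F' Δ
  obtain ⟨e₂⟩ := exists_algEquiv_of_finrank_eq_one F' Δ h1
  refine ⟨n, ⟨?_⟩⟩
  exact (cancelBaseChangeSelf E F' M D).symm.trans
    ((Algebra.TensorProduct.congr (AlgEquiv.refl : M ≃ₐ[M] M)
        (e₁.trans e₂.symm.mapMatrix)).trans
      ((baseChangeMatrix M n F').trans
        (Algebra.TensorProduct.rid F' M M).mapMatrix))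

theorem backward (K F : Type u) [Field K] [Field F] [Algebra K F] [Algebra.IsSeparable K F]
    (hb : ∀ (E : Type u) [Field E] [Algebra K E] [FiniteDimensional K E] [Algebra.IsSeparable K E]
        (D : Type u) [DivisionRing D] [Algebra E D] [Algebra.IsCentral E D] [FiniteDimensional E D]
        (M : Type u) [Field M] [Algebra K M] [Algebra E M] [Algebra F M] [IsScalarTower K E M]
        [IsScalarTower K F M],
        ∃ n : ℕ, Nonempty ((M ⊗[E] D) ≃ₐ[M] Matrix (Fin n) (Fin n) M))
    (F' : Type u) [Field F'] [Algebra F F'] [FiniteDimensional F F'] [Algebra.IsSeparable F F']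
    (Δ : Type u) [DivisionRing Δ] [Algebra F' Δ] [Algebra.IsCentral F' Δ] [FiniteDimensional F' Δ] :
    Module.finrank F' Δ = 1 := by
  classical
  letI : Algebra K F' := ((algebraMap F F').comp (algebraMap K F)).toAlgebra
  have tower₁ : IsScalarTower K F F' := IsScalarTower.of_algebraMap_eq (fun x => rfl)
  have hsepKF' : Algebra.IsSeparable K F' := Algebra.IsSeparable.trans K F F'
  let m := Module.finrank F' Δ
  let b : Module.Basis (Fin m) F' Δ := Module.finBasis F' Δ
  let S : Set F' := (Set.range fun p : Fin m × Fin m × Fin m => b.repr (b p.1 * b p.2.1) p.2.2) ∪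
    Set.range (fun l => b.repr 1 l)
  let E₀ : IntermediateField K F' := IntermediateField.adjoin K S
  have hfinE₀ : FiniteDimensional K E₀ :=
    IntermediateField.finiteDimensional_adjoin
      (fun x _ => (Algebra.IsSeparable.isSeparable K x).isIntegral)
  have hsepE₀ : Algebra.IsSeparable K E₀ := inferInstance
  have hc : ∀ i j l, b.repr (b i * b j) l ∈ E₀ := fun i j l =>
    IntermediateField.subset_adjoin K S (Or.inl ⟨(i, j, l), rfl⟩)
  have hu : ∀ l, b.repr 1 l ∈ E₀ := fun l =>
    IntermediateField.subset_adjoin K S (Or.inr ⟨l, rfl⟩)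
  let A₀s : Submodule E₀ Δ := Submodule.span E₀ (Set.range b)
  have hbmem : ∀ i, b i ∈ A₀s := fun i => Submodule.subset_span ⟨i, rfl⟩
  have hsmul : ∀ (f : F') (hf : f ∈ E₀) (x : Δ), x ∈ A₀s → f • x ∈ A₀s := by
    intro f hf x hx
    exact A₀s.smul_mem (⟨f, hf⟩ : E₀) hx
  have hone : (1 : Δ) ∈ A₀s := by
    rw [← b.sum_repr 1]
    exact sum_mem fun l _ => hsmul _ (hu l) _ (hbmem l)
  have hmul : ∀ x y, x ∈ A₀s → y ∈ A₀s → x * y ∈ A₀s := by
    intro x y hx hy
    have h1 : x * y ∈ A₀s * A₀s := Submodule.mul_mem_mul hx hy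
    have h2 : A₀s * A₀s ≤ A₀s := by
      rw [Submodule.span_mul_span, Submodule.span_le]
      rintro _ ⟨_, ⟨i, rfl⟩, _, ⟨j, rfl⟩, rfl⟩
      show b i * b j ∈ A₀s
      rw [← b.sum_repr (b i * b j)]
      exact sum_mem fun l _ => hsmul _ (hc i j l) _ (hbmem l)
    exact h2 h1
  let A₀ : Subalgebra E₀ Δ := A₀s.toSubalgebra hone hmul
  have hmemA₀ : ∀ x : Δ, x ∈ A₀ ↔ x ∈ A₀s := fun x => Iff.rfl
  have hfinA₀ : FiniteDimensional E₀ A₀ := by
    have h1 : Module.Finite E₀ A₀s := FiniteDimensional.span_of_finite E₀ (Set.finite_range b)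
    exact h1
  letI : DivisionRing A₀ := divisionRingOfFiniteDimensional E₀ A₀
  -- centrality
  have hcentral : Algebra.IsCentral E₀ A₀ := by
    constructor
    intro z hz
    rw [Subalgebra.mem_center_iff] at hz
    -- z commutes with every basis element
    have hzb : ∀ i, b i * (z : Δ) = (z : Δ) * b i := fun i =>
      congrArg Subtype.val (hz ⟨b i, hbmem i⟩)
    have hzall : ∀ d : Δ, d * (z : Δ) = (z : Δ) * d := by
      intro d
      rw [← b.sum_repr d, Finset.sum_mul, Finset.mul_sum]
      refine Finset.sum_congr rfl fun l _ => ?_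
      rw [smul_mul_assoc, hzb, mul_smul_comm]
    have hzc : (z : Δ) ∈ Subalgebra.center F' Δ := by
      rw [Subalgebra.mem_center_iff]
      exact hzall
    have hbot := (Algebra.IsCentral.out (K := F') (D := Δ)) hzc
    obtain ⟨f, hf⟩ := Algebra.mem_bot.1 hbot
    -- coordinates of z
    obtain ⟨a, ha⟩ := (Submodule.mem_span_range_iff_exists_fun E₀).1 z.2
    have hcoord : ∀ l, ((a l : E₀) : F') = f * b.repr 1 l := by
      intro l
      have h1 : b.repr (z : Δ) l = ((a l : E₀) : F') := by
        rw [← ha, map_sum, Finset.sum_apply']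
        rw [Finset.sum_eq_single l]
        · show b.repr (((a l : E₀) : F') • b l) l = _
          rw [map_smul, Module.Basis.repr_self, Finsupp.smul_apply, Finsupp.single_eq_same,
            smul_eq_mul, mul_one]
        · intro l' _ hl'
          show b.repr (((a l' : E₀) : F') • b l') l = 0
          rw [map_smul, Module.Basis.repr_self, Finsupp.smul_apply,
            Finsupp.single_eq_of_ne hl'.symm, smul_zero]
        · intro h; exact absurd (Finset.mem_univ l) h
      have h2 : b.repr (z : Δ) l = f * b.repr 1 l := by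
        rw [← hf, Algebra.algebraMap_eq_smul_one, map_smul, Finsupp.smul_apply, smul_eq_mul]
      rw [← h1, h2]
    obtain ⟨l, hl⟩ : ∃ l, b.repr (1 : Δ) l ≠ 0 := by
      by_contra hcon
      push Not at hcon
      have : b.repr (1 : Δ) = 0 := Finsupp.ext hcon
      exact one_ne_zero (b.repr.map_eq_zero_iff.1 this)
    have hfE : f ∈ E₀ := by
      have : f = ((a l : E₀) : F') / b.repr 1 l := by
        rw [hcoord l, mul_div_assoc, div_self hl, mul_one]
      rw [this]
      exact div_mem (a l).2 (hu l)
    rw [Algebra.mem_bot]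
    refine ⟨⟨f, hfE⟩, ?_⟩
    apply Subtype.ext
    rw [← hf]
    rfl
  obtain ⟨n, ⟨φ⟩⟩ := hb E₀ A₀ F'
  -- the comparison map to Δ
  let ψ : F' ⊗[E₀] A₀ →ₐ[F'] Δ :=
    Algebra.TensorProduct.lift (Algebra.ofId F' Δ) A₀.val (fun x y => Algebra.commutes x (y : Δ))
  have hψ : Function.Surjective ψ := by
    intro d
    refine ⟨∑ l, (b.repr d l) ⊗ₜ[E₀] (⟨b l, hbmem l⟩ : A₀), ?_⟩
    rw [map_sum]
    conv_rhs => rw [← b.sum_repr d]
    refine Finset.sum_congr rfl fun l _ => ?_
    refine (Algebra.TensorProduct.lift_tmul (Algebra.ofId F' Δ) A₀.val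
      (fun x y => Algebra.commutes x (y : Δ)) (b.repr d l) (⟨b l, hbmem l⟩ : A₀)).trans ?_
    rw [Algebra.smul_def]
    rfl
  let χ : Matrix (Fin n) (Fin n) F' →ₐ[F'] Δ := ψ.comp φ.symm.toAlgHom
  have hχ : Function.Surjective χ := hψ.comp φ.symm.surjective
  have hn0 : n ≠ 0 := by
    rintro rfl
    have h1 : (1 : Matrix (Fin 0) (Fin 0) F') = 0 := Subsingleton.elim _ _
    have h2 : χ 1 = χ 0 := by rw [h1]
    rw [map_one, map_zero] at h2
    exact one_ne_zero h2
  have : Nonempty (Fin n) := ⟨⟨0, Nat.pos_of_ne_zero hn0⟩⟩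
  have hχinj : Function.Injective χ := χ.toRingHom.injective
  have hn1 : n = 1 := by
    by_contra hne
    have h2 : 2 ≤ n := by omega
    let i : Fin n := ⟨0, by omega⟩
    let j : Fin n := ⟨1, by omega⟩
    have hij : j ≠ i := by
      intro h
      have := congrArg Fin.val h
      simp [i, j] at this
    have hsq : Matrix.single i j (1 : F') * Matrix.single i j (1 : F') = 0 :=
      Matrix.single_mul_single_of_ne (c := (1 : F')) i j i hij 1
    have h3 : χ (Matrix.single i j (1 : F')) * χ (Matrix.single i j (1 : F')) = 0 := by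
      rw [← map_mul, hsq, map_zero]
    have h4 : χ (Matrix.single i j (1 : F')) = 0 := by
      rcases mul_eq_zero.1 h3 with h | h <;> exact h
    have h5 : Matrix.single i j (1 : F') = 0 := hχinj (by rw [h4, map_zero])
    have h6 := congrFun (congrFun h5 i) j
    simp at h6
  subst hn1
  have e := LinearEquiv.ofBijective χ.toLinearMap ⟨hχinj, hχ⟩
  rw [← e.finrank_eq, Module.finrank_matrix]
  simp

end Groth.Agent.Lib.Helper25.BrauerSepAlg
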