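import Mathlib
import Groth.Agent.Lib.Helper1.CSA.Centralizer

/-!
# Elements of central simple algebras with a power in the base field
(when the base field contains the roots of unity)
-/

open Polynomial

namespace Groth.Agent.Lib.Helper25.RootsOfUnity

universe u v w

theorem exists_pow_card_eq {K : Type u} [Field K] {Ω : Type v} [Field Ω] [Algebra K Ω]
    (β₀ : Ω) (R : Multiset Ω) (h : ∀ β ∈ R, ∃ z : K, β₀ = algebraMap K Ω z * β) :
    ∃ z : K, β₀ ^ (Multiset.card R) = algebraMap K Ω z * R.prod := by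
  induction R using Multiset.induction_on with
  | empty => exact ⟨1, by simp⟩
  | cons b R ih =>
    obtain ⟨z, hz⟩ := ih (fun β hβ => h β (Multiset.mem_cons_of_mem hβ))
    obtain ⟨w, hw⟩ := h b (Multiset.mem_cons_self b R)
    refine ⟨w * z, ?_⟩
    rw [Multiset.card_cons, pow_succ, hz, Multiset.prod_cons, map_mul]
    conv_lhs => rw [hw]
    ring

/-- If `K` contains the `m`-th roots of unity, a monic irreducible factor of `X ^ m - a`
(`a ≠ 0`) is a binomial `X ^ r - c`. -/
theorem eq_X_pow_sub_C_of_irreducible_of_dvd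
    {K : Type u} [Field K] {m : ℕ} (hm : 0 < m) (hK : (X ^ m - 1 : K[X]).Splits)
    {f : K[X]} (hf : Irreducible f) (hmon : f.Monic) {a : K} (ha : a ≠ 0)
    (hdvd : f ∣ X ^ m - C a) :
    ∃ c : K, f = X ^ f.natDegree - C c := by
  classical
  let Ω := AlgebraicClosure K
  have hdeg : f.degree ≠ 0 := fun h0 => hf.not_isUnit (by
    rw [Polynomial.isUnit_iff_degree_eq_zero]; exact h0)
  obtain ⟨β₀, hβ₀⟩ := IsAlgClosed.exists_aeval_eq_zero Ω f hdeg
  have hmin : f = minpoly K β₀ := minpoly.eq_of_irreducible_of_monic hf hβ₀ hmon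
  have hsplit : (f.map (algebraMap K Ω)).Splits := IsAlgClosed.splits _
  have hmonΩ : (f.map (algebraMap K Ω)).Monic := hmon.map _
  have hX1 : (X ^ m - 1 : K[X]) ≠ 0 := by
    have : (X ^ m - 1 : K[X]) = X ^ m - C 1 := by simp
    rw [this]; exact X_pow_sub_C_ne_zero hm 1
  -- every root of `f` in `Ω` is an `m`-th root of `a`
  have hroot : ∀ β : Ω, aeval β f = 0 → β ^ m = algebraMap K Ω a := by
    intro β hβ
    obtain ⟨g, hg⟩ := hdvd
    have := congrArg (aeval β) hg
    simp only [map_sub, map_pow, aeval_X, aeval_C, map_mul, hβ, zero_mul] at this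
    exact sub_eq_zero.mp this
  have hβ₀m := hroot β₀ hβ₀
  have haΩ : algebraMap K Ω a ≠ 0 := by
    simpa using ha
  have hβ₀0 : β₀ ≠ 0 := by
    rintro rfl
    rw [zero_pow hm.ne'] at hβ₀m
    exact haΩ hβ₀m.symm
  have hratio : ∀ β ∈ (f.map (algebraMap K Ω)).roots, ∃ z : K, β₀ = algebraMap K Ω z * β := by
    intro β hβ
    have hβ' : aeval β f = 0 := by
      rw [mem_roots hmonΩ.ne_zero, IsRoot.def, eval_map_algebraMap] at hβ
      exact hβ
    have hβm := hroot β hβ'
    have hβ0 : β ≠ 0 := by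
      rintro rfl
      rw [zero_pow hm.ne'] at hβm
      exact haΩ hβm.symm
    have h1 : (β₀ / β) ^ m = 1 := by
      rw [div_pow, hβ₀m, hβm, div_self haΩ]
    have h2 : ((X ^ m - 1 : K[X]).map (algebraMap K Ω)).IsRoot (β₀ / β) := by
      simp [h1]
    obtain ⟨z, hz⟩ := hK.mem_range_of_isRoot hX1 h2
    refine ⟨z, ?_⟩
    rw [hz, div_mul_cancel₀ _ hβ0]
  obtain ⟨z, hz⟩ := exists_pow_card_eq β₀ _ hratio
  rw [← hsplit.natDegree_eq_card_roots, hmon.natDegree_map] at hz
  have hc0 := hsplit.coeff_zero_eq_prod_roots_of_monic hmonΩ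
  rw [hmon.natDegree_map, coeff_map] at hc0
  -- β₀ ^ r = ι (z * (-1)^r * f.coeff 0)
  set r := f.natDegree with hr
  have hpow : β₀ ^ r = algebraMap K Ω (z * ((-1) ^ r * f.coeff 0)) := by
    rw [hz, map_mul, map_mul, hc0]
    simp only [map_pow, map_neg, map_one]
    rw [← mul_assoc ((-1 : Ω) ^ r), ← mul_pow, neg_one_mul, neg_neg, one_pow, one_mul]
  refine ⟨z * ((-1) ^ r * f.coeff 0), ?_⟩
  have hr0 : r ≠ 0 := by
    intro h0
    apply hdeg
    rw [degree_eq_natDegree hmon.ne_zero, ← hr, h0]; rfl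
  have hdvd2 : f ∣ X ^ r - C (z * ((-1) ^ r * f.coeff 0)) := by
    have h3 : minpoly K β₀ ∣ X ^ r - C (z * ((-1) ^ r * f.coeff 0)) := by
      apply minpoly.dvd
      simp only [map_sub, map_pow, aeval_X, aeval_C]
      rw [hpow, sub_self]
    rwa [← hmin] at h3
  have hmon2 : (X ^ r - C (z * ((-1) ^ r * f.coeff 0)) : K[X]).Monic :=
    monic_X_pow_sub_C _ hr0
  exact (eq_of_monic_of_dvd_of_natDegree_le hmon hmon2 hdvd2
    (by rw [natDegree_X_pow_sub_C])).symm

/-- A field `F` finite over `k` that embeds into a central simple `k`-algebra of dimension `n ^ 2`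
has degree dividing `n`. -/
theorem finrank_dvd_of_algHom
    {k : Type u} [Field k] {A : Type v} [Ring A] [Algebra k A] [Algebra.IsCentral k A]
    [IsSimpleRing A] [FiniteDimensional k A]
    {F : Type w} [Field F] [Algebra k F] [FiniteDimensional k F] (φ : F →ₐ[k] A)
    {n : ℕ} (hn : Module.finrank k A = n ^ 2) : Module.finrank k F ∣ n := by
  have hinj : Function.Injective φ := φ.toRingHom.injective
  let B : Subalgebra k A := φ.range
  let e : F ≃ₐ[k] B := AlgEquiv.ofInjective φ hinj
  have : IsSimpleRing B := IsSimpleRing.of_ringEquiv e.toRingEquiv inferInstance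
  have hB : Module.finrank k B = Module.finrank k F :=
    (LinearEquiv.finrank_eq e.toLinearEquiv).symm
  have h1 := Groth.Agent.Lib.Helper1.finrank_eq_mul_finrank_centralizer B
  have hBcomm : ∀ s t : F, φ s * φ t = φ t * φ s := fun s t => by
    rw [← map_mul, ← map_mul, mul_comm]
  let _ : Module F A := Module.compHom A φ.toRingHom
  have hsmul : ∀ (s : F) (d : A), s • d = φ s * d := fun _ _ => rfl
  have : IsScalarTower k F A := ⟨fun a s d => by
    rw [hsmul, hsmul, map_smul, smul_mul_assoc]⟩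
  let C' : Submodule F A :=
    { carrier := Subalgebra.centralizer k (B : Set A)
      add_mem' := fun ha hb => add_mem ha hb
      zero_mem' := zero_mem _
      smul_mem' := fun s c hc => by
        rw [hsmul]
        refine mul_mem ?_ hc
        rw [Subalgebra.mem_centralizer_iff]
        rintro _ ⟨t, rfl⟩
        exact hBcomm t s }
  have h2 : Module.finrank k (Subalgebra.centralizer k (B : Set A)) = Module.finrank k C' := rfl
  have h3 := Module.finrank_mul_finrank k F C'
  rw [h2, ← h3, hB, hn] at h1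
  have h4 : Module.finrank k F ^ 2 ∣ n ^ 2 := ⟨Module.finrank F C', by rw [h1]; ring⟩
  exact (Nat.pow_dvd_pow_iff two_ne_zero).mp h4

end Groth.Agent.Lib.Helper25.RootsOfUnity
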