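import Mathlib
import Groth.Agent.Lib.Helper25.RootsOfUnityCSA
import Groth.Agent.Lib.Helper1.CSA.FinrankSquare

/-!
# Dimensions of modules over a central simple algebra carrying an endomorphism

* `mul_dvd_finrank_of_irreducible`: if `T` is an `A`-linear endomorphism of an `A`-module `M`
  (`A` central simple of degree `n` over `K`) killed by an irreducible polynomial of degree `r`,
  then `r * n ∣ dim_K M`.
* `mul_dvd_finrank_of_prod`: same for a product of irreducible polynomials of the same degree `r`.
* `natDegree_le_of_irreducible_of_dvd`: when `K` has the `m`-th roots of unity, all irreducible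
  factors of `X ^ m - a` have the same degree.
-/

open Polynomial

namespace Groth.Agent.Lib.Helper25.RootsOfUnity

universe u v w

section LemmaM

variable {K : Type u} [Field K] {A : Type v} [Ring A] [Algebra K A] [Algebra.IsCentral K A]
  [IsSimpleRing A] [FiniteDimensional K A]
  {M : Type w} [AddCommGroup M] [Module K M] [Module A M] [IsScalarTower K A M]
  [FiniteDimensional K M]

/-- Restriction of scalars from `A`-linear to `K`-linear endomorphisms, as an algebra map into the
centralizer of the image of `A`. -/
noncomputable def endToCentralizer :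
    Module.End A M →ₐ[K]
      Subalgebra.centralizer K ((Algebra.lsmul K K M : A →ₐ[K] Module.End K M).range : Set (Module.End K M)) where
  toFun f := ⟨f.restrictScalars K, by
    rw [Subalgebra.mem_centralizer_iff]
    rintro _ ⟨a, rfl⟩
    ext v
    simp⟩
  map_one' := rfl
  map_mul' _ _ := rfl
  map_zero' := rfl
  map_add' _ _ := rfl
  commutes' _ := rfl

omit [Algebra.IsCentral K A] [IsSimpleRing A] [FiniteDimensional K A] [FiniteDimensional K M] in
theorem lsmul_injective [IsSimpleRing A] [Nontrivial M] :
    Function.Injective (Algebra.lsmul K K M : A →ₐ[K] Module.End K M) :=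
  (Algebra.lsmul K K M : A →ₐ[K] Module.End K M).toRingHom.injective

omit [FiniteDimensional K A] in
/-- The centralizer of (the image of) a central simple algebra `A` in `End_K(M)` is central. -/
theorem isCentral_centralizer_lsmul [Nontrivial M] :
    Algebra.IsCentral K (Subalgebra.centralizer K
      ((Algebra.lsmul K K M : A →ₐ[K] Module.End K M).range : Set (Module.End K M))) := by
  have hρ := lsmul_injective (K := K) (A := A) (M := M)
  set ρ : A →ₐ[K] Module.End K M := Algebra.lsmul K K M with hρdef
  let e : A ≃ₐ[K] ρ.range := AlgEquiv.ofInjective ρ hρ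
  have : IsSimpleRing ρ.range := IsSimpleRing.of_ringEquiv e.toRingEquiv inferInstance
  have : IsSimpleRing (Module.End K M) := Groth.Agent.Lib.Helper1.isSimpleRing_end K M
  have hcc := Groth.Agent.Lib.Helper1.centralizer_centralizer_eq ρ.range
  refine ⟨fun z hz => ?_⟩
  rw [Subalgebra.mem_center_iff] at hz
  -- `z` lies in the double centralizer, i.e. in the image of `A`
  have h1 : (z : Module.End K M) ∈ Subalgebra.centralizer K
      (Subalgebra.centralizer K (ρ.range : Set (Module.End K M)) : Set (Module.End K M)) := by
    rw [Subalgebra.mem_centralizer_iff]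
    intro g hg
    exact congrArg Subtype.val (hz ⟨g, hg⟩)
  rw [hcc] at h1
  obtain ⟨a, ha⟩ := h1
  -- `a` is central in `A`
  have ha2 : a ∈ Subalgebra.center K A := by
    rw [Subalgebra.mem_center_iff]
    intro b
    apply hρ
    rw [map_mul, map_mul]
    have hz2 := z.2
    rw [Subalgebra.mem_centralizer_iff] at hz2
    have := hz2 (ρ b) ⟨b, rfl⟩
    rw [← ha] at this
    exact this
  obtain ⟨c, hc⟩ := Algebra.IsCentral.out (K := K) (D := A) ha2
  refine ⟨c, ?_⟩
  apply Subtype.ext
  change algebraMap K (Module.End K M) c = z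
  rw [← ha, ← hc]
  exact (ρ.commutes c).symm

/-- **Key divisibility.** If `M` is a module over a central simple algebra `A` of degree `n` and
`T` is an `A`-linear endomorphism of `M` killed by an irreducible polynomial `h` over `K`,
then `deg h * n` divides `dim_K M`. -/
theorem mul_dvd_finrank_of_irreducible
    {n : ℕ} (hn : Module.finrank K A = n ^ 2)
    (T : Module.End A M) {h : K[X]} (hirr : Irreducible h) (hT : aeval T h = 0) :
    h.natDegree * n ∣ Module.finrank K M := by
  rcases subsingleton_or_nontrivial M with hM | hM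
  · rw [Module.finrank_zero_of_subsingleton]; exact dvd_zero _
  have hρ := lsmul_injective (K := K) (A := A) (M := M)
  have hcen := isCentral_centralizer_lsmul (K := K) (A := A) (M := M)
  set ρ : A →ₐ[K] Module.End K M := Algebra.lsmul K K M with hρdef
  let e : A ≃ₐ[K] ρ.range := AlgEquiv.ofInjective ρ hρ
  have : IsSimpleRing ρ.range := IsSimpleRing.of_ringEquiv e.toRingEquiv inferInstance
  have : IsSimpleRing (Module.End K M) := Groth.Agent.Lib.Helper1.isSimpleRing_end K M
  have hC : IsSimpleRing (Subalgebra.centralizer K (ρ.range : Set (Module.End K M))) :=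
    Groth.Agent.Lib.Helper1.isSimpleRing_centralizer ρ.range
  have hdim := Groth.Agent.Lib.Helper1.finrank_eq_mul_finrank_centralizer ρ.range
  obtain ⟨c, hc⟩ := Groth.Agent.Lib.Helper1.isSquare_finrank_of_isCentral_of_isSimpleRing K
    (Subalgebra.centralizer K (ρ.range : Set (Module.End K M)))
  have hB : Module.finrank K ρ.range = n ^ 2 :=
    (LinearEquiv.finrank_eq e.toLinearEquiv).symm.trans hn
  rw [Module.finrank_linearMap, hB, hc] at hdim
  have hMnc : Module.finrank K M = n * c := by
    have h2 : Module.finrank K M ^ 2 = (n * c) ^ 2 := by rw [sq, hdim]; ring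
    exact Nat.pow_left_injective (n := 2) two_ne_zero h2
  have hirr' : Fact (Irreducible h) := ⟨hirr⟩
  let φ₀ : AdjoinRoot h →ₐ[K] Module.End A M :=
    Ideal.Quotient.liftₐ (Ideal.span {h}) (aeval T) (fun p hp => by
      obtain ⟨q, rfl⟩ := Ideal.mem_span_singleton.mp hp
      rw [map_mul, hT, zero_mul])
  let φ := (endToCentralizer (K := K) (A := A) (M := M)).comp φ₀
  have hne : h ≠ 0 := hirr.ne_zero
  have : FiniteDimensional K (AdjoinRoot h) := (AdjoinRoot.powerBasis hne).finite
  have hdimL : Module.finrank K (AdjoinRoot h) = h.natDegree :=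
    (AdjoinRoot.powerBasis hne).finrank.trans (AdjoinRoot.powerBasis_dim hne)
  have hc2 : Module.finrank K (Subalgebra.centralizer K (ρ.range : Set (Module.End K M))) = c ^ 2 := by
    rw [hc, sq]
  have hdvd := finrank_dvd_of_algHom φ hc2
  rw [hdimL] at hdvd
  rw [hMnc, mul_comm n c]
  exact mul_dvd_mul hdvd dvd_rfl

end LemmaM

section LemmaN

variable {K : Type u} [Field K] {A : Type v} [Ring A] [Algebra K A]

theorem aeval_intertwine {M : Type w} [AddCommGroup M] [Module K M] [Module A M] [IsScalarTower K A M]
    {M' : Type w} [AddCommGroup M'] [Module K M'] [Module A M'] [IsScalarTower K A M']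
    (T : Module.End A M) (T' : Module.End A M') (ι : M' →ₗ[A] M) (hι : ∀ v, ι (T' v) = T (ι v))
    (p : K[X]) (v : M') : ι (aeval T' p v) = aeval T p (ι v) := by
  have hpow : ∀ (k : ℕ) (v : M'), ι ((T' ^ k) v) = (T ^ k) (ι v) := by
    intro k
    induction k with
    | zero => intro v; simp
    | succ k ih => intro v; rw [pow_succ, pow_succ, Module.End.mul_apply, Module.End.mul_apply, ih, hι]
  induction p using Polynomial.induction_on' with
  | add p q hp hq => simp only [map_add, LinearMap.add_apply, hp, hq]
  | monomial k c =>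
    rw [← C_mul_X_pow_eq_monomial]
    simp only [map_mul, aeval_C, map_pow, aeval_X, Module.End.mul_apply,
      Module.algebraMap_end_apply, hpow, LinearMap.map_smul_of_tower]

variable [Algebra.IsCentral K A] [IsSimpleRing A] [FiniteDimensional K A]

/-- If an `A`-linear endomorphism `T` of an `A`-module `M` is killed by a product of irreducible
polynomials all of the same degree `r`, then `r * n` divides `dim_K M`. -/
theorem mul_dvd_finrank_of_prod
    {n : ℕ} (hn : Module.finrank K A = n ^ 2) {r : ℕ}
    (s : Multiset K[X]) (hs : ∀ h ∈ s, Irreducible h ∧ h.natDegree = r) :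
    ∀ (M : Type w) [AddCommGroup M] [Module K M] [Module A M] [IsScalarTower K A M]
      [FiniteDimensional K M] (T : Module.End A M), aeval T s.prod = 0 →
      r * n ∣ Module.finrank K M := by
  induction s using Multiset.induction_on with
  | empty =>
    intro M _ _ _ _ _ T hT
    rw [Multiset.prod_zero, map_one] at hT
    have : Subsingleton M := ⟨fun a b => by
      have ha : a = (1 : Module.End A M) a := rfl
      have hb : b = (1 : Module.End A M) b := rfl
      rw [ha, hb, hT]; rfl⟩
    rw [Module.finrank_zero_of_subsingleton]; exact dvd_zero _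
  | cons h s ih =>
    intro M _ _ _ _ _ T hT
    obtain ⟨hirr, hdeg⟩ := hs h (Multiset.mem_cons_self h s)
    have ih' := ih (fun h' hh' => hs h' (Multiset.mem_cons_of_mem hh'))
    rw [Multiset.prod_cons] at hT
    set P : Module.End A M := aeval T h with hP
    have hcomm : ∀ v, P (T v) = T (P v) := by
      intro v
      have h1 : P * T = T * P := by
        rw [hP]
        nth_rewrite 2 [← aeval_X (R := K) T]
        nth_rewrite 3 [← aeval_X (R := K) T]
        rw [← map_mul, ← map_mul, mul_comm]
      exact congrArg (fun f : Module.End A M => f v) h1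
    -- the kernel
    have hker : ∀ v ∈ LinearMap.ker P, T v ∈ LinearMap.ker P := by
      intro v hv
      rw [LinearMap.mem_ker] at hv ⊢
      rw [hcomm, hv, map_zero]
    have hrange : ∀ v ∈ LinearMap.range P, T v ∈ LinearMap.range P := by
      rintro _ ⟨w, rfl⟩
      exact ⟨T w, hcomm w⟩
    have hfinker : FiniteDimensional K (LinearMap.ker P) :=
      Module.Finite.of_injective ((LinearMap.ker P).subtype.restrictScalars K)
        Subtype.val_injective
    have hfinrange : FiniteDimensional K (LinearMap.range P) :=
      Module.Finite.of_injective ((LinearMap.range P).subtype.restrictScalars K)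
        Subtype.val_injective
    have h1 : r * n ∣ Module.finrank K (LinearMap.ker P) := by
      rw [← hdeg]
      refine mul_dvd_finrank_of_irreducible hn (T.restrict hker) hirr ?_
      ext v
      have := aeval_intertwine (K := K) T (T.restrict hker) (LinearMap.ker P).subtype
        (fun _ => rfl) h v
      simp only [Submodule.subtype_apply] at this
      rw [this]
      exact v.2
    have h2 : r * n ∣ Module.finrank K (LinearMap.range P) := by
      refine ih' (LinearMap.range P) (T.restrict hrange) ?_
      ext v
      have := aeval_intertwine (K := K) T (T.restrict hrange) (LinearMap.range P).subtype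
        (fun _ => rfl) s.prod v
      simp only [Submodule.subtype_apply] at this
      rw [this]
      obtain ⟨w, hw⟩ := v.2
      have h6 : (aeval T s.prod) (P w) = 0 := by
        rw [hP, ← Module.End.mul_apply, ← map_mul, mul_comm, hT]
        rfl
      rw [← hw, h6]
      rfl
    have h3 := LinearMap.finrank_range_add_finrank_ker (P.restrictScalars K)
    have h4 : Module.finrank K (LinearMap.range (P.restrictScalars K)) =
        Module.finrank K (LinearMap.range P) := rfl
    have h5 : Module.finrank K (LinearMap.ker (P.restrictScalars K)) =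
        Module.finrank K (LinearMap.ker P) := rfl
    rw [h4, h5] at h3
    rw [← h3]
    exact dvd_add h2 h1

end LemmaN

/-- If `K` contains the `m`-th roots of unity, any two monic irreducible factors of `X ^ m - a`
(`a ≠ 0`) have the same degree. -/
theorem natDegree_le_of_irreducible_of_dvd
    {K : Type u} [Field K] {m : ℕ} (hm : 0 < m) (hK : (X ^ m - 1 : K[X]).Splits)
    {f f' : K[X]} (hf : Irreducible f) (hmon : f.Monic) (hf' : Irreducible f') (hmon' : f'.Monic)
    {a : K} (ha : a ≠ 0) (hdvd : f ∣ X ^ m - C a) (hdvd' : f' ∣ X ^ m - C a) :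
    f'.natDegree ≤ f.natDegree := by
  classical
  obtain ⟨c, hc⟩ := eq_X_pow_sub_C_of_irreducible_of_dvd hm hK hf hmon ha hdvd
  let Ω := AlgebraicClosure K
  have hdeg : f.degree ≠ 0 := fun h0 => hf.not_isUnit (by
    rw [Polynomial.isUnit_iff_degree_eq_zero]; exact h0)
  have hdeg' : f'.degree ≠ 0 := fun h0 => hf'.not_isUnit (by
    rw [Polynomial.isUnit_iff_degree_eq_zero]; exact h0)
  obtain ⟨β, hβ⟩ := IsAlgClosed.exists_aeval_eq_zero Ω f hdeg
  obtain ⟨β', hβ'⟩ := IsAlgClosed.exists_aeval_eq_zero Ω f' hdeg'
  have hmin' : f' = minpoly K β' := minpoly.eq_of_irreducible_of_monic hf' hβ' hmon'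
  have hX1 : (X ^ m - 1 : K[X]) ≠ 0 := by
    have : (X ^ m - 1 : K[X]) = X ^ m - C 1 := by simp
    rw [this]; exact X_pow_sub_C_ne_zero hm 1
  have hroot : ∀ (p : K[X]) (γ : Ω), p ∣ X ^ m - C a → aeval γ p = 0 →
      γ ^ m = algebraMap K Ω a := by
    intro p γ hp hγ
    obtain ⟨g, hg⟩ := hp
    have := congrArg (aeval γ) hg
    simp only [map_sub, map_pow, aeval_X, aeval_C, map_mul, hγ, zero_mul] at this
    exact sub_eq_zero.mp this
  have hβm := hroot f β hdvd hβ
  have hβ'm := hroot f' β' hdvd' hβ'
  have haΩ : algebraMap K Ω a ≠ 0 := by simpa using ha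
  have hβ0 : β ≠ 0 := by
    rintro rfl
    rw [zero_pow hm.ne'] at hβm
    exact haΩ hβm.symm
  have h1 : (β' / β) ^ m = 1 := by
    rw [div_pow, hβm, hβ'm, div_self haΩ]
  have h2 : ((X ^ m - 1 : K[X]).map (algebraMap K Ω)).IsRoot (β' / β) := by
    simp [h1]
  obtain ⟨z, hz⟩ := hK.mem_range_of_isRoot hX1 h2
  have hβ'eq : β' = algebraMap K Ω z * β := by
    rw [hz, div_mul_cancel₀ _ hβ0]
  set r := f.natDegree with hr
  have hβr : β ^ r = algebraMap K Ω c := by
    have := hβ
    rw [hc] at this
    simpa [sub_eq_zero] using this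
  have hr0 : r ≠ 0 := by
    intro h0
    apply hdeg
    rw [degree_eq_natDegree hmon.ne_zero, ← hr, h0]; rfl
  have h3 : minpoly K β' ∣ X ^ r - C (z ^ r * c) := by
    apply minpoly.dvd
    simp only [map_sub, map_pow, aeval_X, aeval_C, map_mul]
    rw [hβ'eq, mul_pow, hβr, sub_self]
  rw [← hmin'] at h3
  have := natDegree_le_of_dvd h3 (X_pow_sub_C_ne_zero (Nat.pos_of_ne_zero hr0) _)
  rwa [natDegree_X_pow_sub_C] at this

end Groth.Agent.Lib.Helper25.RootsOfUnity
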