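import Mathlib

/-!
# Weak Cartan–Dieudonné over algebraically closed fields (helper25)

Every isometry of a finite-dimensional quadratic space over an algebraically closed field with
trivial radical (`ND`) is a product of reflections in anisotropic vectors, in every characteristic
(`exists_list_refl`).
-/

set_option autoImplicit false
set_option linter.style.haveILetI false
set_option linter.unusedSectionVars false
universe u
open Polynomial QuadraticMap

namespace Helper25.CD

section LinePoly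
variable {K : Type*} [Field K] {V : Type*} [AddCommGroup V] [Module K V]

/-- Functions on `V` that are polynomial along every affine line. -/
def LinePoly (f : V → K) : Prop :=
  ∀ a c : V, ∃ p : K[X], ∀ t : K, f (a + t • c) = p.eval t

theorem LinePoly.mul {f g : V → K} (hf : LinePoly f) (hg : LinePoly g) :
    LinePoly (fun x => f x * g x) := by
  intro a c
  obtain ⟨p, hp⟩ := hf a c
  obtain ⟨q, hq⟩ := hg a c
  exact ⟨p * q, fun t => by simp [hp, hq]⟩

theorem LinePoly.sub {f g : V → K} (hf : LinePoly f) (hg : LinePoly g) :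
    LinePoly (fun x => f x - g x) := by
  intro a c
  obtain ⟨p, hp⟩ := hf a c
  obtain ⟨q, hq⟩ := hg a c
  exact ⟨p - q, fun t => by simp [hp, hq]⟩

theorem LinePoly.const (k : K) : LinePoly (fun _ : V => k) :=
  fun _ _ => ⟨C k, fun _ => by simp⟩

theorem LinePoly.linear (l : V →ₗ[K] K) : LinePoly (fun x => l x) := by
  intro a c
  refine ⟨C (l a) + C (l c) * X, fun t => ?_⟩
  show l (a + t • c) = _
  rw [map_add, map_smul, eval_add, eval_C, eval_mul, eval_C, eval_X, smul_eq_mul, mul_comm]

theorem LinePoly.quad (Q : QuadraticForm K V) : LinePoly (fun x => Q x) := by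
  intro a c
  refine ⟨C (Q a) + C (polar Q a c) * X + C (Q c) * X ^ 2, fun t => ?_⟩
  show Q (a + t • c) = _
  have h1 : Q (a + t • c) = Q a + Q (t • c) + polar Q a (t • c) := by
    unfold polar; ring
  rw [h1, QuadraticMap.map_smul, polar_smul_right]
  simp only [smul_eq_mul, eval_add, eval_C, eval_mul, eval_X, eval_pow]
  ring

theorem LinePoly.comp {W : Type*} [AddCommGroup W] [Module K W] {f : W → K} (hf : LinePoly f)
    (L : V →ₗ[K] W) : LinePoly (fun x => f (L x)) := by
  intro a c
  obtain ⟨p, hp⟩ := hf (L a) (L c)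
  exact ⟨p, fun t => by
    show f (L (a + t • c)) = _
    rw [map_add, map_smul, hp]⟩

/-- Two line-polynomial functions which are not identically zero have a common point of
nonvanishing, over an infinite field. -/
theorem LinePoly.exists_ne_zero [Infinite K] {f g : V → K} (hf : LinePoly f) (hg : LinePoly g)
    (hf0 : ∃ x, f x ≠ 0) (hg0 : ∃ x, g x ≠ 0) : ∃ x, f x ≠ 0 ∧ g x ≠ 0 := by
  obtain ⟨x0, hx0⟩ := hf0
  obtain ⟨y0, hy0⟩ := hg0
  obtain ⟨p, hp⟩ := hf x0 (y0 - x0)
  obtain ⟨q, hq⟩ := hg x0 (y0 - x0)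
  have hp0 : p ≠ 0 := by
    rintro rfl
    have := hp 0
    simp at this
    exact hx0 this
  have hq0 : q ≠ 0 := by
    rintro rfl
    have := hq 1
    simp at this
    exact hy0 this
  have hpq : p * q ≠ 0 := mul_ne_zero hp0 hq0
  obtain ⟨t, ht⟩ : ∃ t : K, (p * q).eval t ≠ 0 := by
    by_contra hcon
    push Not at hcon
    exact hpq (Polynomial.funext (fun t => by rw [hcon t, eval_zero]))
  rw [eval_mul] at ht
  refine ⟨x0 + t • (y0 - x0), ?_, ?_⟩
  · rw [hp]; exact left_ne_zero_of_mul ht
  · rw [hq]; exact right_ne_zero_of_mul ht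

theorem LinePoly.exists_ne_zero₃ [Infinite K] {f g h : V → K} (hf : LinePoly f) (hg : LinePoly g)
    (hh : LinePoly h)
    (hf0 : ∃ x, f x ≠ 0) (hg0 : ∃ x, g x ≠ 0) (hh0 : ∃ x, h x ≠ 0) :
    ∃ x, f x ≠ 0 ∧ g x ≠ 0 ∧ h x ≠ 0 := by
  obtain ⟨x, hx1, hx2⟩ := LinePoly.exists_ne_zero hf hg hf0 hg0
  obtain ⟨y, hy1, hy2⟩ := LinePoly.exists_ne_zero (hf.mul hg) hh ⟨x, mul_ne_zero hx1 hx2⟩ hh0
  exact ⟨y, left_ne_zero_of_mul hy1, right_ne_zero_of_mul hy1, hy2⟩

end LinePoly

section Refl
variable {K : Type*} [Field K] {V : Type*} [AddCommGroup V] [Module K V] (Q : QuadraticForm K V)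

/-- The reflection in the hyperplane orthogonal to `v` (the identity if `Q v = 0`). -/
noncomputable def refl (v : V) : V →ₗ[K] V :=
  LinearMap.id - ((Q v)⁻¹ • (polarBilin Q v)).smulRight v

theorem refl_apply (v w : V) : refl Q v w = w - ((Q v)⁻¹ * polar Q v w) • v := by
  simp [refl]

theorem Q_refl {v : V} (hv : Q v ≠ 0) (w : V) : Q (refl Q v w) = Q w := by
  rw [refl_apply]
  have h1 : ∀ (c : K), Q (w - c • v) = Q w + c * c * Q v - c * polar Q v w := by
    intro c
    have : Q (w - c • v) = Q w + Q (-(c • v)) + polar Q w (-(c • v)) := by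
      unfold polar; rw [sub_eq_add_neg]; ring
    rw [this, QuadraticMap.map_neg, QuadraticMap.map_smul, polar_neg_right, polar_smul_right,
      polar_comm Q w v, smul_eq_mul, smul_eq_mul]
    ring
  rw [h1]
  field_simp
  ring

theorem refl_of_polar_eq_zero {v u : V} (h : polar Q v u = 0) : refl Q v u = u := by
  rw [refl_apply, h, mul_zero, zero_smul, sub_zero]

/-- The reflection in `y - x` maps `y` to `x` when `Q y = Q x` and `y - x` is anisotropic. -/
theorem refl_sub_apply {x y : V} (h : Q y = Q x) (hne : Q (y - x) ≠ 0) : refl Q (y - x) y = x := by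
  rw [refl_apply]
  have h1 : Q (y - x) = Q y + Q x - polar Q y x := by
    have : Q (y - x) = Q y + Q (-x) + polar Q y (-x) := by
      unfold polar; rw [sub_eq_add_neg]; ring
    rw [this, QuadraticMap.map_neg, polar_neg_right]; ring
  have h2 : polar Q (y - x) y = Q (y - x) := by
    rw [polar_sub_left, polar_self, h1, polar_comm Q x y, h]
    ring
  rw [h2, inv_mul_cancel₀ hne, one_smul, sub_sub_cancel]

theorem polar_map_of_isom {g : V →ₗ[K] V} (hg : ∀ v, Q (g v) = Q v) (v w : V) :
    polar Q (g v) (g w) = polar Q v w := by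
  unfold polar
  rw [← map_add, hg, hg, hg]

theorem isom_refl {v : V} (hv : Q v ≠ 0) : ∀ w, Q (refl Q v w) = Q w := Q_refl Q hv

theorem isom_list (L : List V) (hL : ∀ v ∈ L, Q v ≠ 0) : ∀ w, Q ((L.map (refl Q)).prod w) = Q w := by
  induction L with
  | nil => intro w; simp
  | cons a L ih =>
    intro w
    rw [List.map_cons, List.prod_cons, Module.End.mul_apply, Q_refl Q (hL a (by simp)),
      ih (fun v hv => hL v (by simp [hv]))]

/-- Key formula: if `Q (g x - x) = 0`, then `Q (refl y (g x) - x) = c * polar x y` with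
`c = polar (g x) y / Q y`. -/
theorem Q_refl_comp_sub {g : V →ₗ[K] V} {y x : V}
    (h0 : Q (g x - x) = 0) :
    Q (refl Q y (g x) - x) = (Q y)⁻¹ * polar Q y (g x) * polar Q y x := by
  by_cases hy : Q y = 0
  · rw [refl_apply, hy, inv_zero, zero_mul, zero_smul, sub_zero, h0, zero_mul]
  rw [refl_apply]
  set c := (Q y)⁻¹ * polar Q y (g x) with hc
  have h1 : g x - c • y - x = (g x - x) - c • y := by abel
  have h2 : ∀ (w : V), Q (w - c • y) = Q w + c * c * Q y - c * polar Q y w := by
    intro w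
    have : Q (w - c • y) = Q w + Q (-(c • y)) + polar Q w (-(c • y)) := by
      unfold polar; rw [sub_eq_add_neg]; ring
    rw [this, QuadraticMap.map_neg, QuadraticMap.map_smul, polar_neg_right, polar_smul_right,
      polar_comm Q w y, smul_eq_mul, smul_eq_mul]
    ring
  rw [h1, h2, h0, polar_sub_right, hc]
  field_simp
  ring

theorem refl_refl {v : V} (hv : Q v ≠ 0) (w : V) : refl Q v (refl Q v w) = w := by
  rw [refl_apply, refl_apply, polar_sub_right, polar_smul_right, polar_self,
    ← Nat.cast_smul_eq_nsmul K, Nat.cast_ofNat, smul_eq_mul, smul_eq_mul, sub_sub, ← add_smul]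
  have : (Q v)⁻¹ * polar Q v w + (Q v)⁻¹ * (polar Q v w - (Q v)⁻¹ * polar Q v w * (2 * Q v)) = 0 := by
    field_simp
    ring
  rw [this, zero_smul, sub_zero]

theorem refl_mul_self {v : V} (hv : Q v ≠ 0) : refl Q v * refl Q v = 1 :=
  LinearMap.ext fun w => refl_refl Q hv w

theorem eq_of_list_mul_eq (L : List V) (hL : ∀ v ∈ L, Q v ≠ 0) (g h : Module.End K V)
    (H : (L.map (refl Q)).prod * g = h) : g = (L.reverse.map (refl Q)).prod * h := by
  induction L generalizing g h with
  | nil => simpa using H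
  | cons a L ih =>
    rw [List.map_cons, List.prod_cons, mul_assoc] at H
    have h1 : (L.map (refl Q)).prod * g = refl Q a * h := by
      rw [← H, ← mul_assoc, refl_mul_self Q (hL a (by simp)), one_mul]
    have h2 := ih (fun v hv => hL v (by simp [hv])) g _ h1
    rw [h2, List.reverse_cons, List.map_append, List.prod_append, List.map_singleton,
      List.prod_singleton, mul_assoc]

end Refl

section Exist
variable {K : Type*} [Field K] [IsAlgClosed K] {V : Type*} [AddCommGroup V] [Module K V]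
  [FiniteDimensional K V] (Q : QuadraticForm K V)

/-- The explicit form of `Q.radical = ⊥`. -/
def ND : Prop := ∀ v, Q v = 0 → (∀ w, polar Q v w = 0) → v = 0

variable {Q}

theorem exists_kernel_vector (hdim : 2 ≤ Module.finrank K V) (l : V →ₗ[K] K) :
    ∃ z, z ≠ 0 ∧ l z = 0 := by
  by_cases hl : l = 0
  · obtain ⟨z, hz⟩ : ∃ z : V, z ≠ 0 := by
      haveI : Nontrivial V := Module.nontrivial_of_finrank_pos (R := K) (by omega)
      exact exists_ne 0
    exact ⟨z, hz, by rw [hl]; rfl⟩
  obtain ⟨y0, hy0⟩ : ∃ y0, l y0 ≠ 0 := by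
    by_contra hcon
    push Not at hcon
    exact hl (LinearMap.ext hcon)
  have hy0' : y0 ≠ 0 := by
    rintro rfl
    exact hy0 (map_zero l)
  obtain ⟨w, hw⟩ := exists_linearIndependent_pair_of_one_lt_finrank (R := K) (by omega) hy0'
  refine ⟨w - (l w / l y0) • y0, ?_, ?_⟩
  · intro h
    have h2 := LinearIndependent.pair_iff.mp hw (-(l w / l y0)) 1 (by
      rw [neg_smul, one_smul, neg_add_eq_sub]; exact h)
    exact one_ne_zero h2.2
  · rw [map_sub, map_smul, smul_eq_mul, div_mul_cancel₀ _ hy0, sub_self]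

theorem exists_aniso_nonrad (hND : ND Q) (hdim : 2 ≤ Module.finrank K V) :
    ∃ u y0, Q u ≠ 0 ∧ polar Q u y0 ≠ 0 := by
  -- the polar form is not identically zero
  have hb : ∃ y1 y0, polar Q y1 y0 ≠ 0 := by
    by_contra hcon
    push Not at hcon
    obtain ⟨v, hv⟩ : ∃ v : V, v ≠ 0 := by
      haveI : Nontrivial V := Module.nontrivial_of_finrank_pos (R := K) (by omega)
      exact exists_ne 0
    obtain ⟨w, hw⟩ := exists_linearIndependent_pair_of_one_lt_finrank (R := K) (by omega) hv
    have hQv : Q v ≠ 0 := fun h => hv (hND v h (hcon v))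
    obtain ⟨c, hc⟩ := IsAlgClosed.exists_eq_mul_self (Q w / Q v)
    have h1 : Q (c • v - w) = 0 := by
      have : Q (c • v - w) = Q (c • v) + Q (-w) + polar Q (c • v) (-w) := by
        unfold polar; rw [sub_eq_add_neg]; ring
      rw [this, hcon, QuadraticMap.map_smul, QuadraticMap.map_neg, smul_eq_mul, ← hc,
        div_mul_cancel₀ _ hQv, add_zero]
      have h2 : polar Q w w = 0 := hcon w w
      rw [polar_self] at h2
      rw [← two_mul, ← smul_eq_mul, ← Nat.cast_ofNat (R := K), Nat.cast_smul_eq_nsmul]; exact h2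
    have h3 := hND _ h1 (hcon _)
    have h4 := LinearIndependent.pair_iff.mp hw c (-1) (by
      rw [neg_smul, one_smul, ← sub_eq_add_neg]; exact h3)
    exact one_ne_zero (neg_eq_zero.mp h4.2)
  obtain ⟨y1, y0, hy⟩ := hb
  have hQ : ∃ x, Q x ≠ 0 := by
    by_contra hcon
    push Not at hcon
    apply hy
    unfold polar
    rw [hcon, hcon, hcon]; ring
  obtain ⟨u, hu1, hu2⟩ := LinePoly.exists_ne_zero (LinePoly.quad Q)
    (LinePoly.linear ((polarBilin Q).flip y0)) hQ ⟨y1, hy⟩
  exact ⟨u, y0, hu1, hu2⟩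

theorem injective_of_isom (hND : ND Q) {g : V →ₗ[K] V} (hg : ∀ v, Q (g v) = Q v) :
    Function.Injective g := by
  rw [injective_iff_map_eq_zero]
  intro v hv
  refine hND v ?_ fun w => ?_
  · rw [← hg, hv, QuadraticMap.map_zero]
  · rw [← polar_map_of_isom Q hg, hv]
    simp [polar]

theorem surjective_of_isom (hND : ND Q) {g : V →ₗ[K] V} (hg : ∀ v, Q (g v) = Q v) :
    Function.Surjective g :=
  LinearMap.surjective_of_injective (injective_of_isom hND hg)

/-- the discriminant of the plane spanned by `u, x` -/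
theorem exists_disc_ne_zero (hND : ND Q) (hdim : 2 ≤ Module.finrank K V) {u y0 : V}
    (hu : Q u ≠ 0) (hy0 : polar Q u y0 ≠ 0) :
    ∃ x, 4 * Q u * Q x - polar Q u x ^ 2 ≠ 0 := by
  by_cases h2 : (2 : K) = 0
  · refine ⟨y0, ?_⟩
    have h4 : (4 : K) = 0 := by
      have : (4 : K) = 2 * 2 := by norm_num
      rw [this, h2, mul_zero]
    rw [h4, zero_mul, zero_mul, zero_sub, neg_ne_zero]
    exact pow_ne_zero 2 hy0
  · by_contra hcon
    push Not at hcon
    obtain ⟨z, hz, hlz⟩ := exists_kernel_vector hdim (polarBilin Q u)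
    have hlz' : polar Q u z = 0 := hlz
    have h4 : (4 : K) ≠ 0 := by
      have : (4 : K) = 2 * 2 := by norm_num
      rw [this]; exact mul_ne_zero h2 h2
    have hQz : Q z = 0 := by
      have := hcon z
      rw [hlz'] at this
      have h5 : 4 * Q u * Q z = 0 := by linear_combination this
      rcases mul_eq_zero.mp h5 with h | h
      · exact absurd h (mul_ne_zero h4 hu)
      · exact h
    apply hz
    refine hND z hQz fun y => ?_
    have h6 := hcon (z + y)
    have h7 := hcon y
    have h8 : Q (z + y) = Q z + Q y + polar Q z y := by unfold polar; ring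
    rw [h8, polar_add_right, hlz', hQz] at h6
    have h9 : 4 * Q u * polar Q z y = 0 := by linear_combination h6 - h7
    rcases mul_eq_zero.mp h9 with h | h
    · exact absurd h (mul_ne_zero h4 hu)
    · exact h

theorem exists_perp_aniso (hND : ND Q) (hdim : 2 ≤ Module.finrank K V) {u y0 : V}
    (hu : Q u ≠ 0) (hy0 : polar Q u y0 ≠ 0) :
    ∃ y y1, polar Q u y = 0 ∧ Q y ≠ 0 ∧ polar Q y y1 ≠ 0 := by
  by_cases h2 : (2 : K) = 0
  · refine ⟨u, y0, ?_, hu, hy0⟩
    rw [polar_self, ← Nat.cast_smul_eq_nsmul K, Nat.cast_ofNat, smul_eq_mul, h2, zero_mul]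
  · by_contra hcon
    push Not at hcon
    have hps : ∀ y, polar Q y y = 2 * Q y := by
      intro y
      rw [polar_self, ← Nat.cast_smul_eq_nsmul K, Nat.cast_ofNat, smul_eq_mul]
    -- every vector orthogonal to u is isotropic
    have hiso : ∀ y, polar Q u y = 0 → Q y = 0 := by
      intro y hy
      by_contra hQy
      have := hcon y y hy hQy
      rw [hps] at this
      exact mul_ne_zero h2 hQy this
    obtain ⟨z, hz, hlz⟩ := exists_kernel_vector hdim (polarBilin Q u)
    have hlz' : polar Q u z = 0 := hlz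
    apply hz
    refine hND z (hiso z hlz') fun v => ?_
    have huu : polar Q u u ≠ 0 := by rw [hps]; exact mul_ne_zero h2 hu
    set a := polar Q u v / polar Q u u with ha
    set v' := v - a • u with hv'
    have hv'u : polar Q u v' = 0 := by
      rw [hv', polar_sub_right, polar_smul_right, smul_eq_mul, ha, div_mul_cancel₀ _ huu, sub_self]
    have hv : v = a • u + v' := by rw [hv']; abel
    rw [hv, polar_add_right, polar_smul_right, polar_comm Q z u, hlz', smul_zero, zero_add]
    have h1 : Q (z + v') = 0 := hiso _ (by rw [polar_add_right, hlz', hv'u, add_zero])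
    unfold polar
    rw [h1, hiso z hlz', hiso v' hv'u]; ring

theorem exists_ne_after_refl (hND : ND Q) {g : V →ₗ[K] V} (hg : ∀ v, Q (g v) = Q v)
    {y y1 : V} (hy : Q y ≠ 0) (hy1 : polar Q y y1 ≠ 0) (h0 : ∀ x, Q (g x - x) = 0) :
    ∃ x, Q (refl Q y (g x) - x) ≠ 0 := by
  obtain ⟨x1, hx1⟩ := surjective_of_isom hND hg y1
  obtain ⟨x, hx1, hx2⟩ := LinePoly.exists_ne_zero
    ((LinePoly.linear (polarBilin Q y)).comp g) (LinePoly.linear (polarBilin Q y))
    ⟨x1, by show polar Q y (g x1) ≠ 0; rw [hx1]; exact hy1⟩ ⟨y1, hy1⟩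
  refine ⟨x, ?_⟩
  rw [Q_refl_comp_sub Q (h0 x)]
  exact mul_ne_zero (mul_ne_zero (inv_ne_zero hy) hx1) hx2

/-- After possibly composing with one reflection, `g - 1` is not totally isotropic. -/
theorem exists_ne_modify (hND : ND Q) {g : V →ₗ[K] V} (hg : ∀ v, Q (g v) = Q v)
    {y y1 : V} (hy : Q y ≠ 0) (hy1 : polar Q y y1 ≠ 0) :
    ∃ L0 : List V, (L0 = [] ∨ L0 = [y]) ∧ ∃ x, Q (((L0.map (refl Q)).prod * g) x - x) ≠ 0 := by
  by_cases h : ∃ x, Q (g x - x) ≠ 0
  · exact ⟨[], Or.inl rfl, by simpa using h⟩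
  · push Not at h
    obtain ⟨x, hx⟩ := exists_ne_after_refl hND hg hy hy1 h
    exact ⟨[y], Or.inr rfl, x, by simpa using hx⟩

theorem exists_fix {g : V →ₗ[K] V} (hg : ∀ v, Q (g v) = Q v) {c : V → K} (hc : LinePoly c)
    (hc0 : ∃ x, c x ≠ 0) (hne : ∃ x, Q (g x - x) ≠ 0) :
    ∃ x, c x ≠ 0 ∧ Q (g x - x) ≠ 0 ∧ refl Q (g x - x) (g x) = x := by
  obtain ⟨x, hx1, hx2⟩ := LinePoly.exists_ne_zero hc ((LinePoly.quad Q).comp (g - LinearMap.id))
    hc0 (by simpa using hne)
  have hx2' : Q (g x - x) ≠ 0 := by simpa using hx2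
  exact ⟨x, hx1, hx2', refl_sub_apply Q (hg x) hx2'⟩

theorem step1 (hND : ND Q) (hdim : 2 ≤ Module.finrank K V) {g : V →ₗ[K] V}
    (hg : ∀ v, Q (g v) = Q v) :
    ∃ (L : List V) (u y0 : V), (∀ v ∈ L, Q v ≠ 0) ∧ Q u ≠ 0 ∧ polar Q u y0 ≠ 0 ∧
      ((L.map (refl Q)).prod * g) u = u := by
  obtain ⟨u0, y0, hu0, hy0⟩ := exists_aniso_nonrad hND hdim
  obtain ⟨L0, hL0, hne⟩ := exists_ne_modify hND hg hu0 hy0
  have hL0' : ∀ v ∈ L0, Q v ≠ 0 := by
    rcases hL0 with rfl | rfl
    · simp
    · simpa using hu0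
  set g0 := (L0.map (refl Q)).prod * g with hg0
  have hg0i : ∀ v, Q (g0 v) = Q v := fun v => by
    rw [hg0, Module.End.mul_apply, isom_list Q L0 hL0', hg]
  have hc : LinePoly (fun x => Q x * polar Q x y0) :=
    (LinePoly.quad Q).mul (LinePoly.linear ((polarBilin Q).flip y0))
  obtain ⟨u, hcu, hQu, hfix⟩ := exists_fix hg0i hc ⟨u0, mul_ne_zero hu0 hy0⟩ hne
  refine ⟨(g0 u - u) :: L0, u, y0, ?_, left_ne_zero_of_mul hcu, right_ne_zero_of_mul hcu, ?_⟩
  · intro v hv
    rcases List.mem_cons.mp hv with rfl | hv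
    · exact hQu
    · exact hL0' v hv
  · rw [List.map_cons, List.prod_cons, mul_assoc, Module.End.mul_apply]
    exact hfix

theorem step2 (hND : ND Q) (hdim : 2 ≤ Module.finrank K V) {g : V →ₗ[K] V}
    (hg : ∀ v, Q (g v) = Q v) {u y0 : V} (hu : Q u ≠ 0) (hy0 : polar Q u y0 ≠ 0) (hgu : g u = u) :
    ∃ (L : List V) (x : V), (∀ v ∈ L, Q v ≠ 0) ∧ 4 * Q u * Q x - polar Q u x ^ 2 ≠ 0 ∧
      ((L.map (refl Q)).prod * g) u = u ∧ ((L.map (refl Q)).prod * g) x = x := by
  obtain ⟨y, y1, hyu, hQy, hy1⟩ := exists_perp_aniso hND hdim hu hy0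
  obtain ⟨L0, hL0, hne⟩ := exists_ne_modify hND hg hQy hy1
  have hL0' : ∀ v ∈ L0, Q v ≠ 0 := by
    rcases hL0 with rfl | rfl
    · simp
    · simpa using hQy
  set g0 := (L0.map (refl Q)).prod * g with hg0
  have hg0i : ∀ v, Q (g0 v) = Q v := fun v => by
    rw [hg0, Module.End.mul_apply, isom_list Q L0 hL0', hg]
  have hg0u : g0 u = u := by
    rw [hg0, Module.End.mul_apply, hgu]
    rcases hL0 with rfl | rfl
    · simp
    · simp only [List.map_cons, List.map_nil, List.prod_cons, List.prod_nil, mul_one]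
      exact refl_of_polar_eq_zero Q (by rw [polar_comm]; exact hyu)
  have hc : LinePoly (fun x => 4 * Q u * Q x - polar Q u x ^ 2) := by
    have h1 : LinePoly (fun x => 4 * Q u * Q x) := (LinePoly.const (4 * Q u)).mul (LinePoly.quad Q)
    have h2 : LinePoly (fun x => polar Q u x * polar Q u x) :=
      (LinePoly.linear (polarBilin Q u)).mul (LinePoly.linear (polarBilin Q u))
    have := h1.sub h2
    simpa [_root_.sq] using this
  obtain ⟨x, hdx, hQx, hfix⟩ := exists_fix hg0i hc (exists_disc_ne_zero hND hdim hu hy0) hne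
  refine ⟨(g0 x - x) :: L0, x, ?_, hdx, ?_, ?_⟩
  · intro v hv
    rcases List.mem_cons.mp hv with rfl | hv
    · exact hQx
    · exact hL0' v hv
  · rw [List.map_cons, List.prod_cons, mul_assoc, Module.End.mul_apply]
    change refl Q (g0 x - x) (g0 u) = u
    rw [hg0u]
    apply refl_of_polar_eq_zero
    rw [polar_sub_left]
    nth_rewrite 1 [← hg0u]
    rw [polar_map_of_isom Q hg0i, sub_self]
  · rw [List.map_cons, List.prod_cons, mul_assoc, Module.End.mul_apply]
    exact hfix

end Exist

section Descent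
variable {K : Type*} [Field K] {V : Type*} [AddCommGroup V] [Module K V] (Q : QuadraticForm K V)

/-- The orthogonal complement of the plane spanned by `u, x`. -/
def perp (u x : V) : Submodule K V :=
  LinearMap.ker (polarBilin Q u) ⊓ LinearMap.ker (polarBilin Q x)

theorem mem_perp {u x w : V} : w ∈ perp Q u x ↔ polar Q u w = 0 ∧ polar Q x w = 0 := by
  simp [perp, Submodule.mem_inf, LinearMap.mem_ker]

theorem polar_self' (y : V) : polar Q y y = 2 * Q y := by
  rw [polar_self, ← Nat.cast_smul_eq_nsmul K, Nat.cast_ofNat, smul_eq_mul]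

theorem exists_decomp {u x : V} (hd : 4 * Q u * Q x - polar Q u x ^ 2 ≠ 0) (v : V) :
    ∃ a b : K, ∃ w ∈ perp Q u x, v = a • u + b • x + w := by
  set p := polar Q u x with hp
  set d := 4 * Q u * Q x - p ^ 2 with hdd
  set a := (2 * Q x * polar Q u v - p * polar Q x v) / d with ha
  set b := (2 * Q u * polar Q x v - p * polar Q u v) / d with hb
  refine ⟨a, b, v - a • u - b • x, ?_, by abel⟩
  rw [mem_perp]
  constructor
  · rw [polar_sub_right, polar_sub_right, polar_smul_right, polar_smul_right, polar_self', ← hp,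
      smul_eq_mul, smul_eq_mul, ha, hb]
    field_simp
    ring
  · rw [polar_sub_right, polar_sub_right, polar_smul_right, polar_smul_right, polar_self',
      polar_comm Q x u, ← hp, smul_eq_mul, smul_eq_mul, ha, hb]
    field_simp
    ring

theorem not_mem_perp {u x : V} (hd : 4 * Q u * Q x - polar Q u x ^ 2 ≠ 0) : u ∉ perp Q u x := by
  intro h
  rw [mem_perp, polar_self', polar_comm] at h
  apply hd
  rw [h.2]
  have : 4 * Q u * Q x = 2 * (2 * Q u) * Q x := by ring
  rw [this, h.1]; ring

/-- restriction of the form -/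
noncomputable def resQ (W : Submodule K V) : QuadraticForm K W := Q.comp W.subtype

theorem resQ_apply (W : Submodule K V) (w : W) : resQ Q W w = Q w := rfl

theorem polar_resQ (W : Submodule K V) (w w' : W) : polar (resQ Q W) w w' = polar Q w w' := by
  unfold polar
  simp [resQ_apply]

theorem refl_resQ (W : Submodule K V) (w w' : W) :
    ((refl (resQ Q W) w w' : W) : V) = refl Q (w : V) (w' : V) := by
  rw [refl_apply, refl_apply, polar_resQ, resQ_apply]
  simp

theorem list_resQ (W : Submodule K V) (L : List W) (w : W) :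
    (((L.map (refl (resQ Q W))).prod w : W) : V) =
      ((L.map Subtype.val).map (refl Q)).prod (w : V) := by
  induction L generalizing w with
  | nil => simp
  | cons a L ih =>
    rw [List.map_cons, List.prod_cons, Module.End.mul_apply, refl_resQ, ih, List.map_cons,
      List.map_cons, List.prod_cons, Module.End.mul_apply]

theorem list_fix (L : List V) {u : V} (h : ∀ v ∈ L, polar Q v u = 0) :
    (L.map (refl Q)).prod u = u := by
  induction L with
  | nil => simp
  | cons a L ih =>
    rw [List.map_cons, List.prod_cons, Module.End.mul_apply, ih (fun v hv => h v (by simp [hv])),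
      refl_of_polar_eq_zero Q (h a (by simp))]

end Descent

section Main
variable {K : Type*} [Field K] [IsAlgClosed K]

theorem ND_resQ {V : Type*} [AddCommGroup V] [Module K V] {Q : QuadraticForm K V} (hND : ND Q)
    {u x : V} (hd : 4 * Q u * Q x - polar Q u x ^ 2 ≠ 0) : ND (resQ Q (perp Q u x)) := by
  intro w hw0 hw
  have hwm := (mem_perp Q).mp w.2
  have : (w : V) = 0 := by
    refine hND _ hw0 fun v => ?_
    obtain ⟨a, b, w', hw', rfl⟩ := exists_decomp Q hd v
    rw [polar_add_right, polar_add_right, polar_smul_right, polar_smul_right,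
      polar_comm Q _ u, polar_comm Q _ x, hwm.1, hwm.2, smul_zero, smul_zero, zero_add, zero_add]
    have := hw ⟨w', hw'⟩
    rwa [polar_resQ] at this
  exact Subtype.ext this

theorem small_case {V : Type*} [AddCommGroup V] [Module K V] [FiniteDimensional K V]
    {Q : QuadraticForm K V} (hND : ND Q) (hdim : Module.finrank K V ≤ 1) {g : V →ₗ[K] V}
    (hg : ∀ v, Q (g v) = Q v) :
    ∃ L : List V, (∀ v ∈ L, Q v ≠ 0) ∧ g = (L.map (refl Q)).prod := by
  rcases Nat.le_one_iff_eq_zero_or_eq_one.mp hdim with h0 | h1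
  · haveI : Subsingleton V := Module.finrank_zero_iff.mp h0
    exact ⟨[], by simp, LinearMap.ext fun v => Subsingleton.elim _ _⟩
  · obtain ⟨v, hv⟩ := finrank_eq_one_iff'.mp h1
    obtain ⟨hv0, hspan⟩ := hv
    have hQv : Q v ≠ 0 := by
      intro h
      apply hv0
      refine hND v h fun w => ?_
      obtain ⟨c, rfl⟩ := hspan w
      rw [polar_smul_right, polar_self' Q, h, mul_zero, smul_zero]
    obtain ⟨c, hc⟩ := hspan (g v)
    have hc2 : c * c = 1 := by
      have := hg v
      rw [← hc, QuadraticMap.map_smul, smul_eq_mul] at this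
      exact mul_right_cancel₀ hQv (by rw [this, one_mul])
    have hc' : c = 1 ∨ c = -1 := mul_self_eq_one_iff.mp hc2
    rcases hc' with rfl | rfl
    · refine ⟨[], by simp, LinearMap.ext fun w => ?_⟩
      obtain ⟨a, rfl⟩ := hspan w
      rw [map_smul, ← hc, one_smul]; simp
    · refine ⟨[v], by simpa using hQv, LinearMap.ext fun w => ?_⟩
      obtain ⟨a, rfl⟩ := hspan w
      rw [map_smul, ← hc]
      simp only [List.map_cons, List.map_nil, List.prod_cons, List.prod_nil, mul_one]
      rw [map_smul, refl_apply, polar_self' Q]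
      congr 1
      rw [neg_one_smul]
      have : (Q v)⁻¹ * (2 * Q v) = 2 := by field_simp
      rw [this, two_smul]; abel

theorem exists_list_refl : ∀ (n : ℕ) (V : Type u) [AddCommGroup V] [Module K V]
    [FiniteDimensional K V] (Q : QuadraticForm K V), Module.finrank K V = n → ND Q →
    ∀ g : V →ₗ[K] V, (∀ v, Q (g v) = Q v) →
      ∃ L : List V, (∀ v ∈ L, Q v ≠ 0) ∧ g = (L.map (refl Q)).prod := by
  intro n
  induction n using Nat.strong_induction_on with
  | _ n ih =>
  intro V _ _ _ Q hn hND g hg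
  by_cases hsmall : n ≤ 1
  · exact small_case hND (hn ▸ hsmall) hg
  have hdim : 2 ≤ Module.finrank K V := by omega
  obtain ⟨L1, u, y0, hL1, hu, hy0, hfix1⟩ := step1 hND hdim hg
  set g1 := (L1.map (refl Q)).prod * g with hg1
  have hg1i : ∀ v, Q (g1 v) = Q v := fun v => by
    rw [hg1, Module.End.mul_apply, isom_list Q L1 hL1, hg]
  obtain ⟨L2, x, hL2, hd, hfixu, hfixx⟩ := step2 hND hdim hg1i hu hy0 hfix1
  set g2 := (L2.map (refl Q)).prod * g1 with hg2
  have hg2i : ∀ v, Q (g2 v) = Q v := fun v => by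
    rw [hg2, Module.End.mul_apply, isom_list Q L2 hL2, hg1i]
  -- the complement
  set W := perp Q u x with hW
  have hgW : ∀ w ∈ W, g2 w ∈ W := by
    intro w hw
    rw [hW, mem_perp] at hw ⊢
    constructor
    · nth_rewrite 1 [← hfixu]; rw [polar_map_of_isom Q hg2i]; exact hw.1
    · nth_rewrite 1 [← hfixx]; rw [polar_map_of_isom Q hg2i]; exact hw.2
  have hlt : Module.finrank K W < n := by
    rw [← hn]
    apply Submodule.finrank_lt
    intro htop
    exact not_mem_perp Q hd (by rw [← hW, htop]; trivial)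
  obtain ⟨L', hL', hprod⟩ := ih _ hlt W (resQ Q W) rfl (ND_resQ hND hd) (g2.restrict hgW)
    (fun w => by rw [resQ_apply, resQ_apply]; exact hg2i w)
  -- assemble
  set L3 := L'.map Subtype.val with hL3
  have hL3' : ∀ v ∈ L3, Q v ≠ 0 := by
    intro v hv
    obtain ⟨w, hw, rfl⟩ := List.mem_map.mp hv
    exact hL' w hw
  have hL3W : ∀ v ∈ L3, v ∈ W := by
    intro v hv
    obtain ⟨w, hw, rfl⟩ := List.mem_map.mp hv
    exact w.2
  have hg2eq : g2 = (L3.map (refl Q)).prod := by
    apply LinearMap.ext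
    intro v
    obtain ⟨a, b, w, hw, rfl⟩ := exists_decomp Q hd v
    rw [map_add, map_add, map_smul, map_smul, map_add, map_add, map_smul, map_smul, hfixu, hfixx,
      list_fix Q L3 (fun v hv => by rw [polar_comm]; exact ((mem_perp Q).mp (hL3W v hv)).1),
      list_fix Q L3 (fun v hv => by rw [polar_comm]; exact ((mem_perp Q).mp (hL3W v hv)).2)]
    congr 1
    have := congrArg (fun f : W →ₗ[K] W => ((f ⟨w, hw⟩ : W) : V)) hprod
    simp only [LinearMap.coe_restrict_apply] at this
    rw [this, list_resQ]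
  -- undo the modifications
  have e2 := eq_of_list_mul_eq Q L2 hL2 g1 g2 rfl
  have e1 := eq_of_list_mul_eq Q L1 hL1 g g1 rfl
  refine ⟨L1.reverse ++ (L2.reverse ++ L3), ?_, ?_⟩
  · intro v hv
    simp only [List.mem_append, List.mem_reverse] at hv
    rcases hv with hv | hv | hv
    · exact hL1 v hv
    · exact hL2 v hv
    · exact hL3' v hv
  · rw [e1, e2, hg2eq, List.map_append, List.map_append, List.prod_append, List.prod_append]

end Main

end Helper25.CD
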