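import Mathlib

/-!
# The centre commutes with flat base change (surjectivity part)
-/

set_option autoImplicit false
set_option linter.unusedSectionVars false
set_option linter.unusedVariables false
set_option linter.style.haveILetI false

namespace Helper25.CenterFlat

open scoped TensorProduct

variable {A : Type*} [CommRing A] (S : Type*) [CommRing S] [Algebra A S]
  {B : Type*} [Ring B] [Algebra A B]

/-- If `B` is a finite `A`-algebra and `S` is flat over `A`, every element of `S ⊗ B` commuting
with all `1 ⊗ b` comes from `S ⊗ Z(B)`. -/
theorem mem_range_center_of_commute [Module.Flat A S] [Module.Finite A B] (ζ : S ⊗[A] B)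
    (hζ : ∀ b : B, ζ * ((1 : S) ⊗ₜ[A] b) = ((1 : S) ⊗ₜ[A] b) * ζ) :
    ζ ∈ LinearMap.range
      ((Subalgebra.toSubmodule (Subalgebra.center A B)).subtype.lTensor S) := by
  classical
  obtain ⟨n, s, hs⟩ := Module.Finite.exists_fin (R := A) (M := B)
  -- the commutator map
  let L : B →ₗ[A] (Fin n → B) :=
    LinearMap.pi fun k => LinearMap.mulRight A (s k) - LinearMap.mulLeft A (s k)
  have hLapp : ∀ z k, L z k = z * s k - s k * z := fun z k => rfl
  have hker : LinearMap.ker L = Subalgebra.toSubmodule (Subalgebra.center A B) := by
    ext z
    rw [LinearMap.mem_ker, Subalgebra.mem_toSubmodule, Subalgebra.mem_center_iff]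
    constructor
    · intro hz b
      have hb : b ∈ Submodule.span A (Set.range s) := by rw [hs]; trivial
      induction hb using Submodule.span_induction with
      | mem x hx =>
        obtain ⟨k, rfl⟩ := hx
        have := congrFun hz k
        rw [hLapp, Pi.zero_apply, sub_eq_zero] at this
        exact this.symm
      | zero => simp
      | add x y _ _ hx hy => rw [add_mul, mul_add, hx, hy]
      | smul a x _ hx => rw [smul_mul_assoc, mul_smul_comm, hx]
    · intro hz
      ext k
      rw [hLapp, Pi.zero_apply, sub_eq_zero]
      exact (hz (s k)).symm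
  have hex := Module.Flat.lTensor_exact S (LinearMap.exact_subtype_ker_map L)
  have hζ0 : (L.lTensor S) ζ = 0 := by
    apply (TensorProduct.piRight A A S (fun _ : Fin n => B)).injective
    rw [map_zero]
    ext k
    rw [Pi.zero_apply]
    have key : ∀ w : S ⊗[A] B, (TensorProduct.piRight A A S (fun _ : Fin n => B))
        ((L.lTensor S) w) k = w * ((1 : S) ⊗ₜ[A] s k) - ((1 : S) ⊗ₜ[A] s k) * w := by
      intro w
      induction w using TensorProduct.induction_on with
      | zero => simp
      | tmul t z =>
        rw [LinearMap.lTensor_tmul, TensorProduct.piRight_apply, TensorProduct.piRightHom_tmul]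
        show t ⊗ₜ[A] L z k = _
        rw [hLapp, Algebra.TensorProduct.tmul_mul_tmul, Algebra.TensorProduct.tmul_mul_tmul,
          mul_one, one_mul, TensorProduct.tmul_sub]
      | add u w hu hw =>
        rw [map_add, map_add, Pi.add_apply, hu, hw, add_mul, mul_add]
        abel
    rw [key, hζ, sub_self]
  have := (hex ζ).mp hζ0
  rw [hker] at this
  exact this

end Helper25.CenterFlat
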