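import Mathlib
import Groth.Agent.Lib.Helper85.AzumayaDescent
import Groth.Agent.Lib.Helper25.CenterFlat

/-!
# Algebras which become `M_k × M_k` after a faithfully flat base change

Such an algebra `B` over `A` has centre `Z` finite étale of rank two over `A`, and `B` is Azumaya
over `Z`.  Tools: transport of the Azumaya property along semilinear ring isomorphisms, the centre
commutes with flat base change, `(Z ⊗ S) ⊗[Z] B ≃ S ⊗ B`.
-/

set_option autoImplicit false
set_option linter.style.haveILetI false
universe u v w w'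

namespace Helper25.AzTransport

open scoped TensorProduct

/-- If `algebraMap R R'` is bijective, `R' ⊗[R] B ≃ B`. -/
theorem isAzumaya_of_bijective_algebraMap (R : Type u) (R' : Type v) (B : Type w) [CommRing R]
    [CommRing R'] [Ring B] [Algebra R R'] [Algebra R B] [Algebra R' B] [IsScalarTower R R' B]
    (h : Function.Bijective (algebraMap R R')) [IsAzumaya R B] : IsAzumaya R' B := by
  haveI : IsAzumaya R' (R' ⊗[R] B) := Groth.Agent.Lib.Helper85.isAzumaya_baseChange R R' B
  let g : R' ⊗[R] B →ₐ[R'] B :=
    Algebra.TensorProduct.lift (Algebra.ofId R' B) (AlgHom.id R B)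
      (fun r b => Algebra.commutes r b)
  have hg : ∀ (r : R') (b : B), g (r ⊗ₜ b) = r • b := by
    intro r b
    rw [Algebra.smul_def]
    exact Algebra.TensorProduct.lift_tmul _ _ _ r b
  let i : B →ₗ[R] R' ⊗[R] B := (TensorProduct.mk R R' B) 1
  have hig : ∀ x, i (g x) = x := by
    intro x
    induction x using TensorProduct.induction_on with
    | zero => simp
    | add x y hx hy => rw [map_add, map_add, hx, hy]
    | tmul r b =>
      obtain ⟨r₀, rfl⟩ := h.2 r
      rw [hg]
      simp only [i, TensorProduct.mk_apply]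
      rw [algebraMap_smul, TensorProduct.tmul_smul, TensorProduct.smul_tmul', Algebra.smul_def,
        mul_one]
  have hbij : Function.Bijective g := by
    refine ⟨fun x y hxy => ?_, fun b => ⟨1 ⊗ₜ b, by rw [hg, one_smul]⟩⟩
    rw [← hig x, ← hig y, hxy]
  exact IsAzumaya.of_AlgEquiv R' _ _ (AlgEquiv.ofBijective g hbij)

/-- Transport of the Azumaya property along a semilinear ring isomorphism. -/
theorem isAzumaya_of_ringEquiv {R : Type u} {R' : Type v} {B : Type w} {B' : Type w'} [CommRing R]
    [CommRing R'] [Ring B] [Ring B'] [Algebra R B] [Algebra R' B'] (e : R ≃+* R') (f : B ≃+* B')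
    (hf : ∀ r, f (algebraMap R B r) = algebraMap R' B' (e r)) [IsAzumaya R B] :
    IsAzumaya R' B' := by
  letI algRB' : Algebra R B' := ((algebraMap R' B').comp e.toRingHom).toAlgebra' (fun r x => by
    exact Algebra.commutes (e r) x)
  let f' : B ≃ₐ[R] B' := { f with commutes' := hf }
  haveI : IsAzumaya R B' := IsAzumaya.of_AlgEquiv R B B' f'
  letI : Algebra R R' := e.toRingHom.toAlgebra
  haveI : IsScalarTower R R' B' := IsScalarTower.of_algebraMap_eq (fun r => rfl)
  exact isAzumaya_of_bijective_algebraMap R R' B' e.bijective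

end Helper25.AzTransport

namespace Helper25.AzTransport

open scoped TensorProduct

section Cancel

variable (A : Type*) [CommRing A] (Z : Type*) [CommRing Z] [Algebra A Z]
  (B : Type*) [Ring B] [Algebra A B] [Algebra Z B] [IsScalarTower A Z B]
  (S : Type*) [CommRing S] [Algebra A S]

/-- `B ⊗[Z] (Z ⊗[A] S) ≃ B ⊗[A] S` for a possibly non-commutative `B`. -/
noncomputable def cancelEquiv : B ⊗[Z] (Z ⊗[A] S) ≃ₐ[Z] B ⊗[A] S :=
  AlgEquiv.symm <| AlgEquiv.ofLinearEquiv
    (TensorProduct.AlgebraTensorModule.cancelBaseChange A Z Z B S).symm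
    (by simp [Algebra.TensorProduct.one_def]) <|
      LinearMap.map_mul_of_map_mul_tmul (fun _ _ _ _ ↦ by simp)

@[simp]
theorem cancelEquiv_tmul (b : B) (z : Z) (s : S) :
    cancelEquiv A Z B S (b ⊗ₜ (z ⊗ₜ s)) = (z • b) ⊗ₜ s :=
  TensorProduct.AlgebraTensorModule.cancelBaseChange_tmul A Z Z b s z

/-- `(Z ⊗[A] S) ⊗[Z] B ≃+* S ⊗[A] B`. -/
noncomputable def phi : (Z ⊗[A] S) ⊗[Z] B ≃+* S ⊗[A] B :=
  (Algebra.TensorProduct.comm Z (Z ⊗[A] S) B).toRingEquiv.trans
    ((cancelEquiv A Z B S).toRingEquiv.trans (Algebra.TensorProduct.comm A B S).toRingEquiv)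

theorem phi_tmul (z : Z) (s : S) (b : B) :
    phi A Z B S ((z ⊗ₜ s) ⊗ₜ b) = s ⊗ₜ (z • b) := by
  simp [phi]

end Cancel

end Helper25.AzTransport

namespace Helper25.AzTransport

open scoped TensorProduct

section CenterBC

variable (A : Type*) [CommRing A] (S : Type*) [CommRing S] [Algebra A S]
  (B : Type*) [Ring B] [Algebra A B]

/-- The natural map `S ⊗ Z(B) → S ⊗ B`. -/
noncomputable def centerIncl : S ⊗[A] ↥(Subalgebra.center A B) →ₐ[S] S ⊗[A] B :=
  Algebra.TensorProduct.map (AlgHom.id S S) (Subalgebra.center A B).val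

theorem centerIncl_tmul (s : S) (z : ↥(Subalgebra.center A B)) :
    centerIncl A S B (s ⊗ₜ z) = s ⊗ₜ (z : B) := rfl

theorem centerIncl_eq_lTensor (x : S ⊗[A] ↥(Subalgebra.center A B)) :
    centerIncl A S B x = (Subalgebra.toSubmodule (Subalgebra.center A B)).subtype.lTensor S x := by
  induction x using TensorProduct.induction_on with
  | zero => simp
  | add x y hx hy => rw [map_add, map_add, hx, hy]
  | tmul s z => rfl

theorem centerIncl_injective [Module.Flat A S] : Function.Injective (centerIncl A S B) := by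
  have h : (centerIncl A S B : S ⊗[A] ↥(Subalgebra.center A B) → S ⊗[A] B) =
      (Subalgebra.toSubmodule (Subalgebra.center A B)).subtype.lTensor S :=
    funext (centerIncl_eq_lTensor A S B)
  rw [h]
  exact Module.Flat.lTensor_preserves_injective_linearMap _ (Submodule.injective_subtype _)

theorem centerIncl_mem_center (x : S ⊗[A] ↥(Subalgebra.center A B)) :
    centerIncl A S B x ∈ Subalgebra.center S (S ⊗[A] B) := by
  rw [Subalgebra.mem_center_iff]
  intro y
  induction x using TensorProduct.induction_on with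
  | zero => simp
  | add x x' hx hx' => rw [map_add, mul_add, add_mul, hx, hx']
  | tmul s z =>
    induction y using TensorProduct.induction_on with
    | zero => simp
    | add y y' hy hy' => rw [add_mul, mul_add, hy, hy']
    | tmul t b =>
      rw [centerIncl_tmul, Algebra.TensorProduct.tmul_mul_tmul, Algebra.TensorProduct.tmul_mul_tmul,
        mul_comm t s, (Subalgebra.mem_center_iff.mp z.2 b)]

theorem range_centerIncl [Module.Flat A S] [Module.Finite A B] :
    Set.range (centerIncl A S B) = (Subalgebra.center S (S ⊗[A] B) : Set (S ⊗[A] B)) := by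
  ext ζ
  constructor
  · rintro ⟨x, rfl⟩
    exact centerIncl_mem_center A S B x
  · intro hζ
    have h := Helper25.CenterFlat.mem_range_center_of_commute S ζ
      (fun b => ((Subalgebra.mem_center_iff.mp hζ) _).symm)
    obtain ⟨x, hx⟩ := h
    exact ⟨x, (centerIncl_eq_lTensor A S B x).trans hx⟩

end CenterBC

section LemmaG

variable {S : Type*} [CommRing S] {X X' Y : Type*} [Ring X] [Ring X'] [Ring Y]
  [Algebra S X] [Algebra S X'] [Algebra S Y]

theorem exists_algEquiv_of_range_eq (f : X →ₐ[S] Y) (g : X' →ₐ[S] Y) (hf : Function.Injective f)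
    (hg : Function.Injective g) (h : Set.range f = Set.range g) :
    ∃ e : X ≃ₐ[S] X', ∀ x, f x = g (e x) := by
  have hr : f.range = g.range := by
    apply SetLike.coe_injective
    rw [AlgHom.coe_range, AlgHom.coe_range, h]
  let e₁ := AlgEquiv.ofInjective f hf
  let e₂ := AlgEquiv.ofInjective g hg
  let e₃ := Subalgebra.equivOfEq _ _ hr
  refine ⟨(e₁.trans e₃).trans e₂.symm, fun x => ?_⟩
  have : g (e₂.symm (e₃ (e₁ x))) = ((e₃ (e₁ x) : g.range) : Y) := by
    have := e₂.apply_symm_apply (e₃ (e₁ x))
    exact congrArg Subtype.val this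
  simp only [AlgEquiv.trans_apply]
  rw [this]
  rfl

end LemmaG

end Helper25.AzTransport

namespace Helper25.AzTransport

open scoped TensorProduct

section Model

variable (S : Type*) [CommRing S] (n : Type*) [Fintype n] [DecidableEq n]

/-- `M_n(S × S) ≃ M_n(S) × M_n(S)` (with `S × S` written as `Fin 2 → S`). -/
noncomputable def matPiHom :
    Matrix n n (Fin 2 → S) →ₐ[S] Matrix n n S × Matrix n n S :=
  AlgHom.prod (AlgHom.mapMatrix (Pi.evalAlgHom S (fun _ : Fin 2 => S) 0))
    (AlgHom.mapMatrix (Pi.evalAlgHom S (fun _ : Fin 2 => S) 1))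

theorem matPiHom_apply (M : Matrix n n (Fin 2 → S)) :
    matPiHom S n M = (M.map (fun f => f 0), M.map (fun f => f 1)) := rfl

theorem matPiHom_bijective : Function.Bijective (matPiHom S n) := by
  constructor
  · intro M M' h
    rw [matPiHom_apply, matPiHom_apply, Prod.mk.injEq] at h
    ext i j t
    fin_cases t
    · exact congrFun (congrFun h.1 i) j
    · exact congrFun (congrFun h.2 i) j
  · rintro ⟨X, Y⟩
    refine ⟨Matrix.of fun i j => ![X i j, Y i j], ?_⟩
    rw [matPiHom_apply]
    ext i j <;> simp

noncomputable def matPiEquiv :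
    Matrix n n (Fin 2 → S) ≃ₐ[S] Matrix n n S × Matrix n n S :=
  AlgEquiv.ofBijective (matPiHom S n) (matPiHom_bijective S n)

theorem range_algebraMap_matrix (R : Type*) [CommRing R] :
    Set.range (algebraMap R (Matrix n n R)) = Set.center (Matrix n n R) := by
  rw [Matrix.center_eq_range]
  rfl

theorem algebraMap_matrix_injective (R : Type*) [CommRing R] [Nonempty n] :
    Function.Injective (algebraMap R (Matrix n n R)) := by
  intro a b h
  obtain ⟨i⟩ := ‹Nonempty n›
  have := congrFun (congrFun h i) i
  simpa [Matrix.algebraMap_matrix_apply] using this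

end Model

end Helper25.AzTransport
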