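import Mathlib
import Groth.Agent.Lib.Helper25.CenterAzumaya

/-!
# The centre of an algebra which is fppf-locally `M_k × M_k`

`center_etale_rank_two`, `isAzumaya_center`.
-/

set_option autoImplicit false
set_option linter.style.haveILetI false
universe u v w

namespace Helper25.AzTransport

open scoped TensorProduct

section Main

variable (A : Type u) [CommRing A] (B : Type w) [Ring B] [Algebra A B]
  (S : Type u) [CommRing S] [Algebra A S] [Module.FaithfullyFlat A S]
  (k : ℕ) [NeZero k]

theorem algEquiv_mem_center_iff {R : Type*} [CommRing R] {X Y : Type*} [Ring X] [Ring Y]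
    [Algebra R X] [Algebra R Y] (e : X ≃ₐ[R] Y) (x : X) :
    e x ∈ Set.center Y ↔ x ∈ Set.center X := by
  rw [Semigroup.mem_center_iff, Semigroup.mem_center_iff]
  constructor
  · intro h y
    apply e.injective
    rw [map_mul, map_mul]
    exact h (e y)
  · intro h y
    obtain ⟨y, rfl⟩ := e.surjective y
    rw [← map_mul, ← map_mul, h y]

/-- The centre of an algebra which is fppf-locally `M_k × M_k` is fppf-locally `S × S`, compatibly. -/
theorem exists_center_equiv
    (Θ : S ⊗[A] B ≃ₐ[S] Matrix (Fin k) (Fin k) (Fin 2 → S)) [Module.Finite A B] :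
    ∃ e : S ⊗[A] ↥(Subalgebra.center A B) ≃ₐ[S] (Fin 2 → S),
      ∀ x, Θ (centerIncl A S B x) = algebraMap (Fin 2 → S) (Matrix (Fin k) (Fin k) (Fin 2 → S)) (e x) := by
  have hne : Nonempty (Fin k) := ⟨⟨0, Nat.pos_of_ne_zero (NeZero.ne k)⟩⟩
  let f : S ⊗[A] ↥(Subalgebra.center A B) →ₐ[S] Matrix (Fin k) (Fin k) (Fin 2 → S) :=
    Θ.toAlgHom.comp (centerIncl A S B)
  let g : (Fin 2 → S) →ₐ[S] Matrix (Fin k) (Fin k) (Fin 2 → S) :=
    IsScalarTower.toAlgHom S (Fin 2 → S) (Matrix (Fin k) (Fin k) (Fin 2 → S))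
  have hf : Function.Injective f := Θ.injective.comp (centerIncl_injective A S B)
  have hg : Function.Injective g := algebraMap_matrix_injective (Fin k) (Fin 2 → S)
  have hr : Set.range f = Set.range g := by
    have h1 : Set.range g = Set.center (Matrix (Fin k) (Fin k) (Fin 2 → S)) :=
      range_algebraMap_matrix (Fin k) (Fin 2 → S)
    rw [h1]
    ext y
    constructor
    · rintro ⟨x, rfl⟩
      change Θ (centerIncl A S B x) ∈ _
      rw [algEquiv_mem_center_iff]
      exact centerIncl_mem_center A S B x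
    · intro hy
      obtain ⟨c, rfl⟩ := Θ.surjective y
      rw [algEquiv_mem_center_iff] at hy
      have : c ∈ Set.range (centerIncl A S B) := by
        rw [range_centerIncl]; exact hy
      obtain ⟨x, rfl⟩ := this
      exact ⟨x, rfl⟩
  obtain ⟨e, he⟩ := exists_algEquiv_of_range_eq f g hf hg hr
  exact ⟨e, he⟩

/-- The centre is finite étale of rank two. -/
theorem center_etale_rank_two
    (Θ : S ⊗[A] B ≃ₐ[S] Matrix (Fin k) (Fin k) (Fin 2 → S)) [Module.Finite A B] :
    Algebra.Etale A ↥(Subalgebra.center A B) ∧ Module.Finite A ↥(Subalgebra.center A B) ∧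
      Module.Projective A ↥(Subalgebra.center A B) ∧
      ∀ p : PrimeSpectrum A, Module.rankAtStalk ↥(Subalgebra.center A B) p = 2 := by
  obtain ⟨e, -⟩ := exists_center_equiv A B S k Θ
  haveI : Algebra.Etale S (S ⊗[A] ↥(Subalgebra.center A B)) := Algebra.Etale.of_equiv e.symm
  haveI : Module.Finite S (S ⊗[A] ↥(Subalgebra.center A B)) :=
    Module.Finite.equiv e.symm.toLinearEquiv
  haveI : Module.Projective S (S ⊗[A] ↥(Subalgebra.center A B)) :=
    Module.Projective.of_equiv e.symm.toLinearEquiv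
  obtain ⟨h1, h2⟩ := Groth.Agent.Lib.Helper85.finite_projective_of_tensorProduct_of_faithfullyFlat
    A S ↥(Subalgebra.center A B)
  refine ⟨Algebra.Etale.of_etale_tensorProduct_of_faithfullyFlat S, h1, h2, fun p => ?_⟩
  obtain ⟨q, rfl⟩ := PrimeSpectrum.comap_surjective_of_faithfullyFlat (A := A) (B := S) p
  rw [← Module.rankAtStalk_baseChange, Module.rankAtStalk_eq_of_equiv e.toLinearEquiv,
    Module.rankAtStalk_eq_finrank_of_free]
  haveI : Nontrivial S := q.nontrivial
  simp

/-- A copy of the centre, to avoid the module instances of subalgebras. -/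
def CenterCopy : Type w := ↥(Subalgebra.center A B)

noncomputable instance : CommRing (CenterCopy A B) :=
  inferInstanceAs (CommRing ↥(Subalgebra.center A B))

noncomputable instance : Algebra A (CenterCopy A B) :=
  inferInstanceAs (Algebra A ↥(Subalgebra.center A B))

noncomputable instance centerCopyAlgebraSelf : Algebra (CenterCopy A B) B :=
  ((Subalgebra.center A B).val.toRingHom).toAlgebra'
    (fun c x => (Subalgebra.mem_center_iff.mp c.2 x).symm)

instance : IsScalarTower A (CenterCopy A B) B :=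
  IsScalarTower.of_algebraMap_eq (fun _ => rfl)

theorem algebraMap_centerCopy (z : CenterCopy A B) :
    algebraMap (CenterCopy A B) B z = ((show ↥(Subalgebra.center A B) from z) : B) := rfl

/-- `B` is Azumaya over (the copy of) its centre. -/
theorem isAzumaya_centerCopy
    (Θ : S ⊗[A] B ≃ₐ[S] Matrix (Fin k) (Fin k) (Fin 2 → S)) [Module.Finite A B] :
    IsAzumaya (CenterCopy A B) B := by
  have hne : Nonempty (Fin k) := ⟨⟨0, Nat.pos_of_ne_zero (NeZero.ne k)⟩⟩
  obtain ⟨e', he'⟩ := exists_center_equiv A B S k Θ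
  let e : S ⊗[A] CenterCopy A B ≃ₐ[S] (Fin 2 → S) := e'
  let ci : S ⊗[A] CenterCopy A B →ₐ[S] S ⊗[A] B := centerIncl A S B
  have he : ∀ x, Θ (ci x) = algebraMap (Fin 2 → S) (Matrix (Fin k) (Fin k) (Fin 2 → S)) (e x) := he'
  have hci : ∀ (s : S) (z : CenterCopy A B), ci (s ⊗ₜ z) = s ⊗ₜ (algebraMap (CenterCopy A B) B z) :=
    fun s z => rfl
  -- the faithfully flat cover of the centre
  let Φ := phi A (CenterCopy A B) B S
  let f₀ : Matrix (Fin k) (Fin k) (Fin 2 → S) ≃+*
      (CenterCopy A B ⊗[A] S) ⊗[CenterCopy A B] B :=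
    Θ.toRingEquiv.symm.trans Φ.symm
  let e₀ : (Fin 2 → S) ≃+* (CenterCopy A B ⊗[A] S) :=
    e.symm.toRingEquiv.trans (Algebra.TensorProduct.comm A S (CenterCopy A B)).toRingEquiv
  have key : ∀ x : S ⊗[A] CenterCopy A B,
      Φ (algebraMap (CenterCopy A B ⊗[A] S) _
        (Algebra.TensorProduct.comm A S (CenterCopy A B) x)) = ci x := by
    intro x
    induction x using TensorProduct.induction_on with
    | zero => simp
    | add x y hx hy => rw [map_add, map_add, map_add, map_add, hx, hy]
    | tmul s z =>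
      rw [Algebra.TensorProduct.comm_tmul, Algebra.TensorProduct.algebraMap_apply,
        Algebra.algebraMap_self, RingHom.id_apply, hci]
      change phi A (CenterCopy A B) B S ((z ⊗ₜ[A] s) ⊗ₜ[CenterCopy A B] (1 : B)) = _
      rw [phi_tmul, Algebra.smul_def, mul_one]
  have hf : ∀ r, f₀ (algebraMap (Fin 2 → S) (Matrix (Fin k) (Fin k) (Fin 2 → S)) r) =
      algebraMap (CenterCopy A B ⊗[A] S) _ (e₀ r) := by
    intro r
    obtain ⟨x, rfl⟩ := e.surjective r
    rw [← he x]
    change Φ.symm (Θ.symm (Θ (ci x))) = _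
    rw [AlgEquiv.symm_apply_apply, RingEquiv.symm_apply_eq, ← key]
    congr 2
    change _ = (Algebra.TensorProduct.comm A S (CenterCopy A B)) (e.symm (e x))
    rw [AlgEquiv.symm_apply_apply]
  haveI : IsAzumaya (Fin 2 → S) (Matrix (Fin k) (Fin k) (Fin 2 → S)) := IsAzumaya.matrix _ _
  haveI : IsAzumaya (CenterCopy A B ⊗[A] S)
      ((CenterCopy A B ⊗[A] S) ⊗[CenterCopy A B] B) :=
    isAzumaya_of_ringEquiv e₀ f₀ hf
  exact Groth.Agent.Lib.Helper85.isAzumaya_of_baseChange_faithfullyFlat
    (CenterCopy A B) (CenterCopy A B ⊗[A] S) B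

/-- `B` is Azumaya over its centre. -/
theorem isAzumaya_center
    (Θ : S ⊗[A] B ≃ₐ[S] Matrix (Fin k) (Fin k) (Fin 2 → S)) [Module.Finite A B]
    [Algebra ↥(Subalgebra.center A B) B]
    (halg : ∀ z : ↥(Subalgebra.center A B), algebraMap ↥(Subalgebra.center A B) B z = (z : B)) :
    IsAzumaya ↥(Subalgebra.center A B) B := by
  haveI := isAzumaya_centerCopy A B S k Θ
  let e : CenterCopy A B ≃+* ↥(Subalgebra.center A B) := RingEquiv.refl _
  exact isAzumaya_of_ringEquiv e (RingEquiv.refl B) (fun r => (halg r).symm)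

end Main

end Helper25.AzTransport
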