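import Mathlib
import Groth.Agent.Lib.Helper25.AzCentral
import Groth.Agent.Lib.Helper25.CenterAzumaya

/-!
# The centre of an algebra which is Azumaya over a commutative subring commutes with arbitrary
base change
-/

set_option autoImplicit false
universe u v

namespace Helper25.AzTransport

open scoped TensorProduct

variable (A : Type*) [CommRing A] (Z : Type*) [CommRing Z] [Algebra A Z]
  (B : Type*) [Ring B] [Algebra A B] [Algebra Z B] [IsScalarTower A Z B]
  (S : Type*) [CommRing S] [Algebra A S]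

theorem phi_algebraMap_mem (w : Z ⊗[A] S) :
    phi A Z B S (algebraMap (Z ⊗[A] S) ((Z ⊗[A] S) ⊗[Z] B) w) ∈
      Submodule.span S (Set.range fun z : Z => (1 : S) ⊗ₜ[A] algebraMap Z B z) := by
  induction w using TensorProduct.induction_on with
  | zero => simp
  | add x y hx hy =>
    rw [map_add, map_add]
    exact Submodule.add_mem _ hx hy
  | tmul z s =>
    have h1 : algebraMap (Z ⊗[A] S) ((Z ⊗[A] S) ⊗[Z] B) (z ⊗ₜ[A] s) =
        (z ⊗ₜ[A] s) ⊗ₜ[Z] (1 : B) := by
      rw [Algebra.TensorProduct.algebraMap_apply, Algebra.algebraMap_self, RingHom.id_apply]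
    rw [h1, phi_tmul, Algebra.smul_def, mul_one]
    have h2 : s ⊗ₜ[A] algebraMap Z B z = s • ((1 : S) ⊗ₜ[A] algebraMap Z B z) := by
      rw [TensorProduct.smul_tmul', smul_eq_mul, mul_one]
    rw [h2]
    exact Submodule.smul_mem _ _ (Submodule.subset_span ⟨z, rfl⟩)

/-- Central elements of `S ⊗ B` come from `S ⊗ Z`, when `B` is Azumaya over `Z`. -/
theorem central_mem_span [IsAzumaya Z B] (c : S ⊗[A] B) (hc : ∀ y, c * y = y * c) :
    c ∈ Submodule.span S (Set.range fun z : Z => (1 : S) ⊗ₜ[A] algebraMap Z B z) := by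
  haveI : IsAzumaya (Z ⊗[A] S) ((Z ⊗[A] S) ⊗[Z] B) :=
    Groth.Agent.Lib.Helper85.isAzumaya_baseChange Z (Z ⊗[A] S) B
  let c' := (phi A Z B S).symm c
  have hc' : ∀ x, c' * x = x * c' := by
    intro x
    apply (phi A Z B S).injective
    rw [map_mul, map_mul, RingEquiv.apply_symm_apply]
    exact hc _
  obtain ⟨w, hw⟩ := Helper25.AzCentral.exists_algebraMap_eq_of_central (Z ⊗[A] S) _ c' hc'
  have : c = phi A Z B S (algebraMap (Z ⊗[A] S) ((Z ⊗[A] S) ⊗[Z] B) w) := by
    rw [hw, RingEquiv.apply_symm_apply]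
  rw [this]
  exact phi_algebraMap_mem A Z B S w

end Helper25.AzTransport
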