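import Groth.Agent.Lib.Helper25.CliffGPin
import Groth.Agent.Lib.Helper85.AzumayaDescent
import Groth.Agent.Lib.Helper85.AzumayaInner

/-!
# The Clifford algebra of a regular form of even rank is Azumaya; isometries are inner over local
rings
-/

set_option autoImplicit false
set_option linter.unusedSectionVars false
set_option linter.unusedVariables false
set_option linter.style.haveILetI false

namespace Helper25.Cliff

open CliffordAlgebra
open scoped Pointwise TensorProduct

universe u v

theorem isAzumaya_clifford (A : Type u) [CommRing A] (V : Type v) [AddCommGroup V]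
    [Module A V] [Module.Free A V] [Module.Finite A V] (m : ℕ)
    (hV : Module.finrank A V = 2 * m) (Q : QuadraticForm A V)
    (hQ : Function.Surjective (QuadraticMap.polarBilin Q)) :
    IsAzumaya A (CliffordAlgebra Q) := by
  classical
  obtain ⟨S, i1, i2, het, hff, k₁, k₀, ⟨I, j1, j2, π, Ψ, h1, h0, hodd⟩, hsum, hbal⟩ :=
    exists_cover_hasBCModel A m hV Q hQ
  have hcard : Fintype.card I = 2 ^ m := by
    rw [card_eq_add_of_parity π h1 h0, hsum]
  haveI : Nonempty I := by
    rw [← Fintype.card_pos_iff, hcard]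
    exact pow_pos (by norm_num) m
  haveI : IsAzumaya S (Matrix I I S) := IsAzumaya.matrix S I
  haveI : IsAzumaya S (S ⊗[A] CliffordAlgebra Q) := IsAzumaya.of_AlgEquiv S _ _ Ψ.symm
  exact Groth.Agent.Lib.Helper85.isAzumaya_of_baseChange_faithfullyFlat A S (CliffordAlgebra Q)

variable {R : Type u} [CommRing R] {M : Type v} [AddCommGroup M] [Module R M]
  (Q : QuadraticForm R M)

theorem mem_GPin'_of_conj (u : (CliffordAlgebra Q)ˣ) (g : M ≃ₗ[R] M)
    (h : ∀ v, (u : CliffordAlgebra Q) * ι Q v * ↑u⁻¹ = ι Q (g v)) : u ∈ QuadGrp.GPin' Q := by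
  rw [QuadGrp.mem_GPin']
  apply le_antisymm
  · intro x hx
    obtain ⟨y, hy, rfl⟩ := (Submodule.mem_smul_pointwise_iff_exists _ _ _).mp hx
    obtain ⟨v, rfl⟩ := hy
    refine ⟨g v, ?_⟩
    rw [ConjAct.units_smul_def, ConjAct.ofConjAct_toConjAct, h]
  · rintro _ ⟨w, rfl⟩
    rw [Submodule.mem_smul_pointwise_iff_exists]
    refine ⟨ι Q (g.symm w), ⟨_, rfl⟩, ?_⟩
    rw [ConjAct.units_smul_def, ConjAct.ofConjAct_toConjAct, h, LinearEquiv.apply_symm_apply]

/-- Over a local ring every isometry of a regular form of even rank is conjugation by a unit of the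
Clifford algebra. -/
theorem exists_conj_unit_of_mem_O [IsLocalRing R] [Module.Free R M] [Module.Finite R M] (m : ℕ)
    (hM : Module.finrank R M = 2 * m) (hQ : Function.Surjective (QuadraticMap.polarBilin Q))
    (g : M ≃ₗ[R] M) (hg : g ∈ QuadGrp.O Q) :
    ∃ u : (CliffordAlgebra Q)ˣ, (∀ x : CliffordAlgebra Q,
        CliffordAlgebra.map (QuadGrp.isometryOfMem Q g hg) x = (u : CliffordAlgebra Q) * x * ↑u⁻¹) ∧
      ∀ v : M, (u : CliffordAlgebra Q) * ι Q v * ↑u⁻¹ = ι Q (g v) := by
  haveI := isAzumaya_clifford R M m hM Q hQ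
  obtain ⟨a, ha⟩ := Groth.Agent.Lib.Helper85.exists_unit_conj_of_algHom R (CliffordAlgebra Q)
    (CliffordAlgebra.map (QuadGrp.isometryOfMem Q g hg))
  refine ⟨a, ha, fun v => ?_⟩
  rw [← ha, CliffordAlgebra.map_apply_ι]
  rfl

end Helper25.Cliff
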