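import Groth.Agent.Lib.Helper25.CliffSplit

/-!
# A matrix model of the base change of the Clifford algebra of a regular form of even rank
-/

set_option autoImplicit false
set_option linter.unusedSectionVars false
set_option linter.unusedVariables false
set_option linter.unusedSimpArgs false
set_option linter.style.haveILetI false
set_option linter.unreachableTactic false
set_option linter.unusedTactic false

namespace Helper25.Cliff

open CliffordAlgebra Helper25.QuadMat
open scoped TensorProduct

universe u v

section BC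

variable {A : Type*} [CommRing A] {S : Type*} [CommRing S] [Algebra A S]
  {V : Type*} [AddCommGroup V] [Module A V]

/-- A matrix model of `S ⊗ C(Q)` in which `1 ⊗ v` is parity-odd. -/
def HasBCModel (Q : QuadraticForm A V) (S : Type*) [CommRing S] [Algebra A S] (k₁ k₀ : ℕ) : Prop :=
  ∃ (I : Type) (_ : Fintype I) (_ : DecidableEq I) (π : I → Bool)
    (Ψ : (S ⊗[A] CliffordAlgebra Q) ≃ₐ[S] Matrix I I S),
    Fintype.card {i // π i = true} = k₁ ∧ Fintype.card {i // π i = false} = k₀ ∧
    ∀ v i j, π i = π j → Ψ ((1 : S) ⊗ₜ[A] ι Q v) i j = 0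

variable {n : Type*} [Fintype n] [DecidableEq n]

theorem hasBCModel_of_hasSplitModel [Module.Free A V] [Module.Finite A V] (Q : QuadraticForm A V)
    (b : Module.Basis n A V)
    (QS : QuadraticForm S (n → S))
    (hQS : ∀ v, QS (fun i => algebraMap A S (b.equivFun v i)) = algebraMap A S (Q v))
    {k₁ k₀ : ℕ} (h : HasSplitModel QS k₁ k₀) : HasBCModel Q S k₁ k₀ := by
  classical
  obtain ⟨I, i1, i2, π, Φ, h1, h0, hodd⟩ := h
  -- the linear map on `V`
  let c : V →ₗ[A] (n → S) := ((Algebra.linearMap A S).compLeft n) ∘ₗ b.equivFun.toLinearMap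
  have hc : ∀ v i, c v i = algebraMap A S (b.equivFun v i) := fun v i => rfl
  let f : V →ₗ[A] Matrix I I S :=
    (Φ.toLinearMap.restrictScalars A) ∘ₗ ((ι QS).restrictScalars A) ∘ₗ c
  have hfapp : ∀ v, f v = Φ (ι QS (c v)) := fun v => rfl
  have hf : ∀ v, f v * f v = algebraMap A (Matrix I I S) (Q v) := fun v => by
    rw [hfapp, ← map_mul, ι_sq_scalar, AlgEquiv.commutes]
    have : c v = fun i => algebraMap A S (b.equivFun v i) := funext (hc v)
    rw [this, hQS, ← IsScalarTower.algebraMap_apply]
  let Ψ₀ : CliffordAlgebra Q →ₐ[A] Matrix I I S := CliffordAlgebra.lift Q ⟨f, hf⟩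
  have hΨ₀ι : ∀ v, Ψ₀ (ι Q v) = f v := fun v => CliffordAlgebra.lift_ι_apply _ _ _
  let Ψ : (S ⊗[A] CliffordAlgebra Q) →ₐ[S] Matrix I I S :=
    Algebra.TensorProduct.lift (Algebra.ofId S (Matrix I I S)) Ψ₀
      (fun s x => Algebra.commutes s (Ψ₀ x))
  have hΨtmul : ∀ (s : S) (x : CliffordAlgebra Q),
      Ψ (s ⊗ₜ[A] x) = algebraMap S (Matrix I I S) s * Ψ₀ x := fun s x =>
    Algebra.TensorProduct.lift_tmul _ _ _ s x
  have hΨ : ∀ v, Ψ ((1 : S) ⊗ₜ[A] ι Q v) = Φ (ι QS (c v)) := fun v => by
    rw [hΨtmul, map_one, one_mul, hΨ₀ι, hfapp]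
  -- surjectivity
  have hcb : ∀ i, c (b i) = Pi.single i 1 := fun i => by
    ext j
    rw [hc, Module.Basis.equivFun_self]
    by_cases hij : i = j
    · subst hij; simp
    · simp [hij]
  have hsurj : Function.Surjective Ψ := by
    rw [← AlgHom.range_eq_top, eq_top_iff]
    have hle : (⊤ : Subalgebra S (CliffordAlgebra QS)) ≤ Ψ.range.comap Φ.toAlgHom := by
      rw [← CliffordAlgebra.adjoin_range_ι]
      refine Algebra.adjoin_le ?_
      rintro _ ⟨y, rfl⟩
      show Φ (ι QS y) ∈ Ψ.range
      have hy : y = ∑ i, y i • (Pi.single i 1 : n → S) := by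
        ext j
        simp [Finset.sum_apply, Pi.single_apply]
      rw [hy, map_sum, map_sum]
      refine Subalgebra.sum_mem _ fun i _ => ?_
      rw [map_smul, map_smul, ← hcb i, ← hΨ]
      exact Subalgebra.smul_mem _ (AlgHom.mem_range_self _ _) _
    intro X _
    have := hle (Algebra.mem_top (x := Φ.symm X))
    simpa using this
  have hbij : Function.Bijective Ψ := by
    rcases subsingleton_or_nontrivial S with hS | hS
    · haveI : Subsingleton (S ⊗[A] CliffordAlgebra Q) := Module.subsingleton S _
      exact ⟨fun x y _ => Subsingleton.elim x y, hsurj⟩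
    · haveI : Nontrivial A := (algebraMap A S).domain_nontrivial
      refine bijective_of_surjective_of_finrank_eq Ψ.toLinearMap hsurj ?_
      have e1 : Module.finrank S (CliffordAlgebra QS) = Module.finrank S (Matrix I I S) :=
        Φ.toLinearEquiv.finrank_eq
      rw [finrank_eq, Module.finrank_fintype_fun_eq_card, Module.finrank_matrix,
        Module.finrank_self, mul_one] at e1
      rw [Module.finrank_baseChange, finrank_eq, Module.finrank_eq_card_basis b,
        Module.finrank_matrix, Module.finrank_self, mul_one, e1]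
  exact ⟨I, i1, i2, π, AlgEquiv.ofBijective Ψ hbij, h1, h0, fun v i j hij => by
    rw [AlgEquiv.coe_ofBijective, hΨ]; exact hodd _ i j hij⟩


/-- A (non-symmetric) Gram matrix of a quadratic form in a basis. -/
theorem exists_matrix_of_basis [Module.Free A V] (Q : QuadraticForm A V) (b : Module.Basis n A V) :
    ∃ N : Matrix n n A, ∀ v, qfForm N (b.equivFun v) = Q v := by
  let Q' : QuadraticForm A (n → A) := Q.comp b.equivFun.symm.toLinearMap
  refine ⟨LinearMap.toMatrix₂' A (bilift Q'), fun v => ?_⟩
  have h1 : qfForm (LinearMap.toMatrix₂' A (bilift Q')) = Q' := by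
    unfold qfForm
    rw [Matrix.toLinearMap₂'_toMatrix']
    exact bilift_spec Q'
  rw [h1]
  simp [Q']

theorem polar_qfForm_single (N : Matrix n n A) (x : n → A) (j : n) :
    QuadraticMap.polar (qfForm N) x (Pi.single j 1) = ∑ k, x k * (N + N.transpose) k j := by
  unfold qfForm
  rw [LinearMap.BilinMap.polar_toQuadraticMap, Matrix.toLinearMap₂'_apply',
    Matrix.toLinearMap₂'_apply', Matrix.mulVec_single_one, single_one_dotProduct]
  simp only [dotProduct, Matrix.mulVec, Matrix.col_apply, Matrix.add_apply,
    Matrix.transpose_apply, mul_add, Finset.sum_add_distrib]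
  congr 1
  exact Finset.sum_congr rfl fun k _ => mul_comm _ _

theorem isUnit_det_of_regular [Module.Free A V] (Q : QuadraticForm A V) (b : Module.Basis n A V)
    (N : Matrix n n A) (hN : ∀ v, qfForm N (b.equivFun v) = Q v)
    (hQ : Function.Surjective (QuadraticMap.polarBilin Q)) :
    IsUnit (N + N.transpose).det := by
  have hpolar : ∀ u v, QuadraticMap.polar Q u v
      = QuadraticMap.polar (qfForm N) (b.equivFun u) (b.equivFun v) := fun u v => by
    simp only [QuadraticMap.polar, ← hN, map_add]
  choose x hx using fun i => hQ (b.coord i)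
  let X : Matrix n n A := Matrix.of fun i k => b.equivFun (x i) k
  have hX : X * (N + N.transpose) = 1 := by
    ext i j
    rw [Matrix.mul_apply]
    have h1 := congrArg (fun φ => φ (b j)) (hx i)
    simp only [QuadraticMap.polarBilin_apply_apply, Module.Basis.coord_apply,
      Module.Basis.repr_self] at h1
    rw [hpolar] at h1
    have hbj : b.equivFun (b j) = Pi.single j 1 := by
      ext k
      rw [Module.Basis.equivFun_self]
      by_cases hjk : j = k
      · subst hjk; simp
      · simp [hjk]
    rw [hbj, polar_qfForm_single] at h1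
    rw [Matrix.one_apply]
    simp only [X, Matrix.of_apply]
    rw [h1, Finsupp.single_apply]
    by_cases hij : i = j
    · subst hij; simp
    · simp [hij, Ne.symm hij]
  exact Matrix.isUnit_det_of_left_inverse hX

end BC


section Cover

theorem qf_map {A S : Type*} [CommRing A] [CommRing S] (φ : A →+* S) {n : Type*} [Fintype n]
    (N : Matrix n n A) (x : n → A) : qf (N.map φ) (fun i => φ (x i)) = φ (qf N x) := by
  simp only [qf, Matrix.map_apply, map_sum, map_mul]

/-- Congruence by an invertible matrix is an isometry. -/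
noncomputable def isometryEquivConj {S : Type*} [CommRing S] {n : Type*} [Fintype n]
    [DecidableEq n] (N g : Matrix n n S) (hg : IsUnit g.det) :
    (qfForm (g.transpose * N * g)).IsometryEquiv (qfForm N) :=
  { Matrix.toLinearEquiv' g (Matrix.invertibleOfIsUnitDet g hg) with
    map_app' := fun x => by
      rw [qfForm_apply, qfForm_apply, qf_conj]
      rfl }

theorem QEq.of_pi {T : Type*} [Fintype T] {B : T → Type*} [∀ t, CommRing (B t)] {n : Type*}
    [Fintype n] {M M' : Matrix n n (∀ t, B t)}
    (h : ∀ t, QEq (M.map (Pi.evalRingHom B t)) (M'.map (Pi.evalRingHom B t))) : QEq M M' := by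
  refine ⟨fun i => funext fun t => ?_, fun i j => funext fun t => ?_⟩
  · simpa using (h t).diag i
  · simpa using (h t).polar i j

theorem nontrivial_of_finrank_eq_two_mul {A : Type*} [CommRing A] {V : Type*} [AddCommGroup V]
    [Module A V] (m : ℕ) (hV : Module.finrank A V = 2 * m) : Nontrivial A := by
  by_contra hnon
  rw [not_nontrivial_iff_subsingleton] at hnon
  have : Module.finrank A V = 1 := by
    rw [Module.finrank, rank_subsingleton]
    simp
  omega


/-- **Étale-local matrix model** of the Clifford algebra of a regular quadratic form of even rank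
on a free module. -/
theorem exists_cover_hasBCModel (A : Type u) [CommRing A] {V : Type v} [AddCommGroup V]
    [Module A V] [Module.Free A V] [Module.Finite A V] (m : ℕ)
    (hV : Module.finrank A V = 2 * m) (Q : QuadraticForm A V)
    (hQ : Function.Surjective (QuadraticMap.polarBilin Q)) :
    ∃ (S : Type u) (_ : CommRing S) (_ : Algebra A S), Algebra.Etale A S ∧
      Module.FaithfullyFlat A S ∧
      ∃ k₁ k₀, HasBCModel Q S k₁ k₀ ∧ k₁ + k₀ = 2 ^ m ∧
        (1 ≤ m → k₁ = 2 ^ (m - 1) ∧ k₀ = 2 ^ (m - 1)) := by
  classical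
  haveI : Nontrivial A := nontrivial_of_finrank_eq_two_mul m hV
  let b : Module.Basis (Fin m ⊕ Fin m) A V :=
    (Module.finBasisOfFinrankEq A V hV).reindex
      ((finCongr (two_mul m)).trans finSumFinEquiv.symm)
  obtain ⟨N, hN⟩ := exists_matrix_of_basis Q b
  have hdet := isUnit_det_of_regular Q b N hN hQ
  obtain ⟨k, B, i1, i2, het, hcov, hsplit⟩ := exists_etale_cover_split A m N hdet
  choose g hg hgQ using hsplit
  let S : Type u := ∀ t, B t
  haveI hflat : Module.Flat A S :=
    Module.Flat.of_linearEquiv (DFinsupp.linearEquivFunOnFintype (R := A) (M := B)).symm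
  have hff : Module.FaithfullyFlat A S := by
    refine Module.FaithfullyFlat.of_comap_surjective fun p => ?_
    obtain ⟨t, q, hq⟩ := hcov p
    refine ⟨⟨q.asIdeal.comap (Pi.evalRingHom B t), Ideal.comap_isPrime _ _⟩, ?_⟩
    ext1
    change (q.asIdeal.comap (Pi.evalRingHom B t)).comap (algebraMap A S) = p.asIdeal
    rw [Ideal.comap_comap]
    exact hq
  refine ⟨S, inferInstance, inferInstance, inferInstance, hff, ?_⟩
  -- the matrix over the product
  let G : Matrix (Fin m ⊕ Fin m) (Fin m ⊕ Fin m) S := Matrix.of fun i j t => g t i j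
  have hGmap : ∀ t, G.map (Pi.evalRingHom B t) = g t := fun t => rfl
  have hGdet : IsUnit G.det := by
    rw [Pi.isUnit_iff]
    intro t
    have : G.det t = (g t).det := by
      have := RingHom.map_det (Pi.evalRingHom B t) G
      rw [RingHom.mapMatrix_apply, hGmap] at this
      exact this
    rw [this]; exact hg t
  have hGQ : QEq (G.transpose * N.map (algebraMap A S) * G) (J m S) := by
    refine QEq.of_pi fun t => ?_
    have h1 : (G.transpose * N.map (algebraMap A S) * G).map (Pi.evalRingHom B t)
        = (g t).transpose * N.map (algebraMap A (B t)) * g t := by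
      rw [Matrix.map_mul, Matrix.map_mul, Matrix.transpose_map, hGmap, Matrix.map_map]
      rfl
    have h2 : (J m S).map (Pi.evalRingHom B t) = J m (B t) := by
      unfold J
      rw [Matrix.fromBlocks_map]
      congr 1 <;> ext i j <;> simp [Matrix.one_apply]
    rw [h1, h2]
    exact hgQ t
  obtain ⟨k₁, k₀, hJ, hsum, hbal⟩ := hasSplitModel_J (R := S) m
  refine ⟨k₁, k₀, ?_, hsum, hbal⟩
  rw [← qfForm_eq_of_QEq hGQ] at hJ
  have hS := hJ.of_isometryEquiv (isometryEquivConj (N.map (algebraMap A S)) G hGdet)
  refine hasBCModel_of_hasSplitModel Q b (qfForm (N.map (algebraMap A S))) (fun v => ?_) hS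
  rw [qfForm_apply, qf_map, ← qfForm_apply, hN]

end Cover

end Helper25.Cliff
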