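import Groth.Agent.Lib.Helper25.CliffOddCenter
import Groth.Agent.Lib.Helper41.HalfDiscField

/-!
# The Clifford algebra of `baseChangeForm A Q` is the base change of the Clifford algebra of `Q`;
the canonical comparison maps `C(Q_A) → C(Q_A')` over an algebra map `A → A'`
-/

set_option autoImplicit false
set_option linter.unusedSectionVars false
set_option linter.unusedVariables false
set_option linter.unusedSimpArgs false
set_option linter.style.haveILetI false
set_option linter.unreachableTactic false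
set_option linter.unusedTactic false

universe u

namespace Helper25.CliffBCF

open CliffordAlgebra QuadGrp Helper25.Cliff
open scoped TensorProduct
open Groth.Agent.Lib.Helper41.HalfDisc (baseChangeForm_one_tmul)

variable {R : Type u} [CommRing R] {M : Type u} [AddCommGroup M] [Module R M]
  [Module.Free R M] [Module.Finite R M] (Q : QuadraticForm R M)

section Psi

variable (A : Type u) [CommRing A] [Algebra R A]

theorem exists_Psi :
    ∃ Ψ : (A ⊗[R] CliffordAlgebra Q) ≃ₐ[A] CliffordAlgebra (baseChangeForm A Q),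
      ∀ m, Ψ ((1 : A) ⊗ₜ[R] ι Q m) = ι (baseChangeForm A Q) ((1 : A) ⊗ₜ[R] m) := by
  classical
  set QA := baseChangeForm A Q with hQA
  let c : M →ₗ[R] A ⊗[R] M := TensorProduct.mk R A M 1
  let f : M →ₗ[R] CliffordAlgebra QA := ((ι QA).restrictScalars R) ∘ₗ c
  have hfapp : ∀ v, f v = ι QA ((1 : A) ⊗ₜ[R] v) := fun v => rfl
  have hf : ∀ v, f v * f v = algebraMap R (CliffordAlgebra QA) (Q v) := fun v => by
    rw [hfapp, ι_sq_scalar, hQA, baseChangeForm_one_tmul, ← IsScalarTower.algebraMap_apply]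
  let Ψ₀ : CliffordAlgebra Q →ₐ[R] CliffordAlgebra QA := CliffordAlgebra.lift Q ⟨f, hf⟩
  have hΨ₀ι : ∀ v, Ψ₀ (ι Q v) = f v := fun v => CliffordAlgebra.lift_ι_apply _ _ _
  let Ψ : (A ⊗[R] CliffordAlgebra Q) →ₐ[A] CliffordAlgebra QA :=
    Algebra.TensorProduct.lift (Algebra.ofId A (CliffordAlgebra QA)) Ψ₀
      (fun s x => Algebra.commutes s (Ψ₀ x))
  have hΨtmul : ∀ (s : A) (x : CliffordAlgebra Q),
      Ψ (s ⊗ₜ[R] x) = algebraMap A (CliffordAlgebra QA) s * Ψ₀ x := fun s x =>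
    Algebra.TensorProduct.lift_tmul _ _ _ s x
  have hΨ : ∀ v, Ψ ((1 : A) ⊗ₜ[R] ι Q v) = ι QA ((1 : A) ⊗ₜ[R] v) := fun v => by
    rw [hΨtmul, map_one, one_mul, hΨ₀ι, hfapp]
  have hsurj : Function.Surjective Ψ := by
    rw [← AlgHom.range_eq_top, eq_top_iff, ← CliffordAlgebra.adjoin_range_ι]
    refine Algebra.adjoin_le ?_
    rintro _ ⟨y, rfl⟩
    induction y using TensorProduct.induction_on with
    | zero => rw [map_zero]; exact Subalgebra.zero_mem _
    | tmul a m =>
      have : a ⊗ₜ[R] m = a • ((1 : A) ⊗ₜ[R] m) := by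
        rw [TensorProduct.smul_tmul', smul_eq_mul, mul_one]
      rw [this, map_smul, ← hΨ]
      exact Subalgebra.smul_mem _ (AlgHom.mem_range_self _ _) _
    | add x y hx hy => rw [map_add]; exact Subalgebra.add_mem _ hx hy
  have hbij : Function.Bijective Ψ := by
    rcases subsingleton_or_nontrivial A with hS | hS
    · haveI : Subsingleton (A ⊗[R] CliffordAlgebra Q) := Module.subsingleton A _
      exact ⟨fun x y _ => Subsingleton.elim x y, hsurj⟩
    · haveI : Nontrivial R := (algebraMap R A).domain_nontrivial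
      refine bijective_of_surjective_of_finrank_eq Ψ.toLinearMap hsurj ?_
      rw [Module.finrank_baseChange, finrank_eq, finrank_eq, Module.finrank_baseChange]
  exact ⟨AlgEquiv.ofBijective Ψ hbij, fun v => by rw [AlgEquiv.coe_ofBijective, hΨ]⟩

/-- The base change isomorphism. -/
noncomputable def Psi : (A ⊗[R] CliffordAlgebra Q) ≃ₐ[A] CliffordAlgebra (baseChangeForm A Q) :=
  Classical.choose (exists_Psi Q A)

theorem Psi_ι (m : M) :
    Psi Q A ((1 : A) ⊗ₜ[R] ι Q m) = ι (baseChangeForm A Q) ((1 : A) ⊗ₜ[R] m) :=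
  Classical.choose_spec (exists_Psi Q A) m

theorem Psi_tmul_ι (a : A) (m : M) :
    Psi Q A (a ⊗ₜ[R] ι Q m) = ι (baseChangeForm A Q) (a ⊗ₜ[R] m) := by
  have h1 : a ⊗ₜ[R] ι Q m = a • ((1 : A) ⊗ₜ[R] ι Q m) := by
    rw [TensorProduct.smul_tmul', smul_eq_mul, mul_one]
  have h2 : a ⊗ₜ[R] m = a • ((1 : A) ⊗ₜ[R] m) := by
    rw [TensorProduct.smul_tmul', smul_eq_mul, mul_one]
  rw [h1, map_smul, Psi_ι, h2, map_smul]

theorem Psi_tmul_one (a : A) :
    Psi Q A (a ⊗ₜ[R] (1 : CliffordAlgebra Q)) = algebraMap A _ a := by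
  have : a ⊗ₜ[R] (1 : CliffordAlgebra Q) = algebraMap A (A ⊗[R] CliffordAlgebra Q) a := by
    rw [Algebra.TensorProduct.algebraMap_apply]; rfl
  rw [this, AlgEquiv.commutes]

end Psi

section Fcan

variable {A A' : Type u} [CommRing A] [Algebra R A] [CommRing A'] [Algebra R A']

/-- The canonical ring map `C(Q_A) → C(Q_A')` over an algebra map `φ : A → A'`. -/
noncomputable def Fcan (φ : A →ₐ[R] A') :
    CliffordAlgebra (baseChangeForm A Q) →+* CliffordAlgebra (baseChangeForm A' Q) :=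
  ((Psi Q A').toAlgHom.toRingHom.comp
    (Algebra.TensorProduct.map φ (AlgHom.id R (CliffordAlgebra Q))).toRingHom).comp
    (Psi Q A).symm.toAlgHom.toRingHom

theorem Fcan_Psi (φ : A →ₐ[R] A') (t : A ⊗[R] CliffordAlgebra Q) :
    Fcan Q φ (Psi Q A t) =
      Psi Q A' (Algebra.TensorProduct.map φ (AlgHom.id R (CliffordAlgebra Q)) t) := by
  simp [Fcan]

theorem Fcan_algebraMap (φ : A →ₐ[R] A') (a : A) :
    Fcan Q φ (algebraMap A _ a) = algebraMap A' _ (φ a) := by
  rw [← Psi_tmul_one, Fcan_Psi, Algebra.TensorProduct.map_tmul, map_one, Psi_tmul_one]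

theorem Fcan_ι (φ : A →ₐ[R] A') (v : A ⊗[R] M) :
    Fcan Q φ (ι _ v) = ι _ (LinearMap.rTensor M φ.toLinearMap v) := by
  induction v using TensorProduct.induction_on with
  | zero => simp
  | tmul a m =>
    rw [← Psi_tmul_ι, Fcan_Psi, Algebra.TensorProduct.map_tmul, LinearMap.rTensor_tmul]
    exact Psi_tmul_ι Q A' (φ a) m
  | add x y hx hy => rw [map_add, map_add, hx, hy, map_add, map_add]

theorem Fcan_smul (φ : A →ₐ[R] A') (a : A) (x : CliffordAlgebra (baseChangeForm A Q)) :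
    Fcan Q φ (a • x) = φ a • Fcan Q φ x := by
  rw [Algebra.smul_def, map_mul, Fcan_algebraMap, Algebra.smul_def]

theorem Fcan_surjective (φ : A →ₐ[R] A') (hφ : Function.Surjective φ) :
    Function.Surjective (Fcan Q φ) := by
  intro y
  obtain ⟨t, ht⟩ := Algebra.TensorProduct.map_surjective (f := φ)
    (g := AlgHom.id R (CliffordAlgebra Q)) hφ Function.surjective_id ((Psi Q A').symm y)
  refine ⟨Psi Q A t, ?_⟩
  rw [Fcan_Psi, ht, AlgEquiv.apply_symm_apply]

/-- Any ring map over `φ` compatible with `ι` is the canonical one. -/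
theorem eq_Fcan (φ : A →ₐ[R] A')
    (F : CliffordAlgebra (baseChangeForm A Q) →+* CliffordAlgebra (baseChangeForm A' Q))
    (hι : ∀ v : A ⊗[R] M, F (ι _ v) = ι _ (LinearMap.rTensor M φ.toLinearMap v))
    (halg : ∀ a : A, F (algebraMap A _ a) = algebraMap A' _ (φ a)) : F = Fcan Q φ := by
  ext x
  induction x using CliffordAlgebra.induction with
  | algebraMap a => rw [halg, Fcan_algebraMap]
  | ι v => rw [hι, Fcan_ι]
  | mul x y hx hy => rw [map_mul, map_mul, hx, hy]
  | add x y hx hy => rw [map_add, map_add, hx, hy]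

theorem Fcan_mem_even (φ : A →ₐ[R] A')
    (x : CliffordAlgebra (baseChangeForm A Q)) (hx : x ∈ evenOdd (baseChangeForm A Q) 0) :
    Fcan Q φ x ∈ evenOdd (baseChangeForm A' Q) 0 := by
  induction x, hx using CliffordAlgebra.even_induction with
  | algebraMap r => rw [Fcan_algebraMap]; exact SetLike.algebraMap_mem_graded _ _
  | add x y hx hy ihx ihy => rw [map_add]; exact Submodule.add_mem _ ihx ihy
  | ι_mul_ι_mul m₁ m₂ x hx ih =>
    rw [map_mul, map_mul, Fcan_ι, Fcan_ι]
    have := SetLike.mul_mem_graded (ι_mul_ι_mem_evenOdd_zero (baseChangeForm A' Q)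
      (LinearMap.rTensor M φ.toLinearMap m₁) (LinearMap.rTensor M φ.toLinearMap m₂)) ih
    rwa [zero_add] at this

theorem Fcan_mem_odd (φ : A →ₐ[R] A')
    (x : CliffordAlgebra (baseChangeForm A Q)) (hx : x ∈ evenOdd (baseChangeForm A Q) 1) :
    Fcan Q φ x ∈ evenOdd (baseChangeForm A' Q) 1 := by
  induction x, hx using CliffordAlgebra.odd_induction with
  | ι v => rw [Fcan_ι]; exact ι_mem_evenOdd_one _ _
  | add x y hx hy ihx ihy => rw [map_add]; exact Submodule.add_mem _ ihx ihy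
  | ι_mul_ι_mul m₁ m₂ x hx ih =>
    rw [map_mul, map_mul, Fcan_ι, Fcan_ι]
    have := SetLike.mul_mem_graded (ι_mul_ι_mem_evenOdd_zero (baseChangeForm A' Q)
      (LinearMap.rTensor M φ.toLinearMap m₁) (LinearMap.rTensor M φ.toLinearMap m₂)) ih
    rwa [zero_add] at this

theorem Fcan_mem_evenOdd (φ : A →ₐ[R] A') (i : ZMod 2)
    (x : CliffordAlgebra (baseChangeForm A Q)) (hx : x ∈ evenOdd (baseChangeForm A Q) i) :
    Fcan Q φ x ∈ evenOdd (baseChangeForm A' Q) i := by
  fin_cases i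
  · exact Fcan_mem_even Q φ x hx
  · exact Fcan_mem_odd Q φ x hx

end Fcan

section Proj

variable {R' : Type*} [CommRing R'] {M' : Type*} [AddCommGroup M'] [Module R' M']
  (Q' : QuadraticForm R' M')

/-- The even component, as an endomorphism. -/
noncomputable def pE : CliffordAlgebra Q' →ₗ[R'] CliffordAlgebra Q' :=
  (evenOdd Q' 0).subtype ∘ₗ projEven Q'

/-- The odd component, as an endomorphism. -/
noncomputable def pO : CliffordAlgebra Q' →ₗ[R'] CliffordAlgebra Q' :=
  (evenOdd Q' 1).subtype ∘ₗ projOdd Q'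

theorem pE_mem (x : CliffordAlgebra Q') : pE Q' x ∈ evenOdd Q' 0 := (projEven Q' x).2

theorem pO_mem (x : CliffordAlgebra Q') : pO Q' x ∈ evenOdd Q' 1 := (projOdd Q' x).2

theorem pE_apply (x : CliffordAlgebra Q') :
    pE Q' x = ((projEven Q' x : ↥(even Q')) : CliffordAlgebra Q') := rfl

theorem pO_apply (x : CliffordAlgebra Q') :
    pO Q' x = ((projOdd Q' x : ↥(evenOdd Q' 1)) : CliffordAlgebra Q') := rfl

theorem pE_of_even {x : CliffordAlgebra Q'} (hx : x ∈ evenOdd Q' 0) : pE Q' x = x := by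
  rw [pE_apply, projEven_of_even Q' hx]

theorem pE_of_odd {x : CliffordAlgebra Q'} (hx : x ∈ evenOdd Q' 1) : pE Q' x = 0 := by
  rw [pE_apply, projEven_of_odd Q' hx]; rfl

theorem pO_of_odd {x : CliffordAlgebra Q'} (hx : x ∈ evenOdd Q' 1) : pO Q' x = x := by
  rw [pO_apply, projOdd_of_odd Q' hx]

theorem pO_of_even {x : CliffordAlgebra Q'} (hx : x ∈ evenOdd Q' 0) : pO Q' x = 0 := by
  rw [pO_apply, projOdd_of_even Q' hx]; rfl

theorem pE_add_pO (x : CliffordAlgebra Q') : pE Q' x + pO Q' x = x := by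
  obtain ⟨x₀, x₁, h₀, h₁, hsum⟩ :=
    Submodule.codisjoint_iff_exists_add_eq.mp (evenOdd_isCompl Q').codisjoint x
  rw [← hsum, map_add, map_add, pE_of_even Q' h₀, pE_of_odd Q' h₁, pO_of_even Q' h₀,
    pO_of_odd Q' h₁, add_zero, zero_add]

theorem mem_even_iff_pO (x : CliffordAlgebra Q') : x ∈ evenOdd Q' 0 ↔ pO Q' x = 0 := by
  refine ⟨fun h => pO_of_even Q' h, fun h => ?_⟩
  have := pE_add_pO Q' x
  rw [h, add_zero] at this
  rw [← this]; exact pE_mem Q' x

theorem mem_odd_iff_pE (x : CliffordAlgebra Q') : x ∈ evenOdd Q' 1 ↔ pE Q' x = 0 := by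
  refine ⟨fun h => pE_of_odd Q' h, fun h => ?_⟩
  have := pE_add_pO Q' x
  rw [h, zero_add] at this
  rw [← this]; exact pO_mem Q' x

end Proj

section Fcan2

variable {A A' : Type u} [CommRing A] [Algebra R A] [CommRing A'] [Algebra R A']

theorem Fcan_pE (φ : A →ₐ[R] A') (x : CliffordAlgebra (baseChangeForm A Q)) :
    Fcan Q φ (pE _ x) = pE _ (Fcan Q φ x) := by
  conv_rhs => rw [← pE_add_pO _ x, map_add, map_add]
  rw [pE_of_even _ (Fcan_mem_even Q φ _ (pE_mem _ x)),
    pE_of_odd _ (Fcan_mem_odd Q φ _ (pO_mem _ x)), add_zero]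

theorem Fcan_pO (φ : A →ₐ[R] A') (x : CliffordAlgebra (baseChangeForm A Q)) :
    Fcan Q φ (pO _ x) = pO _ (Fcan Q φ x) := by
  conv_rhs => rw [← pE_add_pO _ x, map_add, map_add]
  rw [pO_of_even _ (Fcan_mem_even Q φ _ (pE_mem _ x)),
    pO_of_odd _ (Fcan_mem_odd Q φ _ (pO_mem _ x)), zero_add]

theorem Fcan_star (φ : A →ₐ[R] A') (x : CliffordAlgebra (baseChangeForm A Q)) :
    Fcan Q φ (star x) = star (Fcan Q φ x) := by
  induction x using CliffordAlgebra.induction with
  | algebraMap a =>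
    rw [CliffordAlgebra.star_def, involute.commutes, reverse.commutes, Fcan_algebraMap,
      CliffordAlgebra.star_def, involute.commutes, reverse.commutes]
  | ι v =>
    rw [CliffordAlgebra.star_def, involute_ι, map_neg, reverse_ι, map_neg, Fcan_ι,
      CliffordAlgebra.star_def, involute_ι, map_neg, reverse_ι]
  | mul x y hx hy => rw [star_mul, map_mul, map_mul, hx, hy, star_mul]
  | add x y hx hy => rw [star_add, map_add, map_add, hx, hy, star_add]

theorem exists_even_lift (φ : A →ₐ[R] A') (hφ : Function.Surjective φ)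
    (y : CliffordAlgebra (baseChangeForm A' Q)) (hy : y ∈ evenOdd _ 0) :
    ∃ x ∈ evenOdd (baseChangeForm A Q) 0, Fcan Q φ x = y := by
  obtain ⟨x, rfl⟩ := Fcan_surjective Q φ hφ y
  exact ⟨pE _ x, pE_mem _ x, by rw [Fcan_pE, pE_of_even _ hy]⟩

theorem exists_odd_lift (φ : A →ₐ[R] A') (hφ : Function.Surjective φ)
    (y : CliffordAlgebra (baseChangeForm A' Q)) (hy : y ∈ evenOdd _ 1) :
    ∃ x ∈ evenOdd (baseChangeForm A Q) 1, Fcan Q φ x = y := by
  obtain ⟨x, rfl⟩ := Fcan_surjective Q φ hφ y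
  exact ⟨pO _ x, pO_mem _ x, by rw [Fcan_pO, pO_of_odd _ hy]⟩

end Fcan2

section Basis

variable (A : Type u) [CommRing A] [Algebra R A]

/-- Index type of a chosen basis of `C(Q)`. -/
abbrev κ : Type u := Module.Free.ChooseBasisIndex R (CliffordAlgebra Q)

/-- A chosen basis of `C(Q)`. -/
noncomputable def β : Module.Basis (κ Q) R (CliffordAlgebra Q) := Module.Free.chooseBasis R _

/-- The induced basis of `C(Q_A)`. -/
noncomputable def βA : Module.Basis (κ Q) A (CliffordAlgebra (baseChangeForm A Q)) :=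
  ((β Q).baseChange A).map (Psi Q A).toLinearEquiv

theorem βA_apply (k : κ Q) : βA Q A k = Psi Q A ((1 : A) ⊗ₜ[R] β Q k) := by
  simp [βA]

variable {A} {A' : Type u} [CommRing A'] [Algebra R A']

theorem Fcan_βA (φ : A →ₐ[R] A') (k : κ Q) : Fcan Q φ (βA Q A k) = βA Q A' k := by
  rw [βA_apply, Fcan_Psi, Algebra.TensorProduct.map_tmul, map_one, βA_apply]
  rfl

theorem Fcan_sum_smul (φ : A →ₐ[R] A') (a : κ Q → A) :
    Fcan Q φ (∑ k, a k • βA Q A k) = ∑ k, φ (a k) • βA Q A' k := by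
  rw [map_sum]
  refine Finset.sum_congr rfl fun k _ => ?_
  rw [Fcan_smul, Fcan_βA]

theorem repr_Fcan (φ : A →ₐ[R] A') (x : CliffordAlgebra (baseChangeForm A Q)) (k : κ Q) :
    (βA Q A').repr (Fcan Q φ x) k = φ ((βA Q A).repr x k) := by
  conv_lhs => rw [← (βA Q A).sum_repr x, Fcan_sum_smul]
  rw [Module.Basis.repr_sum_self]

theorem Fcan_eq_zero_iff (φ : A →ₐ[R] A') (x : CliffordAlgebra (baseChangeForm A Q)) :
    Fcan Q φ x = 0 ↔ ∀ k, φ ((βA Q A).repr x k) = 0 := by
  constructor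
  · intro h k
    rw [← repr_Fcan, h, map_zero, Finsupp.zero_apply]
  · intro h
    apply (βA Q A').repr.injective
    ext k
    rw [repr_Fcan, h k, map_zero, Finsupp.zero_apply]

/-- The kernel of the canonical map has square zero when the kernel of `φ` does. -/
theorem mul_eq_zero_of_Fcan_eq_zero (φ : A →ₐ[R] A')
    (hφ : ∀ a b : A, φ a = 0 → φ b = 0 → a * b = 0)
    (x y : CliffordAlgebra (baseChangeForm A Q)) (hx : Fcan Q φ x = 0) (hy : Fcan Q φ y = 0) :
    x * y = 0 := by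
  rw [Fcan_eq_zero_iff] at hx hy
  rw [← (βA Q A).sum_repr x, ← (βA Q A).sum_repr y, Finset.sum_mul]
  refine Finset.sum_eq_zero fun k _ => ?_
  rw [Finset.mul_sum]
  refine Finset.sum_eq_zero fun l _ => ?_
  rw [smul_mul_smul_comm, hφ _ _ (hx k) (hy l), zero_smul]

end Basis

end Helper25.CliffBCF
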