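import Groth.Agent.Lib.Helper25.CliffBC
import Groth.Agent.Lib.Helper25.CenterFlat

/-!
# Consequences of a parity matrix model of `S ⊗ C(Q)` for a faithfully flat `S`
-/

set_option autoImplicit false
set_option linter.unusedSectionVars false
set_option linter.unusedVariables false
set_option linter.unusedSimpArgs false
set_option linter.style.haveILetI false
set_option linter.unreachableTactic false
set_option linter.unusedTactic false

namespace Helper25.Cliff

open CliffordAlgebra
open scoped TensorProduct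

section Parity

variable {S : Type*} [CommRing S] {I : Type*} [Fintype I] [DecidableEq I] (π : I → Bool)

/-- `X` has parity `a`: its entries vanish off the positions with `π i xor π j = a`. -/
def HasPar (a : Bool) (X : Matrix I I S) : Prop := ∀ i j, (xor (π i) (π j)) ≠ a → X i j = 0

variable {π}

theorem HasPar.add {a : Bool} {X Y : Matrix I I S} (hX : HasPar π a X) (hY : HasPar π a Y) :
    HasPar π a (X + Y) := fun i j h => by
  rw [Matrix.add_apply, hX i j h, hY i j h, add_zero]

theorem HasPar.sub {a : Bool} {X Y : Matrix I I S} (hX : HasPar π a X) (hY : HasPar π a Y) :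
    HasPar π a (X - Y) := fun i j h => by
  rw [Matrix.sub_apply, hX i j h, hY i j h, sub_zero]

theorem HasPar.smul {a : Bool} {X : Matrix I I S} (hX : HasPar π a X) (s : S) :
    HasPar π a (s • X) := fun i j h => by
  rw [Matrix.smul_apply, hX i j h, smul_zero]

theorem HasPar.zero (a : Bool) : HasPar π a (0 : Matrix I I S) := fun _ _ _ => rfl

theorem HasPar.one : HasPar π false (1 : Matrix I I S) := fun i j h => by
  refine Matrix.one_apply_ne ?_
  rintro rfl
  simp at h

theorem HasPar.mul {a b : Bool} {X Y : Matrix I I S} (hX : HasPar π a X) (hY : HasPar π b Y) :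
    HasPar π (xor a b) (X * Y) := fun i j h => by
  rw [Matrix.mul_apply]
  refine Finset.sum_eq_zero fun k _ => ?_
  have key : ∀ p q r a b : Bool, xor p r ≠ xor a b → xor p q ≠ a ∨ xor q r ≠ b := by decide
  rcases key (π i) (π k) (π j) a b h with h1 | h1
  · rw [hX i k h1, zero_mul]
  · rw [hY k j h1, mul_zero]

theorem HasPar.eq_zero {X : Matrix I I S} (h0 : HasPar π false X) (h1 : HasPar π true X) :
    X = 0 := by
  ext i j
  by_cases h : xor (π i) (π j) = false
  · exact h1 i j (by simp [h])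
  · exact h0 i j h

theorem HasPar.algebraMap (s : S) : HasPar π false (algebraMap S (Matrix I I S) s) := by
  rw [Algebra.algebraMap_eq_smul_one]
  exact HasPar.one.smul s

/-- The parity idempotent. -/
def parIdem (π : I → Bool) : Matrix I I S := Matrix.diagonal fun i => if π i then 1 else 0

theorem hasPar_of_commute_parIdem {X : Matrix I I S} (h : X * parIdem π = parIdem π * X) :
    HasPar π false X := fun i j hij => by
  have := congrFun (congrFun h i) j
  simp only [parIdem, Matrix.mul_diagonal, Matrix.diagonal_mul] at this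
  cases hi : π i <;> cases hj : π j <;> simp_all

theorem parIdem_commute_of_hasPar {X : Matrix I I S} (h : HasPar π false X) :
    X * parIdem π = parIdem π * X := by
  ext i j
  simp only [parIdem, Matrix.mul_diagonal, Matrix.diagonal_mul]
  by_cases hij : xor (π i) (π j) = false
  · have : π i = π j := by
      cases hi : π i <;> cases hj : π j <;> simp_all
    rw [this]; ring
  · rw [h i j hij]; ring

end Parity

section Model

variable {A : Type*} [CommRing A] {S : Type*} [CommRing S] [Algebra A S]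
  {V : Type*} [AddCommGroup V] [Module A V] {Q : QuadraticForm A V}
  {I : Type*} [Fintype I] [DecidableEq I] {π : I → Bool}
  (Ψ : (S ⊗[A] CliffordAlgebra Q) ≃ₐ[S] Matrix I I S)
  (hodd : ∀ v i j, π i = π j → Ψ ((1 : S) ⊗ₜ[A] ι Q v) i j = 0)

include hodd

theorem hasPar_ι (v : V) : HasPar π true (Ψ ((1 : S) ⊗ₜ[A] ι Q v)) := fun i j h => by
  refine hodd v i j ?_
  cases hi : π i <;> cases hj : π j <;> simp_all

theorem hasPar_tmul_of_mem_even (s : S) (x : CliffordAlgebra Q) (hx : x ∈ evenOdd Q 0) :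
    HasPar π false (Ψ (s ⊗ₜ[A] x)) := by
  induction x, hx using even_induction with
  | algebraMap r =>
    have : s ⊗ₜ[A] (algebraMap A (CliffordAlgebra Q) r)
        = (algebraMap A S r * s) • (1 : S ⊗[A] CliffordAlgebra Q) := by
      rw [Algebra.algebraMap_eq_smul_one, TensorProduct.tmul_smul, Algebra.TensorProduct.one_def,
        TensorProduct.smul_tmul', TensorProduct.smul_tmul', smul_eq_mul, mul_one,
        Algebra.smul_def]
    rw [this, map_smul, map_one]
    exact HasPar.one.smul _
  | add x y hx hy ihx ihy =>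
    rw [TensorProduct.tmul_add, map_add]
    exact ihx.add ihy
  | ι_mul_ι_mul m₁ m₂ x hx ih =>
    have : s ⊗ₜ[A] (ι Q m₁ * ι Q m₂ * x)
        = ((1 : S) ⊗ₜ[A] ι Q m₁) * ((1 : S) ⊗ₜ[A] ι Q m₂) * (s ⊗ₜ[A] x) := by
      rw [Algebra.TensorProduct.tmul_mul_tmul, Algebra.TensorProduct.tmul_mul_tmul, one_mul,
        one_mul]
    rw [this, map_mul, map_mul]
    exact ((hasPar_ι Ψ hodd m₁).mul (hasPar_ι Ψ hodd m₂)).mul ih

theorem hasPar_tmul_of_mem_odd (s : S) (x : CliffordAlgebra Q) (hx : x ∈ evenOdd Q 1) :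
    HasPar π true (Ψ (s ⊗ₜ[A] x)) := by
  induction x, hx using odd_induction with
  | ι v =>
    have : s ⊗ₜ[A] (ι Q v) = s • ((1 : S) ⊗ₜ[A] ι Q v) := by
      rw [TensorProduct.smul_tmul', smul_eq_mul, mul_one]
    rw [this, map_smul]
    exact (hasPar_ι Ψ hodd v).smul s
  | add x y hx hy ihx ihy =>
    rw [TensorProduct.tmul_add, map_add]
    exact ihx.add ihy
  | ι_mul_ι_mul m₁ m₂ x hx ih =>
    have : s ⊗ₜ[A] (ι Q m₁ * ι Q m₂ * x)
        = ((1 : S) ⊗ₜ[A] ι Q m₁) * ((1 : S) ⊗ₜ[A] ι Q m₂) * (s ⊗ₜ[A] x) := by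
      rw [Algebra.TensorProduct.tmul_mul_tmul, Algebra.TensorProduct.tmul_mul_tmul, one_mul,
        one_mul]
    rw [this, map_mul, map_mul]
    exact ((hasPar_ι Ψ hodd m₁).mul (hasPar_ι Ψ hodd m₂)).mul ih


theorem hasPar_of_mem_range_even (t : S ⊗[A] CliffordAlgebra Q)
    (ht : t ∈ LinearMap.range ((evenOdd Q 0).subtype.lTensor S)) : HasPar π false (Ψ t) := by
  obtain ⟨u, rfl⟩ := ht
  induction u using TensorProduct.induction_on with
  | zero => rw [map_zero, map_zero]; exact HasPar.zero _
  | tmul s x => exact hasPar_tmul_of_mem_even Ψ hodd s x.1 x.2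
  | add u w hu hw => rw [map_add, map_add]; exact hu.add hw

theorem hasPar_of_mem_range_odd (t : S ⊗[A] CliffordAlgebra Q)
    (ht : t ∈ LinearMap.range ((evenOdd Q 1).subtype.lTensor S)) : HasPar π true (Ψ t) := by
  obtain ⟨u, rfl⟩ := ht
  induction u using TensorProduct.induction_on with
  | zero => rw [map_zero, map_zero]; exact HasPar.zero _
  | tmul s x => exact hasPar_tmul_of_mem_odd Ψ hodd s x.1 x.2
  | add u w hu hw => rw [map_add, map_add]; exact hu.add hw

omit hodd in
theorem exists_decomp (t : S ⊗[A] CliffordAlgebra Q) :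
    ∃ t₀ ∈ LinearMap.range ((evenOdd Q 0).subtype.lTensor S),
      ∃ t₁ ∈ LinearMap.range ((evenOdd Q 1).subtype.lTensor S), t = t₀ + t₁ := by
  induction t using TensorProduct.induction_on with
  | zero => exact ⟨0, Submodule.zero_mem _, 0, Submodule.zero_mem _, (add_zero 0).symm⟩
  | tmul s x =>
    obtain ⟨x₀, x₁, hx₀, hx₁, hx⟩ :=
      Submodule.codisjoint_iff_exists_add_eq.mp (evenOdd_isCompl Q).codisjoint x
    refine ⟨s ⊗ₜ x₀, ⟨s ⊗ₜ ⟨x₀, hx₀⟩, rfl⟩, s ⊗ₜ x₁, ⟨s ⊗ₜ ⟨x₁, hx₁⟩, rfl⟩, ?_⟩
    rw [← TensorProduct.tmul_add, hx]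
  | add u w hu hw =>
    obtain ⟨u₀, hu₀, u₁, hu₁, rfl⟩ := hu
    obtain ⟨w₀, hw₀, w₁, hw₁, rfl⟩ := hw
    exact ⟨u₀ + w₀, Submodule.add_mem _ hu₀ hw₀, u₁ + w₁, Submodule.add_mem _ hu₁ hw₁, by abel⟩

theorem mem_range_even_of_hasPar (t : S ⊗[A] CliffordAlgebra Q) (ht : HasPar π false (Ψ t)) :
    t ∈ LinearMap.range ((evenOdd Q 0).subtype.lTensor S) := by
  obtain ⟨t₀, ht₀, t₁, ht₁, rfl⟩ := exists_decomp (S := S) (Q := Q) t
  have h1 : HasPar π false (Ψ t₁) := by
    have : Ψ t₁ = Ψ (t₀ + t₁) - Ψ t₀ := by rw [map_add]; abel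
    rw [this]
    exact ht.sub (hasPar_of_mem_range_even Ψ hodd t₀ ht₀)
  have h2 : Ψ t₁ = 0 := h1.eq_zero (hasPar_of_mem_range_odd Ψ hodd t₁ ht₁)
  have : t₁ = 0 := by
    rw [← map_zero Ψ] at h2
    exact Ψ.injective h2
  rw [this, add_zero]
  exact ht₀

end Model

section Descent

variable {A : Type*} [CommRing A] {S : Type*} [CommRing S] [Algebra A S]

/-- Faithfully flat descent of membership in a submodule. -/
theorem mem_of_tmul_mem_range [Module.FaithfullyFlat A S] {M : Type*} [AddCommGroup M]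
    [Module A M] (N : Submodule A M) (x : M)
    (h : (1 : S) ⊗ₜ[A] x ∈ LinearMap.range (N.subtype.lTensor S)) : x ∈ N := by
  obtain ⟨u, hu⟩ := h
  have h1 : (N.mkQ.lTensor S) (N.subtype.lTensor S u) = 0 := by
    rw [← LinearMap.comp_apply, ← LinearMap.lTensor_comp]
    have : N.mkQ ∘ₗ N.subtype = 0 := by
      ext y; simp
    rw [this, LinearMap.lTensor_zero, LinearMap.zero_apply]
  rw [hu, LinearMap.lTensor_tmul] at h1
  have h2 : TensorProduct.mk A S (M ⧸ N) 1 (N.mkQ x) = TensorProduct.mk A S (M ⧸ N) 1 0 := by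
    rw [TensorProduct.mk_apply, TensorProduct.mk_apply, h1, TensorProduct.tmul_zero]
  have h3 := Module.FaithfullyFlat.tensorProduct_mk_injective (A := A) (B := S) (M ⧸ N) h2
  exact (Submodule.Quotient.mk_eq_zero N).1 h3

variable {V : Type*} [AddCommGroup V] [Module A V] {Q : QuadraticForm A V}
  {I : Type*} [Fintype I] [DecidableEq I]

theorem center_eq_bot_of_model [Module.FaithfullyFlat A S]
    (Ψ : (S ⊗[A] CliffordAlgebra Q) ≃ₐ[S] Matrix I I S) :
    Subalgebra.center A (CliffordAlgebra Q) = ⊥ := by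
  rw [eq_bot_iff]
  intro z hz
  rw [Subalgebra.mem_center_iff] at hz
  have hcomm : ∀ t : S ⊗[A] CliffordAlgebra Q, t * ((1 : S) ⊗ₜ[A] z) = ((1 : S) ⊗ₜ[A] z) * t := by
    intro t
    induction t using TensorProduct.induction_on with
    | zero => simp
    | tmul s y =>
      rw [Algebra.TensorProduct.tmul_mul_tmul, Algebra.TensorProduct.tmul_mul_tmul, hz y,
        mul_one, one_mul]
    | add u w hu hw => rw [add_mul, mul_add, hu, hw]
  have hscalar : Ψ ((1 : S) ⊗ₜ[A] z) ∈ Set.range (Matrix.scalar I) := by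
    rw [Matrix.mem_range_scalar_iff_commute_single']
    intro i j
    obtain ⟨t, ht⟩ := Ψ.surjective (Matrix.single i j (1 : S))
    show _ * _ = _ * _
    rw [← ht, ← map_mul, ← map_mul, hcomm t]
  obtain ⟨a, ha⟩ := hscalar
  have h1 : (1 : S) ⊗ₜ[A] z = a ⊗ₜ[A] (1 : CliffordAlgebra Q) := by
    apply Ψ.injective
    rw [← ha]
    have : a ⊗ₜ[A] (1 : CliffordAlgebra Q) = a • (1 : S ⊗[A] CliffordAlgebra Q) := by
      rw [Algebra.TensorProduct.one_def, TensorProduct.smul_tmul', smul_eq_mul, mul_one]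
    rw [this, map_smul, map_one]
    ext i j
    simp [Matrix.scalar_apply, Matrix.diagonal_apply, Matrix.one_apply]
  have h2 : z ∈ Subalgebra.toSubmodule (⊥ : Subalgebra A (CliffordAlgebra Q)) := by
    refine mem_of_tmul_mem_range (S := S) _ z ?_
    rw [h1]
    exact ⟨a ⊗ₜ ⟨1, Subalgebra.one_mem _⟩, rfl⟩
  exact h2


/-- The base change of the inclusion of the even subalgebra, as an algebra map. -/
noncomputable def evenIncl (Q : QuadraticForm A V) (S : Type*) [CommRing S] [Algebra A S] :
    (S ⊗[A] ↥(even Q)) →ₐ[S] (S ⊗[A] CliffordAlgebra Q) :=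
  Algebra.TensorProduct.map (AlgHom.id S S) (even Q).val

theorem evenIncl_apply (u : S ⊗[A] ↥(even Q)) :
    evenIncl Q S u = (evenOdd Q 0).subtype.lTensor S u := rfl

theorem evenIncl_tmul (s : S) (x : ↥(even Q)) : evenIncl Q S (s ⊗ₜ x) = s ⊗ₜ (x : CliffordAlgebra Q) :=
  rfl

theorem evenIncl_injective [Module.Flat A S] : Function.Injective (evenIncl Q S) := by
  have := Module.Flat.lTensor_preserves_injective_linearMap (M := S) (evenOdd Q 0).subtype
    (Submodule.injective_subtype _)
  exact this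

theorem centralizer_center_even_of_model [Module.FaithfullyFlat A S] [Module.Free A V]
    [Module.Finite A V] {π : I → Bool}
    (Ψ : (S ⊗[A] CliffordAlgebra Q) ≃ₐ[S] Matrix I I S)
    (hodd : ∀ v i j, π i = π j → Ψ ((1 : S) ⊗ₜ[A] ι Q v) i j = 0) :
    Subalgebra.centralizer A
        ((even Q).val '' (Subalgebra.center A ↥(even Q) : Set ↥(even Q))) = even Q := by
  apply le_antisymm
  · intro x hx
    rw [Subalgebra.mem_centralizer_iff] at hx
    -- the parity idempotent comes from the centre of the even part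
    have hε : HasPar π false (parIdem π : Matrix I I S) := fun i j hij => by
      refine Matrix.diagonal_apply_ne _ ?_
      rintro rfl
      simp at hij
    have he : Ψ.symm (parIdem π) ∈ LinearMap.range ((evenOdd Q 0).subtype.lTensor S) :=
      mem_range_even_of_hasPar Ψ hodd _ (by rw [AlgEquiv.apply_symm_apply]; exact hε)
    have he' : ∃ ζ : S ⊗[A] ↥(even Q), evenIncl Q S ζ = Ψ.symm (parIdem π) := he
    obtain ⟨ζ, hζ'⟩ := he'
    haveI : Module.Finite A ↥(even Q) := by
      have hsurj := Submodule.projectionOnto_surjective (evenOdd_isCompl Q)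
      have : Module.Finite A ↥(evenOdd Q 0) := Module.Finite.of_surjective _ hsurj
      exact this
    have hcentral : ∀ b : ↥(even Q), ζ * ((1 : S) ⊗ₜ[A] b) = ((1 : S) ⊗ₜ[A] b) * ζ := by
      intro b
      apply evenIncl_injective (S := S) (Q := Q)
      rw [map_mul, map_mul, hζ']
      apply Ψ.injective
      rw [map_mul, map_mul, AlgEquiv.apply_symm_apply]
      have hb : HasPar π false (Ψ (evenIncl Q S ((1 : S) ⊗ₜ[A] b))) :=
        hasPar_tmul_of_mem_even Ψ hodd 1 b.1 b.2
      exact (parIdem_commute_of_hasPar hb).symm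
    have hmem := Helper25.CenterFlat.mem_range_center_of_commute S ζ hcentral
    -- `1 ⊗ x` commutes with the image of `ζ`
    have hcomm_gen : ∀ w : S ⊗[A] ↥(Subalgebra.toSubmodule (Subalgebra.center A ↥(even Q))),
        ((1 : S) ⊗ₜ[A] x) * evenIncl Q S
          (((Subalgebra.toSubmodule (Subalgebra.center A ↥(even Q))).subtype.lTensor S) w)
        = evenIncl Q S
          (((Subalgebra.toSubmodule (Subalgebra.center A ↥(even Q))).subtype.lTensor S) w)
          * ((1 : S) ⊗ₜ[A] x) := by
      intro w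
      induction w using TensorProduct.induction_on with
      | zero => simp
      | tmul s z =>
        rw [LinearMap.lTensor_tmul]
        show (1 : S) ⊗ₜ[A] x * (s ⊗ₜ[A] ((z : ↥(even Q)) : CliffordAlgebra Q))
          = (s ⊗ₜ[A] ((z : ↥(even Q)) : CliffordAlgebra Q)) * (1 : S) ⊗ₜ[A] x
        have hz := hx ((even Q).val (z : ↥(even Q))) ⟨(z : ↥(even Q)), z.2, rfl⟩
        rw [Algebra.TensorProduct.tmul_mul_tmul, Algebra.TensorProduct.tmul_mul_tmul, one_mul,
          mul_one]
        congr 1
        exact hz.symm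
      | add u w hu hw => rw [map_add, map_add, mul_add, add_mul, hu, hw]
    have hcomm : ((1 : S) ⊗ₜ[A] x) * evenIncl Q S ζ = evenIncl Q S ζ * ((1 : S) ⊗ₜ[A] x) := by
      obtain ⟨w, rfl⟩ := hmem
      exact hcomm_gen w
    have hpar : HasPar π false (Ψ ((1 : S) ⊗ₜ[A] x)) := by
      apply hasPar_of_commute_parIdem
      have := congrArg Ψ hcomm
      rw [map_mul, map_mul, hζ', AlgEquiv.apply_symm_apply] at this
      exact this
    have := mem_range_even_of_hasPar Ψ hodd _ hpar
    exact mem_of_tmul_mem_range (S := S) (evenOdd Q 0) x this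
  · intro x hx
    rw [Subalgebra.mem_centralizer_iff]
    rintro _ ⟨z, hz, rfl⟩
    have := (Subalgebra.mem_center_iff.mp hz) ⟨x, hx⟩
    exact congrArg Subtype.val this.symm

end Descent


section Blocks

variable {S : Type*} [CommRing S]

/-- Block diagonal embedding as an algebra map. -/
def blockHom (I₁ I₀ : Type*) [Fintype I₁] [Fintype I₀] [DecidableEq I₁] [DecidableEq I₀] :
    (Matrix I₁ I₁ S × Matrix I₀ I₀ S) →ₐ[S] Matrix (I₁ ⊕ I₀) (I₁ ⊕ I₀) S where
  toFun P := Matrix.fromBlocks P.1 0 0 P.2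
  map_one' := Matrix.fromBlocks_one
  map_mul' P P' := by
    simp only [Prod.fst_mul, Prod.snd_mul, Matrix.fromBlocks_multiply, Matrix.mul_zero,
      Matrix.zero_mul, add_zero, zero_add]
  map_zero' := by simp
  map_add' P P' := by
    simp only [Prod.fst_add, Prod.snd_add, Matrix.fromBlocks_add, add_zero]
  commutes' r := by
    rw [Algebra.algebraMap_eq_smul_one, Algebra.algebraMap_eq_smul_one]
    simp only [Prod.smul_fst, Prod.smul_snd, Prod.fst_one, Prod.snd_one]
    rw [← Matrix.fromBlocks_one, Matrix.fromBlocks_smul, smul_zero, smul_zero]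

variable {I : Type*} [Fintype I] [DecidableEq I] (π : I → Bool)

/-- The parity-even matrices as the image of the block diagonal embedding. -/
noncomputable def parHom : (Matrix {i // π i = true} {i // π i = true} S
      × Matrix {i // ¬ π i = true} {i // ¬ π i = true} S) →ₐ[S] Matrix I I S :=
  (Matrix.reindexAlgEquiv S S (Equiv.sumCompl fun i => π i = true)).toAlgHom.comp
    (blockHom {i // π i = true} {i // ¬ π i = true})

theorem parHom_apply (P : Matrix {i // π i = true} {i // π i = true} S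
      × Matrix {i // ¬ π i = true} {i // ¬ π i = true} S) (i j : I) :
    parHom π P i j = Matrix.fromBlocks P.1 0 0 P.2
      ((Equiv.sumCompl fun i => π i = true).symm i) ((Equiv.sumCompl fun i => π i = true).symm j) :=
  rfl

theorem sc_pos {i : I} (h : π i = true) :
    (Equiv.sumCompl fun i => π i = true).symm i = Sum.inl ⟨i, h⟩ :=
  Equiv.sumCompl_symm_apply_of_pos (p := fun i => π i = true) h

theorem sc_neg {i : I} (h : ¬ π i = true) :
    (Equiv.sumCompl fun i => π i = true).symm i = Sum.inr ⟨i, h⟩ :=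
  Equiv.sumCompl_symm_apply_of_neg (p := fun i => π i = true) h

theorem parHom_injective : Function.Injective (parHom (S := S) π) := by
  intro P P' h
  have h' := (Matrix.reindexAlgEquiv S S (Equiv.sumCompl fun i => π i = true)).injective h
  have h'' : Matrix.fromBlocks P.1 0 0 P.2 = Matrix.fromBlocks P'.1 0 0 P'.2 := h'
  rw [Matrix.fromBlocks_inj] at h''
  exact Prod.ext h''.1 h''.2.2.2

theorem mem_range_parHom_iff (X : Matrix I I S) :
    X ∈ (parHom (S := S) π).range ↔ HasPar π false X := by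
  constructor
  · rintro ⟨P, rfl⟩ i j hij
    show parHom π P i j = 0
    rw [parHom_apply]
    by_cases hi : π i = true
    · have hj : ¬ π j = true := by
        intro hj; rw [hi, hj] at hij; simp at hij
      rw [sc_pos π hi, sc_neg π hj,
        Matrix.fromBlocks_apply₁₂, Matrix.zero_apply]
    · have hj : π j = true := by
        cases h1 : π i <;> cases h2 : π j <;> simp_all
      rw [sc_neg π hi, sc_pos π hj,
        Matrix.fromBlocks_apply₂₁, Matrix.zero_apply]
  · intro hX
    refine ⟨(X.submatrix Subtype.val Subtype.val, X.submatrix Subtype.val Subtype.val), ?_⟩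
    ext i j
    show parHom π _ i j = X i j
    rw [parHom_apply]
    by_cases hi : π i = true <;> by_cases hj : π j = true
    · rw [sc_pos π hi, sc_pos π hj,
        Matrix.fromBlocks_apply₁₁]
      rfl
    · rw [sc_pos π hi, sc_neg π hj,
        Matrix.fromBlocks_apply₁₂, Matrix.zero_apply]
      refine (hX i j ?_).symm
      cases h1 : π i <;> cases h2 : π j <;> simp_all
    · rw [sc_neg π hi, sc_pos π hj,
        Matrix.fromBlocks_apply₂₁, Matrix.zero_apply]
      refine (hX i j ?_).symm
      cases h1 : π i <;> cases h2 : π j <;> simp_all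
    · rw [sc_neg π hi, sc_neg π hj,
        Matrix.fromBlocks_apply₂₂]
      rfl

end Blocks


section EvenIso

variable {A : Type*} [CommRing A] {S : Type*} [CommRing S] [Algebra A S]
  {V : Type*} [AddCommGroup V] [Module A V] {Q : QuadraticForm A V}
  {I : Type*} [Fintype I] [DecidableEq I] {π : I → Bool}

theorem nonempty_even_algEquiv_of_model [Module.Flat A S]
    (Ψ : (S ⊗[A] CliffordAlgebra Q) ≃ₐ[S] Matrix I I S)
    (hodd : ∀ v i j, π i = π j → Ψ ((1 : S) ⊗ₜ[A] ι Q v) i j = 0) {k₁ k₀ : ℕ}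
    (h1 : Fintype.card {i // π i = true} = k₁) (h0 : Fintype.card {i // π i = false} = k₀) :
    Nonempty ((S ⊗[A] ↥(even Q)) ≃ₐ[S]
      (Matrix (Fin k₁) (Fin k₁) S × Matrix (Fin k₀) (Fin k₀) S)) := by
  classical
  let Θ : (S ⊗[A] ↥(even Q)) →ₐ[S] Matrix I I S := Ψ.toAlgHom.comp (evenIncl Q S)
  have hΘapp : ∀ u, Θ u = Ψ (evenIncl Q S u) := fun u => rfl
  have hΘ : Function.Injective Θ := Ψ.injective.comp evenIncl_injective
  have hrange : Θ.range = (parHom (S := S) π).range := by
    ext X
    rw [mem_range_parHom_iff]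
    constructor
    · rintro ⟨u, rfl⟩
      exact hasPar_of_mem_range_even Ψ hodd _ ⟨u, rfl⟩
    · intro hX
      have hmem : ∃ u : S ⊗[A] ↥(even Q), evenIncl Q S u = Ψ.symm X :=
        mem_range_even_of_hasPar Ψ hodd (Ψ.symm X)
          (by rw [AlgEquiv.apply_symm_apply]; exact hX)
      obtain ⟨u, hu⟩ := hmem
      refine ⟨u, ?_⟩
      show Θ u = X
      rw [hΘapp, hu, AlgEquiv.apply_symm_apply]
  let e₁ := AlgEquiv.ofInjective Θ hΘ
  let e₂ := AlgEquiv.ofInjective (parHom (S := S) π) (parHom_injective π)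
  let e₃ := Subalgebra.equivOfEq _ _ hrange
  have c1 : Fintype.card {i // π i = true} = Fintype.card (Fin k₁) := by
    rw [h1, Fintype.card_fin]
  have c0 : Fintype.card {i // ¬ π i = true} = Fintype.card (Fin k₀) := by
    rw [Fintype.card_fin, ← h0]
    exact Fintype.card_congr (Equiv.subtypeEquivRight fun i => by simp)
  let e₄ := AlgEquiv.prodCongr
    (Matrix.reindexAlgEquiv S S (Fintype.equivOfCardEq c1))
    (Matrix.reindexAlgEquiv S S (Fintype.equivOfCardEq c0))
  exact ⟨(e₁.trans e₃).trans (e₂.symm.trans e₄)⟩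

end EvenIso


section Main

universe u v

theorem card_eq_add_of_parity {I : Type*} [Fintype I] [DecidableEq I] (π : I → Bool) {k₁ k₀ : ℕ}
    (h1 : Fintype.card {i // π i = true} = k₁) (h0 : Fintype.card {i // π i = false} = k₀) :
    Fintype.card I = k₁ + k₀ := by
  rw [← Fintype.card_congr (Equiv.sumCompl fun i => π i = true), Fintype.card_sum, h1, ← h0]
  congr 1
  exact Fintype.card_congr (Equiv.subtypeEquivRight fun i => by simp)

/-- Structure of the Clifford algebra of a regular quadratic form of even rank `2m ≥ 2` on a free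
module. -/
theorem clifford_even_rank_structure (A : Type u) [CommRing A] (V : Type v) [AddCommGroup V]
    [Module A V] [Module.Free A V] [Module.Finite A V] (m : ℕ) (hm : 1 ≤ m)
    (hV : Module.finrank A V = 2 * m) (Q : QuadraticForm A V)
    (hQ : Function.Surjective (QuadraticMap.polarBilin Q)) :
    (∃ (A' : Type u) (_ : CommRing A') (_ : Algebra A A'), Module.FaithfullyFlat A A' ∧
        Algebra.Etale A A' ∧
        Nonempty ((A' ⊗[A] CliffordAlgebra Q) ≃ₐ[A'] Matrix (Fin (2 ^ m)) (Fin (2 ^ m)) A') ∧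
        Nonempty ((A' ⊗[A] ↥(CliffordAlgebra.even Q)) ≃ₐ[A']
          (Matrix (Fin (2 ^ (m - 1))) (Fin (2 ^ (m - 1))) A' ×
            Matrix (Fin (2 ^ (m - 1))) (Fin (2 ^ (m - 1))) A'))) ∧
    Subalgebra.center A (CliffordAlgebra Q) = ⊥ ∧
    Subalgebra.centralizer A
        ((CliffordAlgebra.even Q).val ''
          (Subalgebra.center A ↥(CliffordAlgebra.even Q) : Set ↥(CliffordAlgebra.even Q))) =
      CliffordAlgebra.even Q := by
  classical
  obtain ⟨S, i1, i2, het, hff, k₁, k₀, ⟨I, j1, j2, π, Ψ, h1, h0, hodd⟩, hsum, hbal⟩ :=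
    exists_cover_hasBCModel A m hV Q hQ
  obtain ⟨hk1, hk0⟩ := hbal hm
  have hcard : Fintype.card I = Fintype.card (Fin (2 ^ m)) := by
    rw [Fintype.card_fin, card_eq_add_of_parity π h1 h0, hsum]
  refine ⟨⟨S, i1, i2, hff, het, ⟨Ψ.trans (Matrix.reindexAlgEquiv S S (Fintype.equivOfCardEq hcard))⟩,
    ?_⟩, center_eq_bot_of_model Ψ, centralizer_center_even_of_model Ψ hodd⟩
  have := nonempty_even_algEquiv_of_model Ψ hodd h1 h0
  rw [hk1, hk0] at this
  exact this

end Main

end Helper25.Cliff
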