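import Mathlib
import Groth.Agent.Lib.Helper25.CenterBC
import Groth.Agent.Lib.Helper25.CenterAzumayaMain
import Groth.Agent.Lib.Helper25.CliffCons
import Groth.Agent.Lib.Helper25.CliffBCForm

/-!
# The centre of the even Clifford algebra of a regular form of even rank commutes with arbitrary
base change
-/

set_option autoImplicit false
set_option linter.style.haveILetI false
set_option linter.unusedSectionVars false
universe u

namespace Helper25.SOEven

open CliffordAlgebra QuadGrp Helper25.Cliff Helper25.AzTransport Helper25.CliffBCF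
open scoped TensorProduct

variable {R : Type u} [CommRing R] {M : Type u} [AddCommGroup M] [Module R M]
  [Module.Free R M] [Module.Finite R M] (Q : QuadraticForm R M)

/-- The even Clifford algebra of a regular form of even rank is Azumaya over its centre. -/
theorem isAzumaya_centerCopy_even (m : ℕ) (hm : 1 ≤ m) (hV : Module.finrank R M = 2 * m)
    (hQ : Function.Surjective (QuadraticMap.polarBilin Q)) :
    IsAzumaya (CenterCopy R ↥(even Q)) ↥(even Q) := by
  classical
  obtain ⟨⟨S, i1, i2, hff, -, -, ⟨Θ₀⟩⟩, -, -⟩ :=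
    Helper25.Cliff.clifford_even_rank_structure R M m hm hV Q hQ
  have := hff
  have : NeZero (2 ^ (m - 1)) := ⟨pow_ne_zero _ two_ne_zero⟩
  let Θ := Θ₀.trans (Helper25.AzTransport.matPiEquiv S (Fin (2 ^ (m - 1)))).symm
  have : Module.Finite S (TensorProduct R S ↥(CliffordAlgebra.even Q)) :=
    Module.Finite.equiv Θ₀.symm.toLinearEquiv
  have : Module.Finite R ↥(CliffordAlgebra.even Q) :=
    Module.Finite.of_finite_tensorProduct_of_faithfullyFlat S
  exact isAzumaya_centerCopy R ↥(even Q) S (2 ^ (m - 1)) Θ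

section J

variable (A : Type u) [CommRing A] [Algebra R A]

/-- The canonical map `C(Q) → C(Q_A)`. -/
noncomputable def jA : CliffordAlgebra Q →ₐ[R] CliffordAlgebra (baseChangeForm A Q) :=
  ((Psi Q A).toAlgHom.restrictScalars R).comp Algebra.TensorProduct.includeRight

theorem jA_apply (x : CliffordAlgebra Q) : jA Q A x = Psi Q A ((1 : A) ⊗ₜ[R] x) := rfl

theorem jA_ι (v : M) : jA Q A (ι Q v) = ι (baseChangeForm A Q) ((1 : A) ⊗ₜ[R] v) := Psi_ι Q A v

theorem Psi_tmul (a : A) (x : CliffordAlgebra Q) : Psi Q A (a ⊗ₜ[R] x) = a • jA Q A x := by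
  have h1 : a ⊗ₜ[R] x = a • ((1 : A) ⊗ₜ[R] x) := by
    rw [TensorProduct.smul_tmul', smul_eq_mul, mul_one]
  rw [h1, map_smul, jA_apply]

theorem jA_mem_even (x : CliffordAlgebra Q) (hx : x ∈ evenOdd Q 0) :
    jA Q A x ∈ evenOdd (baseChangeForm A Q) 0 := by
  induction x, hx using CliffordAlgebra.even_induction with
  | algebraMap r => rw [AlgHom.commutes]; exact SetLike.algebraMap_mem_graded _ _
  | add x y hx hy ihx ihy => rw [map_add]; exact Submodule.add_mem _ ihx ihy
  | ι_mul_ι_mul m₁ m₂ x hx ih =>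
    rw [map_mul, map_mul, jA_ι, jA_ι]
    have := SetLike.mul_mem_graded (ι_mul_ι_mem_evenOdd_zero (baseChangeForm A Q)
      ((1 : A) ⊗ₜ[R] m₁) ((1 : A) ⊗ₜ[R] m₂)) ih
    rwa [zero_add] at this

theorem jA_mem_odd (x : CliffordAlgebra Q) (hx : x ∈ evenOdd Q 1) :
    jA Q A x ∈ evenOdd (baseChangeForm A Q) 1 := by
  induction x, hx using CliffordAlgebra.odd_induction with
  | ι v => rw [jA_ι]; exact ι_mem_evenOdd_one _ _
  | add x y hx hy ihx ihy => rw [map_add]; exact Submodule.add_mem _ ihx ihy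
  | ι_mul_ι_mul m₁ m₂ x hx ih =>
    rw [map_mul, map_mul, jA_ι, jA_ι]
    have := SetLike.mul_mem_graded (ι_mul_ι_mem_evenOdd_zero (baseChangeForm A Q)
      ((1 : A) ⊗ₜ[R] m₁) ((1 : A) ⊗ₜ[R] m₂)) ih
    rwa [zero_add] at this

theorem pE_jA (x : CliffordAlgebra Q) : pE (baseChangeForm A Q) (jA Q A x) = jA Q A (pE Q x) := by
  conv_lhs => rw [← pE_add_pO Q x, map_add, map_add]
  rw [pE_of_even _ (jA_mem_even Q A _ (pE_mem Q x)), pE_of_odd _ (jA_mem_odd Q A _ (pO_mem Q x)),
    add_zero]

/-- The map `A ⊗ C⁺(Q) → C(Q_A)`. -/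
noncomputable def jE : A ⊗[R] ↥(even Q) →ₐ[A] CliffordAlgebra (baseChangeForm A Q) :=
  (Psi Q A).toAlgHom.comp (evenIncl Q A)

theorem jE_tmul (a : A) (x : ↥(even Q)) :
    jE Q A (a ⊗ₜ[R] x) = a • jA Q A (x : CliffordAlgebra Q) := by
  show Psi Q A (evenIncl Q A (a ⊗ₜ[R] x)) = _
  rw [evenIncl_tmul, Psi_tmul]

theorem jE_mem_even (t : A ⊗[R] ↥(even Q)) : jE Q A t ∈ evenOdd (baseChangeForm A Q) 0 := by
  induction t using TensorProduct.induction_on with
  | zero => rw [map_zero]; exact Submodule.zero_mem _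
  | tmul a x =>
    rw [jE_tmul]
    exact Submodule.smul_mem _ _ (jA_mem_even Q A _ x.2)
  | add x y hx hy => rw [map_add]; exact Submodule.add_mem _ hx hy

theorem jE_lTensor_projEven (t : A ⊗[R] CliffordAlgebra Q) :
    jE Q A (LinearMap.lTensor A (projEven Q) t) = pE (baseChangeForm A Q) (Psi Q A t) := by
  induction t using TensorProduct.induction_on with
  | zero => simp
  | tmul a x =>
    rw [LinearMap.lTensor_tmul, jE_tmul, Psi_tmul, map_smul, pE_jA]
    rfl
  | add x y hx hy => rw [map_add, map_add, hx, hy, map_add, map_add]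

theorem jE_surjective_even (x : CliffordAlgebra (baseChangeForm A Q))
    (hx : x ∈ evenOdd (baseChangeForm A Q) 0) : ∃ t : A ⊗[R] ↥(even Q), jE Q A t = x := by
  refine ⟨LinearMap.lTensor A (projEven Q) ((Psi Q A).symm x), ?_⟩
  rw [jE_lTensor_projEven, AlgEquiv.apply_symm_apply, pE_of_even _ hx]

theorem jE_injective : Function.Injective (jE Q A) := by
  intro s t h
  have h1 : evenIncl Q A s = evenIncl Q A t := (Psi Q A).injective h
  have h2 : ∀ u : A ⊗[R] ↥(even Q),
      LinearMap.lTensor A (projEven Q) (evenIncl Q A u) = u := by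
    intro u
    induction u using TensorProduct.induction_on with
    | zero => simp
    | tmul a y =>
      rw [evenIncl_tmul, LinearMap.lTensor_tmul, projEven_of_even Q y.2]
    | add x y hx hy => rw [map_add, map_add, hx, hy]
  rw [← h2 s, ← h2 t, h1]

end J

/-- **Base change of the centre**: a central element of the even Clifford algebra of `Q_A` is an
`A`-linear combination of images of central elements of the even Clifford algebra of `Q`. -/
theorem center_even_mem_span (m : ℕ) (hm : 1 ≤ m) (hV : Module.finrank R M = 2 * m)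
    (hQ : Function.Surjective (QuadraticMap.polarBilin Q))
    (A : Type u) [CommRing A] [Algebra R A]
    (x : CliffordAlgebra (baseChangeForm A Q)) (hx0 : x ∈ evenOdd (baseChangeForm A Q) 0)
    (hxc : ∀ y ∈ evenOdd (baseChangeForm A Q) 0, x * y = y * x) :
    x ∈ Submodule.span A (Set.range fun z : ↥(Subalgebra.center R ↥(even Q)) =>
      jA Q A ((z : ↥(even Q)) : CliffordAlgebra Q)) := by
  haveI := isAzumaya_centerCopy_even Q m hm hV hQ
  obtain ⟨c, rfl⟩ := jE_surjective_even Q A x hx0
  have hc : ∀ y, c * y = y * c := by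
    intro y
    apply jE_injective Q A
    rw [map_mul, map_mul]
    exact hxc _ (jE_mem_even Q A y)
  have h1 := central_mem_span R (CenterCopy R ↥(even Q)) ↥(even Q) A c hc
  have h2 := Submodule.apply_mem_span_image_of_mem_span (jE Q A).toLinearMap h1
  refine Submodule.span_mono ?_ h2
  rintro _ ⟨_, ⟨z, rfl⟩, rfl⟩
  refine ⟨z, ?_⟩
  show jA Q A _ = jE Q A ((1 : A) ⊗ₜ[R] algebraMap (CenterCopy R ↥(even Q)) ↥(even Q) z)
  rw [jE_tmul, one_smul, algebraMap_centerCopy]

end Helper25.SOEven
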