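import Groth.Agent.Lib.Helper25.CliffAz

/-!
# The Dickson condition via parity of the conjugating unit; index two over a local ring
-/

set_option autoImplicit false
set_option linter.unusedSectionVars false
set_option linter.unusedVariables false
set_option linter.style.haveILetI false

namespace Helper25.Cliff

open CliffordAlgebra Helper25.QuadMat
open scoped Pointwise TensorProduct

universe u v

variable {R : Type u} [CommRing R] {M : Type v} [AddCommGroup M] [Module R M]
  (Q : QuadraticForm R M)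

/-- Conjugation by a unit as an algebra endomorphism. -/
def conjHom (u : (CliffordAlgebra Q)ˣ) : CliffordAlgebra Q →ₐ[R] CliffordAlgebra Q where
  toFun x := (u : CliffordAlgebra Q) * x * ↑u⁻¹
  map_one' := by simp
  map_mul' x y := by
    simp only [mul_assoc]
    rw [← mul_assoc (↑u⁻¹ : CliffordAlgebra Q) (u : CliffordAlgebra Q), Units.inv_mul, one_mul]
  map_zero' := by simp
  map_add' x y := by simp [mul_add, add_mul]
  commutes' r := by
    rw [← Algebra.commutes, mul_assoc, Units.mul_inv, mul_one]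

theorem conjHom_apply (u : (CliffordAlgebra Q)ˣ) (x : CliffordAlgebra Q) :
    conjHom Q u x = (u : CliffordAlgebra Q) * x * ↑u⁻¹ := rfl

/-- If conjugation by `u` induces `g` on vectors, it is the functorial automorphism. -/
theorem map_eq_conj (u : (CliffordAlgebra Q)ˣ) (g : M ≃ₗ[R] M) (hg : g ∈ QuadGrp.O Q)
    (h : ∀ v, (u : CliffordAlgebra Q) * ι Q v * ↑u⁻¹ = ι Q (g v)) (x : CliffordAlgebra Q) :
    CliffordAlgebra.map (QuadGrp.isometryOfMem Q g hg) x = (u : CliffordAlgebra Q) * x * ↑u⁻¹ := by
  have : CliffordAlgebra.map (QuadGrp.isometryOfMem Q g hg) = conjHom Q u := by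
    apply CliffordAlgebra.hom_ext
    ext v
    simp only [LinearMap.coe_comp, Function.comp_apply, AlgHom.toLinearMap_apply,
      CliffordAlgebra.map_apply_ι, conjHom_apply, h]
    rfl
  rw [this, conjHom_apply]

/-- The Dickson condition for `g = conj u` holds as soon as `u` is even. -/
theorem isDicksonTrivial_of_even (u : (CliffordAlgebra Q)ˣ) (g : M ≃ₗ[R] M) (hg : g ∈ QuadGrp.O Q)
    (h : ∀ x, CliffordAlgebra.map (QuadGrp.isometryOfMem Q g hg) x
      = (u : CliffordAlgebra Q) * x * ↑u⁻¹)
    (hu : (u : CliffordAlgebra Q) ∈ evenOdd Q 0) : QuadGrp.IsDicksonTrivial Q g hg := by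
  intro z hz
  rw [h]
  have h1 := (Subalgebra.mem_center_iff.mp hz) ⟨(u : CliffordAlgebra Q), hu⟩
  have h2 : (u : CliffordAlgebra Q) * (z : CliffordAlgebra Q) = (z : CliffordAlgebra Q) * u :=
    congrArg Subtype.val h1
  rw [h2, mul_assoc, Units.mul_inv, mul_one]

/-- The Dickson condition for `g = conj u` forces `u` to centralise the centre of the even part. -/
theorem even_of_isDicksonTrivial
    (hcz : Subalgebra.centralizer R
        ((CliffordAlgebra.even Q).val ''
          (Subalgebra.center R ↥(CliffordAlgebra.even Q) : Set ↥(CliffordAlgebra.even Q))) =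
      CliffordAlgebra.even Q)
    (u : (CliffordAlgebra Q)ˣ) (g : M ≃ₗ[R] M) (hg : g ∈ QuadGrp.O Q)
    (h : ∀ x, CliffordAlgebra.map (QuadGrp.isometryOfMem Q g hg) x
      = (u : CliffordAlgebra Q) * x * ↑u⁻¹)
    (hD : QuadGrp.IsDicksonTrivial Q g hg) : (u : CliffordAlgebra Q) ∈ evenOdd Q 0 := by
  have heven : (u : CliffordAlgebra Q) ∈ CliffordAlgebra.even Q := by
    rw [← hcz, Subalgebra.mem_centralizer_iff]
    rintro _ ⟨z, hz, rfl⟩
    have h1 := hD z hz
    rw [h] at h1
    have h2 := congrArg (fun y => y * (u : CliffordAlgebra Q)) h1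
    simp only [mul_assoc, Units.inv_mul, mul_one] at h2
    exact h2.symm
  exact heven

/-- Over a local ring, locally homogeneous means homogeneous. -/
theorem even_or_odd_of_isLocHomog [IsLocalRing R] (x : CliffordAlgebra Q)
    (h : QuadGrp.IsLocHomog Q x) : x ∈ evenOdd Q 0 ∨ x ∈ evenOdd Q 1 := by
  obtain ⟨e, he, h0, h1⟩ := h
  rcases IsLocalRing.isUnit_or_isUnit_one_sub_self e with hu | hu
  · left
    have : e = 1 := by
      have h2 : e * e = e * 1 := by rw [mul_one]; exact he
      exact hu.mul_left_cancel h2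
    rw [this, one_smul] at h0
    exact h0
  · right
    have he' : (1 - e) * (1 - e) = (1 - e) * 1 := by
      have : e * e = e := he
      linear_combination this
    have : 1 - e = 1 := hu.mul_left_cancel he'
    rw [this, one_smul] at h1
    exact h1

/-- The reflection-type isometry `w ↦ (B(v,w)/Q(v)) v - w` induced by conjugation by `v`. -/
noncomputable def conjVec (v : M) (c : R) (hc : Q v * c = 1) : M ≃ₗ[R] M :=
  LinearEquiv.ofInvolutive
    { toFun := fun w => (QuadraticMap.polar Q v w * c) • v - w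
      map_add' := fun w w' => by
        rw [QuadraticMap.polar_add_right, add_mul, add_smul]; abel
      map_smul' := fun r w => by
        rw [QuadraticMap.polar_smul_right, RingHom.id_apply, smul_sub, smul_smul, smul_eq_mul,
          mul_assoc] }
    (fun w => by
      show (QuadraticMap.polar Q v ((QuadraticMap.polar Q v w * c) • v - w) * c) • v
        - ((QuadraticMap.polar Q v w * c) • v - w) = w
      rw [QuadraticMap.polar_sub_right, QuadraticMap.polar_smul_right, QuadraticMap.polar_self,
        smul_eq_mul, nsmul_eq_mul, Nat.cast_ofNat]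
      have : (QuadraticMap.polar Q v w * c * (2 * Q v) - QuadraticMap.polar Q v w) * c
          = QuadraticMap.polar Q v w * c := by
        linear_combination (2 * QuadraticMap.polar Q v w * c) * hc
      rw [this]; abel)

theorem conjVec_apply (v : M) (c : R) (hc : Q v * c = 1) (w : M) :
    conjVec Q v c hc w = (QuadraticMap.polar Q v w * c) • v - w := rfl

theorem conjVec_mem_O (v : M) (c : R) (hc : Q v * c = 1) : conjVec Q v c hc ∈ QuadGrp.O Q := by
  intro w
  rw [conjVec_apply]
  have h1 : Q ((QuadraticMap.polar Q v w * c) • v - w)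
      = Q ((QuadraticMap.polar Q v w * c) • v) + Q w
        - QuadraticMap.polar Q ((QuadraticMap.polar Q v w * c) • v) w := by
    have := QuadraticMap.polar (⇑Q) ((QuadraticMap.polar Q v w * c) • v - w) w
    have e : (QuadraticMap.polar Q v w * c) • v = ((QuadraticMap.polar Q v w * c) • v - w) + w := by
      abel
    have h2 : QuadraticMap.polar Q ((QuadraticMap.polar Q v w * c) • v - w) w
        = Q ((QuadraticMap.polar Q v w * c) • v) - Q ((QuadraticMap.polar Q v w * c) • v - w)
          - Q w := by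
      rw [QuadraticMap.polar]; rw [← e]
    have h3 : QuadraticMap.polar Q ((QuadraticMap.polar Q v w * c) • v - w) w
        = QuadraticMap.polar Q ((QuadraticMap.polar Q v w * c) • v) w - 2 * Q w := by
      rw [QuadraticMap.polar_sub_left, QuadraticMap.polar_self, nsmul_eq_mul, Nat.cast_ofNat]
    rw [h3] at h2
    linear_combination h2
  rw [h1, QuadraticMap.map_smul, QuadraticMap.polar_smul_left, smul_eq_mul, smul_eq_mul]
  linear_combination (QuadraticMap.polar Q v w ^ 2 * c) * hc

/-- The unit `ι v` for `Q v` invertible. -/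
noncomputable def vecUnit (v : M) (c : R) (hc : Q v * c = 1) : (CliffordAlgebra Q)ˣ where
  val := ι Q v
  inv := c • ι Q v
  val_inv := by
    rw [mul_smul_comm, ι_sq_scalar, Algebra.algebraMap_eq_smul_one, smul_smul, mul_comm, hc,
      one_smul]
  inv_val := by
    rw [smul_mul_assoc, ι_sq_scalar, Algebra.algebraMap_eq_smul_one, smul_smul, mul_comm, hc,
      one_smul]

theorem vecUnit_conj (v : M) (c : R) (hc : Q v * c = 1) (w : M) :
    (vecUnit Q v c hc : CliffordAlgebra Q) * ι Q w * ↑(vecUnit Q v c hc)⁻¹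
      = ι Q (conjVec Q v c hc w) := by
  show ι Q v * ι Q w * (c • ι Q v) = _
  have h1 : ι Q v * ι Q w = algebraMap R _ (QuadraticMap.polar Q v w) - ι Q w * ι Q v := by
    rw [← ι_mul_ι_add_swap]; abel
  rw [h1, sub_mul, mul_smul_comm, mul_smul_comm, mul_assoc, ι_sq_scalar, conjVec_apply, map_sub,
    map_smul, ← Algebra.smul_def, ← Algebra.commutes, ← Algebra.smul_def, smul_smul, smul_smul,
    mul_comm c (Q v), hc, one_smul, mul_comm c]


theorem exists_isUnit_value [IsLocalRing R] [Module.Free R M] [Module.Finite R M] (m : ℕ)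
    (hm : 1 ≤ m) (hM : Module.finrank R M = 2 * m)
    (hQ : Function.Surjective (QuadraticMap.polarBilin Q)) : ∃ v, IsUnit (Q v) := by
  classical
  let b : Module.Basis (Fin m ⊕ Fin m) R M :=
    (Module.finBasisOfFinrankEq R M hM).reindex
      ((finCongr (two_mul m)).trans finSumFinEquiv.symm)
  obtain ⟨N, hN⟩ := exists_matrix_of_basis Q b
  have hdet := isUnit_det_of_regular Q b N hN hQ
  have hdet' : (N + N.transpose).det ∉ IsLocalRing.maximalIdeal R := fun h =>
    (IsLocalRing.maximalIdeal.isMaximal R).ne_top (Ideal.eq_top_of_isUnit_mem _ h hdet)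
  obtain ⟨G, -, hG⟩ := exists_unit_value N (IsLocalRing.maximalIdeal R) hdet'
    (Sum.inl ⟨0, hm⟩ : Fin m ⊕ Fin m)
  refine ⟨b.equivFun.symm (fun k => G k (Sum.inl ⟨0, hm⟩)), ?_⟩
  rw [← hN, LinearEquiv.apply_symm_apply, qfForm_apply, ← conj_diag]
  by_contra hnu
  exact hG ((IsLocalRing.mem_maximalIdeal _).mpr hnu)

/-- Over a local ring, the isometries of a regular form of even rank `2m ≥ 2` satisfying the Dickson
condition form a subgroup of index two. -/
theorem index_SOeven_eq_two [IsLocalRing R] [Module.Free R M] [Module.Finite R M] (m : ℕ)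
    (hm : 1 ≤ m) (hM : Module.finrank R M = 2 * m)
    (hQ : Function.Surjective (QuadraticMap.polarBilin Q)) :
    ((QuadGrp.SOeven Q).subgroupOf (QuadGrp.O Q)).index = 2 := by
  obtain ⟨-, hcen, hcz⟩ := clifford_even_rank_structure R M m hm hM Q hQ
  have hinj := algebraMap_injective Q
  haveI : Nontrivial (CliffordAlgebra Q) := hinj.nontrivial
  obtain ⟨v, hv⟩ := exists_isUnit_value Q m hm hM hQ
  obtain ⟨c, hc⟩ := hv.exists_right_inv
  -- a unit cannot be both even and odd
  have hnot : ∀ u : (CliffordAlgebra Q)ˣ, (u : CliffordAlgebra Q) ∈ evenOdd Q 0 →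
      (u : CliffordAlgebra Q) ∈ evenOdd Q 1 → False := fun u h0 h1 =>
    u.ne_zero (eq_zero_of_mem_even_of_mem_odd Q h0 h1)
  -- the characterisation of the Dickson condition
  have hchar : ∀ (g : M ≃ₗ[R] M) (hg : g ∈ QuadGrp.O Q) (u : (CliffordAlgebra Q)ˣ),
      (∀ w, (u : CliffordAlgebra Q) * ι Q w * ↑u⁻¹ = ι Q (g w)) →
      (g ∈ QuadGrp.SOeven Q ↔ (u : CliffordAlgebra Q) ∈ evenOdd Q 0) := by
    intro g hg u hu
    have hmap := map_eq_conj Q u g hg hu
    constructor
    · rintro ⟨hg', hD⟩
      exact even_of_isDicksonTrivial Q hcz u g hg' hmap hD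
    · intro he
      exact ⟨hg, isDicksonTrivial_of_even Q u g hg hmap he⟩
  rw [Subgroup.index_eq_two_iff]
  refine ⟨⟨conjVec Q v c hc, conjVec_mem_O Q v c hc⟩, fun b => ?_⟩
  obtain ⟨ub, -, hub⟩ := exists_conj_unit_of_mem_O Q m hM hQ b.1 b.2
  have hubG : ub ∈ QuadGrp.GPin' Q := mem_GPin'_of_conj Q ub b.1 hub
  have hhom := even_or_odd_of_isLocHomog Q _ (isLocHomog_of_mem_GPin' Q hcen hinj ub hubG)
  -- the product
  have hprod : ∀ w, ((ub * vecUnit Q v c hc : (CliffordAlgebra Q)ˣ) : CliffordAlgebra Q) * ι Q w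
      * ↑(ub * vecUnit Q v c hc)⁻¹ = ι Q ((b.1 * conjVec Q v c hc) w) := by
    intro w
    rw [mul_inv_rev, Units.val_mul, Units.val_mul]
    have := vecUnit_conj Q v c hc w
    calc (ub : CliffordAlgebra Q) * (vecUnit Q v c hc : CliffordAlgebra Q) * ι Q w
          * ((↑(vecUnit Q v c hc)⁻¹ : CliffordAlgebra Q) * ↑ub⁻¹)
        = (ub : CliffordAlgebra Q) * ((vecUnit Q v c hc : CliffordAlgebra Q) * ι Q w
          * ↑(vecUnit Q v c hc)⁻¹) * ↑ub⁻¹ := by simp only [mul_assoc]
      _ = ι Q ((b.1 * conjVec Q v c hc) w) := by rw [this, hub]; rfl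
  have h1 := hchar b.1 b.2 ub hub
  have h2 := hchar (b.1 * conjVec Q v c hc)
    ((QuadGrp.O Q).mul_mem b.2 (conjVec_mem_O Q v c hc)) (ub * vecUnit Q v c hc) hprod
  rw [Subgroup.mem_subgroupOf, Subgroup.mem_subgroupOf]
  have hvodd : (vecUnit Q v c hc : CliffordAlgebra Q) ∈ evenOdd Q 1 := ι_mem_evenOdd_one Q v
  show Xor ((b.1 * conjVec Q v c hc) ∈ QuadGrp.SOeven Q) (b.1 ∈ QuadGrp.SOeven Q)
  rw [h1, h2, Units.val_mul]
  rcases hhom with he | ho
  · -- `ub` even: the product is odd
    right
    refine ⟨he, fun hcontra => ?_⟩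
    have hodd : (ub : CliffordAlgebra Q) * (vecUnit Q v c hc : CliffordAlgebra Q) ∈ evenOdd Q 1 := by
      have := SetLike.mul_mem_graded he hvodd
      rwa [zero_add] at this
    exact hnot (ub * vecUnit Q v c hc) (by rw [Units.val_mul]; exact hcontra)
      (by rw [Units.val_mul]; exact hodd)
  · left
    refine ⟨?_, fun hcontra => hnot ub hcontra ho⟩
    have := SetLike.mul_mem_graded ho hvodd
    rwa [show (1 : ZMod 2) + 1 = 0 from rfl] at this

end Helper25.Cliff
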