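import Mathlib

/-!
# The Clifford algebra of a quadratic form on a free module is free (characteristic free)

Via `CliffordAlgebra.changeFormEquiv` and a (non-symmetric) bilinear lift of the form, the Clifford
algebra is linearly isomorphic to the exterior algebra, compatibly with `ι` and `1`.
-/

set_option autoImplicit false
set_option linter.unusedSectionVars false
set_option linter.unusedVariables false
set_option linter.style.haveILetI false

namespace Helper25.Cliff

open CliffordAlgebra

variable {R : Type*} [CommRing R] {M : Type*} [AddCommGroup M] [Module R M]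

/-- A bilinear lift of a quadratic form on a free module. -/
noncomputable def bilift [Module.Free R M] (Q : QuadraticForm R M) : LinearMap.BilinForm R M :=
  Classical.choose (LinearMap.BilinMap.toQuadraticMap_surjective Q)

theorem bilift_spec [Module.Free R M] (Q : QuadraticForm R M) : (bilift Q).toQuadraticMap = Q :=
  Classical.choose_spec (LinearMap.BilinMap.toQuadraticMap_surjective Q)

theorem neg_bilift_spec [Module.Free R M] (Q : QuadraticForm R M) :
    (-(bilift Q)).toQuadraticMap = (0 : QuadraticForm R M) - Q := by
  rw [zero_sub]
  conv_rhs => rw [← bilift_spec Q]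
  ext x
  simp

/-- A linear isomorphism `C(Q) ≃ Λ M` for a form on a free module. -/
noncomputable def toExterior [Module.Free R M] (Q : QuadraticForm R M) :
    CliffordAlgebra Q ≃ₗ[R] ExteriorAlgebra R M :=
  changeFormEquiv (Q := Q) (Q' := (0 : QuadraticForm R M)) (neg_bilift_spec Q)

@[simp] theorem toExterior_ι [Module.Free R M] (Q : QuadraticForm R M) (m : M) :
    toExterior Q (ι Q m) = ExteriorAlgebra.ι R m := by
  unfold toExterior
  rw [changeFormEquiv_apply, changeForm_ι]

@[simp] theorem toExterior_one [Module.Free R M] (Q : QuadraticForm R M) :
    toExterior Q 1 = 1 := by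
  unfold toExterior
  rw [changeFormEquiv_apply, changeForm_one]

@[simp] theorem toExterior_algebraMap [Module.Free R M] (Q : QuadraticForm R M) (r : R) :
    toExterior Q (algebraMap R _ r) = algebraMap R _ r := by
  unfold toExterior
  rw [changeFormEquiv_apply, changeForm_algebraMap]

theorem ι_injective [Module.Free R M] (Q : QuadraticForm R M) : Function.Injective (ι Q) := by
  intro x y h
  have := congrArg (toExterior Q) h
  rw [toExterior_ι, toExterior_ι] at this
  exact (ExteriorAlgebra.ι_inj R x y).1 this

/-- A linear retraction of `ι`. -/
noncomputable def ιRetract [Module.Free R M] (Q : QuadraticForm R M) : CliffordAlgebra Q →ₗ[R] M :=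
  ExteriorAlgebra.ιInv ∘ₗ (toExterior Q).toLinearMap

theorem ιRetract_ι [Module.Free R M] (Q : QuadraticForm R M) (m : M) :
    ιRetract Q (ι Q m) = m := by
  simp only [ιRetract, LinearMap.coe_comp, LinearEquiv.coe_coe, Function.comp_apply, toExterior_ι]
  exact ExteriorAlgebra.ι_leftInverse m

theorem isCompl_range_ι [Module.Free R M] (Q : QuadraticForm R M) :
    IsCompl (LinearMap.range (ι Q)) (LinearMap.ker (ιRetract Q)) := by
  refine ⟨?_, ?_⟩
  · rw [Submodule.disjoint_def]
    rintro x ⟨m, rfl⟩ hx
    rw [LinearMap.mem_ker, ιRetract_ι] at hx
    rw [hx, map_zero]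
  · rw [codisjoint_iff, eq_top_iff]
    intro x _
    have : x = ι Q (ιRetract Q x) + (x - ι Q (ιRetract Q x)) := by abel
    rw [this]
    refine Submodule.add_mem_sup ⟨_, rfl⟩ ?_
    rw [LinearMap.mem_ker, map_sub, ιRetract_ι, sub_self]

theorem algebraMap_injective [Module.Free R M] (Q : QuadraticForm R M) :
    Function.Injective (algebraMap R (CliffordAlgebra Q)) := by
  intro x y h
  have := congrArg (toExterior Q) h
  rw [toExterior_algebraMap, toExterior_algebraMap] at this
  exact ExteriorAlgebra.algebraMap_leftInverse M |>.injective this

instance free [Module.Free R M] (Q : QuadraticForm R M) :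
    Module.Free R (CliffordAlgebra Q) := by
  classical
  let b := Module.Free.chooseBasis R M
  letI : LinearOrder (Module.Free.ChooseBasisIndex R M) := linearOrderOfSTO WellOrderingRel
  exact Module.Free.of_basis (b.ExteriorAlgebra.map (toExterior Q).symm)

instance finite [Module.Free R M] [Module.Finite R M] (Q : QuadraticForm R M) :
    Module.Finite R (CliffordAlgebra Q) := by
  classical
  rcases subsingleton_or_nontrivial R with h | h
  · haveI : Subsingleton (CliffordAlgebra Q) := Module.subsingleton R _
    infer_instance
  · let b := Module.finBasis R M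
    exact Module.Finite.of_basis (b.ExteriorAlgebra.map (toExterior Q).symm)

theorem finrank_eq [Nontrivial R] [Module.Free R M] [Module.Finite R M] (Q : QuadraticForm R M) :
    Module.finrank R (CliffordAlgebra Q) = 2 ^ Module.finrank R M := by
  classical
  let b := Module.finBasis R M
  rw [Module.finrank_eq_card_basis (b.ExteriorAlgebra.map (toExterior Q).symm), Fintype.card_finset,
    Fintype.card_fin]

end Helper25.Cliff
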