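import Groth.Agent.Lib.Helper25.CliffCons
import Groth.Prelude.Def_QuadGrp

/-!
# The naive Clifford group: local homogeneity from triviality of the centre
-/

set_option autoImplicit false
set_option linter.unusedSectionVars false
set_option linter.unusedVariables false
set_option linter.style.haveILetI false

namespace Helper25.Cliff

open CliffordAlgebra
open scoped Pointwise

variable {R : Type*} [CommRing R] {M : Type*} [AddCommGroup M] [Module R M]
  (Q : QuadraticForm R M)

theorem conj_mem_range_of_mem_GPin' (u : (CliffordAlgebra Q)ˣ) (hu : u ∈ QuadGrp.GPin' Q) (v : M) :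
    ∃ w, (u : CliffordAlgebra Q) * ι Q v * ↑u⁻¹ = ι Q w := by
  rw [QuadGrp.mem_GPin'] at hu
  have h1 : ConjAct.toConjAct u • ι Q v ∈ ConjAct.toConjAct u • LinearMap.range (ι Q) :=
    Submodule.smul_mem_pointwise_smul _ _ _ ⟨v, rfl⟩
  rw [hu] at h1
  obtain ⟨w, hw⟩ := h1
  refine ⟨w, ?_⟩
  rw [hw, ConjAct.units_smul_def, ConjAct.ofConjAct_toConjAct]

/-- An element commuting with all vectors is central. -/
theorem mem_center_of_commute_ι (c : CliffordAlgebra Q) (hc : ∀ v, c * ι Q v = ι Q v * c) :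
    c ∈ Subalgebra.center R (CliffordAlgebra Q) := by
  rw [Subalgebra.mem_center_iff]
  have hle : (⊤ : Subalgebra R (CliffordAlgebra Q)) ≤ Subalgebra.centralizer R {c} := by
    rw [← adjoin_range_ι]
    refine Algebra.adjoin_le ?_
    rintro _ ⟨v, rfl⟩
    rw [SetLike.mem_coe, Subalgebra.mem_centralizer_iff]
    intro g hg
    rw [Set.mem_singleton_iff] at hg
    rw [hg]; exact hc v
  intro b
  have := hle (Algebra.mem_top (x := b))
  rw [Subalgebra.mem_centralizer_iff] at this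
  exact (this c rfl).symm

theorem eq_zero_of_mem_even_of_mem_odd {x : CliffordAlgebra Q} (h0 : x ∈ evenOdd Q 0)
    (h1 : x ∈ evenOdd Q 1) : x = 0 := by
  have := (evenOdd_isCompl Q).disjoint
  rw [Submodule.disjoint_def] at this
  exact this x h0 h1

/-- If `a + b = a' + b'` with `a, a'` even and `b, b'` odd then `a = a'` and `b = b'`. -/
theorem even_odd_unique {a a' b b' : CliffordAlgebra Q} (ha : a ∈ evenOdd Q 0)
    (ha' : a' ∈ evenOdd Q 0) (hb : b ∈ evenOdd Q 1) (hb' : b' ∈ evenOdd Q 1)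
    (h : a + b = a' + b') : a = a' ∧ b = b' := by
  have h0 : a - a' = b' - b := by
    have := congrArg (fun z => z - a' - b) h
    have e1 : a + b - a' - b = a - a' := by abel
    have e2 : a' + b' - a' - b = b' - b := by abel
    rw [e1, e2] at this
    exact this
  have hz : a - a' = 0 := eq_zero_of_mem_even_of_mem_odd Q (Submodule.sub_mem _ ha ha')
    (by rw [h0]; exact Submodule.sub_mem _ hb' hb)
  refine ⟨sub_eq_zero.mp hz, ?_⟩
  rw [hz] at h0
  exact (sub_eq_zero.mp h0.symm).symm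

theorem isLocHomog_of_mem_GPin' (hcen : Subalgebra.center R (CliffordAlgebra Q) = ⊥)
    (hinj : Function.Injective (algebraMap R (CliffordAlgebra Q)))
    (u : (CliffordAlgebra Q)ˣ) (hu : u ∈ QuadGrp.GPin' Q) :
    QuadGrp.IsLocHomog Q (u : CliffordAlgebra Q) := by
  obtain ⟨u₀, u₁, hu₀, hu₁, husum⟩ :=
    Submodule.codisjoint_iff_exists_add_eq.mp (evenOdd_isCompl Q).codisjoint
      (u : CliffordAlgebra Q)
  set U : CliffordAlgebra Q := (u : CliffordAlgebra Q) with hU
  set Ui : CliffordAlgebra Q := (↑u⁻¹ : CliffordAlgebra Q) with hUi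
  have hUUi : U * Ui = 1 := Units.mul_inv u
  have hUiU : Ui * U = 1 := Units.inv_mul u
  -- commutation of the homogeneous components with vectors
  have hcomp : ∀ v, ∃ w, U * ι Q v = ι Q w * U ∧ u₀ * ι Q v = ι Q w * u₀ ∧
      u₁ * ι Q v = ι Q w * u₁ := by
    intro v
    obtain ⟨w, hw⟩ := conj_mem_range_of_mem_GPin' Q u hu v
    have h1 : U * ι Q v = ι Q w * U := by
      have := congrArg (fun z => z * U) hw
      rw [mul_assoc, hUiU, mul_one] at this
      exact this
    refine ⟨w, h1, ?_⟩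
    rw [← husum, add_mul, mul_add] at h1
    -- u₀ v is odd, u₁ v is even
    have e0 : u₀ * ι Q v ∈ evenOdd Q 1 := by
      have := SetLike.mul_mem_graded hu₀ (ι_mem_evenOdd_one Q v)
      simpa using this
    have e1 : u₁ * ι Q v ∈ evenOdd Q 0 := by
      have := SetLike.mul_mem_graded hu₁ (ι_mem_evenOdd_one Q v)
      rwa [show (1 : ZMod 2) + 1 = 0 from rfl] at this
    have f0 : ι Q w * u₀ ∈ evenOdd Q 1 := by
      have := SetLike.mul_mem_graded (ι_mem_evenOdd_one Q w) hu₀
      simpa using this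
    have f1 : ι Q w * u₁ ∈ evenOdd Q 0 := by
      have := SetLike.mul_mem_graded (ι_mem_evenOdd_one Q w) hu₁
      rwa [show (1 : ZMod 2) + 1 = 0 from rfl] at this
    have h2 : u₁ * ι Q v + u₀ * ι Q v = ι Q w * u₁ + ι Q w * u₀ := by
      rw [add_comm, h1, add_comm]
    obtain ⟨g1, g0⟩ := even_odd_unique Q e1 f1 e0 f0 h2
    exact ⟨g0, g1⟩
  have hcentral : ∀ x : CliffordAlgebra Q, (∀ v, ∃ w, U * ι Q v = ι Q w * U ∧
      x * ι Q v = ι Q w * x) → Ui * x ∈ Subalgebra.center R (CliffordAlgebra Q) := by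
    intro x hx
    refine mem_center_of_commute_ι Q _ fun v => ?_
    obtain ⟨w, h1, h2⟩ := hx v
    have h3 : Ui * ι Q w = ι Q v * Ui := by
      have := congrArg (fun z => Ui * z * Ui) h1
      rw [← mul_assoc, hUiU, one_mul, mul_assoc, mul_assoc, hUUi, mul_one] at this
      exact this.symm
    rw [mul_assoc, h2, ← mul_assoc, h3, mul_assoc]
  have hc0 := hcentral u₀ fun v => by
    obtain ⟨w, h1, h2, h3⟩ := hcomp v; exact ⟨w, h1, h2⟩
  have hc1 := hcentral u₁ fun v => by
    obtain ⟨w, h1, h2, h3⟩ := hcomp v; exact ⟨w, h1, h3⟩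
  rw [hcen] at hc0 hc1
  obtain ⟨r₀, hr₀⟩ := Algebra.mem_bot.mp hc0
  obtain ⟨r₁, hr₁⟩ := Algebra.mem_bot.mp hc1
  have hu₀' : r₀ • U = u₀ := by
    rw [Algebra.smul_def, Algebra.commutes, hr₀, ← mul_assoc, hUUi, one_mul]
  have hu₁' : r₁ • U = u₁ := by
    rw [Algebra.smul_def, Algebra.commutes, hr₁, ← mul_assoc, hUUi, one_mul]
  have hsum1 : r₀ + r₁ = 1 := by
    apply hinj
    rw [map_add, hr₀, hr₁, ← mul_add, husum, hUiU, map_one]
  -- r₀ • u₁ = 0
  have h01 : r₀ • u₁ = 0 := by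
    have h := hu₀'
    rw [← husum, smul_add] at h
    -- r₀ u₀ + r₀ u₁ = u₀ + 0
    have := even_odd_unique Q (Submodule.smul_mem _ r₀ hu₀) hu₀ (Submodule.smul_mem _ r₀ hu₁)
      (Submodule.zero_mem _) (by rw [h, add_zero])
    exact this.2
  have hprod : r₀ * r₁ = 0 := by
    apply hinj
    rw [map_zero]
    have h1 : (r₀ * r₁) • U = 0 := by
      rw [mul_smul, hu₁', h01]
    have h2 := congrArg (fun z => z * Ui) h1
    simp only [zero_mul, smul_mul_assoc, hUUi] at h2
    rw [Algebra.algebraMap_eq_smul_one]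
    exact h2
  have hr₁e : r₁ = 1 - r₀ := by rw [← hsum1]; ring
  refine ⟨r₀, ?_, ?_, ?_⟩
  · show r₀ * r₀ = r₀
    have : r₀ * r₀ = r₀ * (r₀ + r₁) - r₀ * r₁ := by ring
    rw [this, hsum1, hprod]; ring
  · rw [hu₀']; exact hu₀
  · rw [← hr₁e, hu₁']; exact hu₁

end Helper25.Cliff
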