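import Groth.Agent.Lib.Helper25.CliffGPin

/-!
# Base change of a Clifford algebra to a second Clifford algebra, compatibly with the gradings
-/

set_option autoImplicit false
set_option linter.unusedSectionVars false
set_option linter.unusedVariables false
set_option linter.unusedSimpArgs false
set_option linter.style.haveILetI false
set_option linter.unreachableTactic false
set_option linter.unusedTactic false

namespace Helper25.Cliff

open CliffordAlgebra Helper25.QuadMat
open scoped TensorProduct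

section BC

variable {A : Type*} [CommRing A] {S : Type*} [CommRing S] [Algebra A S]
  {V : Type*} [AddCommGroup V] [Module A V] {n : Type*} [Fintype n] [DecidableEq n]

/-- The base change of the Clifford algebra of a form on a free module is the Clifford algebra of
the base-changed form (no assumption on `2`). -/
theorem exists_baseChange_algEquiv [Module.Free A V] [Module.Finite A V] (Q : QuadraticForm A V)
    (b : Module.Basis n A V) (QS : QuadraticForm S (n → S))
    (hQS : ∀ v, QS (fun i => algebraMap A S (b.equivFun v i)) = algebraMap A S (Q v)) :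
    ∃ Ψ : (S ⊗[A] CliffordAlgebra Q) ≃ₐ[S] CliffordAlgebra QS,
      ∀ v, Ψ ((1 : S) ⊗ₜ[A] ι Q v) = ι QS (fun i => algebraMap A S (b.equivFun v i)) := by
  classical
  let c : V →ₗ[A] (n → S) := ((Algebra.linearMap A S).compLeft n) ∘ₗ b.equivFun.toLinearMap
  have hc : ∀ v i, c v i = algebraMap A S (b.equivFun v i) := fun v i => rfl
  let f : V →ₗ[A] CliffordAlgebra QS := ((ι QS).restrictScalars A) ∘ₗ c
  have hfapp : ∀ v, f v = ι QS (c v) := fun v => rfl
  have hf : ∀ v, f v * f v = algebraMap A (CliffordAlgebra QS) (Q v) := fun v => by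
    rw [hfapp, ι_sq_scalar]
    have : c v = fun i => algebraMap A S (b.equivFun v i) := funext (hc v)
    rw [this, hQS, ← IsScalarTower.algebraMap_apply]
  let Ψ₀ : CliffordAlgebra Q →ₐ[A] CliffordAlgebra QS := CliffordAlgebra.lift Q ⟨f, hf⟩
  have hΨ₀ι : ∀ v, Ψ₀ (ι Q v) = f v := fun v => CliffordAlgebra.lift_ι_apply _ _ _
  let Ψ : (S ⊗[A] CliffordAlgebra Q) →ₐ[S] CliffordAlgebra QS :=
    Algebra.TensorProduct.lift (Algebra.ofId S (CliffordAlgebra QS)) Ψ₀
      (fun s x => Algebra.commutes s (Ψ₀ x))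
  have hΨtmul : ∀ (s : S) (x : CliffordAlgebra Q),
      Ψ (s ⊗ₜ[A] x) = algebraMap S (CliffordAlgebra QS) s * Ψ₀ x := fun s x =>
    Algebra.TensorProduct.lift_tmul _ _ _ s x
  have hΨ : ∀ v, Ψ ((1 : S) ⊗ₜ[A] ι Q v) = ι QS (c v) := fun v => by
    rw [hΨtmul, map_one, one_mul, hΨ₀ι, hfapp]
  have hcb : ∀ i, c (b i) = Pi.single i 1 := fun i => by
    ext j
    rw [hc, Module.Basis.equivFun_self]
    by_cases hij : i = j
    · subst hij; simp
    · simp [hij]
  have hsurj : Function.Surjective Ψ := by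
    rw [← AlgHom.range_eq_top, eq_top_iff, ← CliffordAlgebra.adjoin_range_ι]
    refine Algebra.adjoin_le ?_
    rintro _ ⟨y, rfl⟩
    have hy : y = ∑ i, y i • (Pi.single i 1 : n → S) := by
      ext j
      simp [Finset.sum_apply, Pi.single_apply]
    rw [hy, map_sum]
    refine Subalgebra.sum_mem _ fun i _ => ?_
    rw [map_smul, ← hcb i, ← hΨ]
    exact Subalgebra.smul_mem _ (AlgHom.mem_range_self _ _) _
  have hbij : Function.Bijective Ψ := by
    rcases subsingleton_or_nontrivial S with hS | hS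
    · haveI : Subsingleton (S ⊗[A] CliffordAlgebra Q) := Module.subsingleton S _
      exact ⟨fun x y _ => Subsingleton.elim x y, hsurj⟩
    · haveI : Nontrivial A := (algebraMap A S).domain_nontrivial
      refine bijective_of_surjective_of_finrank_eq Ψ.toLinearMap hsurj ?_
      rw [Module.finrank_baseChange, finrank_eq, Module.finrank_eq_card_basis b, finrank_eq,
        Module.finrank_fintype_fun_eq_card]
  exact ⟨AlgEquiv.ofBijective Ψ hbij, fun v => by rw [AlgEquiv.coe_ofBijective, hΨ]; rfl⟩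

end BC

section Center

variable {R : Type*} [CommRing R] {M : Type*} [AddCommGroup M] [Module R M]
  (Q : QuadraticForm R M)

/-- The centre of a Clifford algebra is a graded subalgebra. -/
theorem exists_center_decomp (z : CliffordAlgebra Q)
    (hz : z ∈ Subalgebra.center R (CliffordAlgebra Q)) :
    ∃ z₀ z₁ : CliffordAlgebra Q, z₀ ∈ Subalgebra.center R (CliffordAlgebra Q) ∧
      z₀ ∈ evenOdd Q 0 ∧ z₁ ∈ Subalgebra.center R (CliffordAlgebra Q) ∧ z₁ ∈ evenOdd Q 1 ∧
      z = z₀ + z₁ := by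
  obtain ⟨z₀, z₁, hz₀, hz₁, hsum⟩ :=
    Submodule.codisjoint_iff_exists_add_eq.mp (evenOdd_isCompl Q).codisjoint z
  rw [Subalgebra.mem_center_iff] at hz
  have key : ∀ v, z₀ * ι Q v = ι Q v * z₀ ∧ z₁ * ι Q v = ι Q v * z₁ := by
    intro v
    have h1 : z * ι Q v = ι Q v * z := (hz (ι Q v)).symm
    rw [← hsum, add_mul, mul_add] at h1
    have e0 : z₀ * ι Q v ∈ evenOdd Q 1 := by
      have := SetLike.mul_mem_graded hz₀ (ι_mem_evenOdd_one Q v)
      simpa using this
    have e1 : z₁ * ι Q v ∈ evenOdd Q 0 := by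
      have := SetLike.mul_mem_graded hz₁ (ι_mem_evenOdd_one Q v)
      rwa [show (1 : ZMod 2) + 1 = 0 from rfl] at this
    have f0 : ι Q v * z₀ ∈ evenOdd Q 1 := by
      have := SetLike.mul_mem_graded (ι_mem_evenOdd_one Q v) hz₀
      simpa using this
    have f1 : ι Q v * z₁ ∈ evenOdd Q 0 := by
      have := SetLike.mul_mem_graded (ι_mem_evenOdd_one Q v) hz₁
      rwa [show (1 : ZMod 2) + 1 = 0 from rfl] at this
    have h2 : z₁ * ι Q v + z₀ * ι Q v = ι Q v * z₁ + ι Q v * z₀ := by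
      rw [add_comm, h1, add_comm]
    obtain ⟨g1, g0⟩ := even_odd_unique Q e1 f1 e0 f0 h2
    exact ⟨g0, g1⟩
  exact ⟨z₀, z₁, mem_center_of_commute_ι Q z₀ fun v => (key v).1, hz₀,
    mem_center_of_commute_ι Q z₁ fun v => (key v).2, hz₁, hsum.symm⟩

end Center

section Graded

variable {A : Type*} [CommRing A] {S : Type*} [CommRing S] [Algebra A S]
  {V : Type*} [AddCommGroup V] [Module A V] {Q : QuadraticForm A V}
  {V' : Type*} [AddCommGroup V'] [Module S V'] {Q' : QuadraticForm S V'}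
  (Ψ : (S ⊗[A] CliffordAlgebra Q) ≃ₐ[S] CliffordAlgebra Q')
  (hvec : ∀ v, Ψ ((1 : S) ⊗ₜ[A] ι Q v) ∈ LinearMap.range (ι Q'))

include hvec

theorem gr_mem_odd_ι (v : V) : Ψ ((1 : S) ⊗ₜ[A] ι Q v) ∈ evenOdd Q' 1 := by
  obtain ⟨w, hw⟩ := hvec v
  rw [← hw]
  exact ι_mem_evenOdd_one Q' w

theorem gr_mem_even_ι_mul_ι (v w : V) :
    Ψ ((1 : S) ⊗ₜ[A] ι Q v) * Ψ ((1 : S) ⊗ₜ[A] ι Q w) ∈ evenOdd Q' 0 := by
  have := SetLike.mul_mem_graded (gr_mem_odd_ι Ψ hvec v) (gr_mem_odd_ι Ψ hvec w)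
  rwa [show (1 : ZMod 2) + 1 = 0 from rfl] at this

theorem gr_tmul_of_mem_even (s : S) (x : CliffordAlgebra Q) (hx : x ∈ evenOdd Q 0) :
    Ψ (s ⊗ₜ[A] x) ∈ evenOdd Q' 0 := by
  induction x, hx using even_induction with
  | algebraMap r =>
    have : s ⊗ₜ[A] (algebraMap A (CliffordAlgebra Q) r)
        = (algebraMap A S r * s) • (1 : S ⊗[A] CliffordAlgebra Q) := by
      rw [Algebra.algebraMap_eq_smul_one, TensorProduct.tmul_smul, Algebra.TensorProduct.one_def,
        TensorProduct.smul_tmul', TensorProduct.smul_tmul', smul_eq_mul, mul_one,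
        Algebra.smul_def]
    rw [this, map_smul, map_one]
    exact Submodule.smul_mem _ _ (SetLike.one_mem_graded _)
  | add x y hx hy ihx ihy =>
    rw [TensorProduct.tmul_add, map_add]
    exact Submodule.add_mem _ ihx ihy
  | ι_mul_ι_mul m₁ m₂ x hx ih =>
    have : s ⊗ₜ[A] (ι Q m₁ * ι Q m₂ * x)
        = ((1 : S) ⊗ₜ[A] ι Q m₁) * ((1 : S) ⊗ₜ[A] ι Q m₂) * (s ⊗ₜ[A] x) := by
      rw [Algebra.TensorProduct.tmul_mul_tmul, Algebra.TensorProduct.tmul_mul_tmul, one_mul,
        one_mul]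
    rw [this, map_mul, map_mul]
    have := SetLike.mul_mem_graded (gr_mem_even_ι_mul_ι Ψ hvec m₁ m₂) ih
    rwa [add_zero] at this

theorem gr_tmul_of_mem_odd (s : S) (x : CliffordAlgebra Q) (hx : x ∈ evenOdd Q 1) :
    Ψ (s ⊗ₜ[A] x) ∈ evenOdd Q' 1 := by
  induction x, hx using odd_induction with
  | ι v =>
    have : s ⊗ₜ[A] (ι Q v) = s • ((1 : S) ⊗ₜ[A] ι Q v) := by
      rw [TensorProduct.smul_tmul', smul_eq_mul, mul_one]
    rw [this, map_smul]
    exact Submodule.smul_mem _ _ (gr_mem_odd_ι Ψ hvec v)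
  | add x y hx hy ihx ihy =>
    rw [TensorProduct.tmul_add, map_add]
    exact Submodule.add_mem _ ihx ihy
  | ι_mul_ι_mul m₁ m₂ x hx ih =>
    have : s ⊗ₜ[A] (ι Q m₁ * ι Q m₂ * x)
        = ((1 : S) ⊗ₜ[A] ι Q m₁) * ((1 : S) ⊗ₜ[A] ι Q m₂) * (s ⊗ₜ[A] x) := by
      rw [Algebra.TensorProduct.tmul_mul_tmul, Algebra.TensorProduct.tmul_mul_tmul, one_mul,
        one_mul]
    rw [this, map_mul, map_mul]
    have := SetLike.mul_mem_graded (gr_mem_even_ι_mul_ι Ψ hvec m₁ m₂) ih
    rwa [zero_add] at this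

theorem gr_of_mem_range_even (t : S ⊗[A] CliffordAlgebra Q)
    (ht : t ∈ LinearMap.range ((evenOdd Q 0).subtype.lTensor S)) : Ψ t ∈ evenOdd Q' 0 := by
  obtain ⟨u, rfl⟩ := ht
  induction u using TensorProduct.induction_on with
  | zero => rw [map_zero, map_zero]; exact Submodule.zero_mem _
  | tmul s x => exact gr_tmul_of_mem_even Ψ hvec s x.1 x.2
  | add u w hu hw => rw [map_add, map_add]; exact Submodule.add_mem _ hu hw

theorem gr_of_mem_range_odd (t : S ⊗[A] CliffordAlgebra Q)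
    (ht : t ∈ LinearMap.range ((evenOdd Q 1).subtype.lTensor S)) : Ψ t ∈ evenOdd Q' 1 := by
  obtain ⟨u, rfl⟩ := ht
  induction u using TensorProduct.induction_on with
  | zero => rw [map_zero, map_zero]; exact Submodule.zero_mem _
  | tmul s x => exact gr_tmul_of_mem_odd Ψ hvec s x.1 x.2
  | add u w hu hw => rw [map_add, map_add]; exact Submodule.add_mem _ hu hw

theorem gr_mem_range_even (t : S ⊗[A] CliffordAlgebra Q) (ht : Ψ t ∈ evenOdd Q' 0) :
    t ∈ LinearMap.range ((evenOdd Q 0).subtype.lTensor S) := by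
  obtain ⟨t₀, ht₀, t₁, ht₁, rfl⟩ := exists_decomp (S := S) (Q := Q) t
  have h1 : Ψ t₁ ∈ evenOdd Q' 0 := by
    have : Ψ t₁ = Ψ (t₀ + t₁) - Ψ t₀ := by rw [map_add]; abel
    rw [this]
    exact Submodule.sub_mem _ ht (gr_of_mem_range_even Ψ hvec t₀ ht₀)
  have h2 : Ψ t₁ = 0 :=
    eq_zero_of_mem_even_of_mem_odd Q' h1 (gr_of_mem_range_odd Ψ hvec t₁ ht₁)
  have : t₁ = 0 := by
    rw [← map_zero Ψ] at h2
    exact Ψ.injective h2
  rw [this, add_zero]
  exact ht₀

theorem gr_mem_range_odd (t : S ⊗[A] CliffordAlgebra Q) (ht : Ψ t ∈ evenOdd Q' 1) :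
    t ∈ LinearMap.range ((evenOdd Q 1).subtype.lTensor S) := by
  obtain ⟨t₀, ht₀, t₁, ht₁, rfl⟩ := exists_decomp (S := S) (Q := Q) t
  have h1 : Ψ t₀ ∈ evenOdd Q' 1 := by
    have : Ψ t₀ = Ψ (t₀ + t₁) - Ψ t₁ := by rw [map_add]; abel
    rw [this]
    exact Submodule.sub_mem _ ht (gr_of_mem_range_odd Ψ hvec t₁ ht₁)
  have h2 : Ψ t₀ = 0 :=
    eq_zero_of_mem_even_of_mem_odd Q' (gr_of_mem_range_even Ψ hvec t₀ ht₀) h1
  have : t₀ = 0 := by
    rw [← map_zero Ψ] at h2
    exact Ψ.injective h2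
  rw [this, zero_add]
  exact ht₁

/-- Compatibility with the principal anti-involutions. -/
theorem gr_star (x : CliffordAlgebra Q) :
    Ψ ((1 : S) ⊗ₜ[A] star x) = star (Ψ ((1 : S) ⊗ₜ[A] x)) := by
  induction x using CliffordAlgebra.induction with
  | algebraMap r =>
    have h1 : star (algebraMap A (CliffordAlgebra Q) r) = algebraMap A (CliffordAlgebra Q) r := by
      rw [CliffordAlgebra.star_def, involute.commutes, reverse.commutes]
    have : (1 : S) ⊗ₜ[A] (algebraMap A (CliffordAlgebra Q) r)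
        = (algebraMap A S r) • (1 : S ⊗[A] CliffordAlgebra Q) := by
      rw [Algebra.algebraMap_eq_smul_one, TensorProduct.tmul_smul, Algebra.TensorProduct.one_def,
        TensorProduct.smul_tmul', Algebra.smul_def, mul_one, TensorProduct.smul_tmul',
        smul_eq_mul, mul_one]
    rw [h1, this, map_smul, map_one, ← Algebra.algebraMap_eq_smul_one, CliffordAlgebra.star_def,
      involute.commutes, reverse.commutes]
  | ι v =>
    obtain ⟨w, hw⟩ := hvec v
    rw [CliffordAlgebra.star_def, involute_ι, map_neg, reverse_ι, TensorProduct.tmul_neg, map_neg,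
      ← hw, CliffordAlgebra.star_def, involute_ι, map_neg, reverse_ι]
  | mul x y hx hy =>
    rw [star_mul, ← mul_one (1 : S), ← Algebra.TensorProduct.tmul_mul_tmul, map_mul, hy, hx,
      ← Algebra.TensorProduct.tmul_mul_tmul, map_mul, star_mul]
  | add x y hx hy =>
    rw [star_add, TensorProduct.tmul_add, map_add, hx, hy, TensorProduct.tmul_add, map_add,
      star_add]

/-- The induced isomorphism of even subalgebras. -/
theorem exists_even_algEquiv [Module.Flat A S] :
    ∃ e : (S ⊗[A] ↥(even Q)) ≃ₐ[S] ↥(even Q'),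
      ∀ u, ((e u : ↥(even Q')) : CliffordAlgebra Q') = Ψ (evenIncl Q S u) := by
  let Θ : (S ⊗[A] ↥(even Q)) →ₐ[S] CliffordAlgebra Q' := Ψ.toAlgHom.comp (evenIncl Q S)
  have hΘapp : ∀ u, Θ u = Ψ (evenIncl Q S u) := fun u => rfl
  have hΘ : Function.Injective Θ := Ψ.injective.comp evenIncl_injective
  have hrange : Θ.range = even Q' := by
    ext X
    constructor
    · rintro ⟨u, rfl⟩
      exact gr_of_mem_range_even Ψ hvec _ ⟨u, rfl⟩
    · intro hX
      have hmem : ∃ u : S ⊗[A] ↥(even Q), evenIncl Q S u = Ψ.symm X :=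
        gr_mem_range_even Ψ hvec (Ψ.symm X)
          (by rw [AlgEquiv.apply_symm_apply]; exact hX)
      obtain ⟨u, hu⟩ := hmem
      refine ⟨u, ?_⟩
      show Θ u = X
      rw [hΘapp, hu, AlgEquiv.apply_symm_apply]
  let e₁ := AlgEquiv.ofInjective Θ hΘ
  let e₃ := Subalgebra.equivOfEq _ _ hrange
  exact ⟨e₁.trans e₃, fun u => rfl⟩

end Graded

end Helper25.Cliff
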