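import Groth.Agent.Lib.Helper25.CliffOddMain

/-!
# Consequences for the centre of the Clifford algebra of a semiregular form of odd rank
-/

set_option autoImplicit false
set_option linter.unusedSectionVars false
set_option linter.unusedVariables false
set_option linter.unusedSimpArgs false
set_option linter.style.haveILetI false
set_option linter.unreachableTactic false
set_option linter.unusedTactic false

universe u v

namespace Helper25.Cliff

open CliffordAlgebra Helper25.QuadMat
open scoped TensorProduct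

section Sum

variable {R : Type*} [CommRing R] {C : Type*} [Ring C] [Algebra R C]

theorem exists_sum_of_mem_mul {N N' : Submodule R C} {x : C} (hx : x ∈ N * N') :
    ∃ (n : ℕ) (l l' : Fin n → C), (∀ i, l i ∈ N) ∧ (∀ i, l' i ∈ N') ∧ x = ∑ i, l i * l' i := by
  refine Submodule.mul_induction_on hx ?_ ?_
  · intro a ha b hb
    exact ⟨1, fun _ => a, fun _ => b, fun _ => ha, fun _ => hb, by simp⟩
  · intro x y hx hy
    obtain ⟨n, l, l', hl, hl', rfl⟩ := hx
    obtain ⟨n', k, k', hk, hk', rfl⟩ := hy
    refine ⟨n + n', Fin.append l k, Fin.append l' k', ?_, ?_, ?_⟩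
    · intro i
      refine Fin.addCases (fun j => ?_) (fun j => ?_) i
      · rw [Fin.append_left]; exact hl j
      · rw [Fin.append_right]; exact hk j
    · intro i
      refine Fin.addCases (fun j => ?_) (fun j => ?_) i
      · rw [Fin.append_left]; exact hl' j
      · rw [Fin.append_right]; exact hk' j
    · rw [Fin.sum_univ_add]
      simp only [Fin.append_left, Fin.append_right]

end Sum

section Core

variable {R : Type u} [CommRing R] {M : Type v} [AddCommGroup M] [Module R M]

/-- The core facts about the Clifford algebra of a semiregular form of odd rank `2m+1`. -/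
theorem odd_core (m : ℕ) (b : Module.Basis (Fin (2 * m + 1)) R M)
    (Q : QuadraticForm R M) (hQ : QuadGrp.IsSemiregular b (LinearEquiv.refl R R) Q) :
    (∀ z, z ∈ Subalgebra.center R (CliffordAlgebra Q) → z ∈ evenOdd Q 0 →
        z ∈ (algebraMap R (CliffordAlgebra Q)).range) ∧
    (1 : CliffordAlgebra Q) ∈ oddCenter Q * oddCenter Q ∧
    (∀ z, z ∈ Subalgebra.center R (CliffordAlgebra Q) → z ∈ evenOdd Q 1 →
        star z = ((-1 : R) ^ (m + 1)) • z) ∧
    ∃ (S : Type u) (_ : CommRing S) (_ : Algebra R S), Module.FaithfullyFlat R S ∧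
      Algebra.FinitePresentation R S ∧
      Nonempty ((S ⊗[R] ↥(even Q)) ≃ₐ[S] Matrix (Fin (2 ^ m)) (Fin (2 ^ m)) S) := by
  haveI : Module.Free R M := Module.Free.of_basis b
  haveI : Module.Finite R M := Module.Finite.of_basis b
  obtain ⟨S, i1, i2, hff, hfp, Ψ, hvec⟩ := exists_oddModel m b Q hQ
  exact ⟨fun z hz hz0 => even_center_scalar Ψ hvec z hz hz0, one_mem_oddCenter_mul Ψ hvec,
    fun z hz hz1 => star_of_center_odd Ψ hvec z hz hz1,
    S, i1, i2, hff, hfp, nonempty_even_matrix_of_model Ψ hvec⟩

end Core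

section Bij

variable {R : Type*} [CommRing R] {M : Type*} [AddCommGroup M] [Module R M]
  (Q : QuadraticForm R M)

theorem odd_mul_odd_mem_even {y x : CliffordAlgebra Q} (hy : y ∈ evenOdd Q 1)
    (hx : x ∈ evenOdd Q 1) : y * x ∈ evenOdd Q 0 := by
  have := SetLike.mul_mem_graded hy hx
  rwa [show (1 : ZMod 2) + 1 = 0 from rfl] at this

/-- Left multiplication by an odd element, from the odd part to the even subalgebra. -/
noncomputable def mulOdd (y : CliffordAlgebra Q) (hy : y ∈ evenOdd Q 1) :
    ↥(evenOdd Q 1) →ₗ[R] ↥(even Q) :=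
  LinearMap.codRestrict (evenOdd Q 0) ((LinearMap.mulLeft R y) ∘ₗ (evenOdd Q 1).subtype)
    (fun x => odd_mul_odd_mem_even Q hy x.2)

theorem mulOdd_coe (y : CliffordAlgebra Q) (hy : y ∈ evenOdd Q 1) (x : ↥(evenOdd Q 1)) :
    ((mulOdd Q y hy x : ↥(even Q)) : CliffordAlgebra Q) = y * x := rfl

/-- The projection to the even subalgebra. -/
noncomputable def projEven : CliffordAlgebra Q →ₗ[R] ↥(even Q) :=
  (evenOdd Q 0).projectionOnto (evenOdd Q 1) (evenOdd_isCompl Q)

/-- The projection to the odd part. -/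
noncomputable def projOdd : CliffordAlgebra Q →ₗ[R] ↥(evenOdd Q 1) :=
  (evenOdd Q 1).projectionOnto (evenOdd Q 0) (evenOdd_isCompl Q).symm

theorem projEven_of_even {x : CliffordAlgebra Q} (hx : x ∈ evenOdd Q 0) :
    projEven Q x = ⟨x, hx⟩ :=
  Submodule.projectionOnto_apply_of_mem_left _ hx

theorem projEven_of_odd {x : CliffordAlgebra Q} (hx : x ∈ evenOdd Q 1) : projEven Q x = 0 :=
  Submodule.projectionOnto_apply_of_mem_right _ hx

theorem projOdd_of_odd {x : CliffordAlgebra Q} (hx : x ∈ evenOdd Q 1) :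
    projOdd Q x = ⟨x, hx⟩ :=
  Submodule.projectionOnto_apply_of_mem_left _ hx

theorem projOdd_of_even {x : CliffordAlgebra Q} (hx : x ∈ evenOdd Q 0) : projOdd Q x = 0 :=
  Submodule.projectionOnto_apply_of_mem_right _ hx

/-- The multiplication map `Z(C) ⊗ C⁺ → C`. -/
noncomputable def centerMulEven :
    (↥(Subalgebra.center R (CliffordAlgebra Q)) ⊗[R] ↥(even Q)) →ₗ[R] CliffordAlgebra Q :=
  TensorProduct.lift
    (((LinearMap.mul R (CliffordAlgebra Q)).comp
      (Subalgebra.center R (CliffordAlgebra Q)).val.toLinearMap).compl₂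
        (CliffordAlgebra.even Q).val.toLinearMap)

theorem centerMulEven_tmul (z : ↥(Subalgebra.center R (CliffordAlgebra Q))) (c : ↥(even Q)) :
    centerMulEven Q (z ⊗ₜ c) = (z : CliffordAlgebra Q) * (c : CliffordAlgebra Q) := rfl

theorem centerMulEven_bijective
    (hF1 : ∀ z, z ∈ Subalgebra.center R (CliffordAlgebra Q) → z ∈ evenOdd Q 0 →
        z ∈ (algebraMap R (CliffordAlgebra Q)).range)
    (hF2 : (1 : CliffordAlgebra Q) ∈ oddCenter Q * oddCenter Q) :
    Function.Bijective (centerMulEven Q) := by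
  classical
  obtain ⟨n, l, l', hl, hl', hsum⟩ := exists_sum_of_mem_mul hF2
  have hlc : ∀ i, l i ∈ Subalgebra.center R (CliffordAlgebra Q) := fun i => (hl i).1
  have hl'c : ∀ i, l' i ∈ Subalgebra.center R (CliffordAlgebra Q) := fun i => (hl' i).1
  -- the candidate inverse
  let ν : CliffordAlgebra Q →ₗ[R]
      (↥(Subalgebra.center R (CliffordAlgebra Q)) ⊗[R] ↥(even Q)) :=
    (TensorProduct.mk R ↥(Subalgebra.center R (CliffordAlgebra Q)) ↥(even Q) 1) ∘ₗ projEven Q
      + ∑ i, (TensorProduct.mk R ↥(Subalgebra.center R (CliffordAlgebra Q)) ↥(even Q)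
          ⟨l i, hlc i⟩) ∘ₗ (mulOdd Q (l' i) (hl' i).2) ∘ₗ projOdd Q
  have hν : ∀ x, ν x = (1 : ↥(Subalgebra.center R (CliffordAlgebra Q))) ⊗ₜ projEven Q x
      + ∑ i, (⟨l i, hlc i⟩ : ↥(Subalgebra.center R (CliffordAlgebra Q))) ⊗ₜ
          (mulOdd Q (l' i) (hl' i).2 (projOdd Q x)) := by
    intro x
    simp only [ν, LinearMap.add_apply, LinearMap.comp_apply, LinearMap.sum_apply,
      TensorProduct.mk_apply]
  constructor
  · -- injective: `ν` is a left inverse
    have key : ∀ t, ν (centerMulEven Q t) = t := by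
      intro t
      induction t using TensorProduct.induction_on with
      | zero => simp
      | add x y hx hy => rw [map_add, map_add, hx, hy]
      | tmul z c =>
        obtain ⟨z₀, z₁, hc0, he0, hc1, he1, hz⟩ := exists_center_decomp Q z.1 z.2
        obtain ⟨a, ha⟩ := hF1 z₀ hc0 he0
        have hzc : (z : CliffordAlgebra Q) * (c : CliffordAlgebra Q)
            = a • (c : CliffordAlgebra Q) + z₁ * (c : CliffordAlgebra Q) := by
          rw [hz, add_mul, ← ha, Algebra.smul_def]
        have hce : (c : CliffordAlgebra Q) ∈ evenOdd Q 0 := c.2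
        have h1e : a • (c : CliffordAlgebra Q) ∈ evenOdd Q 0 := Submodule.smul_mem _ _ hce
        have h2o : z₁ * (c : CliffordAlgebra Q) ∈ evenOdd Q 1 := by
          have := SetLike.mul_mem_graded he1 hce
          rwa [add_zero] at this
        -- the scalars `l' i * z₁`
        have hr : ∀ i, ∃ r : R, algebraMap R (CliffordAlgebra Q) r = l' i * z₁ := fun i =>
          hF1 _ (Subalgebra.mul_mem _ (hl'c i) hc1) (odd_mul_odd_mem_even Q (hl' i).2 he1)
        choose r hr using hr
        have hz₁ : z₁ = ∑ i, r i • l i := by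
          have : ∀ i, r i • l i = z₁ * (l i * l' i) := by
            intro i
            rw [Algebra.smul_def, hr]
            have h1 : l' i * z₁ = z₁ * l' i :=
              ((Subalgebra.mem_center_iff.mp hc1) (l' i))
            have h2 : l' i * l i = l i * l' i :=
              ((Subalgebra.mem_center_iff.mp (hlc i)) (l' i))
            rw [h1, mul_assoc, h2]
          simp only [this]
          rw [← Finset.mul_sum, ← hsum, mul_one]
        rw [centerMulEven_tmul, hzc, hν, map_add, map_add, projEven_of_even Q h1e,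
          projEven_of_odd Q h2o, projOdd_of_even Q h1e, projOdd_of_odd Q h2o]
        simp only [map_zero, add_zero, zero_add, TensorProduct.tmul_zero, Finset.sum_const_zero]
        have hA : (⟨a • (c : CliffordAlgebra Q), h1e⟩ : ↥(even Q)) = a • c := rfl
        have hB : ∀ i, mulOdd Q (l' i) (hl' i).2 ⟨z₁ * (c : CliffordAlgebra Q), h2o⟩
            = r i • c := by
          intro i
          apply Subtype.ext
          rw [mulOdd_coe]
          show l' i * (z₁ * (c : CliffordAlgebra Q)) = r i • (c : CliffordAlgebra Q)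
          rw [← mul_assoc, ← hr, Algebra.smul_def]
        rw [hA]
        simp only [hB, TensorProduct.tmul_smul]
        simp only [TensorProduct.smul_tmul', ← TensorProduct.sum_tmul, ← TensorProduct.add_tmul]
        congr 1
        apply Subtype.ext
        simp only [Subalgebra.coe_add, Subalgebra.coe_smul, Subalgebra.coe_one,
          AddSubmonoidClass.coe_finsetSum]
        rw [hz, ← ha, Algebra.algebraMap_eq_smul_one, hz₁]
    intro t t' h
    rw [← key t, ← key t', h]
  · -- surjective
    intro x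
    obtain ⟨x₀, x₁, hx₀, hx₁, hx⟩ :=
      Submodule.codisjoint_iff_exists_add_eq.mp (evenOdd_isCompl Q).codisjoint x
    refine ⟨(1 : ↥(Subalgebra.center R (CliffordAlgebra Q))) ⊗ₜ (⟨x₀, hx₀⟩ : ↥(even Q))
      + ∑ i, (⟨l i, hlc i⟩ : ↥(Subalgebra.center R (CliffordAlgebra Q))) ⊗ₜ
          (⟨l' i * x₁, odd_mul_odd_mem_even Q (hl' i).2 hx₁⟩ : ↥(even Q)), ?_⟩
    rw [map_add, map_sum, centerMulEven_tmul]
    simp only [centerMulEven_tmul, Subalgebra.coe_one, one_mul]
    rw [← hx]
    congr 1
    simp only [← mul_assoc]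
    rw [← Finset.sum_mul, ← hsum, one_mul]

end Bij

end Helper25.Cliff
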