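import Groth.Agent.Lib.Helper25.CliffOddPin

/-!
# Factorisation of the naive Clifford group in odd rank over a local ring
-/

set_option autoImplicit false
set_option linter.unusedSectionVars false
set_option linter.unusedVariables false
set_option linter.unusedSimpArgs false
set_option linter.style.haveILetI false
set_option linter.unreachableTactic false
set_option linter.unusedTactic false

namespace Helper25.Cliff

open CliffordAlgebra Helper25.QuadMat
open scoped Pointwise

section Factor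

variable {R : Type*} [CommRing R] {M : Type*} [AddCommGroup M] [Module R M]
  (Q : QuadraticForm R M)

/-- From an invertible homogeneous intertwiner to the factorisation. -/
theorem exists_factor_of_intertwiner [Module.Free R M]
    (hF1 : ∀ z, z ∈ Subalgebra.center R (CliffordAlgebra Q) → z ∈ evenOdd Q 0 →
        z ∈ (algebraMap R (CliffordAlgebra Q)).range)
    (u' : (CliffordAlgebra Q)ˣ) (hu' : u' ∈ QuadGrp.GPin' Q)
    (x y c ci : CliffordAlgebra Q)
    (hx : ∀ v w, Rel Q (u' : CliffordAlgebra Q) v w → Rel Q x v w)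
    (hy : ∀ v w, Rel Q (u' : CliffordAlgebra Q) v w → Rel Q y w v)
    (ρ : R) (hρ : IsUnit ρ) (hxy : x * y = algebraMap R _ ρ) (hyx0 : y * x ∈ evenOdd Q 0)
    (hc : c ∈ Subalgebra.center R (CliffordAlgebra Q))
    (hci : ci ∈ Subalgebra.center R (CliffordAlgebra Q)) (hcci : c * ci = 1) (hcic : ci * c = 1)
    (hcx : c * x ∈ evenOdd Q 0) :
    ∃ z : CliffordAlgebra Q, z ∈ Subalgebra.center R (CliffordAlgebra Q) ∧ IsUnit z ∧
      ∃ u ∈ QuadGrp.GSpin Q, (u' : CliffordAlgebra Q) = z * u := by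
  set U : CliffordAlgebra Q := (u' : CliffordAlgebra Q) with hU
  have hl := exists_rel_left Q u' hu'
  have hr := exists_rel_right Q u' hu'
  obtain ⟨s, hs⟩ := hρ.exists_right_inv
  -- `y x` is the same scalar
  have hyxc : y * x ∈ Subalgebra.center R (CliffordAlgebra Q) := mul_mem_center_of_rel' hx hy hl
  obtain ⟨ρ'', hρ''⟩ := hF1 _ hyxc hyx0
  have hρeq : ρ'' = ρ := by
    have h1 : x * (y * x) = (x * y) * x := (mul_assoc _ _ _).symm
    rw [← hρ'', hxy, ← Algebra.commutes, ← Algebra.smul_def, ← Algebra.smul_def] at h1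
    have h2 : (ρ'' - ρ) • x = 0 := by rw [sub_smul, h1, sub_self]
    have h3 : (ρ'' - ρ) • (x * y) = 0 := by rw [← smul_mul_assoc, h2, zero_mul]
    rw [hxy, Algebra.smul_def, ← map_mul] at h3
    have h4 : (ρ'' - ρ) * ρ = 0 := algebraMap_injective Q (by rw [h3, map_zero])
    have h5 : ρ'' - ρ = 0 := by
      have := congrArg (fun t => t * s) h4
      simp only [mul_assoc, hs, mul_one, zero_mul] at this
      exact this
    exact sub_eq_zero.mp h5
  rw [hρeq] at hρ''
  have hsρ : s * ρ = 1 := by rw [mul_comm]; exact hs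
  have hx1 : x * (s • y) = 1 := by
    rw [mul_smul_comm, hxy, Algebra.smul_def, ← map_mul, hsρ, map_one]
  have hx2 : (s • y) * x = 1 := by
    rw [smul_mul_assoc, ← hρ'', Algebra.smul_def, ← map_mul, hsρ, map_one]
  have hcomm : ∀ t : CliffordAlgebra Q, ci * t = t * ci := fun t =>
    ((Subalgebra.mem_center_iff (R := R)).mp hci t).symm
  have hcomm' : ∀ t : CliffordAlgebra Q, c * t = t * c := fun t =>
    ((Subalgebra.mem_center_iff (R := R)).mp hc t).symm
  -- the even unit
  let u : (CliffordAlgebra Q)ˣ :=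
    { val := c * x
      inv := (s • y) * ci
      val_inv := by
        rw [mul_assoc, ← mul_assoc x, hx1, one_mul, hcci]
      inv_val := by
        rw [mul_assoc, ← mul_assoc ci, hcic, one_mul, hx2] }
  have hu_val : (u : CliffordAlgebra Q) = c * x := rfl
  have hu_inv : (↑u⁻¹ : CliffordAlgebra Q) = (s • y) * ci := rfl
  have hrel : ∀ v w, Rel Q U v w → Rel Q (u : CliffordAlgebra Q) v w := fun v w h => by
    rw [hu_val]; exact (hx v w h).central_mul hc
  have huG : u ∈ QuadGrp.GPin' Q := by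
    refine mem_GPin'_of_rel u (fun v => ?_) (fun w => ?_)
    · obtain ⟨w, hw⟩ := hl v
      exact ⟨w, hrel v w hw⟩
    · obtain ⟨v, hv⟩ := hr w
      exact ⟨v, hrel v w hv⟩
  have huLH : u ∈ QuadGrp.LH Q := by
    rw [QuadGrp.mem_LH]
    refine ⟨1, IsIdempotentElem.one, ?_, ?_⟩
    · rw [one_smul, hu_val]; exact hcx
    · rw [sub_self, zero_smul]; exact Submodule.zero_mem _
  have huE : u ∈ QuadGrp.evenUnits Q := by
    rw [QuadGrp.mem_evenUnits, hu_val]; exact hcx
  -- the central unit
  have hUy : U * y ∈ Subalgebra.center R (CliffordAlgebra Q) :=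
    mul_mem_center_of_rel (fun v w h => h) hy hr
  refine ⟨U * ↑u⁻¹, ?_, (u'.isUnit).mul (u⁻¹).isUnit, u, ⟨⟨huG, huLH⟩, huE⟩, ?_⟩
  · have : U * (s • y * ci) = s • ((U * y) * ci) := by
      rw [smul_mul_assoc, mul_smul_comm, mul_assoc]
    rw [hu_inv, this]
    exact Subalgebra.smul_mem _ (Subalgebra.mul_mem _ hUy hci) _
  · rw [mul_assoc, Units.inv_mul, mul_one]

/-- Over a local ring, every point of the naive Clifford group is a central unit times a point of
the even Clifford group. -/
theorem exists_center_mul_gSpin [IsLocalRing R] [Module.Free R M]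
    (hF1 : ∀ z, z ∈ Subalgebra.center R (CliffordAlgebra Q) → z ∈ evenOdd Q 0 →
        z ∈ (algebraMap R (CliffordAlgebra Q)).range)
    (hF2 : (1 : CliffordAlgebra Q) ∈ oddCenter Q * oddCenter Q)
    (u' : (CliffordAlgebra Q)ˣ) (hu' : u' ∈ QuadGrp.GPin' Q) :
    ∃ z : CliffordAlgebra Q, z ∈ Subalgebra.center R (CliffordAlgebra Q) ∧ IsUnit z ∧
      ∃ u ∈ QuadGrp.GSpin Q, (u' : CliffordAlgebra Q) = z * u := by
  obtain ⟨a, b', ha, hb, hU⟩ :=
    Submodule.codisjoint_iff_exists_add_eq.mp (evenOdd_isCompl Q).codisjoint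
      (u' : CliffordAlgebra Q)
  obtain ⟨d, d'', hd, hd'', hUi⟩ :=
    Submodule.codisjoint_iff_exists_add_eq.mp (evenOdd_isCompl Q).codisjoint
      (↑u'⁻¹ : CliffordAlgebra Q)
  set U : CliffordAlgebra Q := (u' : CliffordAlgebra Q) with hUdef
  set Ui : CliffordAlgebra Q := (↑u'⁻¹ : CliffordAlgebra Q) with hUidef
  have hUUi : U * Ui = 1 := Units.mul_inv u'
  have hUiU : Ui * U = 1 := Units.inv_mul u'
  have hr := exists_rel_right Q u' hu'
  have hxa : ∀ v w, Rel Q U v w → Rel Q a v w := fun v w h => (h.components ha hb hU).1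
  have hxb : ∀ v w, Rel Q U v w → Rel Q b' v w := fun v w h => (h.components ha hb hU).2
  have hyd : ∀ v w, Rel Q U v w → Rel Q d w v := fun v w h =>
    ((h.inv hUUi hUiU).components hd hd'' hUi).1
  have hyd'' : ∀ v w, Rel Q U v w → Rel Q d'' w v := fun v w h =>
    ((h.inv hUUi hUiU).components hd hd'' hUi).2
  have c1 : a * d ∈ Subalgebra.center R (CliffordAlgebra Q) := mul_mem_center_of_rel hxa hyd hr
  have c2 : b' * d'' ∈ Subalgebra.center R (CliffordAlgebra Q) :=
    mul_mem_center_of_rel hxb hyd'' hr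
  have e1 : a * d ∈ evenOdd Q 0 := by
    have := SetLike.mul_mem_graded ha hd
    rwa [add_zero] at this
  have e2 : b' * d'' ∈ evenOdd Q 0 := odd_mul_odd_mem_even Q hb hd''
  have o1 : a * d'' ∈ evenOdd Q 1 := by
    have := SetLike.mul_mem_graded ha hd''
    rwa [zero_add] at this
  have o2 : b' * d ∈ evenOdd Q 1 := by
    have := SetLike.mul_mem_graded hb hd
    rwa [add_zero] at this
  have hexp : (a * d + b' * d'') + (a * d'' + b' * d) = 1 + 0 := by
    rw [add_zero, ← hUUi, ← hU, ← hUi]; noncomm_ring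
  obtain ⟨k1, -⟩ := even_odd_unique Q (Submodule.add_mem _ e1 e2) (SetLike.one_mem_graded _)
    (Submodule.add_mem _ o1 o2) (Submodule.zero_mem _) hexp
  obtain ⟨ρ, hρ⟩ := hF1 _ c1 e1
  obtain ⟨ρ', hρ'⟩ := hF1 _ c2 e2
  have hsum : ρ + ρ' = 1 := by
    apply algebraMap_injective Q
    rw [map_add, hρ, hρ', k1, map_one]
  rcases IsLocalRing.isUnit_or_isUnit_of_add_one hsum with hu | hu
  · refine exists_factor_of_intertwiner Q hF1 u' hu' a d 1 1 hxa hyd ρ hu hρ.symm ?_
      (Subalgebra.one_mem _) (Subalgebra.one_mem _) (one_mul 1) (one_mul 1) ?_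
    · have := SetLike.mul_mem_graded hd ha
      rwa [add_zero] at this
    · rw [one_mul]; exact ha
  · obtain ⟨z₀, zi, hzc, hz1, hzic, hzi1, h1, h2⟩ := exists_odd_central_unit Q hF1 hF2
    exact exists_factor_of_intertwiner Q hF1 u' hu' b' d'' z₀ zi hxb hyd'' ρ' hu hρ'.symm
      (odd_mul_odd_mem_even Q hd'' hb) hzc hzic h1 h2 (odd_mul_odd_mem_even Q hz1 hb)

end Factor

end Helper25.Cliff
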