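import Groth.Agent.Lib.Helper25.CliffOddCenter

/-!
# The centre of the Clifford algebra of a semiregular form of odd rank over a local ring
-/

set_option autoImplicit false
set_option linter.unusedSectionVars false
set_option linter.unusedVariables false
set_option linter.unusedSimpArgs false
set_option linter.style.haveILetI false
set_option linter.unreachableTactic false
set_option linter.unusedTactic false

namespace Helper25.Cliff

open CliffordAlgebra Helper25.QuadMat

section Local

variable {R : Type*} [CommRing R] {M : Type*} [AddCommGroup M] [Module R M]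
  (Q : QuadraticForm R M)

theorem exists_isUnit_of_sum_eq_one [IsLocalRing R] {n : ℕ} (r : Fin n → R)
    (h : ∑ i, r i = 1) : ∃ i, IsUnit (r i) := by
  by_contra hc
  push Not at hc
  have : ∑ i, r i ∈ IsLocalRing.maximalIdeal R :=
    Ideal.sum_mem _ fun i _ => (IsLocalRing.mem_maximalIdeal _).mpr (hc i)
  rw [h] at this
  exact (IsLocalRing.maximalIdeal.isMaximal R).ne_top
    (Ideal.eq_top_of_isUnit_mem _ this isUnit_one)

/-- Over a local ring the odd part of the centre contains a unit. -/
theorem exists_odd_central_unit [IsLocalRing R] [Module.Free R M]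
    (hF1 : ∀ z, z ∈ Subalgebra.center R (CliffordAlgebra Q) → z ∈ evenOdd Q 0 →
        z ∈ (algebraMap R (CliffordAlgebra Q)).range)
    (hF2 : (1 : CliffordAlgebra Q) ∈ oddCenter Q * oddCenter Q) :
    ∃ z zi : CliffordAlgebra Q, z ∈ Subalgebra.center R (CliffordAlgebra Q) ∧ z ∈ evenOdd Q 1 ∧
      zi ∈ Subalgebra.center R (CliffordAlgebra Q) ∧ zi ∈ evenOdd Q 1 ∧ z * zi = 1 ∧
      zi * z = 1 := by
  obtain ⟨n, l, l', hl, hl', hsum⟩ := exists_sum_of_mem_mul hF2
  have hr : ∀ i, ∃ r : R, algebraMap R (CliffordAlgebra Q) r = l i * l' i := fun i =>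
    hF1 _ (Subalgebra.mul_mem _ (hl i).1 (hl' i).1) (odd_mul_odd_mem_even Q (hl i).2 (hl' i).2)
  choose r hr using hr
  have hrsum : ∑ i, r i = 1 := by
    apply algebraMap_injective Q
    rw [map_sum, map_one, hsum]
    exact Finset.sum_congr rfl fun i _ => hr i
  obtain ⟨i, hi⟩ := exists_isUnit_of_sum_eq_one r hrsum
  obtain ⟨s, hs⟩ := hi.exists_right_inv
  have h1 : l i * (s • l' i) = 1 := by
    rw [mul_smul_comm, ← hr, Algebra.smul_def, ← map_mul, mul_comm, hs, map_one]
  refine ⟨l i, s • l' i, (hl i).1, (hl i).2, Subalgebra.smul_mem _ (hl' i).1 _,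
    Submodule.smul_mem _ _ (hl' i).2, h1, ?_⟩
  rw [← h1]
  exact (Subalgebra.mem_center_iff (R := R)).mp (hl i).1 _

/-- The structure of the centre over a local ring. -/
theorem center_structure_of_local [IsLocalRing R] [Module.Free R M]
    (hF1 : ∀ z, z ∈ Subalgebra.center R (CliffordAlgebra Q) → z ∈ evenOdd Q 0 →
        z ∈ (algebraMap R (CliffordAlgebra Q)).range)
    (hF2 : (1 : CliffordAlgebra Q) ∈ oddCenter Q * oddCenter Q) :
    ∃ z : CliffordAlgebra Q, z ∈ Subalgebra.center R (CliffordAlgebra Q) ∧ z ∈ evenOdd Q 1 ∧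
      IsUnit z ∧ z * z ∈ (algebraMap R (CliffordAlgebra Q)).range ∧
      LinearIndependent R ![(1 : CliffordAlgebra Q), z] ∧
      Subalgebra.toSubmodule (Subalgebra.center R (CliffordAlgebra Q)) = Submodule.span R {1, z} := by
  obtain ⟨z, zi, hzc, hz1, hzic, hzi1, h1, h2⟩ := exists_odd_central_unit Q hF1 hF2
  refine ⟨z, hzc, hz1, ⟨⟨z, zi, h1, h2⟩, rfl⟩,
    hF1 _ (Subalgebra.mul_mem _ hzc hzc) (odd_mul_odd_mem_even Q hz1 hz1), ?_, ?_⟩
  · rw [LinearIndependent.pair_iff]
    intro s t hst
    have he : s • (1 : CliffordAlgebra Q) ∈ evenOdd Q 0 :=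
      Submodule.smul_mem _ _ (SetLike.one_mem_graded _)
    have ho : t • z ∈ evenOdd Q 1 := Submodule.smul_mem _ _ hz1
    obtain ⟨e1, e2⟩ := even_odd_unique Q he (Submodule.zero_mem _) ho (Submodule.zero_mem _)
      (by rw [hst, add_zero])
    constructor
    · apply algebraMap_injective Q
      rw [map_zero, Algebra.algebraMap_eq_smul_one]
      exact e1
    · apply algebraMap_injective Q
      rw [map_zero, Algebra.algebraMap_eq_smul_one]
      have := congrArg (fun x => x * zi) e2
      simp only [smul_mul_assoc, h1, zero_mul] at this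
      exact this
  · apply le_antisymm
    · intro w hw
      obtain ⟨w₀, w₁, hc0, he0, hc1, he1, hsum⟩ := exists_center_decomp Q w hw
      obtain ⟨a, ha⟩ := hF1 w₀ hc0 he0
      obtain ⟨c, hc⟩ := hF1 (w₁ * zi) (Subalgebra.mul_mem _ hc1 hzic)
        (odd_mul_odd_mem_even Q he1 hzi1)
      have hw₁ : w₁ = c • z := by
        rw [Algebra.smul_def, hc, mul_assoc, h2, mul_one]
      rw [hsum, ← ha, hw₁, Algebra.algebraMap_eq_smul_one]
      exact Submodule.add_mem _ (Submodule.smul_mem _ _ (Submodule.subset_span (by simp)))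
        (Submodule.smul_mem _ _ (Submodule.subset_span (by simp)))
    · rw [Submodule.span_le]
      rintro x hx
      rcases hx with rfl | hx
      · exact Subalgebra.one_mem _
      · rw [Set.mem_singleton_iff.mp hx]
        exact hzc

end Local

end Helper25.Cliff
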