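import Groth.Agent.Lib.Helper25.CliffOddModel

/-!
# The Clifford algebra of a semiregular quadratic form of odd rank: fppf-local model and descent
-/

set_option autoImplicit false
set_option linter.unusedSectionVars false
set_option linter.unusedVariables false
set_option linter.unusedSimpArgs false
set_option linter.style.haveILetI false
set_option linter.unreachableTactic false
set_option linter.unusedTactic false

universe u v

namespace Helper25.Cliff

open CliffordAlgebra CliffordAlgebra.EquivEven Helper25.QuadMat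
open scoped TensorProduct

section Iso

variable (S : Type*) [CommRing S] (m : ℕ)

theorem qf_J (y : Fin m ⊕ Fin m → S) :
    qf (J m S) y = ∑ i : Fin m, y (Sum.inl i) * y (Sum.inr i) := by
  simp only [qf, J, Fintype.sum_sum_type, Matrix.fromBlocks_apply₁₁,
    Matrix.fromBlocks_apply₁₂, Matrix.fromBlocks_apply₂₁, Matrix.fromBlocks_apply₂₂,
    Matrix.zero_apply, Matrix.one_apply, mul_zero, zero_mul,
    Finset.sum_const_zero, add_zero, zero_add]
  refine Finset.sum_congr rfl fun i _ => ?_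
  simp [Finset.sum_ite_eq, mul_ite, ite_mul]

/-- `∑ x_j y_j - z²` in matrix form is Mathlib's one-up form of `∑ x_j y_j`. -/
noncomputable def isometryJOdd :
    (qfForm (JOdd m S (-1))).IsometryEquiv (Q' (Q0 S m)) :=
  { (LinearEquiv.sumArrowLequivProdArrow (Fin m ⊕ Fin m) (Fin 1) S S).trans
      (LinearEquiv.prodCongr (LinearEquiv.refl S _) (LinearEquiv.funUnique (Fin 1) S S)) with
    map_app' := fun y => by
      rw [Q'_apply, qfForm_apply, qfForm_apply, qf_JOdd, qf_J]
      simp [LinearEquiv.sumArrowLequivProdArrow, Equiv.sumArrowEquivProdArrow, sub_eq_add_neg] }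

end Iso

section Cover

variable {R : Type u} [CommRing R] {M : Type v} [AddCommGroup M] [Module R M]

/-- **Fppf-local model** of the Clifford algebra of a semiregular form of odd rank. -/
theorem exists_oddModel (m : ℕ) (b : Module.Basis (Fin (2 * m + 1)) R M)
    (Q : QuadraticForm R M) (hQ : QuadGrp.IsSemiregular b (LinearEquiv.refl R R) Q) :
    ∃ (S : Type u) (_ : CommRing S) (_ : Algebra R S), Module.FaithfullyFlat R S ∧
      Algebra.FinitePresentation R S ∧
      ∃ Ψ : (S ⊗[R] CliffordAlgebra Q) ≃ₐ[S] CliffordAlgebra (Q' (Q0 S m)),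
        ∀ v, Ψ ((1 : S) ⊗ₜ[R] ι Q v) ∈ LinearMap.range (ι (Q' (Q0 S m))) := by
  classical
  haveI : Module.Free R M := Module.Free.of_basis b
  haveI : Module.Finite R M := Module.Finite.of_basis b
  obtain ⟨N, hN, S, i1, i2, hff, hfp, g, hg, hgQ⟩ :=
    exists_fppf_split_of_isSemiregular m b Q hQ (-1)
  refine ⟨S, i1, i2, hff, hfp, ?_⟩
  obtain ⟨Ψ₁, hΨ₁⟩ := exists_baseChange_algEquiv (S := S) Q (b.reindex (oddEquiv m).symm)
    (qfForm (N.map (algebraMap R S))) (fun v => by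
      rw [qfForm_apply, qf_map, ← qfForm_apply, hN])
  have e3 := isometryEquivConj (N.map (algebraMap R S)) g hg
  rw [qfForm_eq_of_QEq hgQ] at e3
  simp only [Units.val_neg, Units.val_one, Int.cast_neg, Int.cast_one] at e3
  let iso := e3.symm.trans (isometryJOdd S m)
  refine ⟨Ψ₁.trans (CliffordAlgebra.equivOfIsometry iso), fun v => ?_⟩
  rw [AlgEquiv.trans_apply, hΨ₁, CliffordAlgebra.equivOfIsometry_apply,
    CliffordAlgebra.map_apply_ι]
  exact ⟨_, rfl⟩

end Cover

section Descent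

variable {R : Type*} [CommRing R] {M : Type*} [AddCommGroup M] [Module R M]
  {Q : QuadraticForm R M} {S : Type*} [CommRing S] [Algebra R S] {m : ℕ}
  (Ψ : (S ⊗[R] CliffordAlgebra Q) ≃ₐ[S] CliffordAlgebra (Q' (Q0 S m)))
  (hvec : ∀ v, Ψ ((1 : S) ⊗ₜ[R] ι Q v) ∈ LinearMap.range (ι (Q' (Q0 S m))))

omit hvec in
theorem one_tmul_commute (z : CliffordAlgebra Q)
    (hz : z ∈ Subalgebra.center R (CliffordAlgebra Q)) (t : S ⊗[R] CliffordAlgebra Q) :
    t * ((1 : S) ⊗ₜ[R] z) = ((1 : S) ⊗ₜ[R] z) * t := by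
  rw [Subalgebra.mem_center_iff] at hz
  induction t using TensorProduct.induction_on with
  | zero => simp
  | tmul s y =>
    rw [Algebra.TensorProduct.tmul_mul_tmul, Algebra.TensorProduct.tmul_mul_tmul, hz y,
      mul_one, one_mul]
  | add u w hu hw => rw [add_mul, mul_add, hu, hw]

omit hvec in
theorem map_one_tmul_mem_center (z : CliffordAlgebra Q)
    (hz : z ∈ Subalgebra.center R (CliffordAlgebra Q)) :
    Ψ ((1 : S) ⊗ₜ[R] z) ∈ Subalgebra.center S (CliffordAlgebra (Q' (Q0 S m))) := by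
  rw [Subalgebra.mem_center_iff]
  intro y
  obtain ⟨t, rfl⟩ := Ψ.surjective y
  rw [← map_mul, ← map_mul, one_tmul_commute z hz t]

include hvec

/-- Even central elements are scalars. -/
theorem even_center_scalar [Module.FaithfullyFlat R S] (z : CliffordAlgebra Q)
    (hz : z ∈ Subalgebra.center R (CliffordAlgebra Q)) (hz0 : z ∈ evenOdd Q 0) :
    z ∈ (algebraMap R (CliffordAlgebra Q)).range := by
  have h1 := map_one_tmul_mem_center Ψ z hz
  have h2 := gr_tmul_of_mem_even Ψ hvec 1 z hz0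
  obtain ⟨a, ha⟩ := mem_range_algebraMap_of_center_even S m _ h1 h2
  have h3 : (1 : S) ⊗ₜ[R] z = a ⊗ₜ[R] (1 : CliffordAlgebra Q) := by
    apply Ψ.injective
    have : a ⊗ₜ[R] (1 : CliffordAlgebra Q) = a • (1 : S ⊗[R] CliffordAlgebra Q) := by
      rw [Algebra.TensorProduct.one_def, TensorProduct.smul_tmul', smul_eq_mul, mul_one]
    rw [this, map_smul, map_one, ← Algebra.algebraMap_eq_smul_one]
    exact ha.symm
  have h4 : z ∈ Subalgebra.toSubmodule (⊥ : Subalgebra R (CliffordAlgebra Q)) := by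
    refine mem_of_tmul_mem_range (S := S) _ z ?_
    rw [h3]
    exact ⟨a ⊗ₜ ⟨1, Subalgebra.one_mem _⟩, rfl⟩
  obtain ⟨r, hr⟩ := Algebra.mem_bot.mp h4
  exact ⟨r, hr⟩

/-- The principal anti-involution on odd central elements. -/
theorem star_of_center_odd [Module.FaithfullyFlat R S] (z : CliffordAlgebra Q)
    (hz : z ∈ Subalgebra.center R (CliffordAlgebra Q)) (hz1 : z ∈ evenOdd Q 1) :
    star z = ((-1 : R) ^ (m + 1)) • z := by
  have h1 := map_one_tmul_mem_center Ψ z hz
  have h2 := gr_tmul_of_mem_odd Ψ hvec 1 z hz1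
  obtain ⟨a, ha⟩ := eq_smul_zz_of_center_odd S m _ h1 h2
  have h3 : Ψ ((1 : S) ⊗ₜ[R] star z) = Ψ ((1 : S) ⊗ₜ[R] (((-1 : R) ^ (m + 1)) • z)) := by
    have e1 : (1 : S) ⊗ₜ[R] (((-1 : R) ^ (m + 1)) • z)
        = ((-1 : S) ^ (m + 1)) • ((1 : S) ⊗ₜ[R] z) := by
      rw [TensorProduct.tmul_smul, ← algebraMap_smul S ((-1 : R) ^ (m + 1)) ((1 : S) ⊗ₜ[R] z),
        map_pow, map_neg, map_one]
    rw [gr_star Ψ hvec, e1, map_smul, ha, CliffordAlgebra.star_smul, star_zz, smul_comm]
  have h4 := Ψ.injective h3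
  have h5 : (TensorProduct.mk R S (CliffordAlgebra Q) 1) (star z)
      = (TensorProduct.mk R S (CliffordAlgebra Q) 1) (((-1 : R) ^ (m + 1)) • z) := h4
  exact Module.FaithfullyFlat.tensorProduct_mk_injective (A := R) (B := S) _ h5

/-- The even part is fppf-locally a matrix algebra. -/
theorem nonempty_even_matrix_of_model [Module.Flat R S] :
    Nonempty ((S ⊗[R] ↥(even Q)) ≃ₐ[S] Matrix (Fin (2 ^ m)) (Fin (2 ^ m)) S) := by
  obtain ⟨e, -⟩ := exists_even_algEquiv Ψ hvec
  obtain ⟨e'⟩ := nonempty_even_matrix S m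
  exact ⟨e.trans e'⟩

end Descent

section OddCenter

variable {R : Type*} [CommRing R] {M : Type*} [AddCommGroup M] [Module R M]

/-- The odd part of the centre. -/
def oddCenter (Q : QuadraticForm R M) : Submodule R (CliffordAlgebra Q) :=
  Subalgebra.toSubmodule (Subalgebra.center R (CliffordAlgebra Q)) ⊓ evenOdd Q 1

/-- The even part of the centre. -/
def evenCenter (Q : QuadraticForm R M) : Submodule R (CliffordAlgebra Q) :=
  Subalgebra.toSubmodule (Subalgebra.center R (CliffordAlgebra Q)) ⊓ evenOdd Q 0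

theorem mem_oddCenter {Q : QuadraticForm R M} {z : CliffordAlgebra Q} :
    z ∈ oddCenter Q ↔ z ∈ Subalgebra.center R (CliffordAlgebra Q) ∧ z ∈ evenOdd Q 1 := Iff.rfl

variable {S : Type*} [CommRing S] [Algebra R S]

theorem range_lTensor_mono {P : Type*} [AddCommGroup P] [Module R P] {N N' : Submodule R P}
    (h : N ≤ N') :
    LinearMap.range (N.subtype.lTensor S) ≤ LinearMap.range (N'.subtype.lTensor S) := by
  rintro _ ⟨u, rfl⟩
  refine ⟨(Submodule.inclusion h).lTensor S u, ?_⟩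
  rw [← LinearMap.comp_apply, ← LinearMap.lTensor_comp]
  rfl

theorem mul_mem_range_lTensor_mul {C : Type*} [Ring C] [Algebra R C] {N N' : Submodule R C}
    {t t' : S ⊗[R] C} (ht : t ∈ LinearMap.range (N.subtype.lTensor S))
    (ht' : t' ∈ LinearMap.range (N'.subtype.lTensor S)) :
    t * t' ∈ LinearMap.range ((N * N').subtype.lTensor S) := by
  obtain ⟨u, rfl⟩ := ht
  obtain ⟨u', rfl⟩ := ht'
  induction u using TensorProduct.induction_on with
  | zero => rw [map_zero, zero_mul]; exact Submodule.zero_mem _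
  | add x y hx hy => rw [map_add, add_mul]; exact Submodule.add_mem _ hx hy
  | tmul s x =>
    induction u' using TensorProduct.induction_on with
    | zero => rw [map_zero, mul_zero]; exact Submodule.zero_mem _
    | add x' y' hx' hy' => rw [map_add, mul_add]; exact Submodule.add_mem _ hx' hy'
    | tmul s' x' =>
      rw [LinearMap.lTensor_tmul, LinearMap.lTensor_tmul, Algebra.TensorProduct.tmul_mul_tmul]
      exact ⟨(s * s') ⊗ₜ ⟨x.1 * x'.1, Submodule.mul_mem_mul x.2 x'.2⟩, rfl⟩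

theorem exists_center_range_decomp (Q : QuadraticForm R M) (t : S ⊗[R] CliffordAlgebra Q)
    (ht : t ∈ LinearMap.range
      ((Subalgebra.toSubmodule (Subalgebra.center R (CliffordAlgebra Q))).subtype.lTensor S)) :
    ∃ t₀ ∈ LinearMap.range ((evenCenter Q).subtype.lTensor S),
      ∃ t₁ ∈ LinearMap.range ((oddCenter Q).subtype.lTensor S), t = t₀ + t₁ := by
  obtain ⟨u, rfl⟩ := ht
  induction u using TensorProduct.induction_on with
  | zero => exact ⟨0, Submodule.zero_mem _, 0, Submodule.zero_mem _, by simp⟩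
  | tmul s z =>
    obtain ⟨z₀, z₁, hc0, he0, hc1, he1, hsum⟩ := exists_center_decomp Q z.1 z.2
    refine ⟨s ⊗ₜ z₀, ⟨s ⊗ₜ ⟨z₀, hc0, he0⟩, rfl⟩, s ⊗ₜ z₁, ⟨s ⊗ₜ ⟨z₁, hc1, he1⟩, rfl⟩, ?_⟩
    rw [LinearMap.lTensor_tmul, ← TensorProduct.tmul_add, ← hsum]
    rfl
  | add x y hx hy =>
    obtain ⟨x₀, hx₀, x₁, hx₁, hxe⟩ := hx
    obtain ⟨y₀, hy₀, y₁, hy₁, hye⟩ := hy
    refine ⟨x₀ + y₀, Submodule.add_mem _ hx₀ hy₀, x₁ + y₁, Submodule.add_mem _ hx₁ hy₁, ?_⟩
    rw [map_add, hxe, hye]; abel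

variable {Q : QuadraticForm R M} {m : ℕ}
  (Ψ : (S ⊗[R] CliffordAlgebra Q) ≃ₐ[S] CliffordAlgebra (Q' (Q0 S m)))
  (hvec : ∀ v, Ψ ((1 : S) ⊗ₜ[R] ι Q v) ∈ LinearMap.range (ι (Q' (Q0 S m))))

include hvec in
/-- The odd part of the centre is an invertible module squaring to the scalars. -/
theorem one_mem_oddCenter_mul [Module.FaithfullyFlat R S] [Module.Free R M] [Module.Finite R M] :
    (1 : CliffordAlgebra Q) ∈ oddCenter Q * oddCenter Q := by
  set ζ := Ψ.symm (zz S m) with hζ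
  have hΨζ : Ψ ζ = zz S m := Ψ.apply_symm_apply _
  have hcomm : ∀ b : CliffordAlgebra Q, ζ * ((1 : S) ⊗ₜ[R] b) = ((1 : S) ⊗ₜ[R] b) * ζ := by
    intro b
    apply Ψ.injective
    rw [map_mul, map_mul, hΨζ]
    exact ((Subalgebra.mem_center_iff.mp (zz_mem_center S m)) _).symm
  have hmem := Helper25.CenterFlat.mem_range_center_of_commute S ζ hcomm
  obtain ⟨t₀, ht₀, t₁, ht₁, hsum⟩ := exists_center_range_decomp Q ζ hmem
  have h0 : Ψ t₀ ∈ evenOdd (Q' (Q0 S m)) 0 :=
    gr_of_mem_range_even Ψ hvec t₀ (range_lTensor_mono inf_le_right ht₀)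
  have h1 : Ψ t₁ ∈ evenOdd (Q' (Q0 S m)) 1 :=
    gr_of_mem_range_odd Ψ hvec t₁ (range_lTensor_mono inf_le_right ht₁)
  have h0' : Ψ t₀ ∈ evenOdd (Q' (Q0 S m)) 1 := by
    have : Ψ t₀ = zz S m - Ψ t₁ := by rw [← hΨζ, hsum, map_add]; abel
    rw [this]
    exact Submodule.sub_mem _ (zz_mem_odd S m) h1
  have ht₀0 : t₀ = 0 := by
    have := eq_zero_of_mem_even_of_mem_odd _ h0 h0'
    rw [← map_zero Ψ] at this
    exact Ψ.injective this
  rw [ht₀0, zero_add] at hsum
  have hζζ : ζ * ζ = -1 := by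
    apply Ψ.injective
    rw [map_mul, hΨζ, zz_mul_zz, map_neg, map_one]
  have hmul := mul_mem_range_lTensor_mul (S := S) (hsum ▸ ht₁) (hsum ▸ ht₁)
  rw [hζζ] at hmul
  have hone : (1 : S) ⊗ₜ[R] (1 : CliffordAlgebra Q)
      ∈ LinearMap.range ((oddCenter Q * oddCenter Q).subtype.lTensor S) := by
    have := Submodule.neg_mem _ hmul
    rwa [neg_neg, Algebra.TensorProduct.one_def] at this
  exact mem_of_tmul_mem_range (S := S) _ _ hone

end OddCenter

end Helper25.Cliff
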