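import Groth.Agent.Lib.Helper25.QuadOdd
import Groth.Agent.Lib.Helper25.CliffBC
import Groth.Agent.Lib.Helper41.HalfDiscField
import Groth.Agent.Lib.Helper41.SplitClifford

/-!
# Odd rank: from matrices to forms (split form, base change, half-discriminant)
-/

set_option autoImplicit false
set_option linter.unusedSectionVars false
set_option linter.unusedVariables false
set_option linter.unusedSimpArgs false
set_option linter.style.haveILetI false

universe u

namespace Helper25.QuadMat

open Matrix Helper25.Cliff Groth.Agent.Lib.Helper41.HalfDisc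
open scoped TensorProduct

/-- The index map `x_j ↦ 2j+1`, `y_j ↦ 2j+2`, `z ↦ 0`. -/
def oddIdx (m : ℕ) : (Fin m ⊕ Fin m) ⊕ Fin 1 → Fin (2 * m + 1) :=
  Sum.elim (Sum.elim (fun i => ⟨2 * i + 1, by omega⟩) (fun i => ⟨2 * i + 2, by omega⟩))
    (fun _ => ⟨0, by omega⟩)

theorem oddIdx_injective (m : ℕ) : Function.Injective (oddIdx m) := by
  rintro ((i | i) | i) ((j | j) | j) h <;>
    simp only [oddIdx, Sum.elim_inl, Sum.elim_inr, Fin.mk.injEq] at h
  · congr 2; exact Fin.ext (by omega)
  · omega
  · omega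
  · omega
  · congr 2; exact Fin.ext (by omega)
  · omega
  · omega
  · omega
  · congr 1; exact Subsingleton.elim _ _

/-- The enumeration of `(Fin m ⊕ Fin m) ⊕ Fin 1` used by the split form of odd rank. -/
noncomputable def oddEquiv (m : ℕ) : (Fin m ⊕ Fin m) ⊕ Fin 1 ≃ Fin (2 * m + 1) :=
  Equiv.ofBijective (oddIdx m) ((Fintype.bijective_iff_injective_and_card _).2
    ⟨oddIdx_injective m, by simp; ring⟩)

theorem oddEquiv_apply (m : ℕ) (i : (Fin m ⊕ Fin m) ⊕ Fin 1) : oddEquiv m i = oddIdx m i := rfl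

variable {S : Type*} [CommRing S]

theorem qf_JOdd (m : ℕ) (a : S) (y : (Fin m ⊕ Fin m) ⊕ Fin 1 → S) :
    qf (JOdd m S a) y = (∑ i : Fin m, y (Sum.inl (Sum.inl i)) * y (Sum.inl (Sum.inr i)))
      + a * (y (Sum.inr 0) * y (Sum.inr 0)) := by
  simp only [qf, JOdd, J, Fintype.sum_sum_type, Matrix.fromBlocks_apply₁₁,
    Matrix.fromBlocks_apply₁₂, Matrix.fromBlocks_apply₂₁, Matrix.fromBlocks_apply₂₂,
    Matrix.zero_apply, Matrix.one_apply, Matrix.of_apply, mul_zero, zero_mul,
    Finset.sum_const_zero, add_zero, zero_add, Fin.sum_univ_one, Fin.isValue]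
  congr 1
  · refine Finset.sum_congr rfl fun i _ => ?_
    simp [Finset.sum_ite_eq, mul_ite, ite_mul]
  · ring

theorem splitForm_eq_qfForm (R : Type*) [CommRing R] (m : ℕ) :
    QuadGrp.splitForm R (2 * m + 1)
      = qfForm ((JOdd m R 1).submatrix (oddEquiv m).symm (oddEquiv m).symm) := by
  ext x
  rw [qfForm_apply]
  have h1 : qf ((JOdd m R 1).submatrix (oddEquiv m).symm (oddEquiv m).symm) x
      = qf (JOdd m R 1) (x ∘ oddEquiv m) := by
    have := qf_submatrix (JOdd m R 1) (oddEquiv m).symm (x ∘ oddEquiv m)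
    rw [← this]
    congr 1
    ext k
    simp
  rw [h1, qf_JOdd, Groth.Agent.Lib.Helper41.SplitClifford.splitForm_apply]
  have hmod : (2 * m + 1) % 2 = 1 := by omega
  have hdiv : (2 * m + 1) / 2 = m := by omega
  rw [dif_pos hmod]
  congr 1
  · refine Fintype.sum_equiv (finCongr hdiv) _ _ fun i => ?_
    simp only [Function.comp_apply, oddEquiv_apply, oddIdx, Sum.elim_inl, Sum.elim_inr,
      finCongr_apply, Fin.val_cast]
    congr 2 <;> (apply Fin.ext; simp [hmod])
  · simp only [Function.comp_apply, oddEquiv_apply, oddIdx, Sum.elim_inr, one_mul]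

end Helper25.QuadMat

namespace Helper25.QuadMat

open Matrix Helper25.Cliff Groth.Agent.Lib.Helper41.HalfDisc
open scoped TensorProduct

section Semireg

variable {R : Type*} [CommRing R] {M : Type*} [AddCommGroup M] [Module R M]
  {ι : Type*} [Fintype ι] [DecidableEq ι]

theorem reindex_equivFun_self {n : ℕ} (b : Module.Basis (Fin n) R M) (σ : ι ≃ Fin n) (k : Fin n) :
    (b.reindex σ.symm).equivFun (b k) = Pi.single (σ.symm k) 1 := by
  have : b k = (b.reindex σ.symm) (σ.symm k) := by
    rw [Module.Basis.reindex_apply]; simp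
  rw [this]
  ext i
  rw [Module.Basis.equivFun_self]
  by_cases h : σ.symm k = i
  · subst h; simp
  · simp [h]

theorem qf_single (N : Matrix ι ι R) (k : ι) : qf N (Pi.single k 1) = N k k := by
  rw [qf_eq_bl, bl_single_single]

theorem isUnit_hdetE_of_isSemiregular {n : ℕ} (b : Module.Basis (Fin n) R M)
    (Q : QuadraticForm R M) (hQ : QuadGrp.IsSemiregular b (LinearEquiv.refl R R) Q)
    (σ : ι ≃ Fin n) (N : Matrix ι ι R)
    (hN : ∀ v, qfForm N ((b.reindex σ.symm).equivFun v) = Q v) : IsUnit (hdetE σ N) := by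
  have hpolar : ∀ u v, QuadraticMap.polar Q u v
      = QuadraticMap.polar (qfForm N) ((b.reindex σ.symm).equivFun u)
        ((b.reindex σ.symm).equivFun v) := fun u v => by
    simp only [QuadraticMap.polar, ← hN, map_add]
  have : hdetE σ N = QuadGrp.halfDisc b (LinearEquiv.refl R R) Q := by
    unfold hdetE evalHalf QuadGrp.halfDisc
    congr 1
    ext p
    induction p using Sym2.ind with
    | _ i j =>
      rw [cW_mk, QuadGrp.coeffs_mk]
      simp only [Matrix.submatrix_apply, LinearEquiv.refl_apply]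
      split_ifs with hij
      · rw [← hN, reindex_equivFun_self, qfForm_apply, qf_single]
      · rw [hpolar, reindex_equivFun_self, reindex_equivFun_self, polar_qfForm_single]
        rw [Finset.sum_eq_single (σ.symm i)]
        · simp [Matrix.add_apply]
        · intro k _ hk; simp [Pi.single_apply, hk]
        · simp
  rw [this]
  exact hQ

end Semireg

section Main

variable {R : Type u} [CommRing R] {M : Type*} [AddCommGroup M] [Module R M]

/-- **Fppf-local splitting** of a semiregular form of odd rank, in terms of a Gram matrix in the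
reindexed basis. -/
theorem exists_fppf_split_of_isSemiregular (m : ℕ) (b : Module.Basis (Fin (2 * m + 1)) R M)
    (Q : QuadraticForm R M) (hQ : QuadGrp.IsSemiregular b (LinearEquiv.refl R R) Q) (ε : ℤˣ) :
    ∃ N : Matrix ((Fin m ⊕ Fin m) ⊕ Fin 1) ((Fin m ⊕ Fin m) ⊕ Fin 1) R,
      (∀ v, qfForm N ((b.reindex (oddEquiv m).symm).equivFun v) = Q v) ∧
      ∃ (S : Type u) (_ : CommRing S) (_ : Algebra R S), Module.FaithfullyFlat R S ∧
        Algebra.FinitePresentation R S ∧
        ∃ g : Matrix ((Fin m ⊕ Fin m) ⊕ Fin 1) ((Fin m ⊕ Fin m) ⊕ Fin 1) S,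
          IsUnit g.det ∧ QEq (gᵀ * N.map (algebraMap R S) * g) (JOdd m S (((ε : ℤ) : S))) := by
  haveI : Module.Free R M := Module.Free.of_basis b
  obtain ⟨N, hN⟩ := exists_matrix_of_basis Q (b.reindex (oddEquiv m).symm)
  refine ⟨N, hN, ?_⟩
  have hdet := isUnit_hdetE_of_isSemiregular b Q hQ (oddEquiv m) N hN
  exact exists_fppf_cover_split_odd R m N (oddEquiv m) ⟨m, rfl⟩ hdet ε

end Main

section BaseChangeForm

variable {R : Type*} [CommRing R] {ι : Type*} [Fintype ι] [DecidableEq ι] {n : ℕ}

theorem nonempty_baseChangeForm_isometryEquiv (Q : QuadraticForm R (Fin n → R)) (σ : ι ≃ Fin n)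
    (N : Matrix ι ι R) (hN : ∀ v, Q v = qf N (v ∘ σ)) (S : Type*) [CommRing S] [Algebra R S] :
    Nonempty ((QuadGrp.baseChangeForm S Q).IsometryEquiv (qfForm (N.map (algebraMap R S)))) := by
  let E : S ⊗[R] (Fin n → R) ≃ₗ[S] (ι → S) :=
    (TensorProduct.piScalarRight R S S (Fin n)).trans (LinearEquiv.funCongrLeft S S σ)
  have hE : ∀ v : Fin n → R, E ((1 : S) ⊗ₜ[R] v) = fun i => algebraMap R S (v (σ i)) := by
    intro v
    ext i
    simp [E, LinearEquiv.funCongrLeft, Algebra.algebraMap_eq_smul_one]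
  have key : QuadGrp.baseChangeForm S Q = (qfForm (N.map (algebraMap R S))).comp E.toLinearMap := by
    apply baseChange_ext
    intro v
    rw [baseChangeForm_one_tmul, QuadraticMap.comp_apply, LinearEquiv.coe_coe, hE, qfForm_apply,
      hN]
    exact (qf_map (algebraMap R S) N (v ∘ σ)).symm
  exact ⟨{ E with map_app' := fun x => by rw [key]; rfl }⟩

end BaseChangeForm

end Helper25.QuadMat
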