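import Groth.Agent.Lib.Helper25.CliffOddBC
import Groth.Agent.Lib.Helper25.QuadOddForm

/-!
# The Clifford algebra of the split form of odd rank `∑ x_j y_j - z²`
-/

set_option autoImplicit false
set_option linter.unusedSectionVars false
set_option linter.unusedVariables false
set_option linter.unusedSimpArgs false
set_option linter.style.haveILetI false
set_option linter.unreachableTactic false
set_option linter.unusedTactic false

namespace Helper25.Cliff

open CliffordAlgebra CliffordAlgebra.EquivEven Helper25.QuadMat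
open Groth.Agent.Lib.Helper41.SplitClifford

section Model

variable (S : Type*) [CommRing S] (m : ℕ)

/-- The even-rank split form. -/
noncomputable abbrev Q0 : QuadraticForm S (Fin m ⊕ Fin m → S) := qfForm (J m S)

theorem v_mul_v_add_swap {M : Type*} [AddCommGroup M] [Module S M] (Q : QuadraticForm S M)
    (a b : M) : v Q a * v Q b + v Q b * v Q a = algebraMap S _ (QuadraticMap.polar Q a b) := by
  unfold v
  rw [LinearMap.comp_apply, LinearMap.comp_apply, ι_mul_ι_add_swap]
  congr 1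
  simp [QuadraticMap.polar, Q'_apply]

/-- The index of the basis vector attached to a pair. -/
def pidx (p : Fin m × Fin 2) : Fin m ⊕ Fin m := if p.2 = 0 then Sum.inl p.1 else Sum.inr p.1

/-- The hyperbolic basis vectors inside the Clifford algebra of `Q' Q0`. -/
noncomputable def EE (p : Fin m × Fin 2) : CliffordAlgebra (Q' (Q0 S m)) :=
  v (Q0 S m) (Pi.single (pidx m p) 1)

theorem J_diag (k : Fin m ⊕ Fin m) : J m S k k = 0 := by
  rcases k with k | k <;> simp [J]

theorem J_polar (k l : Fin m ⊕ Fin m) :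
    (J m S + (J m S).transpose) k l
      = if (∃ i, (k = Sum.inl i ∧ l = Sum.inr i) ∨ (k = Sum.inr i ∧ l = Sum.inl i)) then 1 else 0 := by
  rcases k with k | k <;> rcases l with l | l <;>
    simp [J, Matrix.one_apply, eq_comm]

theorem Q0_single (k : Fin m ⊕ Fin m) : Q0 S m (Pi.single k 1) = 0 := by
  rw [qfForm_apply, qf_single, J_diag]

theorem polar_Q0_single (k l : Fin m ⊕ Fin m) :
    QuadraticMap.polar (Q0 S m) (Pi.single k 1) (Pi.single l 1) = (J m S + (J m S).transpose) k l := by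
  rw [polar_qfForm_single, Finset.sum_eq_single k]
  · simp
  · intro j _ hj; simp [Pi.single_apply, hj]
  · simp

theorem EE_sq (p : Fin m × Fin 2) : EE S m p * EE S m p = 0 := by
  unfold EE
  rw [v_sq_scalar, Q0_single, map_zero]

theorem EE_pair (i : Fin m) : EE S m (i, 0) * EE S m (i, 1) + EE S m (i, 1) * EE S m (i, 0) = 1 := by
  unfold EE
  rw [v_mul_v_add_swap, polar_Q0_single, J_polar, if_pos, map_one]
  exact ⟨i, Or.inl ⟨by simp [pidx], by simp [pidx]⟩⟩

theorem EE_anti (p q : Fin m × Fin 2) (hpq : p.1 ≠ q.1) :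
    EE S m p * EE S m q = -(EE S m q * EE S m p) := by
  rw [eq_neg_iff_add_eq_zero]
  unfold EE
  rw [v_mul_v_add_swap, polar_Q0_single, J_polar, if_neg, map_zero]
  rintro ⟨i, ⟨h1, h2⟩ | ⟨h1, h2⟩⟩
  · obtain ⟨p1, p2⟩ := p
    obtain ⟨q1, q2⟩ := q
    simp only [pidx] at h1 h2
    split_ifs at h1 h2 <;> simp_all
  · obtain ⟨p1, p2⟩ := p
    obtain ⟨q1, q2⟩ := q
    simp only [pidx] at h1 h2
    split_ifs at h1 h2 <;> simp_all

/-- The volume-like element `∏ (1 - 2 x_j y_j)`. -/
noncomputable def WW : CliffordAlgebra (Q' (Q0 S m)) := W (EE S m) (List.finRange m)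

theorem EE_mul_WW (p : Fin m × Fin 2) : EE S m p * WW S m = -(WW S m * EE S m p) :=
  E_mul_W_of_mem (EE S m) (EE_sq S m) (EE_pair S m) (EE_anti S m) p (List.finRange m)
    (List.nodup_finRange m) (List.mem_finRange _)

theorem WW_mul_WW : WW S m * WW S m = 1 :=
  W_mul_W (EE S m) (EE_sq S m) (EE_pair S m) (EE_anti S m) (List.finRange m) (List.nodup_finRange m)

theorem single_eq_pidx (k : Fin m ⊕ Fin m) : ∃ p : Fin m × Fin 2, pidx m p = k := by
  rcases k with i | i
  · exact ⟨(i, 0), by simp [pidx]⟩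
  · exact ⟨(i, 1), by simp [pidx]⟩

theorem v_mul_WW (u : Fin m ⊕ Fin m → S) :
    v (Q0 S m) u * WW S m = -(WW S m * v (Q0 S m) u) := by
  have hu : u = ∑ k, u k • (Pi.single k 1 : Fin m ⊕ Fin m → S) := by
    ext j
    simp [Finset.sum_apply, Pi.single_apply]
  rw [hu, map_sum, Finset.sum_mul, Finset.mul_sum, ← Finset.sum_neg_distrib]
  refine Finset.sum_congr rfl fun k _ => ?_
  obtain ⟨p, hp⟩ := single_eq_pidx m k
  rw [map_smul, smul_mul_assoc, mul_smul_comm, ← smul_neg]
  congr 1
  rw [← hp]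
  exact EE_mul_WW S m p

theorem e0_mul_EE (p : Fin m × Fin 2) :
    e0 (Q0 S m) * EE S m p = -(EE S m p * e0 (Q0 S m)) := by
  unfold EE
  rw [neg_v_mul_e0]

theorem e0_commute_w (i : Fin m) : Commute (e0 (Q0 S m)) (w (EE S m) i) := by
  have h : Commute (e0 (Q0 S m)) (EE S m (i, 0) * EE S m (i, 1)) := by
    show _ * _ = _ * _
    rw [← mul_assoc, e0_mul_EE, neg_mul, mul_assoc, e0_mul_EE, mul_neg, neg_neg, mul_assoc]
  unfold w
  exact (Commute.one_right _).sub_right ((Commute.ofNat_right _ _).mul_right h)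

theorem e0_mul_WW : e0 (Q0 S m) * WW S m = WW S m * e0 (Q0 S m) := by
  refine Commute.list_prod_right _ _ ?_
  intro x hx
  obtain ⟨i, _, rfl⟩ := List.mem_map.mp hx
  exact e0_commute_w S m i

/-- The odd central element. -/
noncomputable def zz : CliffordAlgebra (Q' (Q0 S m)) := e0 (Q0 S m) * WW S m

theorem zz_mul_zz : zz S m * zz S m = -1 := by
  unfold zz
  rw [mul_assoc, ← mul_assoc (WW S m), ← e0_mul_WW, mul_assoc, WW_mul_WW, mul_one, e0_mul_e0]

theorem zz_mem_center : zz S m ∈ Subalgebra.center S (CliffordAlgebra (Q' (Q0 S m))) := by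
  refine mem_center_of_commute_ι _ _ ?_
  rintro ⟨u, r⟩
  rw [ι_eq_v_add_smul_e0, mul_add, add_mul]
  congr 1
  · unfold zz
    have h1 : WW S m * v (Q0 S m) u = -(v (Q0 S m) u * WW S m) := by
      rw [v_mul_WW, neg_neg]
    rw [mul_assoc, h1, mul_neg, ← mul_assoc, ← mul_assoc, ← neg_e0_mul_v, neg_mul]
  · unfold zz
    rw [mul_smul_comm, smul_mul_assoc, mul_assoc, ← e0_mul_WW, ← mul_assoc]

theorem w_mem_even (i : Fin m) : w (EE S m) i ∈ even (Q' (Q0 S m)) := by
  unfold w
  refine Subalgebra.sub_mem _ (Subalgebra.one_mem _) (Subalgebra.mul_mem _ ?_ ?_)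
  · exact ofNat_mem _ 2
  · exact ι_mul_ι_mem_evenOdd_zero _ _ _

theorem WW_mem_even : WW S m ∈ evenOdd (Q' (Q0 S m)) 0 := by
  have : WW S m ∈ even (Q' (Q0 S m)) := by
    refine Subalgebra.list_prod_mem _ ?_
    intro x hx
    obtain ⟨i, _, rfl⟩ := List.mem_map.mp hx
    exact w_mem_even S m i
  exact this

theorem zz_mem_odd : zz S m ∈ evenOdd (Q' (Q0 S m)) 1 := by
  unfold zz
  have := SetLike.mul_mem_graded (ι_mem_evenOdd_one (Q' (Q0 S m)) (0, 1)) (WW_mem_even S m)
  rwa [add_zero] at this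

theorem star_w (i : Fin m) : star (w (EE S m) i) = -(w (EE S m) i) := by
  have hE : ∀ p, star (EE S m p) = -(EE S m p) := fun p => star_ι _
  have h2 := EE_pair S m i
  unfold w
  rw [star_sub, star_one, star_mul, star_mul, hE, hE, star_ofNat]
  have : EE S m (i, 1) * EE S m (i, 0) = 1 - EE S m (i, 0) * EE S m (i, 1) :=
    eq_sub_of_add_eq' h2
  rw [neg_mul_neg, this]
  have hc : Commute (1 - EE S m (i, 0) * EE S m (i, 1)) (2 : CliffordAlgebra (Q' (Q0 S m))) :=
    Commute.ofNat_right _ _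
  rw [hc.eq]
  noncomm_ring

theorem star_W (L : List (Fin m)) (hL : L.Nodup) :
    star (W (EE S m) L) = ((-1 : S) ^ L.length) • W (EE S m) L := by
  induction L with
  | nil => simp [W]
  | cons i L ih =>
    rw [List.nodup_cons] at hL
    have hc : Commute (w (EE S m) i) (W (EE S m) L) := by
      refine Commute.list_prod_right _ _ ?_
      intro x hx
      obtain ⟨k, hk, rfl⟩ := List.mem_map.mp hx
      exact w_commute (EE S m) (EE_anti S m) i k (fun h => hL.1 (h ▸ hk))
    have hcons : W (EE S m) (i :: L) = w (EE S m) i * W (EE S m) L := by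
      simp [W]
    rw [hcons, star_mul, ih hL.2, star_w, List.length_cons, pow_succ, smul_mul_assoc, mul_neg,
      ← hc.eq, mul_neg_one, neg_smul, smul_neg]

theorem star_zz : star (zz S m) = ((-1 : S) ^ (m + 1)) • zz S m := by
  unfold zz WW
  rw [star_mul, star_W S m _ (List.nodup_finRange m), List.length_finRange]
  have : star (e0 (Q0 S m)) = -(e0 (Q0 S m)) := star_ι _
  have h3 : W (EE S m) (List.finRange m) * e0 (Q0 S m)
      = e0 (Q0 S m) * W (EE S m) (List.finRange m) := (e0_mul_WW S m).symm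
  rw [this, smul_mul_assoc, mul_neg, h3, pow_succ, mul_neg_one, neg_smul, smul_neg]

/-- The even part of the Clifford algebra of `Q' Q0` is a matrix algebra of size `2^m`. -/
theorem nonempty_even_matrix :
    Nonempty (↥(even (Q' (Q0 S m))) ≃ₐ[S] Matrix (Fin (2 ^ m)) (Fin (2 ^ m)) S) := by
  classical
  obtain ⟨k₁, k₀, ⟨I, i1, i2, π, Φ, h1, h0, -⟩, hsum, -⟩ := hasSplitModel_J (R := S) m
  have hcard : Fintype.card I = Fintype.card (Fin (2 ^ m)) := by
    rw [Fintype.card_fin, card_eq_add_of_parity π h1 h0, hsum]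
  exact ⟨((equivEven (Q0 S m)).symm.trans Φ).trans
    (Matrix.reindexAlgEquiv S S (Fintype.equivOfCardEq hcard))⟩

/-- Even central elements are scalars. -/
theorem mem_range_algebraMap_of_center_even (x : CliffordAlgebra (Q' (Q0 S m)))
    (hx : x ∈ Subalgebra.center S (CliffordAlgebra (Q' (Q0 S m))))
    (hx0 : x ∈ evenOdd (Q' (Q0 S m)) 0) :
    x ∈ (algebraMap S (CliffordAlgebra (Q' (Q0 S m)))).range := by
  classical
  obtain ⟨e⟩ := nonempty_even_matrix S m
  rw [Subalgebra.mem_center_iff] at hx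
  let x' : ↥(even (Q' (Q0 S m))) := ⟨x, hx0⟩
  have hcomm : ∀ y : ↥(even (Q' (Q0 S m))), y * x' = x' * y := fun y =>
    Subtype.ext (hx y.1)
  have hscalar : e x' ∈ Set.range (Matrix.scalar (Fin (2 ^ m))) := by
    rw [Matrix.mem_range_scalar_iff_commute_single']
    intro i j
    show _ * _ = _ * _
    rw [← e.apply_symm_apply (Matrix.single i j (1 : S)), ← map_mul, ← map_mul, hcomm]
  obtain ⟨a, ha⟩ := hscalar
  have h1 : x' = algebraMap S _ a := by
    apply e.injective
    rw [← ha, AlgEquiv.commutes]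
    rfl
  refine ⟨a, ?_⟩
  have := congrArg Subtype.val h1
  exact this.symm

/-- Odd central elements are multiples of `zz`. -/
theorem eq_smul_zz_of_center_odd (x : CliffordAlgebra (Q' (Q0 S m)))
    (hx : x ∈ Subalgebra.center S (CliffordAlgebra (Q' (Q0 S m))))
    (hx1 : x ∈ evenOdd (Q' (Q0 S m)) 1) : ∃ a : S, x = a • zz S m := by
  have h1 : x * zz S m ∈ Subalgebra.center S (CliffordAlgebra (Q' (Q0 S m))) :=
    Subalgebra.mul_mem _ hx (zz_mem_center S m)
  have h2 : x * zz S m ∈ evenOdd (Q' (Q0 S m)) 0 := by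
    have := SetLike.mul_mem_graded hx1 (zz_mem_odd S m)
    rwa [show (1 : ZMod 2) + 1 = 0 from rfl] at this
  obtain ⟨a, ha⟩ := mem_range_algebraMap_of_center_even S m _ h1 h2
  refine ⟨-a, ?_⟩
  have h3 : x = -(x * zz S m * zz S m) := by
    rw [mul_assoc, zz_mul_zz, mul_neg_one, neg_neg]
  rw [h3, ← ha, neg_smul, Algebra.smul_def]

end Model

end Helper25.Cliff
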