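import Groth.Agent.Lib.Helper25.CliffOddLocal

/-!
# The naive Clifford group in odd rank: intertwiners, local homogeneity, factorisation
-/

set_option autoImplicit false
set_option linter.unusedSectionVars false
set_option linter.unusedVariables false
set_option linter.unusedSimpArgs false
set_option linter.style.haveILetI false
set_option linter.unreachableTactic false
set_option linter.unusedTactic false

namespace Helper25.Cliff

open CliffordAlgebra Helper25.QuadMat
open scoped Pointwise

section Rel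

variable {R : Type*} [CommRing R] {M : Type*} [AddCommGroup M] [Module R M]
  (Q : QuadraticForm R M)

/-- `x` intertwines `v` and `w`: `x v = w x`. -/
def Rel (x : CliffordAlgebra Q) (v w : M) : Prop := x * ι Q v = ι Q w * x

theorem exists_rel_left (u : (CliffordAlgebra Q)ˣ) (hu : u ∈ QuadGrp.GPin' Q) (v : M) :
    ∃ w, Rel Q (u : CliffordAlgebra Q) v w := by
  obtain ⟨w, hw⟩ := conj_mem_range_of_mem_GPin' Q u hu v
  refine ⟨w, ?_⟩
  have := congrArg (fun z => z * (u : CliffordAlgebra Q)) hw
  simp only [mul_assoc, Units.inv_mul, mul_one] at this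
  exact this

theorem exists_rel_right (u : (CliffordAlgebra Q)ˣ) (hu : u ∈ QuadGrp.GPin' Q) (w : M) :
    ∃ v, Rel Q (u : CliffordAlgebra Q) v w := by
  obtain ⟨v, hv⟩ := conj_mem_range_of_mem_GPin' Q u⁻¹ (inv_mem hu) w
  refine ⟨v, ?_⟩
  rw [inv_inv] at hv
  have := congrArg (fun z => (u : CliffordAlgebra Q) * z) hv
  simp only [← mul_assoc, Units.mul_inv, one_mul] at this
  exact this.symm

variable {Q}

theorem Rel.components {U a b' : CliffordAlgebra Q} (ha : a ∈ evenOdd Q 0)
    (hb : b' ∈ evenOdd Q 1) (hU : a + b' = U) {v w : M} (h : Rel Q U v w) :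
    Rel Q a v w ∧ Rel Q b' v w := by
  unfold Rel at h ⊢
  rw [← hU, add_mul, mul_add] at h
  have e0 : a * ι Q v ∈ evenOdd Q 1 := by
    have := SetLike.mul_mem_graded ha (ι_mem_evenOdd_one Q v)
    simpa using this
  have e1 : b' * ι Q v ∈ evenOdd Q 0 := by
    have := SetLike.mul_mem_graded hb (ι_mem_evenOdd_one Q v)
    rwa [show (1 : ZMod 2) + 1 = 0 from rfl] at this
  have f0 : ι Q w * a ∈ evenOdd Q 1 := by
    have := SetLike.mul_mem_graded (ι_mem_evenOdd_one Q w) ha
    simpa using this
  have f1 : ι Q w * b' ∈ evenOdd Q 0 := by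
    have := SetLike.mul_mem_graded (ι_mem_evenOdd_one Q w) hb
    rwa [show (1 : ZMod 2) + 1 = 0 from rfl] at this
  have h2 : b' * ι Q v + a * ι Q v = ι Q w * b' + ι Q w * a := by
    rw [add_comm, h, add_comm]
  obtain ⟨g1, g0⟩ := even_odd_unique Q e1 f1 e0 f0 h2
  exact ⟨g0, g1⟩

theorem Rel.inv {U Ui : CliffordAlgebra Q} (h1 : U * Ui = 1) (h2 : Ui * U = 1) {v w : M}
    (h : Rel Q U v w) : Rel Q Ui w v := by
  unfold Rel at h ⊢
  have := congrArg (fun z => Ui * z * Ui) h
  simp only [← mul_assoc, h2, one_mul] at this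
  rw [mul_assoc, h1, mul_one] at this
  exact this.symm

theorem Rel.star {x : CliffordAlgebra Q} {v w : M} (h : Rel Q x v w) : Rel Q (star x) w v := by
  unfold Rel at h ⊢
  have := congrArg Star.star h
  rw [star_mul, star_mul, star_ι, star_ι, neg_mul, mul_neg, neg_inj] at this
  exact this.symm

theorem Rel.smul {x : CliffordAlgebra Q} {v w : M} (h : Rel Q x v w) (r : R) :
    Rel Q (r • x) v w := by
  unfold Rel at h ⊢
  rw [smul_mul_assoc, mul_smul_comm, h]

theorem Rel.central_mul {x c : CliffordAlgebra Q} {v w : M} (h : Rel Q x v w)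
    (hc : c ∈ Subalgebra.center R (CliffordAlgebra Q)) : Rel Q (c * x) v w := by
  unfold Rel at h ⊢
  rw [mul_assoc, h, ← mul_assoc, ← mul_assoc]
  congr 1
  exact ((Subalgebra.mem_center_iff (R := R)).mp hc _).symm

theorem star_mem_evenOdd {x : CliffordAlgebra Q} {i : ZMod 2} (hx : x ∈ evenOdd Q i) :
    star x ∈ evenOdd Q i := by
  rw [star_def, reverse_mem_evenOdd_iff, involute_mem_evenOdd_iff]
  exact hx

/-- `x` sends `v ↦ w`, `y` sends `w ↦ v` along a relation total on the right: `x y` is central. -/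
theorem mul_mem_center_of_rel {U x y : CliffordAlgebra Q}
    (hx : ∀ v w, Rel Q U v w → Rel Q x v w) (hy : ∀ v w, Rel Q U v w → Rel Q y w v)
    (hall : ∀ w, ∃ v, Rel Q U v w) : x * y ∈ Subalgebra.center R (CliffordAlgebra Q) := by
  refine mem_center_of_commute_ι Q _ fun w => ?_
  obtain ⟨v, hv⟩ := hall w
  have h1 : x * ι Q v = ι Q w * x := hx v w hv
  have h2 : y * ι Q w = ι Q v * y := hy v w hv
  rw [mul_assoc, h2, ← mul_assoc, h1, mul_assoc]

theorem mul_mem_center_of_rel' {U x y : CliffordAlgebra Q}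
    (hx : ∀ v w, Rel Q U v w → Rel Q x v w) (hy : ∀ v w, Rel Q U v w → Rel Q y w v)
    (hall : ∀ v, ∃ w, Rel Q U v w) : y * x ∈ Subalgebra.center R (CliffordAlgebra Q) := by
  refine mem_center_of_commute_ι Q _ fun v => ?_
  obtain ⟨w, hw⟩ := hall v
  have h1 : x * ι Q v = ι Q w * x := hx v w hw
  have h2 : y * ι Q w = ι Q v * y := hy v w hw
  rw [mul_assoc, h1, ← mul_assoc, h2, mul_assoc]

theorem mem_GPin'_of_rel (u : (CliffordAlgebra Q)ˣ)
    (h1 : ∀ v, ∃ w, Rel Q (u : CliffordAlgebra Q) v w)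
    (h2 : ∀ w, ∃ v, Rel Q (u : CliffordAlgebra Q) v w) : u ∈ QuadGrp.GPin' Q := by
  rw [QuadGrp.mem_GPin']
  apply le_antisymm
  · intro x hx
    obtain ⟨y, hy, rfl⟩ := (Submodule.mem_smul_pointwise_iff_exists _ _ _).mp hx
    obtain ⟨v, rfl⟩ := hy
    obtain ⟨w, hw⟩ := h1 v
    refine ⟨w, ?_⟩
    rw [ConjAct.units_smul_def, ConjAct.ofConjAct_toConjAct]
    unfold Rel at hw
    rw [hw, mul_assoc, Units.mul_inv, mul_one]
  · rintro _ ⟨w, rfl⟩
    obtain ⟨v, hv⟩ := h2 w
    rw [Submodule.mem_smul_pointwise_iff_exists]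
    refine ⟨ι Q v, ⟨_, rfl⟩, ?_⟩
    rw [ConjAct.units_smul_def, ConjAct.ofConjAct_toConjAct]
    unfold Rel at hv
    rw [hv, mul_assoc, Units.mul_inv, mul_one]

end Rel

section PinEq

variable {R : Type*} [CommRing R] {M : Type*} [AddCommGroup M] [Module R M]
  (Q : QuadraticForm R M)

/-- Units of Clifford norm one normalising `M` are locally homogeneous, when the anti-involution is
trivial on the odd part of the centre and `2` is invertible. -/
theorem isLocHomog_of_mem_Pin' [Invertible (2 : R)] [Module.Free R M]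
    (hF1 : ∀ z, z ∈ Subalgebra.center R (CliffordAlgebra Q) → z ∈ evenOdd Q 0 →
        z ∈ (algebraMap R (CliffordAlgebra Q)).range)
    (hF3 : ∀ z, z ∈ Subalgebra.center R (CliffordAlgebra Q) → z ∈ evenOdd Q 1 → star z = z)
    (u : (CliffordAlgebra Q)ˣ) (hu : u ∈ QuadGrp.GPin' Q)
    (hn : star (u : CliffordAlgebra Q) * u = 1) :
    QuadGrp.IsLocHomog Q (u : CliffordAlgebra Q) := by
  obtain ⟨a, b', ha, hb, hU⟩ :=
    Submodule.codisjoint_iff_exists_add_eq.mp (evenOdd_isCompl Q).codisjoint
      (u : CliffordAlgebra Q)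
  set U : CliffordAlgebra Q := (u : CliffordAlgebra Q) with hUdef
  have hUi : (↑u⁻¹ : CliffordAlgebra Q) = star U := (Units.inv_eq_of_mul_eq_one_left hn)
  have hn' : U * star U = 1 := by rw [← hUi]; exact Units.mul_inv u
  have hsa : star a ∈ evenOdd Q 0 := star_mem_evenOdd ha
  have hsb : star b' ∈ evenOdd Q 1 := star_mem_evenOdd hb
  have hsU : star a + star b' = star U := by rw [← hU, star_add]
  have hl := exists_rel_left Q u hu
  have hr := exists_rel_right Q u hu
  have hxa : ∀ v w, Rel Q U v w → Rel Q a v w := fun v w h => (h.components ha hb hU).1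
  have hxb : ∀ v w, Rel Q U v w → Rel Q b' v w := fun v w h => (h.components ha hb hU).2
  have hya : ∀ v w, Rel Q U v w → Rel Q (star a) w v := fun v w h => (hxa v w h).star
  have hyb : ∀ v w, Rel Q U v w → Rel Q (star b') w v := fun v w h => (hxb v w h).star
  -- the four central elements
  have c1 : star a * b' ∈ Subalgebra.center R (CliffordAlgebra Q) :=
    mul_mem_center_of_rel' hxb hya hl
  have c2 : a * star b' ∈ Subalgebra.center R (CliffordAlgebra Q) :=
    mul_mem_center_of_rel hxa hyb hr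
  have c3 : star a * a ∈ Subalgebra.center R (CliffordAlgebra Q) :=
    mul_mem_center_of_rel' hxa hya hl
  have c4 : star b' * b' ∈ Subalgebra.center R (CliffordAlgebra Q) :=
    mul_mem_center_of_rel' hxb hyb hl
  have o1 : star a * b' ∈ evenOdd Q 1 := by
    have := SetLike.mul_mem_graded hsa hb
    rwa [zero_add] at this
  have o2 : a * star b' ∈ evenOdd Q 1 := by
    have := SetLike.mul_mem_graded ha hsb
    rwa [zero_add] at this
  have e3 : star a * a ∈ evenOdd Q 0 := by
    have := SetLike.mul_mem_graded hsa ha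
    rwa [add_zero] at this
  have e4 : star b' * b' ∈ evenOdd Q 0 := odd_mul_odd_mem_even Q hsb hb
  -- expand the two norm equations
  have hexp1 : (star a * a + star b' * b') + (star a * b' + star b' * a) = 1 + 0 := by
    rw [add_zero, ← hn, ← hsU, ← hU]; noncomm_ring
  have hexp2 : (a * star a + b' * star b') + (a * star b' + b' * star a) = 1 + 0 := by
    rw [add_zero, ← hn', ← hsU, ← hU]; noncomm_ring
  have o1' : star b' * a ∈ evenOdd Q 1 := by
    have := SetLike.mul_mem_graded hsb ha
    rwa [add_zero] at this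
  have o2' : b' * star a ∈ evenOdd Q 1 := by
    have := SetLike.mul_mem_graded hb hsa
    rwa [add_zero] at this
  have e5 : a * star a ∈ evenOdd Q 0 := by
    have := SetLike.mul_mem_graded ha hsa
    rwa [add_zero] at this
  have e6 : b' * star b' ∈ evenOdd Q 0 := odd_mul_odd_mem_even Q hb hsb
  obtain ⟨k1, k2⟩ := even_odd_unique Q (Submodule.add_mem _ e3 e4) (SetLike.one_mem_graded _)
    (Submodule.add_mem _ o1 o1') (Submodule.zero_mem _) hexp1
  obtain ⟨k3, k4⟩ := even_odd_unique Q (Submodule.add_mem _ e5 e6) (SetLike.one_mem_graded _)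
    (Submodule.add_mem _ o2 o2') (Submodule.zero_mem _) hexp2
  have two_cancel : ∀ x : CliffordAlgebra Q, x + x = 0 → x = 0 := by
    intro x hx
    have h2 : (2 : R) • x = 0 := by rw [two_smul]; exact hx
    have := congrArg (fun y => (⅟(2 : R)) • y) h2
    simpa [smul_smul] using this
  have z1 : star a * b' = 0 := by
    apply two_cancel
    have hs := hF3 _ c1 o1
    rw [star_mul, star_star] at hs
    rw [hs] at k2
    exact k2
  have z1' : star b' * a = 0 := by
    have hs := hF3 _ c1 o1
    rw [star_mul, star_star] at hs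
    rw [hs, z1]
  have z2 : a * star b' = 0 := by
    apply two_cancel
    have hs := hF3 _ c2 o2
    rw [star_mul, star_star] at hs
    rw [hs] at k4
    exact k4
  have z2' : b' * star a = 0 := by
    have hs := hF3 _ c2 o2
    rw [star_mul, star_star] at hs
    rw [hs, z2]
  obtain ⟨ρ, hρ⟩ := hF1 _ c3 e3
  obtain ⟨σ, hσ⟩ := hF1 _ c4 e4
  have hsum : ρ + σ = 1 := by
    apply algebraMap_injective Q
    rw [map_add, hρ, hσ, k1, map_one]
  have hprod : ρ * σ = 0 := by
    apply algebraMap_injective Q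
    rw [map_mul, hρ, hσ, map_zero, mul_assoc, ← mul_assoc a, z2, zero_mul, mul_zero]
  have hρb : ρ • b' = 0 := by
    rw [Algebra.smul_def, Algebra.commutes, hρ, ← mul_assoc, z2', zero_mul]
  have hσa : σ • a = 0 := by
    rw [Algebra.smul_def, Algebra.commutes, hσ, ← mul_assoc, z2, zero_mul]
  have hσe : 1 - ρ = σ := by rw [← hsum]; ring
  refine ⟨ρ, ?_, ?_, ?_⟩
  · show ρ * ρ = ρ
    have : ρ * ρ = ρ * (ρ + σ) - ρ * σ := by ring
    rw [this, hsum, hprod]; ring
  · rw [← hU, smul_add, hρb, add_zero]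
    exact Submodule.smul_mem _ _ ha
  · rw [hσe, ← hU, smul_add, hσa, zero_add]
    exact Submodule.smul_mem _ _ hb

end PinEq

end Helper25.Cliff
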