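import Mathlib

/-!
# Functors cut out by polynomial equations are represented by quotients of polynomial rings
-/

set_option autoImplicit false
universe u v

namespace Helper25.PolyRep

variable {R : Type u} [CommRing R] {σ : Type v} {τ : Type v} (rels : τ → MvPolynomial σ R)

/-- The quotient of the polynomial ring by the relations. -/
abbrev Quot : Type (max u v) := MvPolynomial σ R ⧸ Ideal.span (Set.range rels)

/-- Solutions of the relations in an `R`-algebra. -/
abbrev Sol (A : Type*) [CommRing A] [Algebra R A] : Type _ :=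
  {x : σ → A // ∀ k, MvPolynomial.aeval x (rels k) = 0}

variable {A A' : Type*} [CommRing A] [Algebra R A] [CommRing A'] [Algebra R A']

theorem span_le_ker (x : Sol rels A) :
    ∀ p ∈ Ideal.span (Set.range rels), (MvPolynomial.aeval (R := R) x.1) p = 0 := by
  intro p hp
  have : Ideal.span (Set.range rels) ≤ RingHom.ker (MvPolynomial.aeval (R := R) x.1).toRingHom := by
    rw [Ideal.span_le]
    rintro _ ⟨k, rfl⟩
    exact x.2 k
  exact this hp

theorem aeval_comp_mk (f : Quot rels →ₐ[R] A) (p : MvPolynomial σ R) :
    MvPolynomial.aeval (fun s => f (Ideal.Quotient.mk _ (MvPolynomial.X s))) p =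
      f (Ideal.Quotient.mk _ p) := by
  have : (MvPolynomial.aeval (R := R) fun s => f (Ideal.Quotient.mk (Ideal.span (Set.range rels))
      (MvPolynomial.X s))) = f.comp (Ideal.Quotient.mkₐ R _) := by
    apply MvPolynomial.algHom_ext
    intro s
    simp
  rw [this]; rfl

/-- Algebra maps out of the quotient are solutions. -/
noncomputable def solEquiv (A : Type*) [CommRing A] [Algebra R A] :
    (Quot rels →ₐ[R] A) ≃ Sol rels A where
  toFun f := ⟨fun s => f (Ideal.Quotient.mk _ (MvPolynomial.X s)), fun k => by
    rw [aeval_comp_mk,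
      Ideal.Quotient.eq_zero_iff_mem.mpr (Ideal.subset_span (Set.mem_range_self k)), map_zero]⟩
  invFun x := Ideal.Quotient.liftₐ _ (MvPolynomial.aeval x.1) (span_le_ker rels x)
  left_inv f := by
    apply Ideal.Quotient.algHom_ext
    apply MvPolynomial.algHom_ext
    intro s
    exact MvPolynomial.aeval_X _ _
  right_inv x := by
    apply Subtype.ext
    funext s
    exact (Ideal.Quotient.lift_mk _ _ _).trans (MvPolynomial.aeval_X _ _)

theorem solEquiv_comp (φ : A →ₐ[R] A') (f : Quot rels →ₐ[R] A) (s : σ) :
    (solEquiv rels A' (φ.comp f)).1 s = φ ((solEquiv rels A f).1 s) := rfl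

theorem solEquiv_apply (f : Quot rels →ₐ[R] A) (s : σ) :
    (solEquiv rels A f).1 s = f (Ideal.Quotient.mk _ (MvPolynomial.X s)) := rfl

theorem solEquiv_symm_apply_X (x : Sol rels A) (s : σ) :
    (solEquiv rels A).symm x (Ideal.Quotient.mk _ (MvPolynomial.X s)) = x.1 s := by
  exact (Ideal.Quotient.lift_mk _ _ _).trans (MvPolynomial.aeval_X _ _)

instance [Finite σ] [Finite τ] : Algebra.FinitePresentation R (Quot rels) := by
  apply Algebra.FinitePresentation.quotient
  exact Submodule.fg_span (Set.finite_range rels)

end Helper25.PolyRep
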