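import Groth.Agent.Lib.Helper25.CliffBCForm
import Groth.Agent.Lib.Helper25.PolyRep
import Groth.Agent.Lib.Helper25.CliffGPin

/-!
# The Clifford group functor (and the Pin functor) are represented by a finitely presented algebra
-/

set_option autoImplicit false
set_option linter.unusedSectionVars false
set_option linter.unusedVariables false
set_option linter.unusedSimpArgs false
set_option linter.style.haveILetI false
set_option linter.unreachableTactic false
set_option linter.unusedTactic false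

universe u

namespace Helper25.CliffPoly

open CliffordAlgebra QuadGrp Helper25.Cliff Helper25.CliffBCF Helper25.PolyRep
open scoped TensorProduct

variable {R : Type u} [CommRing R] {M : Type u} [AddCommGroup M] [Module R M]
  [Module.Free R M] [Module.Finite R M] (Q : QuadraticForm R M)

/-- Index type of a chosen basis of `M`. -/
abbrev ν (R M : Type u) [CommRing R] [AddCommGroup M] [Module R M] [Module.Free R M] : Type u :=
  Module.Free.ChooseBasisIndex R M

/-- The variables: coordinates of `u`, of `u⁻¹`, of the images of the basis vectors under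
conjugation by `u` and by `u⁻¹`, and the idempotent. -/
abbrev Var : Type u := (κ Q ⊕ κ Q) ⊕ ((ν R M × ν R M) ⊕ (ν R M × ν R M)) ⊕ PUnit.{u + 1}

variable {Q}

/-- Index type of the equations. -/
abbrev J (R M : Type u) [CommRing R] [AddCommGroup M] [Module R M] [Module.Free R M] : Type u :=
  (ULift.{u} (Fin 2) ⊕ (ν R M ⊕ ν R M)) ⊕ ULift.{u} (Fin 4)

section Generic

variable {A A' : Type u} [CommRing A] [Algebra R A] [CommRing A'] [Algebra R A']

/-- The basis `1 ⊗ bᵢ` of `A ⊗ M`. -/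
noncomputable def bMA (A : Type u) [CommRing A] [Algebra R A] :
    Module.Basis (ν R M) A (A ⊗[R] M) :=
  (Module.Free.chooseBasis R M).baseChange A

theorem bMA_apply (i : ν R M) : bMA (R := R) (M := M) A i =
    (1 : A) ⊗ₜ[R] Module.Free.chooseBasis R M i := by
  simp [bMA]

theorem rTensor_bMA (φ : A →ₐ[R] A') (i : ν R M) :
    LinearMap.rTensor M φ.toLinearMap (bMA A i) = bMA A' i := by
  rw [bMA_apply, bMA_apply, LinearMap.rTensor_tmul]
  simp

theorem rTensor_smul (φ : A →ₐ[R] A') (a : A) (v : A ⊗[R] M) :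
    LinearMap.rTensor M φ.toLinearMap (a • v) = φ a • LinearMap.rTensor M φ.toLinearMap v := by
  induction v using TensorProduct.induction_on with
  | zero => simp
  | tmul b m =>
    rw [TensorProduct.smul_tmul', LinearMap.rTensor_tmul, LinearMap.rTensor_tmul,
      TensorProduct.smul_tmul']
    simp
  | add x y hx hy => rw [smul_add, map_add, hx, hy, map_add, smul_add]

variable (Q)

theorem Fcan_smul_R (φ : A →ₐ[R] A') (c : R) (y : CliffordAlgebra (baseChangeForm A Q)) :
    Fcan Q φ (c • y) = c • Fcan Q φ y := by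
  rw [← algebraMap_smul A c y, Fcan_smul, AlgHom.commutes, algebraMap_smul]

/-- The element `u` of a point. -/
noncomputable def uX (x : Var Q → A) : CliffordAlgebra (baseChangeForm A Q) :=
  ∑ k, x (.inl (.inl k)) • βA Q A k

/-- The element `u⁻¹` of a point. -/
noncomputable def wX (x : Var Q → A) : CliffordAlgebra (baseChangeForm A Q) :=
  ∑ k, x (.inl (.inr k)) • βA Q A k

/-- The image of the `i`-th basis vector under conjugation by `u`. -/
noncomputable def gX (x : Var Q → A) (i : ν R M) : A ⊗[R] M :=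
  ∑ j, x (.inr (.inl (.inl (i, j)))) • bMA A j

/-- The image of the `i`-th basis vector under conjugation by `u⁻¹`. -/
noncomputable def gX' (x : Var Q → A) (i : ν R M) : A ⊗[R] M :=
  ∑ j, x (.inr (.inl (.inr (i, j)))) • bMA A j

/-- The idempotent of a point. -/
def eX (x : Var Q → A) : A := x (.inr (.inr PUnit.unit))

theorem uX_comp (φ : A →ₐ[R] A') (x : Var Q → A) :
    uX Q (fun s => φ (x s)) = Fcan Q φ (uX Q x) := by
  unfold uX
  rw [Fcan_sum_smul]

theorem wX_comp (φ : A →ₐ[R] A') (x : Var Q → A) :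
    wX Q (fun s => φ (x s)) = Fcan Q φ (wX Q x) := by
  unfold wX
  rw [Fcan_sum_smul]

theorem gX_comp (φ : A →ₐ[R] A') (x : Var Q → A) (i : ν R M) :
    gX Q (fun s => φ (x s)) i = LinearMap.rTensor M φ.toLinearMap (gX Q x i) := by
  unfold gX
  rw [map_sum]
  refine Finset.sum_congr rfl fun j _ => ?_
  rw [rTensor_smul, rTensor_bMA]

theorem gX'_comp (φ : A →ₐ[R] A') (x : Var Q → A) (i : ν R M) :
    gX' Q (fun s => φ (x s)) i = LinearMap.rTensor M φ.toLinearMap (gX' Q x i) := by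
  unfold gX'
  rw [map_sum]
  refine Finset.sum_congr rfl fun j _ => ?_
  rw [rTensor_smul, rTensor_bMA]

/-- The equations, evaluated at a point; `c = 1` includes the norm-one equation, `c = 0` omits
it. -/
noncomputable def eqAt (c : R) (x : Var Q → A) : J R M → CliffordAlgebra (baseChangeForm A Q) :=
  Sum.elim
    (Sum.elim (fun t => ![uX Q x * wX Q x - 1, wX Q x * uX Q x - 1] t.down)
      (Sum.elim (fun i => uX Q x * ι _ (bMA A i) - ι _ (gX Q x i) * uX Q x)
        (fun i => wX Q x * ι _ (bMA A i) - ι _ (gX' Q x i) * wX Q x)))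
    (fun t => ![algebraMap A _ (eX Q x * eX Q x - eX Q x), eX Q x • pO _ (uX Q x),
      (1 - eX Q x) • pE _ (uX Q x),
      algebraMap R A c • (star (uX Q x) * uX Q x - 1)] t.down)

theorem Fcan_eqAt (φ : A →ₐ[R] A') (c : R) (x : Var Q → A) (j : J R M) :
    Fcan Q φ (eqAt Q c x j) = eqAt Q c (fun s => φ (x s)) j := by
  rcases j with (⟨⟨t⟩⟩ | i | i) | ⟨⟨t⟩⟩
  · fin_cases t
    · simp [eqAt, uX_comp, wX_comp]
    · simp [eqAt, uX_comp, wX_comp]
  · simp [eqAt, uX_comp, gX_comp, Fcan_ι, rTensor_bMA]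
  · simp [eqAt, wX_comp, gX'_comp, Fcan_ι, rTensor_bMA]
  · fin_cases t
    · simp [eqAt, eX, Fcan_algebraMap]
    · simp [eqAt, eX, Fcan_smul, Fcan_pO, uX_comp]
    · simp [eqAt, eX, Fcan_smul, Fcan_pE, uX_comp]
    · simp [eqAt, Fcan_smul_R, Fcan_star, uX_comp]

end Generic

section Rels

variable (Q) (c : R) {A A' : Type u} [CommRing A] [Algebra R A] [CommRing A'] [Algebra R A']

/-- The relations: the coordinates of the equations at the generic point. -/
noncomputable def rels : J R M × κ Q → MvPolynomial (Var Q) R :=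
  fun p => (βA Q (MvPolynomial (Var Q) R)).repr (eqAt Q c MvPolynomial.X p.1) p.2

theorem aeval_rels (x : Var Q → A) (p : J R M × κ Q) :
    MvPolynomial.aeval x (rels Q c p) = (βA Q A).repr (eqAt Q c x p.1) p.2 := by
  unfold rels
  rw [← repr_Fcan Q (MvPolynomial.aeval x), Fcan_eqAt]
  congr 3
  funext s
  exact MvPolynomial.aeval_X x s

theorem forall_aeval_rels_iff (x : Var Q → A) :
    (∀ p, MvPolynomial.aeval x (rels Q c p) = 0) ↔ ∀ j, eqAt Q c x j = 0 := by
  constructor
  · intro h j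
    apply (βA Q A).repr.injective
    ext k
    rw [← aeval_rels Q c x (j, k), h, map_zero, Finsupp.zero_apply]
  · intro h p
    rw [aeval_rels, h, map_zero, Finsupp.zero_apply]

/-- The conditions cut out by the equations. -/
def Cond (x : Var Q → A) : Prop :=
  uX Q x * wX Q x = 1 ∧ wX Q x * uX Q x = 1 ∧
  (∀ i, uX Q x * ι _ (bMA A i) = ι _ (gX Q x i) * uX Q x) ∧
  (∀ i, wX Q x * ι _ (bMA A i) = ι _ (gX' Q x i) * wX Q x) ∧
  eX Q x * eX Q x = eX Q x ∧ eX Q x • pO _ (uX Q x) = 0 ∧ (1 - eX Q x) • pE _ (uX Q x) = 0 ∧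
  c • (star (uX Q x) * uX Q x - 1) = 0

theorem forall_eqAt_iff (x : Var Q → A) : (∀ j, eqAt Q c x j = 0) ↔ Cond Q c x := by
  have hinj := Helper25.Cliff.algebraMap_injective (baseChangeForm A Q)
  have h0 : algebraMap A (CliffordAlgebra (baseChangeForm A Q)) (eX Q x * eX Q x - eX Q x) = 0 ↔
      eX Q x * eX Q x = eX Q x := by
    rw [← sub_eq_zero (a := eX Q x * eX Q x)]
    exact ⟨fun h => hinj (by rw [h, map_zero]), fun h => by rw [h, map_zero]⟩
  simp only [Sum.forall, ULift.forall, Fin.forall_fin_succ, Fin.forall_fin_zero, eqAt,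
    Sum.elim_inl, Sum.elim_inr, Matrix.cons_val_zero, Matrix.cons_val_one, Matrix.cons_val_succ,
    Matrix.cons_val_two, Matrix.cons_val_three, Fin.succ_zero_eq_one, Fin.succ_one_eq_two,
    sub_eq_zero, h0, and_true, algebraMap_smul, Cond, and_assoc]

end Rels

section GPinMem

variable {R' : Type*} [CommRing R'] {M' : Type*} [AddCommGroup M'] [Module R' M']
  (Q' : QuadraticForm R' M')

open scoped Pointwise in
theorem mem_GPin'_of_forall (u : (CliffordAlgebra Q')ˣ)
    (h1 : ∀ v, ∃ w, (u : CliffordAlgebra Q') * ι Q' v * ↑u⁻¹ = ι Q' w)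
    (h2 : ∀ v, ∃ w, (↑u⁻¹ : CliffordAlgebra Q') * ι Q' v * u = ι Q' w) : u ∈ QuadGrp.GPin' Q' := by
  rw [QuadGrp.mem_GPin']
  apply le_antisymm
  · intro x hx
    obtain ⟨y, hy, rfl⟩ := (Submodule.mem_smul_pointwise_iff_exists _ _ _).mp hx
    obtain ⟨v, rfl⟩ := hy
    obtain ⟨w, hw⟩ := h1 v
    refine ⟨w, ?_⟩
    rw [ConjAct.units_smul_def, ConjAct.ofConjAct_toConjAct, hw]
  · rintro _ ⟨w, rfl⟩
    rw [Submodule.mem_smul_pointwise_iff_exists]
    obtain ⟨v, hv⟩ := h2 w
    refine ⟨ι Q' v, ⟨_, rfl⟩, ?_⟩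
    rw [ConjAct.units_smul_def, ConjAct.ofConjAct_toConjAct, ← hv]
    simp only [← mul_assoc, Units.mul_inv, one_mul]
    rw [mul_assoc, Units.mul_inv, mul_one]

end GPinMem

section Points

variable (Q) (c : R) {A A' : Type u} [CommRing A] [Algebra R A] [CommRing A'] [Algebra R A']

/-- The unit attached to a point satisfying the conditions. -/
noncomputable def unitOf (x : Var Q → A) (h : Cond Q c x) :
    (CliffordAlgebra (baseChangeForm A Q))ˣ :=
  ⟨uX Q x, wX Q x, h.1, h.2.1⟩

theorem conj_eq_of_cond (x : Var Q → A) (h : Cond Q c x) (v : A ⊗[R] M) :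
    uX Q x * ι _ v * wX Q x = ι _ (∑ i, (bMA A).repr v i • gX Q x i) := by
  conv_lhs => rw [← (bMA A).sum_repr v]
  rw [map_sum, Finset.mul_sum, Finset.sum_mul, map_sum]
  refine Finset.sum_congr rfl fun i _ => ?_
  rw [map_smul, map_smul, mul_smul_comm, smul_mul_assoc, h.2.2.1 i, mul_assoc, h.1, mul_one]

theorem conj_eq_of_cond' (x : Var Q → A) (h : Cond Q c x) (v : A ⊗[R] M) :
    wX Q x * ι _ v * uX Q x = ι _ (∑ i, (bMA A).repr v i • gX' Q x i) := by
  conv_lhs => rw [← (bMA A).sum_repr v]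
  rw [map_sum, Finset.mul_sum, Finset.sum_mul, map_sum]
  refine Finset.sum_congr rfl fun i _ => ?_
  rw [map_smul, map_smul, mul_smul_comm, smul_mul_assoc, h.2.2.2.1 i, mul_assoc, h.2.1, mul_one]

theorem unitOf_mem_gpin (x : Var Q → A) (h : Cond Q c x) : unitOf Q c x h ∈ gpin Q A := by
  refine ⟨?_, ?_⟩
  · exact mem_GPin'_of_forall _ _ (fun v => ⟨_, conj_eq_of_cond Q c x h v⟩)
      (fun v => ⟨_, conj_eq_of_cond' Q c x h v⟩)
  · refine ⟨eX Q x, h.2.2.2.2.1, ?_, ?_⟩
    · rw [mem_even_iff_pO, map_smul]; exact h.2.2.2.2.2.1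
    · rw [mem_odd_iff_pE, map_smul]; exact h.2.2.2.2.2.2.1

theorem repr_uX (x : Var Q → A) (k : κ Q) : (βA Q A).repr (uX Q x) k = x (.inl (.inl k)) := by
  unfold uX
  rw [Module.Basis.repr_sum_self]

theorem repr_wX (x : Var Q → A) (k : κ Q) : (βA Q A).repr (wX Q x) k = x (.inl (.inr k)) := by
  unfold wX
  rw [Module.Basis.repr_sum_self]

theorem repr_gX (x : Var Q → A) (i j : ν R M) :
    (bMA A).repr (gX Q x i) j = x (.inr (.inl (.inl (i, j)))) := by
  unfold gX
  rw [Module.Basis.repr_sum_self]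

theorem repr_gX' (x : Var Q → A) (i j : ν R M) :
    (bMA A).repr (gX' Q x i) j = x (.inr (.inl (.inr (i, j)))) := by
  unfold gX'
  rw [Module.Basis.repr_sum_self]

theorem cond_ext (x x' : Var Q → A) (h : Cond Q c x) (h' : Cond Q c x') (hu : uX Q x = uX Q x') :
    x = x' := by
  have hw : wX Q x = wX Q x' := by
    calc wX Q x = wX Q x * (uX Q x' * wX Q x') := by rw [h'.1, mul_one]
      _ = (wX Q x * uX Q x) * wX Q x' := by rw [← hu, mul_assoc]
      _ = wX Q x' := by rw [h.2.1, one_mul]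
  have hιinj := Helper25.Cliff.ι_injective (baseChangeForm A Q)
  have hg : ∀ i, gX Q x i = gX Q x' i := fun i => by
    apply hιinj
    have e1 : ι (baseChangeForm A Q) (gX Q x i) = uX Q x * ι _ (bMA A i) * wX Q x := by
      rw [h.2.2.1 i, mul_assoc, h.1, mul_one]
    have e2 : ι (baseChangeForm A Q) (gX Q x' i) = uX Q x' * ι _ (bMA A i) * wX Q x' := by
      rw [h'.2.2.1 i, mul_assoc, h'.1, mul_one]
    rw [e1, e2, hu, hw]
  have hg' : ∀ i, gX' Q x i = gX' Q x' i := fun i => by
    apply hιinj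
    have e1 : ι (baseChangeForm A Q) (gX' Q x i) = wX Q x * ι _ (bMA A i) * uX Q x := by
      rw [h.2.2.2.1 i, mul_assoc, h.2.1, mul_one]
    have e2 : ι (baseChangeForm A Q) (gX' Q x' i) = wX Q x' * ι _ (bMA A i) * uX Q x' := by
      rw [h'.2.2.2.1 i, mul_assoc, h'.2.1, mul_one]
    rw [e1, e2, hu, hw]
  have he : eX Q x = eX Q x' := by
    have hinj := Helper25.Cliff.algebraMap_injective (baseChangeForm A Q)
    apply hinj
    have k1 : (eX Q x - eX Q x') • pO _ (uX Q x) = 0 := by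
      rw [sub_smul, h.2.2.2.2.2.1, hu, h'.2.2.2.2.2.1, sub_zero]
    have k2 : (eX Q x - eX Q x') • pE _ (uX Q x) = 0 := by
      have : eX Q x - eX Q x' = (1 - eX Q x') - (1 - eX Q x) := by ring
      rw [this, sub_smul, h.2.2.2.2.2.2.1, hu, h'.2.2.2.2.2.2.1, sub_zero]
    have k3 : (eX Q x - eX Q x') • uX Q x = 0 := by
      rw [← pE_add_pO _ (uX Q x), smul_add, k1, k2, add_zero]
    have k4 : (eX Q x - eX Q x') • (1 : CliffordAlgebra (baseChangeForm A Q)) = 0 := by
      rw [← h.1, ← smul_mul_assoc, k3, zero_mul]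
    rw [← sub_eq_zero, ← map_sub, Algebra.algebraMap_eq_smul_one, k4]
  funext s
  rcases s with (k | k) | (⟨i, j⟩ | ⟨i, j⟩) | ⟨⟩
  · rw [← repr_uX Q x k, ← repr_uX Q x' k, hu]
  · rw [← repr_wX Q x k, ← repr_wX Q x' k, hw]
  · rw [← repr_gX Q x i j, ← repr_gX Q x' i j, hg]
  · rw [← repr_gX' Q x i j, ← repr_gX' Q x' i j, hg']
  · exact he

theorem exists_cond (t : (CliffordAlgebra (baseChangeForm A Q))ˣ) (ht : t ∈ gpin Q A)
    (hc : c • (star (t : CliffordAlgebra (baseChangeForm A Q)) * t - 1) = 0) :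
    ∃ x : Var Q → A, ∃ h : Cond Q c x, unitOf Q c x h = t := by
  obtain ⟨ht1, e, he, he0, he1⟩ := ht
  have ht1' : t⁻¹ ∈ QuadGrp.GPin' (baseChangeForm A Q) := inv_mem ht1
  choose gv hgv using fun i => conj_mem_range_of_mem_GPin' _ t ht1 (bMA A i)
  choose gv' hgv' using fun i => conj_mem_range_of_mem_GPin' _ t⁻¹ ht1' (bMA A i)
  obtain ⟨x, hx⟩ : ∃ x : Var Q → A, x = Sum.elim
    (Sum.elim (fun k => (βA Q A).repr (t : CliffordAlgebra _) k)
      (fun k => (βA Q A).repr (↑t⁻¹ : CliffordAlgebra _) k))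
    (Sum.elim (Sum.elim (fun p => (bMA A).repr (gv p.1) p.2) (fun p => (bMA A).repr (gv' p.1) p.2))
      (fun _ => e)) := ⟨_, rfl⟩
  have hu : uX Q x = t := by
    unfold uX
    simp only [hx, Sum.elim_inl]
    exact (βA Q A).sum_repr _
  have hw : wX Q x = ↑t⁻¹ := by
    unfold wX
    simp only [hx, Sum.elim_inl, Sum.elim_inr]
    exact (βA Q A).sum_repr _
  have hg : ∀ i, gX Q x i = gv i := fun i => by
    unfold gX
    simp only [hx, Sum.elim_inl, Sum.elim_inr]
    exact (bMA A).sum_repr _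
  have hg' : ∀ i, gX' Q x i = gv' i := fun i => by
    unfold gX'
    simp only [hx, Sum.elim_inl, Sum.elim_inr]
    exact (bMA A).sum_repr _
  have hex : eX Q x = e := by
    unfold eX
    simp only [hx, Sum.elim_inr]
  have hcond : Cond Q c x := by
    refine ⟨?_, ?_, ?_, ?_, ?_, ?_, ?_, ?_⟩
    · rw [hu, hw, Units.mul_inv]
    · rw [hu, hw, Units.inv_mul]
    · intro i
      rw [hu, hg, ← hgv i, mul_assoc, mul_assoc, Units.inv_mul, mul_one]
    · intro i
      rw [hw, hg', ← hgv' i, inv_inv, mul_assoc, mul_assoc, Units.mul_inv, mul_one]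
    · rw [hex]; exact he
    · rw [hex, hu, ← map_smul, pO_of_even _ he0]
    · rw [hex, hu, ← map_smul, pE_of_odd _ he1]
    · rw [hu]; exact hc
  exact ⟨x, hcond, Units.ext hu⟩

end Points

section Rep

variable (Q) (c : R)
  (T : ∀ (A : Type u) [CommRing A] [Algebra R A],
    Subgroup (CliffordAlgebra (baseChangeForm A Q))ˣ)
  (hT : ∀ (A : Type u) [CommRing A] [Algebra R A] (t : (CliffordAlgebra (baseChangeForm A Q))ˣ),
    t ∈ T A ↔ t ∈ gpin Q A ∧
      c • (star (t : CliffordAlgebra (baseChangeForm A Q)) * t - 1) = 0)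

/-- The representing algebra. -/
abbrev Alg : Type u := Quot (rels Q c)

instance : Algebra.FinitePresentation R (Alg Q c) := inferInstance

variable {A A' : Type u} [CommRing A] [Algebra R A] [CommRing A'] [Algebra R A']

theorem cond_of_sol (x : Sol (rels Q c) A) : Cond Q c x.1 :=
  (forall_eqAt_iff Q c x.1).mp ((forall_aeval_rels_iff Q c x.1).mp x.2)

include hT in
theorem unitOf_mem (x : Sol (rels Q c) A) : unitOf Q c x.1 (cond_of_sol Q c x) ∈ T A := by
  rw [hT]
  exact ⟨unitOf_mem_gpin Q c x.1 (cond_of_sol Q c x), (cond_of_sol Q c x).2.2.2.2.2.2.2⟩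

include hT in
theorem toT_bijective : Function.Bijective
    (fun x : Sol (rels Q c) A => (⟨unitOf Q c x.1 (cond_of_sol Q c x), unitOf_mem Q c T hT x⟩ :
      ↥(T A))) := by
  constructor
  · intro x x' h
    apply Subtype.ext
    apply cond_ext Q c x.1 x'.1 (cond_of_sol Q c x) (cond_of_sol Q c x')
    have := congrArg (fun t : ↥(T A) => ((t : (CliffordAlgebra (baseChangeForm A Q))ˣ) :
      CliffordAlgebra (baseChangeForm A Q))) h
    exact this
  · rintro ⟨t, ht⟩
    obtain ⟨ht1, ht2⟩ := (hT A t).mp ht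
    obtain ⟨x, hx, hxt⟩ := exists_cond Q c t ht1 ht2
    refine ⟨⟨x, (forall_aeval_rels_iff Q c x).mpr ((forall_eqAt_iff Q c x).mpr hx)⟩, ?_⟩
    apply Subtype.ext
    exact hxt

/-- The representing algebra represents the functor `T`. -/
noncomputable def rep (A : Type u) [CommRing A] [Algebra R A] : (Alg Q c →ₐ[R] A) ≃ ↥(T A) :=
  (solEquiv (rels Q c) A).trans (Equiv.ofBijective _ (toT_bijective Q c T hT))

theorem rep_val (f : Alg Q c →ₐ[R] A) :
    (((rep Q c T hT A f : ↥(T A)) : (CliffordAlgebra (baseChangeForm A Q))ˣ) :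
      CliffordAlgebra (baseChangeForm A Q)) = uX Q (solEquiv (rels Q c) A f).1 := rfl

theorem rep_comp (φ : A →ₐ[R] A') (f : Alg Q c →ₐ[R] A) :
    (((rep Q c T hT A' (φ.comp f) : ↥(T A')) : (CliffordAlgebra (baseChangeForm A' Q))ˣ) :
        CliffordAlgebra (baseChangeForm A' Q)) =
      Fcan Q φ (((rep Q c T hT A f : ↥(T A)) : (CliffordAlgebra (baseChangeForm A Q))ˣ) :
        CliffordAlgebra (baseChangeForm A Q)) := by
  rw [rep_val, rep_val, ← uX_comp]
  rfl

end Rep

end Helper25.CliffPoly
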