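import Groth.Prelude.Def_QuadGrp2
import Groth.Agent.Lib.Helper25.AffRep
import Groth.Agent.Lib.Helper25.CliffBCForm

/-!
# A pinned Clifford-type group scheme is the spectrum of any algebra representing its functor
-/

set_option autoImplicit false
set_option linter.style.haveILetI false
set_option linter.unusedSectionVars false
universe u
open CategoryTheory AlgebraicGeometry Limits TensorProduct MonObj

namespace Helper25.AffRep

open Helper25.CliffBCF

variable {R : Type u} [CommRing R] {M : Type u} [AddCommGroup M] [Module R M]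
  [Module.Free R M] [Module.Finite R M] {Q : QuadraticForm R M}
  {T : ∀ (A : Type u) [CommRing A] [Algebra R A],
    Subgroup (CliffordAlgebra (QuadGrp.baseChangeForm A Q))ˣ}
  {G : Over (Spec (CommRingCat.of R))} [GrpObj G]

/-- If an `R`-algebra `B` represents the subgroup functor `T` (naturally with respect to the
canonical maps of Clifford algebras), the universal point `Spec B ⟶ G` of a group scheme `G` pinned
to `T` is an isomorphism. -/
theorem CliffRep.exists_isIso (D : QuadGrp.CliffRep Q T G) (B : Type u) [CommRing B] [Algebra R B]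
    (rep : ∀ (A : Type u) [CommRing A] [Algebra R A], (B →ₐ[R] A) ≃ ↥(T A))
    (hrep : ∀ (A A' : Type u) [CommRing A] [Algebra R A] [CommRing A'] [Algebra R A']
      (φ : A →ₐ[R] A') (f : B →ₐ[R] A),
      (((rep A' (φ.comp f) : ↥(T A')) : (CliffordAlgebra (QuadGrp.baseChangeForm A' Q))ˣ) :
          CliffordAlgebra (QuadGrp.baseChangeForm A' Q)) =
        Fcan Q φ (((rep A f : ↥(T A)) : (CliffordAlgebra (QuadGrp.baseChangeForm A Q))ˣ) :
          CliffordAlgebra (QuadGrp.baseChangeForm A Q))) :
    ∃ y₀ : QuadGrp.specOver R B ⟶ G, IsIso y₀ := by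
  let y₀ : QuadGrp.specOver R B ⟶ G := (D.pts B).symm (rep B (AlgHom.id R B))
  refine ⟨y₀, ?_⟩
  refine isIso_of_rep B y₀ (fun A _ _ => ↥(T A)) (fun A _ _ => (D.pts A).toEquiv) rep ?_
  intro A _ _ φ
  apply Subtype.ext
  apply Units.ext
  have h1 := D.natural B A φ (Fcan Q φ) (Fcan_ι Q φ) (Fcan_algebraMap Q φ) y₀
  have h2 : D.pts B y₀ = rep B (AlgHom.id R B) := (D.pts B).apply_symm_apply _
  have h3 := hrep B A φ (AlgHom.id R B)
  rw [AlgHom.comp_id] at h3
  change (((D.pts A (QuadGrp.specOverMap R φ ≫ y₀) : ↥(T A)) :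
    (CliffordAlgebra (QuadGrp.baseChangeForm A Q))ˣ) :
    CliffordAlgebra (QuadGrp.baseChangeForm A Q)) = _
  rw [h1, h2, h3]

theorem CliffRep.smooth_iff (D : QuadGrp.CliffRep Q T G) (B : Type u) [CommRing B] [Algebra R B]
    (rep : ∀ (A : Type u) [CommRing A] [Algebra R A], (B →ₐ[R] A) ≃ ↥(T A))
    (hrep : ∀ (A A' : Type u) [CommRing A] [Algebra R A] [CommRing A'] [Algebra R A']
      (φ : A →ₐ[R] A') (f : B →ₐ[R] A),
      (((rep A' (φ.comp f) : ↥(T A')) : (CliffordAlgebra (QuadGrp.baseChangeForm A' Q))ˣ) :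
          CliffordAlgebra (QuadGrp.baseChangeForm A' Q)) =
        Fcan Q φ (((rep A f : ↥(T A)) : (CliffordAlgebra (QuadGrp.baseChangeForm A Q))ˣ) :
          CliffordAlgebra (QuadGrp.baseChangeForm A Q))) :
    (Smooth G.hom ↔ Algebra.Smooth R B) ∧ IsAffineHom G.hom := by
  obtain ⟨y₀, hy⟩ := CliffRep.exists_isIso D B rep hrep
  exact ⟨smooth_iff_of_isIso B y₀, isAffineHom_of_isIso B y₀⟩

/-- Formal smoothness of a representing algebra from the infinitesimal lifting property, which it
suffices to check for algebras over a faithfully flat `R`-algebra `S`. -/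
theorem smooth_of_lifting_over (B : Type u) [CommRing B] [Algebra R B]
    [Algebra.FinitePresentation R B]
    (rep : ∀ (A : Type u) [CommRing A] [Algebra R A], (B →ₐ[R] A) ≃ ↥(T A))
    (hrep : ∀ (A A' : Type u) [CommRing A] [Algebra R A] [CommRing A'] [Algebra R A']
      (φ : A →ₐ[R] A') (f : B →ₐ[R] A),
      (((rep A' (φ.comp f) : ↥(T A')) : (CliffordAlgebra (QuadGrp.baseChangeForm A' Q))ˣ) :
          CliffordAlgebra (QuadGrp.baseChangeForm A' Q)) =
        Fcan Q φ (((rep A f : ↥(T A)) : (CliffordAlgebra (QuadGrp.baseChangeForm A Q))ˣ) :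
          CliffordAlgebra (QuadGrp.baseChangeForm A Q)))
    (S : Type u) [CommRing S] [Algebra R S] [Module.FaithfullyFlat R S]
    (H : ∀ (A : Type u) [CommRing A] [Algebra R A] [Algebra S A] [IsScalarTower R S A]
      (I : Ideal A), I ^ 2 = ⊥ → ∀ t' ∈ T (A ⧸ I), ∃ t ∈ T A,
        Fcan Q (Ideal.Quotient.mkₐ R I) ((t : (CliffordAlgebra (QuadGrp.baseChangeForm A Q))ˣ) :
          CliffordAlgebra _) = ((t' : (CliffordAlgebra (QuadGrp.baseChangeForm (A ⧸ I) Q))ˣ) :
          CliffordAlgebra _)) :
    Algebra.Smooth R B := by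
  haveI : Algebra.Smooth S (S ⊗[R] B) := by
    refine ⟨?_, inferInstance⟩
    apply Algebra.FormallySmooth.of_comp_surjective
    intro A _ _ I hI f'
    letI : Algebra R A := ((algebraMap S A).comp (algebraMap R S)).toAlgebra
    haveI : IsScalarTower R S A := IsScalarTower.of_algebraMap_eq fun _ => rfl
    let f'R : B →ₐ[R] A ⧸ I :=
      (f'.restrictScalars R).comp Algebra.TensorProduct.includeRight
    obtain ⟨t, ht, htt'⟩ := H A I hI (rep (A ⧸ I) f'R).1 (rep (A ⧸ I) f'R).2
    let fR : B →ₐ[R] A := (rep A).symm ⟨t, ht⟩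
    let f : S ⊗[R] B →ₐ[S] A :=
      Algebra.TensorProduct.lift (Algebra.ofId S A) fR (fun _ _ => Commute.all _ _)
    refine ⟨f, ?_⟩
    apply Algebra.TensorProduct.ext
    · ext
    · apply (rep (A ⧸ I)).injective
      apply Subtype.ext
      apply Units.ext
      have h1 : (((Ideal.Quotient.mkₐ S I).comp f).restrictScalars R).comp
          Algebra.TensorProduct.includeRight = (Ideal.Quotient.mkₐ R I).comp fR := by
        ext b
        simp [f]
      rw [h1, hrep, Equiv.apply_symm_apply]
      exact htt'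
  exact Algebra.Smooth.of_smooth_tensorProduct_of_faithfullyFlat S

end Helper25.AffRep
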