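import Groth.Agent.Lib.Helper25.CliffRepIso
import Groth.Agent.Lib.Helper25.CliffPolyRep

/-!
# Smoothness and affineness of pinned Clifford-type group schemes from the infinitesimal lifting
property
-/

set_option autoImplicit false
set_option linter.style.haveILetI false
set_option linter.unusedSectionVars false
universe u
open CategoryTheory AlgebraicGeometry Limits TensorProduct MonObj

namespace Helper25.AffRep

open Helper25.CliffBCF Helper25.CliffPoly QuadGrp

variable {R : Type u} [CommRing R] {M : Type u} [AddCommGroup M] [Module R M]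
  [Module.Free R M] [Module.Finite R M] {Q : QuadraticForm R M}
  {T : ∀ (A : Type u) [CommRing A] [Algebra R A],
    Subgroup (CliffordAlgebra (QuadGrp.baseChangeForm A Q))ˣ}
  {G : Over (Spec (CommRingCat.of R))} [GrpObj G]

/-- A group scheme pinned to a subfunctor `T` of the Clifford group cut out by the norm-one
condition (`c = 1`) or not (`c = 0`) is affine, and it is smooth as soon as `T` has the
infinitesimal lifting property over algebras over a faithfully flat `R`-algebra. -/
theorem CliffRep.smooth_of_lifting (D : QuadGrp.CliffRep Q T G) (c : R)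
    (hT : ∀ (A : Type u) [CommRing A] [Algebra R A]
      (t : (CliffordAlgebra (baseChangeForm A Q))ˣ),
      t ∈ T A ↔ t ∈ gpin Q A ∧
        c • (star (t : CliffordAlgebra (baseChangeForm A Q)) * t - 1) = 0)
    (S : Type u) [CommRing S] [Algebra R S] [Module.FaithfullyFlat R S]
    (H : ∀ (A : Type u) [CommRing A] [Algebra R A] [Algebra S A] [IsScalarTower R S A]
      (I : Ideal A), I ^ 2 = ⊥ → ∀ t' ∈ T (A ⧸ I), ∃ t ∈ T A,
        Fcan Q (Ideal.Quotient.mkₐ R I) ((t : (CliffordAlgebra (QuadGrp.baseChangeForm A Q))ˣ) :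
          CliffordAlgebra _) = ((t' : (CliffordAlgebra (QuadGrp.baseChangeForm (A ⧸ I) Q))ˣ) :
          CliffordAlgebra _)) :
    Smooth G.hom ∧ IsAffineHom G.hom := by
  obtain ⟨h1, h2⟩ := CliffRep.smooth_iff D (Alg Q c) (rep Q c T hT)
    (fun A A' _ _ _ _ φ f => rep_comp Q c T hT φ f)
  refine ⟨h1.mpr ?_, h2⟩
  exact smooth_of_lifting_over (Alg Q c) (rep Q c T hT)
    (fun A A' _ _ _ _ φ f => rep_comp Q c T hT φ f) S H

end Helper25.AffRep
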