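import Groth.Agent.Lib.Helper25.QuadPlane

/-!
# Étale-local splitting of a regular quadratic form of even rank (characteristic free)
-/

set_option autoImplicit false
set_option linter.unusedSectionVars false
set_option linter.unusedVariables false
set_option linter.unusedSimpArgs false
set_option linter.style.haveILetI false

universe u

namespace Helper25.QuadMat

open Matrix Polynomial

/-- Étale-locally around a prime `p`, a root of `X² + cX + αβ` whose discriminant
`c² - 4αβ` is a unit at `p`. -/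
theorem exists_etale_root (R : Type u) [CommRing R] (p : PrimeSpectrum R) (α β c : R)
    (hα : α ∉ p.asIdeal) (hμ : 4 * α * β - c ^ 2 ∉ p.asIdeal) :
    ∃ (B : Type u) (_ : CommRing B) (_ : Algebra R B), Algebra.Etale R B ∧
      (∃ q : PrimeSpectrum B, q.asIdeal.comap (algebraMap R B) = p.asIdeal) ∧
      ∃ s h : B, s ^ 2 + algebraMap R B c * s + algebraMap R B (α * β) = 0 ∧
        algebraMap R B (α * (4 * α * β - c ^ 2)) * h = 1 := by
  classical
  let f : R[X] := X ^ 2 + C c * X + C (α * β)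
  have h1 : (C c * X + C (α * β) : R[X]).degree < ((2 : ℕ) : WithBot ℕ) := by
    refine lt_of_le_of_lt (Polynomial.degree_add_le _ _) ?_
    refine max_lt ?_ ?_
    · refine lt_of_le_of_lt (Polynomial.degree_C_mul_X_le c) ?_
      exact_mod_cast (by norm_num : (1 : ℕ) < 2)
    · refine lt_of_le_of_lt Polynomial.degree_C_le ?_
      exact_mod_cast (by norm_num : (0 : ℕ) < 2)
  have hfm : f.Monic := by
    have : f = X ^ 2 + (C c * X + C (α * β)) := by simp only [f]; ring
    rw [this]
    exact Polynomial.monic_X_pow_add h1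
  let P : StandardEtalePair R :=
    { f := f
      monic_f := hfm
      g := C (α * (4 * α * β - c ^ 2))
      cond := by
        refine ⟨-(C α * (2 * X + C c)), 4 * C α, 1, ?_⟩
        have hd : derivative f = 2 * X + C c := by
          simp only [f, derivative_add, derivative_X_pow, derivative_mul, derivative_C,
            derivative_X, zero_mul, mul_one, zero_add, add_zero, Nat.cast_ofNat, pow_one,
            Nat.add_one_sub_one]
          rw [show (C (2 : R) : R[X]) = 2 from rfl]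
        rw [hd, pow_one]
        simp only [f, C_mul, C_sub, C_pow]
        have h4 : (C (4 : R) : R[X]) = 4 := rfl
        rw [h4]
        ring }
  let κ := p.asIdeal.ResidueField
  let k := AlgebraicClosure κ
  -- a root of `f` in `k`
  have hdeg : (f.map (algebraMap R k)).degree ≠ 0 := by
    rw [Polynomial.Monic.degree_map hfm]
    haveI : Nontrivial R := ⟨⟨0, 1, fun h01 => p.isPrime.ne_top
      (p.asIdeal.eq_top_of_isUnit_mem (h01 ▸ p.asIdeal.zero_mem) isUnit_one)⟩⟩
    have h2 : f.degree = ((2 : ℕ) : WithBot ℕ) := by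
      have : f = X ^ 2 + (C c * X + C (α * β)) := by simp only [f]; ring
      rw [this, Polynomial.degree_add_eq_left_of_degree_lt, Polynomial.degree_X_pow]
      rw [Polynomial.degree_X_pow]
      exact h1
    rw [h2]
    exact_mod_cast (by norm_num : (2 : ℕ) ≠ 0)
  obtain ⟨x, hx⟩ := IsAlgClosed.exists_root (f.map (algebraMap R k)) hdeg
  have hker : ∀ r : R, algebraMap R k r = 0 ↔ r ∈ p.asIdeal := fun r => by
    rw [IsScalarTower.algebraMap_apply R κ k, map_eq_zero (algebraMap κ k),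
      Ideal.algebraMap_residueField_eq_zero]
  have hmap : P.HasMap x := by
    refine ⟨?_, ?_⟩
    · rw [Polynomial.aeval_def, Polynomial.eval₂_eq_eval_map]
      exact hx
    · show IsUnit (aeval x (C (α * (4 * α * β - c ^ 2))))
      rw [Polynomial.aeval_C, isUnit_iff_ne_zero, Ne, hker]
      intro hmem
      rcases Ideal.IsPrime.mem_or_mem p.isPrime hmem with h | h
      · exact hα h
      · exact hμ h
  let φ : P.Ring →ₐ[R] k := P.lift x hmap
  refine ⟨P.Ring, inferInstance, inferInstance, inferInstance, ?_, ?_⟩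
  · refine ⟨⟨RingHom.ker φ.toRingHom, RingHom.ker_isPrime _⟩, ?_⟩
    ext r
    simp only [Ideal.mem_comap, RingHom.mem_ker, AlgHom.toRingHom_eq_coe, RingHom.coe_coe,
      AlgHom.commutes]
    exact hker r
  · obtain ⟨h, hh⟩ := (P.hasMap_X).2.exists_right_inv
    refine ⟨P.X, h, ?_, ?_⟩
    · have := (P.hasMap_X).1
      change aeval P.X f = 0 at this
      simp only [f, map_add, map_mul, map_pow, aeval_X, aeval_C] at this
      rw [map_mul]
      exact this
    · have : aeval P.X P.g = algebraMap R P.Ring (α * (4 * α * β - c ^ 2)) := by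
        show aeval P.X (C (α * (4 * α * β - c ^ 2))) = _
        rw [Polynomial.aeval_C]
      rw [← this]
      exact hh


/-- Étale-local (at every prime) congruence of every regular matrix to the target family `T`. -/
def LocSplit (ι : Type) [Fintype ι] [DecidableEq ι]
    (T : ∀ (S : Type u) [CommRing S], Matrix ι ι S) : Prop :=
  ∀ (R : Type u) [CommRing R] (p : PrimeSpectrum R) (N : Matrix ι ι R), IsUnit (N + Nᵀ).det →
    ∃ (B : Type u) (_ : CommRing B) (_ : Algebra R B), Algebra.Etale R B ∧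
      (∃ q : PrimeSpectrum B, q.asIdeal.comap (algebraMap R B) = p.asIdeal) ∧
      ∃ g : Matrix ι ι B, IsUnit g.det ∧ QEq (gᵀ * N.map (algebraMap R B) * g) (T B)

theorem LocSplit.congr {ι : Type} [Fintype ι] [DecidableEq ι]
    {T T' : ∀ (S : Type u) [CommRing S], Matrix ι ι S}
    (h : ∀ (S : Type u) [CommRing S], T S = T' S) (H : LocSplit ι T) : LocSplit ι T' := by
  intro R _ p N hN
  obtain ⟨B, i1, i2, h1, h2, g, hg, hQ⟩ := H R p N hN
  exact ⟨B, i1, i2, h1, h2, g, hg, h B ▸ hQ⟩

theorem LocSplit.reindex {ι κ : Type} [Fintype ι] [DecidableEq ι] [Fintype κ] [DecidableEq κ]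
    (e : κ ≃ ι) {T : ∀ (S : Type u) [CommRing S], Matrix ι ι S} (H : LocSplit ι T) :
    LocSplit κ (fun S _ => (T S).submatrix e e) := by
  intro R _ p N hN
  have hN' : IsUnit ((N.submatrix e.symm e.symm) + (N.submatrix e.symm e.symm)ᵀ).det := by
    have : (N.submatrix e.symm e.symm) + (N.submatrix e.symm e.symm)ᵀ
        = (N + Nᵀ).submatrix e.symm e.symm := by
      ext i j; simp
    rw [this, Matrix.det_submatrix_equiv_self]
    exact hN
  obtain ⟨B, i1, i2, h1, h2, g, hg, hQ⟩ := H R p (N.submatrix e.symm e.symm) hN'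
  refine ⟨B, i1, i2, h1, h2, g.submatrix e e, ?_, ?_⟩
  · rw [Matrix.det_submatrix_equiv_self]; exact hg
  · have := hQ.submatrix e
    convert this using 1
    rw [← Matrix.submatrix_mul_equiv _ _ e e e, ← Matrix.submatrix_mul_equiv _ _ e e e,
      Matrix.transpose_submatrix]
    congr 2
    ext i j
    simp


theorem H2_map {S S' : Type*} [CommRing S] [CommRing S'] (φ : S →+* S') :
    (H2 S).map φ = H2 S' := by
  ext i j
  fin_cases i <;> fin_cases j <;> simp [H2]

theorem isUnit_det_conj_symm {R : Type*} [CommRing R] {ι : Type*} [Fintype ι] [DecidableEq ι]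
    (N G : Matrix ι ι R) (hG : IsUnit G.det) (hN : IsUnit (N + Nᵀ).det) :
    IsUnit ((Gᵀ * N * G) + (Gᵀ * N * G)ᵀ).det := by
  have e : (Gᵀ * N * G) + (Gᵀ * N * G)ᵀ = Gᵀ * (N + Nᵀ) * G := by
    simp only [Matrix.transpose_mul, Matrix.transpose_transpose, Matrix.mul_add, Matrix.add_mul,
      Matrix.mul_assoc]
  rw [e, Matrix.det_mul, Matrix.det_mul, Matrix.det_transpose]
  exact (hG.mul hN).mul hG

theorem LocSplit.step {ι' : Type} [Fintype ι'] [DecidableEq ι']
    {T' : ∀ (S : Type u) [CommRing S], Matrix ι' ι' S} (H : LocSplit ι' T') :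
    LocSplit (Fin 2 ⊕ ι') (fun S _ => Matrix.fromBlocks (H2 S) 0 0 (T' S)) := by
  intro R _ p N hN
  have hdetp : (N + Nᵀ).det ∉ p.asIdeal := fun h =>
    p.isPrime.ne_top (Ideal.eq_top_of_isUnit_mem _ h hN)
  obtain ⟨G, hG, hα, hμ⟩ :=
    exists_good_plane N p.asIdeal hdetp (Sum.inl 0) (Sum.inl 1) (by simp)
  obtain ⟨B₁, i1, i2, het1, ⟨q₁, hq₁⟩, s, h, hs, hh⟩ := exists_etale_root R p
    ((Gᵀ * N * G) (Sum.inl 0) (Sum.inl 0)) ((Gᵀ * N * G) (Sum.inl 1) (Sum.inl 1))
    ((Gᵀ * N * G) (Sum.inl 0) (Sum.inl 1) + (Gᵀ * N * G) (Sum.inl 1) (Sum.inl 0)) hα hμ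
  have hN₁det : IsUnit (((Gᵀ * N * G).map (algebraMap R B₁))
      + ((Gᵀ * N * G).map (algebraMap R B₁))ᵀ).det := by
    have e : ((Gᵀ * N * G).map (algebraMap R B₁)) + ((Gᵀ * N * G).map (algebraMap R B₁))ᵀ
        = (algebraMap R B₁).mapMatrix ((Gᵀ * N * G) + (Gᵀ * N * G)ᵀ) := by
      ext i j
      simp only [RingHom.mapMatrix_apply, Matrix.map_apply, Matrix.add_apply,
        Matrix.transpose_apply, map_add]
    rw [e, ← RingHom.map_det]
    exact (isUnit_det_conj_symm N G hG hN).map _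
  obtain ⟨g₂, D', hg₂, hD', hQ₂⟩ := split_off_plane ((Gᵀ * N * G).map (algebraMap R B₁)) hN₁det s h
    (by
      simp only [Matrix.map_apply, ← map_add, ← map_mul]
      rw [map_mul] at hs ⊢
      linear_combination hs)
    (by
      unfold mu
      simp only [Matrix.map_apply]
      rw [← hh]
      simp only [map_mul, map_sub, map_pow, map_add, map_ofNat])
  obtain ⟨B₂, j1, j2, het2, ⟨q₂, hq₂⟩, g₃, hg₃, hQ₃⟩ := H B₁ q₁ D' hD'
  letI : Algebra R B₂ := ((algebraMap B₁ B₂).comp (algebraMap R B₁)).toAlgebra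
  haveI : IsScalarTower R B₁ B₂ := IsScalarTower.of_algebraMap_eq fun _ => rfl
  refine ⟨B₂, j1, inferInstance, Algebra.Etale.comp R B₁ B₂, ⟨q₂, ?_⟩,
    G.map (algebraMap R B₂) * g₂.map (algebraMap B₁ B₂) * Matrix.fromBlocks 1 0 0 g₃, ?_, ?_⟩
  · rw [IsScalarTower.algebraMap_eq R B₁ B₂, ← Ideal.comap_comap, hq₂, hq₁]
  · rw [Matrix.det_mul, Matrix.det_mul, Matrix.det_fromBlocks_zero₂₁, Matrix.det_one, one_mul]
    refine (IsUnit.mul ?_ ?_).mul hg₃
    · have : (G.map (algebraMap R B₂)).det = algebraMap R B₂ G.det := by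
        rw [RingHom.map_det]; rfl
      rw [this]; exact hG.map _
    · have : (g₂.map (algebraMap B₁ B₂)).det = algebraMap B₁ B₂ g₂.det := by
        rw [RingHom.map_det]; rfl
      rw [this]; exact hg₂.map _
  · have hψ : ∀ M : Matrix (Fin 2 ⊕ ι') (Fin 2 ⊕ ι') R,
        M.map (algebraMap R B₂) = (M.map (algebraMap R B₁)).map (algebraMap B₁ B₂) := fun M => by
      rw [Matrix.map_map]; rfl
    have e1 : (G.map (algebraMap R B₂) * g₂.map (algebraMap B₁ B₂)
          * Matrix.fromBlocks 1 0 0 g₃)ᵀ * N.map (algebraMap R B₂)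
          * (G.map (algebraMap R B₂) * g₂.map (algebraMap B₁ B₂) * Matrix.fromBlocks 1 0 0 g₃)
        = (Matrix.fromBlocks 1 0 0 g₃)ᵀ
          * ((g₂ᵀ * (Gᵀ * N * G).map (algebraMap R B₁) * g₂).map (algebraMap B₁ B₂))
          * Matrix.fromBlocks 1 0 0 g₃ := by
      rw [hψ G, hψ N]
      simp only [Matrix.map_mul, Matrix.transpose_mul, Matrix.transpose_map, Matrix.mul_assoc]
    rw [e1]
    have hQ₂' := (hQ₂.map (algebraMap B₁ B₂)).conj (Matrix.fromBlocks (1 : Matrix (Fin 2) (Fin 2) B₂) 0 0 g₃)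
    refine hQ₂'.trans ?_
    rw [Matrix.fromBlocks_map, H2_map, Matrix.fromBlocks_transpose, Matrix.fromBlocks_multiply,
      Matrix.fromBlocks_multiply]
    have hz1 : (0 : Matrix (Fin 2) ι' B₁).map (algebraMap B₁ B₂) = 0 :=
      Matrix.map_zero _ (map_zero _)
    have hz2 : (0 : Matrix ι' (Fin 2) B₁).map (algebraMap B₁ B₂) = 0 :=
      Matrix.map_zero _ (map_zero _)
    simp only [Matrix.transpose_one, Matrix.transpose_zero, Matrix.one_mul, Matrix.zero_mul,
      Matrix.mul_one, Matrix.mul_zero, add_zero, zero_add, hz1, hz2]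
    exact QEq.fromBlocks (QEq.refl _) hQ₃ fun _ _ => rfl


/-- The split form `∑ x_j x_{m+j}`. -/
def J (m : ℕ) (S : Type*) [CommRing S] : Matrix (Fin m ⊕ Fin m) (Fin m ⊕ Fin m) S :=
  Matrix.fromBlocks 0 1 0 0

/-- Peeling off the first hyperbolic pair. -/
def peel (m : ℕ) : Fin (m + 1) ⊕ Fin (m + 1) ≃ Fin 2 ⊕ (Fin m ⊕ Fin m) where
  toFun := Sum.elim (Fin.cases (Sum.inl 0) fun k => Sum.inr (Sum.inl k))
    (Fin.cases (Sum.inl 1) fun k => Sum.inr (Sum.inr k))
  invFun := Sum.elim ![Sum.inl 0, Sum.inr 0] (Sum.elim (fun k => Sum.inl k.succ) fun k => Sum.inr k.succ)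
  left_inv := by
    rintro (i | i) <;> refine Fin.cases ?_ (fun k => ?_) i <;> simp
  right_inv := by
    rintro (i | i | i)
    · fin_cases i <;> simp
    · simp
    · simp

theorem J_succ (m : ℕ) (S : Type*) [CommRing S] :
    J (m + 1) S = (Matrix.fromBlocks (H2 S) 0 0 (J m S)).submatrix (peel m) (peel m) := by
  ext i j
  rcases i with i | i <;> rcases j with j | j <;> refine Fin.cases ?_ (fun i' => ?_) i <;>
    refine Fin.cases ?_ (fun j' => ?_) j <;>
    simp [J, H2, peel, Matrix.one_apply, Fin.succ_ne_zero, Ne.symm (Fin.succ_ne_zero _)]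

theorem locSplit_J (m : ℕ) : LocSplit.{u} (Fin m ⊕ Fin m) (fun S _ => J m S) := by
  induction m with
  | zero =>
    intro R _ p N hN
    refine ⟨R, inferInstance, inferInstance, inferInstance, ⟨p, ?_⟩, 1, ?_, ?_⟩
    · simp
    · simp
    · exact ⟨fun i => (IsEmpty.false i).elim, fun i => (IsEmpty.false i).elim⟩
  | succ m ih =>
    have h1 := (LocSplit.step ih).reindex (peel m)
    exact h1.congr fun S _ => (J_succ m S).symm


/-- From étale neighbourhoods of every point to a finite jointly surjective étale family. -/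
theorem exists_finite_etale_cover {A : Type u} [CommRing A]
    {P : ∀ (B : Type u) [CommRing B] [Algebra A B], Prop}
    (hloc : ∀ p : PrimeSpectrum A, ∃ (B : Type u) (_ : CommRing B) (_ : Algebra A B),
      Algebra.Etale A B ∧
      (∃ q : PrimeSpectrum B, q.asIdeal.comap (algebraMap A B) = p.asIdeal) ∧ P B) :
    ∃ (n : ℕ) (B : Fin n → Type u) (_ : ∀ t, CommRing (B t)) (_ : ∀ t, Algebra A (B t)),
      (∀ t, Algebra.Etale A (B t)) ∧
      (∀ p : PrimeSpectrum A, ∃ (t : Fin n) (q : PrimeSpectrum (B t)),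
        q.asIdeal.comap (algebraMap A (B t)) = p.asIdeal) ∧ ∀ t, P (B t) := by
  classical
  choose B i1 i2 het hq hP using hloc
  let U : PrimeSpectrum A → Set (PrimeSpectrum A) := fun p =>
    Set.range (PrimeSpectrum.comap (algebraMap A (B p)))
  have hopen : ∀ p, IsOpen (U p) := fun p => by
    haveI := het p
    haveI : Algebra.HasGoingDown A (B p) := Algebra.HasGoingDown.of_flat
    exact (PrimeSpectrum.isOpenMap_comap_of_hasGoingDown_of_finitePresentation
      (R := A) (S := B p)).isOpen_range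
  have hcover : (Set.univ : Set (PrimeSpectrum A)) ⊆ ⋃ p, U p := by
    intro p _
    obtain ⟨q, hq'⟩ := hq p
    exact Set.mem_iUnion.2 ⟨p, ⟨q, PrimeSpectrum.ext hq'⟩⟩
  obtain ⟨s, hs⟩ := isCompact_univ.elim_finite_subcover U hopen hcover
  refine ⟨s.card, fun t => B (s.equivFin.symm t).1, fun t => i1 _, fun t => i2 _,
    fun t => het _, fun p => ?_, fun t => hP _⟩
  obtain ⟨p', hp's, hp'⟩ := Set.mem_iUnion₂.1 (hs (Set.mem_univ p))
  obtain ⟨q, hq'⟩ := hp'
  refine ⟨s.equivFin ⟨p', hp's⟩, ?_⟩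
  have key : ∀ (x : s) (hx : x = ⟨p', hp's⟩), ∃ q : PrimeSpectrum (B x.1),
      q.asIdeal.comap (algebraMap A (B x.1)) = p.asIdeal := by
    rintro x rfl
    exact ⟨q, congrArg PrimeSpectrum.asIdeal hq'⟩
  exact key _ (Equiv.symm_apply_apply _ _)

/-- **Étale-local splitting** of a regular quadratic form of even rank, in matrix form. -/
theorem exists_etale_cover_split (A : Type u) [CommRing A] (m : ℕ)
    (N : Matrix (Fin m ⊕ Fin m) (Fin m ⊕ Fin m) A) (hN : IsUnit (N + Nᵀ).det) :
    ∃ (n : ℕ) (B : Fin n → Type u) (_ : ∀ t, CommRing (B t)) (_ : ∀ t, Algebra A (B t)),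
      (∀ t, Algebra.Etale A (B t)) ∧
      (∀ p : PrimeSpectrum A, ∃ (t : Fin n) (q : PrimeSpectrum (B t)),
        q.asIdeal.comap (algebraMap A (B t)) = p.asIdeal) ∧
      ∀ t, ∃ g : Matrix (Fin m ⊕ Fin m) (Fin m ⊕ Fin m) (B t), IsUnit g.det ∧
        QEq (gᵀ * N.map (algebraMap A (B t)) * g) (J m (B t)) :=
  exists_finite_etale_cover (P := fun B _ _ => ∃ g : Matrix (Fin m ⊕ Fin m) (Fin m ⊕ Fin m) B,
    IsUnit g.det ∧ QEq (gᵀ * N.map (algebraMap A B) * g) (J m B))
    fun p => locSplit_J m A p N hN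

end Helper25.QuadMat
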