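import Groth.Agent.Lib.Helper25.CliffFree
import Groth.Agent.Lib.Helper25.QuadSplit

/-!
# The Clifford algebra of a split (hyperbolic) form is a matrix algebra, with parity
-/

set_option autoImplicit false
set_option linter.unusedSectionVars false
set_option linter.unusedVariables false
set_option linter.unusedSimpArgs false
set_option linter.style.haveILetI false
set_option linter.unreachableTactic false
set_option linter.unusedTactic false

namespace Helper25.Cliff

open CliffordAlgebra Helper25.QuadMat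

universe u

section General

variable {R : Type*} [CommRing R]

/-- A surjective linear map between finite free modules of the same rank is bijective. -/
theorem bijective_of_surjective_of_finrank_eq {M N : Type*} [AddCommGroup M] [Module R M]
    [AddCommGroup N] [Module R N] [Module.Free R M] [Module.Finite R M] [Module.Free R N]
    [Module.Finite R N] (f : M →ₗ[R] N) (hf : Function.Surjective f)
    (h : Module.finrank R M = Module.finrank R N) : Function.Bijective f := by
  rcases subsingleton_or_nontrivial R with hR | hR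
  · haveI : Subsingleton M := Module.subsingleton R M
    exact ⟨fun x y _ => Subsingleton.elim x y, hf⟩
  · let e : N ≃ₗ[R] M := LinearEquiv.ofFinrankEq N M h.symm
    have hs : Function.Surjective (e.toLinearMap ∘ₗ f) := e.surjective.comp hf
    have hinj := OrzechProperty.injective_of_surjective_endomorphism _ hs
    refine ⟨?_, hf⟩
    intro x y hxy
    exact hinj (by simp [hxy])

variable {n : Type*} [Fintype n] [DecidableEq n]

/-- The quadratic form `x ↦ xᵀ N x` on `n → R`. -/
noncomputable def qfForm (N : Matrix n n R) : QuadraticForm R (n → R) :=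
  LinearMap.BilinMap.toQuadraticMap (Matrix.toLinearMap₂' R N : LinearMap.BilinForm R (n → R))

theorem qfForm_apply (N : Matrix n n R) (x : n → R) : qfForm N x = qf N x := by
  simp only [qfForm, LinearMap.BilinMap.toQuadraticMap_apply, Matrix.toLinearMap₂'_apply, qf,
    smul_eq_mul]
  refine Finset.sum_congr rfl fun i _ => Finset.sum_congr rfl fun j _ => ?_
  ring

theorem qfForm_eq_of_QEq {N N' : Matrix n n R} (h : QEq N N') : qfForm N = qfForm N' := by
  ext x
  rw [qfForm_apply, qfForm_apply, qf_eq_of_QEq h]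

variable {M : Type*} [AddCommGroup M] [Module R M]

/-- A matrix model of the Clifford algebra in which vectors are parity-odd; `k₁`, `k₀` count the
indices of each parity. -/
def HasSplitModel (Q : QuadraticForm R M) (k₁ k₀ : ℕ) : Prop :=
  ∃ (I : Type) (_ : Fintype I) (_ : DecidableEq I) (π : I → Bool)
    (Φ : CliffordAlgebra Q ≃ₐ[R] Matrix I I R),
    Fintype.card {i // π i = true} = k₁ ∧ Fintype.card {i // π i = false} = k₀ ∧
    ∀ v i j, π i = π j → Φ (ι Q v) i j = 0

theorem HasSplitModel.of_isometryEquiv {M' : Type*} [AddCommGroup M'] [Module R M']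
    {Q : QuadraticForm R M} {Q' : QuadraticForm R M'} (e : Q.IsometryEquiv Q') {k₁ k₀ : ℕ}
    (h : HasSplitModel Q k₁ k₀) : HasSplitModel Q' k₁ k₀ := by
  obtain ⟨I, i1, i2, π, Φ, h1, h0, hodd⟩ := h
  refine ⟨I, i1, i2, π, (CliffordAlgebra.equivOfIsometry e).symm.trans Φ, h1, h0, fun v i j hij => ?_⟩
  have : (CliffordAlgebra.equivOfIsometry e).symm (ι Q' v) = ι Q (e.symm v) := by
    rw [AlgEquiv.symm_apply_eq, CliffordAlgebra.equivOfIsometry_apply, CliffordAlgebra.map_apply_ι]
    simp
  rw [AlgEquiv.trans_apply, this]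
  exact hodd _ i j hij

theorem HasSplitModel.of_subsingleton [Subsingleton M] [Module.Free R M] (Q : QuadraticForm R M) :
    HasSplitModel Q 1 0 := by
  have h1 : Function.Bijective (Algebra.ofId R (CliffordAlgebra Q)) := by
    refine ⟨algebraMap_injective Q, fun x => ?_⟩
    have hx : x ∈ (⊥ : Subalgebra R (CliffordAlgebra Q)) := by
      have : (⊤ : Subalgebra R (CliffordAlgebra Q)) ≤ ⊥ := by
        rw [← CliffordAlgebra.adjoin_range_ι]
        refine Algebra.adjoin_le ?_
        rintro _ ⟨v, rfl⟩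
        rw [Subsingleton.elim v 0, map_zero]
        exact Subalgebra.zero_mem _
      exact this Algebra.mem_top
    obtain ⟨r, hr⟩ := Algebra.mem_bot.1 hx
    exact ⟨r, hr⟩
  have h2 : Function.Bijective (Algebra.ofId R (Matrix Unit Unit R)) := by
    refine ⟨fun r r' h => ?_, fun X => ⟨X () (), ?_⟩⟩
    · have := congrFun (congrFun h ()) ()
      simpa [Algebra.ofId_apply, Matrix.algebraMap_matrix_apply] using this
    · ext ⟨⟩ ⟨⟩
      simp [Algebra.ofId_apply, Matrix.algebraMap_matrix_apply]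
  refine ⟨Unit, inferInstance, inferInstance, fun _ => true,
    (AlgEquiv.ofBijective _ h1).symm.trans (AlgEquiv.ofBijective _ h2), ?_, ?_, fun v i j _ => ?_⟩
  · simp
  · simp
  · rw [Subsingleton.elim v 0, map_zero, map_zero]
    rfl

end General


section Step

variable {R : Type*} [CommRing R] {n' : Type*} [Fintype n'] [DecidableEq n']
  {I : Type*} [Fintype I] [DecidableEq I]

/-- The linear map `(x, y, w) ↦ [[ρ w, x], [y, -ρ w]]` into block matrices. -/
noncomputable def stepMap (ρ : (n' → R) →ₗ[R] Matrix I I R) :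
    (Fin 2 ⊕ n' → R) →ₗ[R] Matrix (I ⊕ I) (I ⊕ I) R where
  toFun v := Matrix.fromBlocks (ρ (v ∘ Sum.inr)) (v (Sum.inl 0) • 1) (v (Sum.inl 1) • 1)
    (-ρ (v ∘ Sum.inr))
  map_add' v w := by
    have : (v + w) ∘ Sum.inr = v ∘ Sum.inr + w ∘ Sum.inr := rfl
    rw [this, map_add, Matrix.fromBlocks_add, Pi.add_apply, Pi.add_apply, add_smul, add_smul,
      neg_add]
  map_smul' c v := by
    have : (c • v) ∘ Sum.inr = c • (v ∘ Sum.inr) := rfl
    rw [this, map_smul, RingHom.id_apply, Matrix.fromBlocks_smul, Pi.smul_apply, Pi.smul_apply]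
    simp only [smul_assoc, smul_neg]

theorem stepMap_apply (ρ : (n' → R) →ₗ[R] Matrix I I R) (v : Fin 2 ⊕ n' → R) :
    stepMap ρ v = Matrix.fromBlocks (ρ (v ∘ Sum.inr)) (v (Sum.inl 0) • 1) (v (Sum.inl 1) • 1)
      (-ρ (v ∘ Sum.inr)) := rfl

theorem qfForm_fromBlocks_H2 (N' : Matrix n' n' R) (v : Fin 2 ⊕ n' → R) :
    qfForm (Matrix.fromBlocks (H2 R) 0 0 N') v
      = v (Sum.inl 0) * v (Sum.inl 1) + qfForm N' (v ∘ Sum.inr) := by
  rw [qfForm_apply, qfForm_apply]
  simp only [qf, Fintype.sum_sum_type, Matrix.fromBlocks_apply₁₁, Matrix.fromBlocks_apply₁₂,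
    Matrix.fromBlocks_apply₂₁, Matrix.fromBlocks_apply₂₂, Matrix.zero_apply, mul_zero, zero_mul,
    Finset.sum_const_zero, add_zero, zero_add, Fin.sum_univ_two, H2, Function.comp_apply]
  simp

theorem stepMap_sq (ρ : (n' → R) →ₗ[R] Matrix I I R) (N' : Matrix n' n' R)
    (hρ : ∀ w, ρ w * ρ w = algebraMap R _ (qfForm N' w)) (v : Fin 2 ⊕ n' → R) :
    stepMap ρ v * stepMap ρ v
      = algebraMap R _ (qfForm (Matrix.fromBlocks (H2 R) 0 0 N') v) := by
  rw [stepMap_apply, Matrix.fromBlocks_multiply, qfForm_fromBlocks_H2]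
  simp only [hρ, neg_mul, mul_neg, neg_neg, smul_mul_assoc, one_mul, mul_smul_comm, mul_one,
    add_neg_cancel, neg_add_cancel, smul_smul]
  rw [Algebra.algebraMap_eq_smul_one, Algebra.algebraMap_eq_smul_one, ← Matrix.fromBlocks_one,
    Matrix.fromBlocks_smul, smul_zero]
  congr 1
  all_goals first
    | (rw [smul_neg, add_neg_cancel])
    | (rw [← add_smul]; congr 1; ring_nf)
    | (rw [← add_smul]; congr 1)
    | (rw [← add_smul, add_comm])
    | (rw [← add_smul, mul_comm])


theorem stepMap_single_inl0 (ρ : (n' → R) →ₗ[R] Matrix I I R) :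
    stepMap ρ (Pi.single (Sum.inl 0) 1) = Matrix.fromBlocks 0 1 0 0 := by
  have h : (Pi.single (Sum.inl 0) 1 : Fin 2 ⊕ n' → R) ∘ Sum.inr = 0 := by
    ext k; simp
  rw [stepMap_apply, h, map_zero, neg_zero]
  simp

theorem stepMap_single_inl1 (ρ : (n' → R) →ₗ[R] Matrix I I R) :
    stepMap ρ (Pi.single (Sum.inl 1) 1) = Matrix.fromBlocks 0 0 1 0 := by
  have h : (Pi.single (Sum.inl 1) 1 : Fin 2 ⊕ n' → R) ∘ Sum.inr = 0 := by
    ext k; simp
  rw [stepMap_apply, h, map_zero, neg_zero]
  simp

theorem stepMap_inr (ρ : (n' → R) →ₗ[R] Matrix I I R) (w : n' → R) :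
    stepMap ρ (Sum.elim 0 w) = Matrix.fromBlocks (ρ w) 0 0 (-ρ w) := by
  have h : (Sum.elim 0 w : Fin 2 ⊕ n' → R) ∘ Sum.inr = w := by
    ext k; simp
  rw [stepMap_apply, h]
  simp

/-- A subalgebra of block matrices containing the off-diagonal units and `diag(X, -X)` for a
generating set of `X` is everything. -/
theorem range_eq_top_of_blocks (S : Subalgebra R (Matrix (I ⊕ I) (I ⊕ I) R))
    (h12 : Matrix.fromBlocks 0 1 0 0 ∈ S) (h21 : Matrix.fromBlocks 0 0 1 0 ∈ S)
    (hX : ∀ X : Matrix I I R, Matrix.fromBlocks X 0 0 0 ∈ S) : S = ⊤ := by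
  rw [eq_top_iff]
  intro Y _
  have hY : Y = Matrix.fromBlocks Y.toBlocks₁₁ 0 0 0
      + Matrix.fromBlocks Y.toBlocks₁₂ 0 0 0 * Matrix.fromBlocks 0 1 0 0
      + Matrix.fromBlocks 0 0 1 0 * Matrix.fromBlocks Y.toBlocks₂₁ 0 0 0
      + Matrix.fromBlocks 0 0 1 0 * Matrix.fromBlocks Y.toBlocks₂₂ 0 0 0
        * Matrix.fromBlocks 0 1 0 0 := by
    conv_lhs => rw [← Matrix.fromBlocks_toBlocks Y]
    simp only [Matrix.fromBlocks_multiply, Matrix.fromBlocks_add, Matrix.mul_zero, Matrix.zero_mul,
      Matrix.mul_one, Matrix.one_mul, add_zero, zero_add]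
  rw [hY]
  exact S.add_mem (S.add_mem (S.add_mem (hX _) (S.mul_mem (hX _) h12)) (S.mul_mem h21 (hX _)))
    (S.mul_mem (S.mul_mem h21 (hX _)) h12)


theorem HasSplitModel.step {n' : Type} [Fintype n'] [DecidableEq n'] (N' : Matrix n' n' R)
    {k₁ k₀ : ℕ} (h : HasSplitModel (qfForm N') k₁ k₀) :
    HasSplitModel (qfForm (Matrix.fromBlocks (H2 R) 0 0 N')) (k₁ + k₀) (k₀ + k₁) := by
  classical
  obtain ⟨I, i1, i2, π, Φ', h1, h0, hodd⟩ := h
  let ρ : (n' → R) →ₗ[R] Matrix I I R := Φ'.toLinearMap ∘ₗ ι (qfForm N')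
  have hρapp : ∀ w, ρ w = Φ' (ι (qfForm N') w) := fun w => rfl
  have hρ : ∀ w, ρ w * ρ w = algebraMap R _ (qfForm N' w) := fun w => by
    rw [hρapp, ← map_mul, ι_sq_scalar, AlgEquiv.commutes]
  set Q := qfForm (Matrix.fromBlocks (H2 R) 0 0 N') with hQ
  let Φ₀ : CliffordAlgebra Q →ₐ[R] Matrix (I ⊕ I) (I ⊕ I) R :=
    CliffordAlgebra.lift Q ⟨stepMap ρ, stepMap_sq ρ N' hρ⟩
  have hΦ₀ι : ∀ v, Φ₀ (ι Q v) = stepMap ρ v := fun v => CliffordAlgebra.lift_ι_apply _ _ _
  -- surjectivity
  have h12 : Matrix.fromBlocks 0 1 0 0 ∈ Φ₀.range :=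
    (AlgHom.mem_range _).mpr ⟨ι Q (Pi.single (Sum.inl 0) 1), (hΦ₀ι _).trans (stepMap_single_inl0 ρ)⟩
  have h21 : Matrix.fromBlocks 0 0 1 0 ∈ Φ₀.range :=
    (AlgHom.mem_range _).mpr ⟨ι Q (Pi.single (Sum.inl 1) 1), (hΦ₀ι _).trans (stepMap_single_inl1 ρ)⟩
  have h11 : Matrix.fromBlocks (1 : Matrix I I R) 0 0 0 ∈ Φ₀.range := by
    have := Φ₀.range.mul_mem h12 h21
    simpa only [Matrix.fromBlocks_multiply, Matrix.mul_zero, Matrix.zero_mul, Matrix.mul_one,
      Matrix.one_mul, add_zero, zero_add] using this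
  let T : Subalgebra R (Matrix I I R) :=
    { carrier := {X | Matrix.fromBlocks X 0 0 0 ∈ Φ₀.range}
      mul_mem' := fun {X Y} hX hY => by
        have := Φ₀.range.mul_mem hX hY
        show Matrix.fromBlocks (X * Y) 0 0 0 ∈ Φ₀.range
        simpa only [Matrix.fromBlocks_multiply, Matrix.mul_zero, Matrix.zero_mul, add_zero] using this
      add_mem' := fun {X Y} hX hY => by
        have := Φ₀.range.add_mem hX hY
        show Matrix.fromBlocks (X + Y) 0 0 0 ∈ Φ₀.range
        simpa only [Matrix.fromBlocks_add, add_zero] using this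
      algebraMap_mem' := fun r => by
        have := Φ₀.range.smul_mem h11 r
        show Matrix.fromBlocks (algebraMap R (Matrix I I R) r) 0 0 0 ∈ Φ₀.range
        simpa only [Matrix.fromBlocks_smul, smul_zero, Algebra.algebraMap_eq_smul_one] using this }
  have hT : T = ⊤ := by
    have hle : (⊤ : Subalgebra R (CliffordAlgebra (qfForm N'))) ≤ T.comap Φ'.toAlgHom := by
      rw [← CliffordAlgebra.adjoin_range_ι]
      refine Algebra.adjoin_le ?_
      rintro _ ⟨w, rfl⟩
      show Matrix.fromBlocks (Φ' (ι (qfForm N') w)) 0 0 0 ∈ Φ₀.range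
      have hw : Matrix.fromBlocks (ρ w) 0 0 (-ρ w) ∈ Φ₀.range :=
        (AlgHom.mem_range _).mpr ⟨ι Q (Sum.elim 0 w), (hΦ₀ι _).trans (stepMap_inr ρ w)⟩
      have := Φ₀.range.mul_mem h11 hw
      simpa only [Matrix.fromBlocks_multiply, Matrix.mul_zero, Matrix.zero_mul, Matrix.one_mul,
        add_zero, zero_add, hρapp] using this
    rw [eq_top_iff]
    intro X _
    have := hle (Algebra.mem_top (x := Φ'.symm X))
    simpa using this
  have hsurj : Function.Surjective Φ₀ := by
    have : Φ₀.range = ⊤ := range_eq_top_of_blocks _ h12 h21 fun X => by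
      have : X ∈ T := by rw [hT]; exact Algebra.mem_top
      exact this
    exact (AlgHom.range_eq_top _).mp this
  -- ranks
  have hbij : Function.Bijective Φ₀ := by
    rcases subsingleton_or_nontrivial R with hR | hR
    · haveI : Subsingleton (CliffordAlgebra Q) := Module.subsingleton R _
      exact ⟨fun x y _ => Subsingleton.elim x y, hsurj⟩
    · refine bijective_of_surjective_of_finrank_eq Φ₀.toLinearMap hsurj ?_
      have e1 : Module.finrank R (CliffordAlgebra (qfForm N'))
          = Module.finrank R (Matrix I I R) := Φ'.toLinearEquiv.finrank_eq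
      rw [finrank_eq, Module.finrank_fintype_fun_eq_card, Module.finrank_matrix,
        Module.finrank_self, mul_one] at e1
      rw [finrank_eq, Module.finrank_fintype_fun_eq_card, Module.finrank_matrix,
        Module.finrank_self, mul_one, Fintype.card_sum, Fintype.card_sum, Fintype.card_fin,
        pow_add, e1]
      ring
  refine ⟨I ⊕ I, inferInstance, inferInstance, Sum.elim π (fun i => !π i),
    AlgEquiv.ofBijective Φ₀ hbij, ?_, ?_, ?_⟩
  · rw [Fintype.card_congr Equiv.subtypeSum, Fintype.card_sum, ← h1, ← h0]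
    congr 1
    exact Fintype.card_congr (Equiv.subtypeEquivRight fun i => by simp)
  · rw [Fintype.card_congr Equiv.subtypeSum, Fintype.card_sum, ← h1, ← h0]
    congr 1
    exact Fintype.card_congr (Equiv.subtypeEquivRight fun i => by simp)
  · intro v i j hij
    rw [AlgEquiv.coe_ofBijective, hΦ₀ι, stepMap_apply]
    rcases i with i | i <;> rcases j with j | j
    · simp only [Sum.elim_inl] at hij
      rw [Matrix.fromBlocks_apply₁₁, hρapp]
      exact hodd _ i j hij
    · simp only [Sum.elim_inl, Sum.elim_inr] at hij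
      have hne : i ≠ j := by rintro rfl; simp at hij
      rw [Matrix.fromBlocks_apply₁₂, Matrix.smul_apply, Matrix.one_apply_ne hne, smul_zero]
    · simp only [Sum.elim_inl, Sum.elim_inr] at hij
      have hne : i ≠ j := by rintro rfl; simp at hij
      rw [Matrix.fromBlocks_apply₂₁, Matrix.smul_apply, Matrix.one_apply_ne hne, smul_zero]
    · simp only [Sum.elim_inr] at hij
      have hij' : π i = π j := by
        cases hi : π i <;> cases hj : π j <;> simp_all
      rw [Matrix.fromBlocks_apply₂₂, Matrix.neg_apply, hρapp, hodd _ i j hij', neg_zero]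

end Step


section Main

variable {R : Type*} [CommRing R]

theorem qf_submatrix {n κ : Type*} [Fintype n] [Fintype κ] (N : Matrix n n R) (e : κ ≃ n)
    (x : n → R) : qf (N.submatrix e e) (x ∘ e) = qf N x := by
  simp only [qf, Matrix.submatrix_apply, Function.comp_apply]
  rw [← Equiv.sum_comp e]
  refine Finset.sum_congr rfl fun i _ => ?_
  rw [← Equiv.sum_comp e]

/-- Reindexing gives an isometric form. -/
noncomputable def isometryEquivSubmatrix {n κ : Type*} [Fintype n] [Fintype κ] [DecidableEq n]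
    [DecidableEq κ] (N : Matrix n n R) (e : κ ≃ n) :
    (qfForm N).IsometryEquiv (qfForm (N.submatrix e e)) :=
  { LinearEquiv.funCongrLeft R R e with
    map_app' := fun x => by
      rw [qfForm_apply, qfForm_apply]
      exact qf_submatrix N e x }

theorem hasSplitModel_J (m : ℕ) :
    ∃ k₁ k₀, HasSplitModel (qfForm (J m R)) k₁ k₀ ∧ k₁ + k₀ = 2 ^ m ∧
      (1 ≤ m → k₁ = 2 ^ (m - 1) ∧ k₀ = 2 ^ (m - 1)) := by
  induction m with
  | zero =>
    exact ⟨1, 0, HasSplitModel.of_subsingleton _, by simp, fun h => absurd h (by simp)⟩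
  | succ m ih =>
    obtain ⟨k₁, k₀, h, hsum, -⟩ := ih
    have h1 := (HasSplitModel.step (J m R) h).of_isometryEquiv
      (isometryEquivSubmatrix (Matrix.fromBlocks (H2 R) 0 0 (J m R)) (peel m))
    rw [← J_succ] at h1
    refine ⟨k₁ + k₀, k₀ + k₁, h1, ?_, fun _ => ?_⟩
    · rw [pow_succ, ← hsum]; ring
    · rw [Nat.add_sub_cancel, ← hsum]
      exact ⟨rfl, add_comm _ _⟩

end Main

end Helper25.Cliff
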