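import Mathlib

/-!
# Connectedness through idempotents: algebras of finite type over an algebraically closed field

For `B` an `R`-algebra of finite type and `K` an algebraically closed field over `R`, an idempotent
of `K ⊗[R] B` taking the same value at all `K`-points of `B` is `0` or `1`; values of idempotents
are constant along families parametrized by domains.
-/

set_option autoImplicit false
set_option linter.style.haveILetI false
universe u

namespace Helper25.ConnIdem

open TensorProduct

section Ev

variable {R K B : Type*} [CommRing R] [CommRing K] [Algebra R K] [CommRing B] [Algebra R B]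

/-- Evaluation of `K ⊗ B` at a `D`-valued point of `B`. -/
noncomputable def ev {D : Type*} [CommRing D] [Algebra R D] [Algebra K D] [IsScalarTower R K D]
    (f : B →ₐ[R] D) : K ⊗[R] B →ₐ[K] D :=
  Algebra.TensorProduct.lift (Algebra.ofId K D) f (fun _ _ => Commute.all _ _)

theorem ev_tmul {D : Type*} [CommRing D] [Algebra R D] [Algebra K D] [IsScalarTower R K D]
    (f : B →ₐ[R] D) (a : K) (b : B) : ev (K := K) f (a ⊗ₜ[R] b) = algebraMap K D a * f b := by
  simp [ev, Algebra.ofId_apply]

theorem comp_ev {D D' : Type*} [CommRing D] [Algebra R D] [Algebra K D] [IsScalarTower R K D]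
    [CommRing D'] [Algebra R D'] [Algebra K D'] [IsScalarTower R K D']
    (α : D →ₐ[K] D') (f : B →ₐ[R] D) (x : K ⊗[R] B) :
    α (ev (K := K) f x) = ev (K := K) ((α.restrictScalars R).comp f) x := by
  induction x using TensorProduct.induction_on with
  | zero => simp
  | tmul a b => simp [ev_tmul]
  | add x y hx hy => simp [hx, hy]

theorem eq_ev (φ : K ⊗[R] B →ₐ[K] K) (x : K ⊗[R] B) :
    φ x = ev (K := K) ((φ.restrictScalars R).comp Algebra.TensorProduct.includeRight) x := by
  induction x using TensorProduct.induction_on with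
  | zero => simp
  | tmul a b =>
    rw [ev_tmul]
    have : a ⊗ₜ[R] b = a • ((1 : K) ⊗ₜ[R] b) := by simp [TensorProduct.smul_tmul']
    rw [this, map_smul]
    simp
  | add x y hx hy => simp [hx, hy]

/-- The value of an idempotent is constant along a family parametrized by a domain. -/
theorem ev_eq_of_family {D : Type*} [CommRing D] [IsDomain D] [Algebra R D] [Algebra K D]
    [IsScalarTower R K D] (e : K ⊗[R] B) (he : IsIdempotentElem e) (F : B →ₐ[R] D)
    (α β : D →ₐ[K] K) :
    ev (K := K) ((α.restrictScalars R).comp F) e = ev (K := K) ((β.restrictScalars R).comp F) e := by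
  rw [← comp_ev, ← comp_ev]
  have h : IsIdempotentElem (ev (K := K) F e) := he.map _
  rcases IsIdempotentElem.iff_eq_zero_or_one.mp h with h0 | h1
  · rw [h0, map_zero, map_zero]
  · rw [h1, map_one, map_one]

end Ev

section Main

variable {R K B : Type*} [CommRing R] [Field K] [IsAlgClosed K] [Algebra R K] [CommRing B]
  [Algebra R B] [Algebra.FiniteType R B]

theorem exists_point_of_isMaximal (m : Ideal (K ⊗[R] B)) [hm : m.IsMaximal] :
    ∃ φ : K ⊗[R] B →ₐ[K] K, ∀ x, x ∈ m ↔ φ x = 0 := by
  letI : Field (K ⊗[R] B ⧸ m) := Ideal.Quotient.field m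
  haveI : Algebra.FiniteType K (K ⊗[R] B) := inferInstance
  haveI : Algebra.FiniteType K (K ⊗[R] B ⧸ m) :=
    Algebra.FiniteType.of_surjective (Ideal.Quotient.mkₐ K m) (Ideal.Quotient.mkₐ_surjective K m)
  haveI : Module.Finite K (K ⊗[R] B ⧸ m) := finite_of_finite_type_of_isJacobsonRing K _
  haveI : Algebra.IsIntegral K (K ⊗[R] B ⧸ m) := inferInstance
  have hbij : Function.Bijective (algebraMap K (K ⊗[R] B ⧸ m)) :=
    IsAlgClosed.algebraMap_bijective_of_isIntegral
  let ε : K ≃ₐ[K] (K ⊗[R] B ⧸ m) := AlgEquiv.ofBijective (Algebra.ofId K _) hbij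
  refine ⟨(ε.symm : (K ⊗[R] B ⧸ m) →ₐ[K] K).comp (Ideal.Quotient.mkₐ K m), fun x => ?_⟩
  rw [AlgHom.comp_apply]
  constructor
  · intro hx
    have : Ideal.Quotient.mkₐ K m x = 0 := by
      rw [Ideal.Quotient.mkₐ_eq_mk]; exact Ideal.Quotient.eq_zero_iff_mem.mpr hx
    rw [this, map_zero]
  · intro hx
    have h0 : Ideal.Quotient.mkₐ K m x = 0 := by
      have := congrArg ε hx
      simpa using this
    rw [Ideal.Quotient.mkₐ_eq_mk] at h0
    exact Ideal.Quotient.eq_zero_iff_mem.mp h0

theorem eq_zero_of_forall_ev_eq_zero (e : K ⊗[R] B) (he : IsIdempotentElem e)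
    (h : ∀ f : B →ₐ[R] K, ev (K := K) f e = 0) : e = 0 := by
  haveI : Algebra.FiniteType K (K ⊗[R] B) := inferInstance
  haveI : IsJacobsonRing (K ⊗[R] B) := isJacobsonRing_of_finiteType (A := K)
  have hmem : e ∈ (⊥ : Ideal (K ⊗[R] B)).jacobson := by
    rw [Ideal.jacobson, Ideal.mem_sInf]
    rintro m ⟨-, hm⟩
    haveI := hm
    obtain ⟨φ, hφ⟩ := exists_point_of_isMaximal m
    rw [hφ, eq_ev]
    exact h _
  have hrad : e ∈ (⊥ : Ideal (K ⊗[R] B)).radical := by
    have := IsJacobsonRing.out (R := K ⊗[R] B) inferInstance (Ideal.radical_isRadical ⊥)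
    rw [← this]
    exact Ideal.jacobson_mono Ideal.le_radical hmem
  obtain ⟨n, hn⟩ := hrad
  rw [Ideal.mem_bot] at hn
  rcases n with _ | n
  · rw [pow_zero] at hn
    have : e = e * 1 := (mul_one e).symm
    rw [this, hn, mul_zero]
  · rw [he.pow_succ_eq] at hn
    exact hn

/-- An idempotent of `K ⊗ B` with constant value on `K`-points is trivial. -/
theorem eq_zero_or_one_of_forall_ev_eq (e : K ⊗[R] B) (he : IsIdempotentElem e)
    (f₁ : B →ₐ[R] K) (h : ∀ f : B →ₐ[R] K, ev (K := K) f e = ev (K := K) f₁ e) :
    e = 0 ∨ e = 1 := by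
  have h1 : IsIdempotentElem (ev (K := K) f₁ e) := he.map _
  rcases IsIdempotentElem.iff_eq_zero_or_one.mp h1 with h0 | h1
  · left
    exact eq_zero_of_forall_ev_eq_zero e he fun f => by rw [h f, h0]
  · right
    have : 1 - e = 0 := eq_zero_of_forall_ev_eq_zero (1 - e) he.one_sub fun f => by
      rw [map_sub, map_one, h f, h1, sub_self]
    exact (sub_eq_zero.mp this).symm

end Main

section Descent

variable {R κ K B : Type*} [CommRing R] [Field κ] [Field K] [Algebra κ K] [Algebra R κ] [Algebra R K]
  [IsScalarTower R κ K] [CommRing B] [Algebra R B] [Module.Flat R B]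

/-- Triviality of idempotents descends along a field extension. -/
theorem idem_descent (h : ∀ e : K ⊗[R] B, IsIdempotentElem e → e = 0 ∨ e = 1)
    (e : κ ⊗[R] B) (he : IsIdempotentElem e) : e = 0 ∨ e = 1 := by
  let Φ : κ ⊗[R] B →ₐ[R] K ⊗[R] B :=
    Algebra.TensorProduct.map (IsScalarTower.toAlgHom R κ K) (AlgHom.id R B)
  have hinj : Function.Injective Φ := by
    have h1 : Function.Injective (IsScalarTower.toAlgHom R κ K).toLinearMap :=
      (algebraMap κ K).injective
    have h2 := Module.Flat.rTensor_preserves_injective_linearMap (M := B)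
      (IsScalarTower.toAlgHom R κ K).toLinearMap h1
    intro x y hxy
    apply h2
    have : ∀ z, LinearMap.rTensor B (IsScalarTower.toAlgHom R κ K).toLinearMap z = Φ z := by
      intro z
      induction z using TensorProduct.induction_on with
      | zero => simp
      | tmul a b => simp [Φ]
      | add x y hx hy => simp [hx, hy]
    rw [this, this]
    exact hxy
  rcases h (Φ e) (he.map Φ) with h0 | h1
  · left; apply hinj; rw [h0, map_zero]
  · right; apply hinj; rw [h1, map_one]

end Descent

section Spec

/-- A nontrivial ring with only trivial idempotents has connected spectrum. -/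
theorem connectedSpace_of_idem {C : Type*} [CommRing C] [Nontrivial C]
    (h : ∀ e : C, IsIdempotentElem e → e = 0 ∨ e = 1) : ConnectedSpace (PrimeSpectrum C) := by
  haveI : PreconnectedSpace (PrimeSpectrum C) := by
    rw [preconnectedSpace_iff_clopen]
    intro s hs
    obtain ⟨e, he, rfl⟩ := PrimeSpectrum.isClopen_iff.mp hs
    rcases h e he with rfl | rfl
    · left; simp
    · right; simp
  exact ConnectedSpace.mk inferInstance

end Spec

end Helper25.ConnIdem
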