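import Mathlib
import Groth.Agent.Lib.Helper25.RootsOfUnityCSA

/-!
# Central division algebras of prime degree

Centralizers of non-central elements, purely inseparable elements, and Wedderburn's argument
producing an element `θ ∉ K` with `θ ^ 3 ∈ K` in a division algebra of degree three.
-/

namespace Groth.Agent.Lib.Helper25.PrimeDegree

open Polynomial

universe u v

section Identities

variable {K : Type u} [CommRing K] {R : Type v} [Ring R] [Algebra K R]

/-- `E(x, x₂) * (x' - x) = F(x') - F(x)` when `x₂ * (x' - x) = (x' - x) * x'`. -/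
theorem wedderburn_E_mul (c₂ c₁ c₀ : K) (x x' x₂ : R)
    (h : x₂ * (x' - x) = (x' - x) * x') :
    (x₂ * x₂ + x * x₂ + x * x + c₂ • (x + x₂) + c₁ • (1 : R)) * (x' - x) =
      (x' * x' * x' + c₂ • (x' * x') + c₁ • x' + c₀ • (1 : R)) -
      (x * x * x + c₂ • (x * x) + c₁ • x + c₀ • (1 : R)) := by
  have h2 : x₂ * x₂ * (x' - x) = (x' - x) * x' * x' := by
    rw [mul_assoc, h, ← mul_assoc, h]
  have h3 : (x₂ * x₂ + x * x₂ + x * x + c₂ • (x + x₂) + c₁ • (1 : R)) * (x' - x) =
      x₂ * x₂ * (x' - x) + x * (x₂ * (x' - x)) + x * x * (x' - x) + c₂ • (x * (x' - x))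
        + c₂ • (x₂ * (x' - x)) + c₁ • (x' - x) := by
    simp only [add_mul, smul_mul_assoc, smul_add, one_mul, mul_assoc]
    abel
  rw [h3, h2, h]
  simp only [mul_sub, sub_mul, smul_sub, mul_assoc]
  abel

/-- Wedderburn's identities for a cubic. -/
theorem wedderburn_theta (c₂ c₁ c₀ : K) (x x₂ : R)
    (hF1 : x * x * x + c₂ • (x * x) + c₁ • x + c₀ • (1 : R) = 0)
    (hF2 : x₂ * x₂ * x₂ + c₂ • (x₂ * x₂) + c₁ • x₂ + c₀ • (1 : R) = 0)
    (hE : x₂ * x₂ + x * x₂ + x * x + c₂ • (x + x₂) + c₁ • (1 : R) = 0) :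
    (x * x₂ - x₂ * x) * x = x₂ * (x * x₂ - x₂ * x) ∧
    (x * x₂ - x₂ * x) * x₂ = (-(c₂ • (1 : R)) - x - x₂) * (x * x₂ - x₂ * x) ∧
    (x * x₂ - x₂ * x) * (-(c₂ • (1 : R)) - x - x₂) = x * (x * x₂ - x₂ * x) := by
  have key1 : (x * x₂ - x₂ * x) * x - x₂ * (x * x₂ - x₂ * x) =
      (x₂ * x₂ + x * x₂ + x * x + c₂ • (x + x₂) + c₁ • (1 : R)) * x
      - x₂ * (x₂ * x₂ + x * x₂ + x * x + c₂ • (x + x₂) + c₁ • (1 : R))
      - (x * x * x + c₂ • (x * x) + c₁ • x + c₀ • (1 : R))
      + (x₂ * x₂ * x₂ + c₂ • (x₂ * x₂) + c₁ • x₂ + c₀ • (1 : R)) := by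
    simp only [add_mul, mul_add, sub_mul, mul_sub, smul_mul_assoc, mul_smul_comm, smul_add,
      one_mul, mul_one, mul_assoc]
    abel
  have key2 : (x * x₂ - x₂ * x) * x₂ - (-(c₂ • (1 : R)) - x - x₂) * (x * x₂ - x₂ * x) =
      x * (x₂ * x₂ + x * x₂ + x * x + c₂ • (x + x₂) + c₁ • (1 : R))
      - (x₂ * x₂ + x * x₂ + x * x + c₂ • (x + x₂) + c₁ • (1 : R)) * x := by
    simp only [add_mul, mul_add, sub_mul, mul_sub, neg_mul, smul_mul_assoc, mul_smul_comm,
      smul_add, one_mul, mul_one, mul_assoc]
    abel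
  rw [hE, hF1, hF2] at key1
  rw [hE] at key2
  have T1 : (x * x₂ - x₂ * x) * x = x₂ * (x * x₂ - x₂ * x) := by
    rw [← sub_eq_zero, key1]; simp
  have T2 : (x * x₂ - x₂ * x) * x₂ = (-(c₂ • (1 : R)) - x - x₂) * (x * x₂ - x₂ * x) := by
    rw [← sub_eq_zero, key2]; simp
  refine ⟨T1, T2, ?_⟩
  have : (x * x₂ - x₂ * x) * (-(c₂ • (1 : R)) - x - x₂) =
      -(c₂ • (x * x₂ - x₂ * x)) - (x * x₂ - x₂ * x) * x - (x * x₂ - x₂ * x) * x₂ := by
    simp only [mul_sub, mul_neg, mul_smul_comm, mul_one]
  rw [this, T1, T2]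
  simp only [sub_mul, neg_mul, smul_mul_assoc, one_mul]
  abel

/-- Consequence: `θ ^ 3` commutes with `x` and `x₂`. -/
theorem wedderburn_theta_cube (c₂ c₁ c₀ : K) (x x₂ : R)
    (hF1 : x * x * x + c₂ • (x * x) + c₁ • x + c₀ • (1 : R) = 0)
    (hF2 : x₂ * x₂ * x₂ + c₂ • (x₂ * x₂) + c₁ • x₂ + c₀ • (1 : R) = 0)
    (hE : x₂ * x₂ + x * x₂ + x * x + c₂ • (x + x₂) + c₁ • (1 : R) = 0) :
    (x * x₂ - x₂ * x) ^ 3 * x = x * (x * x₂ - x₂ * x) ^ 3 ∧
    (x * x₂ - x₂ * x) ^ 3 * x₂ = x₂ * (x * x₂ - x₂ * x) ^ 3 := by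
  obtain ⟨T1, T2, T3⟩ := wedderburn_theta c₂ c₁ c₀ x x₂ hF1 hF2 hE
  set θ := x * x₂ - x₂ * x
  set x₃ := -(c₂ • (1 : R)) - x - x₂
  constructor
  · calc θ ^ 3 * x = θ * θ * (θ * x) := by rw [pow_succ, pow_two, mul_assoc]
      _ = θ * (θ * x₂) * θ := by rw [T1]; simp only [mul_assoc]
      _ = (θ * x₃) * θ * θ := by rw [T2]; simp only [mul_assoc]
      _ = x * θ ^ 3 := by rw [T3, pow_succ, pow_two]; simp only [mul_assoc]
  · calc θ ^ 3 * x₂ = θ * θ * (θ * x₂) := by rw [pow_succ, pow_two, mul_assoc]
      _ = θ * (θ * x₃) * θ := by rw [T2]; simp only [mul_assoc]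
      _ = (θ * x) * θ * θ := by rw [T3]; simp only [mul_assoc]
      _ = x₂ * θ ^ 3 := by rw [T1, pow_succ, pow_two]; simp only [mul_assoc]

end Identities

section Basic

variable {K : Type u} [Field K] {D : Type v} [DivisionRing D] [Algebra K D]
  [FiniteDimensional K D]

theorem irreducible_minpoly (z : D) : Irreducible (minpoly K z) :=
  minpoly.irreducible (Algebra.IsIntegral.isIntegral z)

/-- The canonical embedding `K[X]/(minpoly z) → D`. -/
noncomputable def adjoinRootHom (z : D) : AdjoinRoot (minpoly K z) →ₐ[K] D :=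
  Ideal.Quotient.liftₐ (Ideal.span {minpoly K z}) (aeval z) (fun p hp => by
    obtain ⟨q, rfl⟩ := Ideal.mem_span_singleton.mp hp
    rw [map_mul, minpoly.aeval, zero_mul])

omit [FiniteDimensional K D] in
theorem adjoinRootHom_mk (z : D) (g : K[X]) :
    adjoinRootHom z (AdjoinRoot.mk (minpoly K z) g) = aeval z g := rfl

omit [FiniteDimensional K D] in
theorem adjoinRootHom_root (z : D) :
    adjoinRootHom z (AdjoinRoot.root (minpoly K z)) = z := by
  have : AdjoinRoot.root (minpoly K z) = AdjoinRoot.mk (minpoly K z) X := rfl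
  rw [this, adjoinRootHom_mk, aeval_X]

theorem finrank_adjoinRoot_minpoly (z : D) :
    Module.finrank K (AdjoinRoot (minpoly K z)) = (minpoly K z).natDegree := by
  have hne : minpoly K z ≠ 0 := (irreducible_minpoly z).ne_zero
  exact (AdjoinRoot.powerBasis hne).finrank.trans (AdjoinRoot.powerBasis_dim hne)

theorem finiteDimensional_adjoinRoot_minpoly (z : D) :
    FiniteDimensional K (AdjoinRoot (minpoly K z)) :=
  (AdjoinRoot.powerBasis (irreducible_minpoly z).ne_zero).finite

variable [Algebra.IsCentral K D]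

/-- In a central division algebra of prime degree `q`, a non-central element has degree `q`. -/
theorem natDegree_minpoly_eq {q : ℕ} (hq : q.Prime) (hD : Module.finrank K D = q ^ 2)
    {z : D} (hz : z ∉ (algebraMap K D).range) : (minpoly K z).natDegree = q := by
  have : Fact (Irreducible (minpoly K z)) := ⟨irreducible_minpoly z⟩
  have := finiteDimensional_adjoinRoot_minpoly (K := K) z
  have h1 := RootsOfUnity.finrank_dvd_of_algHom (adjoinRootHom z) hD
  rw [finrank_adjoinRoot_minpoly] at h1
  rcases (Nat.dvd_prime hq).mp h1 with h | h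
  · exfalso
    apply hz
    apply minpoly.mem_range_of_degree_eq_one
    rw [degree_eq_natDegree (irreducible_minpoly z).ne_zero, h]
    rfl
  · exact h

/-- In a central division algebra of prime degree, the centralizer of a non-central element `z`
is `K[z]`. -/
theorem mem_range_adjoinRootHom_of_commute {q : ℕ} (hq : q.Prime)
    (hD : Module.finrank K D = q ^ 2)
    {z : D} (hz : z ∉ (algebraMap K D).range) {u : D} (hu : u * z = z * u) :
    u ∈ (adjoinRootHom (K := K) z).range := by
  have : Fact (Irreducible (minpoly K z)) := ⟨irreducible_minpoly z⟩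
  have := finiteDimensional_adjoinRoot_minpoly (K := K) z
  set φ := adjoinRootHom (K := K) z with hφ
  have hinj : Function.Injective φ := φ.toRingHom.injective
  let e : AdjoinRoot (minpoly K z) ≃ₐ[K] φ.range := AlgEquiv.ofInjective φ hinj
  have : IsSimpleRing φ.range := IsSimpleRing.of_ringEquiv e.toRingEquiv inferInstance
  have hB : Module.finrank K φ.range = q := by
    rw [← LinearEquiv.finrank_eq e.toLinearEquiv, finrank_adjoinRoot_minpoly,
      natDegree_minpoly_eq hq hD hz]
  have h1 := Groth.Agent.Lib.Helper1.finrank_eq_mul_finrank_centralizer φ.range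
  rw [hD, hB, sq] at h1
  have hC : Module.finrank K (Subalgebra.centralizer K (φ.range : Set D)) = q :=
    (Nat.eq_of_mul_eq_mul_left hq.pos h1).symm
  have hle : φ.range ≤ Subalgebra.centralizer K (φ.range : Set D) := by
    rintro _ ⟨s, rfl⟩
    rw [Subalgebra.mem_centralizer_iff]
    rintro _ ⟨t, rfl⟩
    rw [← map_mul, ← map_mul, mul_comm]
  have heq : Subalgebra.toSubmodule φ.range =
      Subalgebra.toSubmodule (Subalgebra.centralizer K (φ.range : Set D)) :=
    Submodule.eq_of_le_of_finrank_eq hle (by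
      change Module.finrank K φ.range = Module.finrank K (Subalgebra.centralizer K (φ.range : Set D))
      rw [hB, hC])
  have humem : u ∈ Subalgebra.centralizer K (φ.range : Set D) := by
    rw [Subalgebra.mem_centralizer_iff]
    rintro _ ⟨s, rfl⟩
    obtain ⟨g, rfl⟩ := AdjoinRoot.mk_surjective s
    change adjoinRootHom z (AdjoinRoot.mk (minpoly K z) g) * u =
      u * adjoinRootHom z (AdjoinRoot.mk (minpoly K z) g)
    rw [adjoinRootHom_mk]
    have h2 : Algebra.adjoin K {z} ≤ Subalgebra.centralizer K {u} := by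
      apply Algebra.adjoin_le
      rintro _ rfl
      rw [SetLike.mem_coe, Subalgebra.mem_centralizer_iff]
      rintro _ rfl
      exact hu
    have h3 := h2 (aeval_mem_adjoin_singleton K z (p := g))
    rw [Subalgebra.mem_centralizer_iff] at h3
    exact (h3 u rfl).symm
  have : u ∈ Subalgebra.toSubmodule φ.range := by rw [heq]; exact humem
  exact this

/-- In a central division algebra of prime degree, two elements commuting with a non-central element
commute with each other. -/
theorem commute_of_commute {q : ℕ} (hq : q.Prime) (hD : Module.finrank K D = q ^ 2)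
    {z : D} (hz : z ∉ (algebraMap K D).range) {u v : D} (hu : u * z = z * u) (hv : v * z = z * v) :
    u * v = v * u := by
  obtain ⟨s, rfl⟩ := mem_range_adjoinRootHom_of_commute hq hD hz hu
  obtain ⟨t, rfl⟩ := mem_range_adjoinRootHom_of_commute hq hD hz hv
  rw [← map_mul, ← map_mul, mul_comm]

omit [Algebra.IsCentral K D] in
/-- A non-central element exists when the dimension is `q ^ 2` with `q` prime. -/
theorem exists_not_mem_range {q : ℕ} (hq : q.Prime) (hD : Module.finrank K D = q ^ 2) :
    ∃ x : D, x ∉ (algebraMap K D).range := by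
  by_contra hcon
  push Not at hcon
  have h1 : (⊥ : Subalgebra K D) = ⊤ := by
    rw [eq_top_iff]
    intro x _
    obtain ⟨c, hc⟩ := hcon x
    exact Algebra.mem_bot.mpr ⟨c, hc⟩
  have h2 := Subalgebra.bot_eq_top_iff_finrank_eq_one.mp h1
  rw [hD] at h2
  have : 1 < q ^ 2 := Nat.one_lt_pow two_ne_zero hq.one_lt
  omega

omit [FiniteDimensional K D] in
/-- A non-central element fails to commute with something. -/
theorem exists_not_commute {x : D} (hx : x ∉ (algebraMap K D).range) :
    ∃ y : D, y * x ≠ x * y := by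
  by_contra hcon
  push Not at hcon
  apply hx
  have h1 : x ∈ Subalgebra.center K D := by
    rw [Subalgebra.mem_center_iff]
    exact hcon
  have h2 := Algebra.IsCentral.out (K := K) (D := D) h1
  exact Algebra.mem_bot.mp h2

end Basic

section Insep

variable {K : Type u} [Field K] {D : Type v} [DivisionRing D] [Algebra K D]

/-- A non-central element whose `p`-th power is central (in characteristic `p`) is not separable. -/
theorem not_isSeparable_of_pow_char_mem (p : ℕ) [Fact p.Prime] [CharP K p] {θ : D}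
    (hθ : θ ∉ (algebraMap K D).range) (hθp : θ ^ p ∈ (algebraMap K D).range) :
    ¬ IsSeparable K θ := by
  have hp : p.Prime := Fact.out
  obtain ⟨c, hc⟩ := hθp
  have : CharP D p := charP_of_injective_algebraMap (algebraMap K D).injective p
  by_cases hex : ∃ d : K, d ^ p = c
  · obtain ⟨d, hd⟩ := hex
    exfalso
    apply hθ
    have hcomm : Commute θ (algebraMap K D d) := (Algebra.commutes d θ).symm
    have hzero : (θ - algebraMap K D d) ^ p = 0 := by
      rw [sub_pow_char_of_commute p hcomm, ← hc, ← map_pow, hd, sub_self]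
    have := pow_eq_zero_iff hp.ne_zero |>.mp hzero
    exact ⟨d, (sub_eq_zero.mp this).symm⟩
  · push Not at hex
    have hirr : Irreducible (X ^ p - C c : K[X]) := X_pow_sub_C_irreducible_of_prime hp hex
    have hroot : aeval θ (X ^ p - C c : K[X]) = 0 := by
      simp only [map_sub, map_pow, aeval_X, aeval_C]
      rw [hc, sub_self]
    have hmin : (X ^ p - C c : K[X]) = minpoly K θ :=
      minpoly.eq_of_irreducible_of_monic hirr hroot (monic_X_pow_sub_C c hp.ne_zero)
    intro hsep
    change (minpoly K θ).Separable at hsep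
    rw [← hmin, separable_iff_derivative_ne_zero hirr] at hsep
    apply hsep
    simp [derivative_X_pow]

end Insep

section Coeff

variable {K : Type u} [Field K] {R : Type v} [Ring R] [Algebra K R]

theorem aeval_eq_of_natDegree_two {f : K[X]} (hmon : f.Monic) (hdeg : f.natDegree = 2) (z : R) :
    aeval z f = z * z + f.coeff 1 • z + f.coeff 0 • (1 : R) := by
  have h2 : f.coeff 2 = 1 := by rw [← hdeg]; exact hmon.coeff_natDegree
  rw [aeval_eq_sum_range, hdeg]
  simp only [Finset.sum_range_succ, Finset.range_one, Finset.sum_singleton, pow_zero, pow_one,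
    h2, one_smul, pow_two]
  abel

theorem aeval_eq_of_natDegree_three {f : K[X]} (hmon : f.Monic) (hdeg : f.natDegree = 3) (z : R) :
    aeval z f = z * z * z + f.coeff 2 • (z * z) + f.coeff 1 • z + f.coeff 0 • (1 : R) := by
  have h3 : f.coeff 3 = 1 := by rw [← hdeg]; exact hmon.coeff_natDegree
  rw [aeval_eq_sum_range, hdeg]
  simp only [Finset.sum_range_succ, Finset.range_one, Finset.sum_singleton, pow_zero,
    h3, one_smul, pow_succ, one_mul]
  abel

theorem aeval_derivative_of_natDegree_three {f : K[X]} (hmon : f.Monic) (hdeg : f.natDegree = 3)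
    (z : R) :
    aeval z (derivative f) =
      z * z + z * z + z * z + f.coeff 2 • (z + z) + f.coeff 1 • (1 : R) := by
  have h3 : f.coeff 3 = 1 := by rw [← hdeg]; exact hmon.coeff_natDegree
  have hlt : (derivative f).natDegree < 3 := by
    rw [← hdeg]; exact natDegree_derivative_lt (by rw [hdeg]; norm_num)
  rw [aeval_eq_sum_range' hlt]
  simp only [Finset.sum_range_succ, Finset.range_one, Finset.sum_singleton, pow_zero, pow_one,
    coeff_derivative, h3, pow_two]
  have e1 : (f.coeff (0 + 1) * ((0 : ℕ) + 1 : K)) • (1 : R) = f.coeff 1 • (1 : R) := by simp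
  have e2 : (f.coeff (1 + 1) * ((1 : ℕ) + 1 : K)) • z = f.coeff 2 • (z + z) := by
    rw [mul_smul, Nat.cast_one, add_smul, one_smul, one_add_one_eq_two]
  have e3 : ((1 : K) * ((2 : ℕ) + 1 : K)) • (z * z) = z * z + z * z + z * z := by
    rw [one_mul, add_smul, one_smul, Nat.cast_ofNat, two_smul]
  rw [e1, e2, e3]
  abel

end Coeff

section Galois

variable {K : Type u} [Field K]

/-- A separable irreducible cubic with two distinct roots in `K[X]/(f)` makes it Galois. -/
theorem isGalois_adjoinRoot_of_two_roots (f : K[X]) [Fact (Irreducible f)] (hsep : f.Separable)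
    (hdeg : f.natDegree = 3) (ρ : AdjoinRoot f) (hρ : aeval ρ f = 0)
    (hne : ρ ≠ AdjoinRoot.root f) : IsGalois K (AdjoinRoot f) := by
  have hf0 : f ≠ 0 := (Fact.out : Irreducible f).ne_zero
  set F := f.map (algebraMap K (AdjoinRoot f)) with hF
  have hF0 : F ≠ 0 :=
    (Polynomial.map_ne_zero_iff (algebraMap K (AdjoinRoot f)).injective).mpr hf0
  have hFdeg : F.natDegree = 3 := by rw [hF, natDegree_map, hdeg]
  have hr1 : F.IsRoot (AdjoinRoot.root f) := by
    rw [IsRoot.def, hF, eval_map_algebraMap]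
    exact AdjoinRoot.eval₂_root f
  have hr2 : F.IsRoot ρ := by
    rw [IsRoot.def, hF, eval_map_algebraMap]
    exact hρ
  obtain ⟨g₁, hg₁⟩ := dvd_iff_isRoot.mpr hr1
  have hr2' : g₁.IsRoot ρ := by
    rw [hg₁, IsRoot.def, eval_mul, eval_sub, eval_X, eval_C] at hr2
    rcases mul_eq_zero.mp hr2 with h | h
    · exact absurd (sub_eq_zero.mp h) hne
    · exact h
  obtain ⟨g₂, hg₂⟩ := dvd_iff_isRoot.mpr hr2'
  have hg₂0 : g₂ ≠ 0 := by
    rintro rfl
    rw [hg₂, mul_zero, mul_zero] at hg₁
    exact hF0 hg₁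
  have hg₂deg : g₂.natDegree = 1 := by
    have h1 : F.natDegree = 1 + (1 + g₂.natDegree) := by
      rw [hg₁, hg₂, natDegree_mul (X_sub_C_ne_zero _) (mul_ne_zero (X_sub_C_ne_zero _) hg₂0),
        natDegree_mul (X_sub_C_ne_zero _) hg₂0, natDegree_X_sub_C, natDegree_X_sub_C]
    omega
  have hsplit : F.Splits := by
    rw [hg₁, hg₂, splits_X_sub_C_mul_iff, splits_X_sub_C_mul_iff]
    exact Splits.of_natDegree_le_one hg₂deg.le
  have : IsSplittingField K (AdjoinRoot f) f := by
    refine ⟨hsplit, ?_⟩
    rw [eq_top_iff, ← AdjoinRoot.adjoinRoot_eq_top (f := f)]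
    apply Algebra.adjoin_mono
    rintro _ rfl
    rw [mem_rootSet]
    exact ⟨hf0, by rw [aeval_def]; exact AdjoinRoot.eval₂_root f⟩
  exact IsGalois.of_separable_splitting_field hsep

end Galois

section Main

variable {K : Type u} [Field K] {D : Type v} [DivisionRing D] [Algebra K D]
  [Algebra.IsCentral K D] [FiniteDimensional K D]

/-- Quaternion division algebras in characteristic two contain inseparable elements. -/
theorem exists_not_isSeparable_two [CharP K 2] (hD : Module.finrank K D = 2 ^ 2) :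
    ∃ v : D, ¬ IsSeparable K v := by
  by_contra hcon
  push Not at hcon
  have hq : Nat.Prime 2 := Nat.prime_two
  have : Fact (Nat.Prime 2) := ⟨hq⟩
  have : CharP D 2 := charP_of_injective_algebraMap (algebraMap K D).injective 2
  obtain ⟨x, hx⟩ := exists_not_mem_range hq hD
  have hdeg := natDegree_minpoly_eq hq hD hx
  have hmon := minpoly.monic (Algebra.IsIntegral.isIntegral (R := K) x)
  have hF := aeval_eq_of_natDegree_two hmon hdeg x
  rw [minpoly.aeval] at hF
  -- the linear coefficient is nonzero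
  have hc₁ : (minpoly K x).coeff 1 ≠ 0 := by
    intro h0
    have hsep := hcon x
    rw [IsSeparable, separable_iff_derivative_ne_zero (irreducible_minpoly x)] at hsep
    apply hsep
    ext n
    rw [coeff_derivative, coeff_zero]
    rcases n with _ | _ | n
    · simp [h0]
    · have h2 : ((1 : ℕ) : K) + 1 = 0 := by
        rw [Nat.cast_one, one_add_one_eq_two]
        exact CharTwo.two_eq_zero
      rw [zero_add, h2, mul_zero]
    · rw [coeff_eq_zero_of_natDegree_lt (by omega), zero_mul]
  obtain ⟨y, hy⟩ := exists_not_commute hx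
  have hθ0 : y * x - x * y ≠ 0 := sub_ne_zero.mpr hy
  have key : (y * x - x * y) * x - (-((minpoly K x).coeff 1 • (1 : D)) - x) * (y * x - x * y) =
      y * (x * x + (minpoly K x).coeff 1 • x + (minpoly K x).coeff 0 • (1 : D))
      - (x * x + (minpoly K x).coeff 1 • x + (minpoly K x).coeff 0 • (1 : D)) * y := by
    simp only [sub_mul, mul_sub, neg_mul, mul_add, add_mul, smul_mul_assoc, mul_smul_comm,
      one_mul, mul_one, mul_assoc]
    abel
  rw [← hF, mul_zero, zero_mul, sub_zero, sub_eq_zero] at key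
  set θ := y * x - x * y with hθ
  set c₁ := (minpoly K x).coeff 1 with hc₁def
  have T2 : θ * θ * x = x * (θ * θ) := by
    have h1 : θ * (-(c₁ • (1 : D)) - x) = x * θ := by
      rw [mul_sub, key]
      simp only [mul_neg, mul_smul_comm, mul_one, sub_mul, neg_mul, smul_mul_assoc, one_mul]
      abel
    rw [mul_assoc, key, ← mul_assoc, h1, mul_assoc]
  have hθx : θ * x ≠ x * θ := by
    intro h
    rw [key, sub_mul, neg_mul, smul_mul_assoc, one_mul] at h
    have h2 : c₁ • θ = 0 := by
      have h3 : x * θ + x * θ = 0 := CharTwo.add_self_eq_zero _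
      have h4 : c₁ • θ = -(x * θ + x * θ) := by
        calc c₁ • θ = -((-(c₁ • θ) - x * θ) + x * θ) := by abel
          _ = -(x * θ + x * θ) := by rw [h]
      rw [h4, h3, neg_zero]
    rcases smul_eq_zero.mp h2 with h5 | h5
    · exact hc₁ h5
    · exact hθ0 h5
  have hz : θ * θ ∈ (algebraMap K D).range := by
    by_contra hz
    exact hθx (commute_of_commute hq hD hz (u := θ) (v := x) (mul_assoc θ θ θ).symm T2.symm)
  have hθK : θ ∉ (algebraMap K D).range := by
    rintro ⟨c, hc⟩
    apply hθx
    rw [← hc]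
    exact Algebra.commutes c x
  exact not_isSeparable_of_pow_char_mem 2 hθK (by rw [pow_two]; exact hz) (hcon θ)

/-- Division algebras of degree three in characteristic three contain inseparable elements
(Wedderburn), given the cyclic case `hgal`. -/
theorem exists_not_isSeparable_three [CharP K 3] (hD : Module.finrank K D = 3 ^ 2)
    (hgal : ∀ (L : Type u) [Field L] [Algebra K L] [IsGalois K L], Module.finrank K L = 3 →
      (L →ₐ[K] D) → ∃ v : D, ¬ IsSeparable K v) :
    ∃ v : D, ¬ IsSeparable K v := by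
  by_contra hcon
  push Not at hcon
  have hq : Nat.Prime 3 := Nat.prime_three
  have : Fact (Nat.Prime 3) := ⟨hq⟩
  obtain ⟨x, hx⟩ := exists_not_mem_range hq hD
  have hdeg := natDegree_minpoly_eq hq hD hx
  have hmon := minpoly.monic (Algebra.IsIntegral.isIntegral (R := K) x)
  have hFx := aeval_eq_of_natDegree_three hmon hdeg x
  rw [minpoly.aeval] at hFx
  obtain ⟨y, hy⟩ := exists_not_commute hx
  have hy0 : y ≠ 0 := by
    rintro rfl
    simp at hy
  -- a conjugate `x'` of `x`
  have hFconj : ∀ (u : Dˣ),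
      aeval (Groth.Agent.Lib.Helper1.innerAlgEquiv K u x) (minpoly K x) = 0 := by
    intro u
    have := aeval_algHom_apply (Groth.Agent.Lib.Helper1.innerAlgEquiv K u).toAlgHom x (minpoly K x)
    rw [minpoly.aeval, map_zero] at this
    exact this
  set x' := Groth.Agent.Lib.Helper1.innerAlgEquiv K (Units.mk0 y hy0) x with hx'
  have hx'x : x' ≠ x := by
    intro h
    apply hy
    rw [hx', Groth.Agent.Lib.Helper1.innerAlgEquiv_apply] at h
    have h2 := congrArg (· * y) h
    simp only [Units.val_mk0, Units.val_inv_eq_inv_val, mul_assoc, inv_mul_cancel₀ hy0,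
      mul_one] at h2
    exact h2
  have hFx'0 : aeval x' (minpoly K x) = 0 := hFconj _
  have hFx' := aeval_eq_of_natDegree_three hmon hdeg x'
  rw [hFx'0] at hFx'
  have he : x' - x ≠ 0 := sub_ne_zero.mpr hx'x
  -- second conjugate
  have hFx₂0 : aeval (Groth.Agent.Lib.Helper1.innerAlgEquiv K (Units.mk0 (x' - x) he) x')
      (minpoly K x) = 0 := by
    have := aeval_algHom_apply
      (Groth.Agent.Lib.Helper1.innerAlgEquiv K (Units.mk0 (x' - x) he)).toAlgHom x' (minpoly K x)
    rw [hFx'0, map_zero] at this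
    exact this
  set x₂ := Groth.Agent.Lib.Helper1.innerAlgEquiv K (Units.mk0 (x' - x) he) x' with hx₂
  have hx₂e : x₂ * (x' - x) = (x' - x) * x' := by
    rw [hx₂, Groth.Agent.Lib.Helper1.innerAlgEquiv_apply]
    simp only [Units.val_mk0, Units.val_inv_eq_inv_val, mul_assoc, inv_mul_cancel₀ he, mul_one]
  have hFx₂ := aeval_eq_of_natDegree_three hmon hdeg x₂
  rw [hFx₂0] at hFx₂
  have hE : x₂ * x₂ + x * x₂ + x * x + (minpoly K x).coeff 2 • (x + x₂) +
      (minpoly K x).coeff 1 • (1 : D) = 0 := by
    have h1 := wedderburn_E_mul ((minpoly K x).coeff 2) ((minpoly K x).coeff 1)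
      ((minpoly K x).coeff 0) x x' x₂ hx₂e
    rw [← hFx', ← hFx, sub_zero] at h1
    exact (mul_eq_zero.mp h1).resolve_right he
  by_cases hcomm : x * x₂ = x₂ * x
  · -- the cyclic case
    have hx₂x : x₂ ≠ x := by
      intro h
      rw [h] at hE
      have h1 : aeval x (derivative (minpoly K x)) = 0 := by
        rw [aeval_derivative_of_natDegree_three hmon hdeg]
        exact hE
      have h2 : minpoly K x ∣ derivative (minpoly K x) := minpoly.dvd K x h1
      have h3 : derivative (minpoly K x) = 0 :=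
        eq_zero_of_dvd_of_natDegree_lt h2 (natDegree_derivative_lt (by rw [hdeg]; norm_num))
      have hsep := hcon x
      rw [IsSeparable, separable_iff_derivative_ne_zero (irreducible_minpoly x)] at hsep
      exact hsep h3
    obtain ⟨ρ, hρ⟩ := mem_range_adjoinRootHom_of_commute hq hD hx (u := x₂) hcomm.symm
    have : Fact (Irreducible (minpoly K x)) := ⟨irreducible_minpoly x⟩
    have hρroot : aeval ρ (minpoly K x) = 0 := by
      apply (adjoinRootHom (K := K) x).toRingHom.injective
      rw [map_zero]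
      change adjoinRootHom x (aeval ρ (minpoly K x)) = 0
      rw [← aeval_algHom_apply]
      have : (adjoinRootHom (K := K) x) ρ = x₂ := hρ
      rw [this, hFx₂0]
    have hρne : ρ ≠ AdjoinRoot.root (minpoly K x) := by
      rintro rfl
      have : (adjoinRootHom (K := K) x) (AdjoinRoot.root (minpoly K x)) = x₂ := hρ
      rw [adjoinRootHom_root] at this
      exact hx₂x this.symm
    have hgalois := isGalois_adjoinRoot_of_two_roots (minpoly K x) (hcon x) hdeg ρ hρroot hρne
    obtain ⟨v, hv⟩ := hgal (AdjoinRoot (minpoly K x))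
      (by rw [finrank_adjoinRoot_minpoly, hdeg]) (adjoinRootHom x)
    exact hv (hcon v)
  · -- Wedderburn's element
    have hθ0 : x * x₂ - x₂ * x ≠ 0 := sub_ne_zero.mpr hcomm
    obtain ⟨T1, -, -⟩ := wedderburn_theta ((minpoly K x).coeff 2) ((minpoly K x).coeff 1)
      ((minpoly K x).coeff 0) x x₂ hFx.symm hFx₂.symm hE
    obtain ⟨C1, C2⟩ := wedderburn_theta_cube ((minpoly K x).coeff 2) ((minpoly K x).coeff 1)
      ((minpoly K x).coeff 0) x x₂ hFx.symm hFx₂.symm hE
    set θ := x * x₂ - x₂ * x with hθ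
    have hz : θ ^ 3 ∈ (algebraMap K D).range := by
      by_contra hz
      exact hcomm (commute_of_commute hq hD hz (u := x) (v := x₂) C1.symm C2.symm)
    have hθK : θ ∉ (algebraMap K D).range := by
      rintro ⟨c, hc⟩
      have h1 : θ * x = x * θ := by
        rw [← hc]
        exact Algebra.commutes c x
      rw [T1] at h1
      have h2 := mul_right_cancel₀ hθ0 h1
      apply hcomm
      rw [h2]
    exact not_isSeparable_of_pow_char_mem 3 hθK hz (hcon θ)

end Main

end Groth.Agent.Lib.Helper25.PrimeDegree
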