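import Mathlib
import Groth.Prelude.Def_QuadGrp2
import Groth.Agent.Lib.Helper25.ConnIdem

/-!
# Fibres of an affine scheme over an affine base
-/

set_option autoImplicit false
set_option linter.style.haveILetI false
universe u

namespace Helper25.FibreConn

open CategoryTheory AlgebraicGeometry TensorProduct Limits

variable {R : Type u} [CommRing R]

/-- The fibres of `Spec B → Spec R` are connected if all `κ ⊗ B` have connected spectrum. -/
theorem connectedSpace_fiber_of_isIso {G : Over (Spec (CommRingCat.of R))} (B : Type u)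
    [CommRing B] [Algebra R B] (y₀ : QuadGrp.specOver R B ⟶ G) [IsIso y₀]
    (h : ∀ (κ : Type u) [Field κ] [Algebra R κ], ConnectedSpace (PrimeSpectrum (κ ⊗[R] B)))
    (s : ↥(Spec (CommRingCat.of R))) : ConnectedSpace ↥(G.hom.fiber s) := by
  let Y := Spec (CommRingCat.of R)
  let κ : Type u := Y.residueField s
  let ψ : Spec (Y.residueField s) ⟶ Y := Y.fromSpecResidueField s
  let φ : CommRingCat.of R ⟶ Y.residueField s := Spec.preimage ψ
  have hφ : Spec.map φ = ψ := Spec.map_preimage ψ
  letI : Algebra R κ := φ.hom.toAlgebra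
  let j : Spec (CommRingCat.of B) ⟶ G.left := y₀.left
  haveI : IsIso j := inferInstanceAs (IsIso ((Over.forget _).map y₀))
  have hw : j ≫ G.hom = Spec.map (CommRingCat.ofHom (algebraMap R B)) := Over.w y₀
  -- the fibre is a pullback of spectra
  let e1 : pullback (Spec.map (CommRingCat.ofHom (algebraMap R B)))
      (Spec.map (CommRingCat.ofHom (algebraMap R κ))) ≅ pullback G.hom ψ :=
    asIso (pullback.map _ _ _ _ j (𝟙 _) (𝟙 _) (by rw [Category.comp_id, hw])
      (by rw [Category.comp_id, Category.id_comp]; exact hφ))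
  let e2 := pullbackSpecIso R B κ
  let e3 : G.hom.fiber s ≅ Spec (CommRingCat.of (B ⊗[R] κ)) := e1.symm ≪≫ e2
  have hconn : ConnectedSpace (PrimeSpectrum (κ ⊗[R] B)) := h κ
  let c : (κ ⊗[R] B) ≃+* (B ⊗[R] κ) := (Algebra.TensorProduct.comm R κ B).toRingEquiv
  have h2 : ConnectedSpace (PrimeSpectrum (B ⊗[R] κ)) :=
    (PrimeSpectrum.homeomorphOfRingEquiv c).surjective.connectedSpace
      (PrimeSpectrum.homeomorphOfRingEquiv c).continuous
  have h3 : ConnectedSpace ↥(Spec (CommRingCat.of (B ⊗[R] κ))) := h2
  exact (Scheme.homeoOfIso e3).symm.surjective.connectedSpace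
    (Scheme.homeoOfIso e3).symm.continuous

end Helper25.FibreConn
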