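import Mathlib

/-!
# The exponent of a finite field extension and an element of degree `[K:k]_s · e`
-/

set_option autoImplicit false
universe u
open IntermediateField

namespace Groth.Agent.Lib.Helper25.FieldQuasiDeg

variable {k : Type u} [Field k] {K : Type u} [Field K] [Algebra k K] [FiniteDimensional k K]

/-- a uniform `p`-power exponent bringing `K` into the separable closure -/
theorem exists_pow_mem_separableClosure (p : ℕ) [ExpChar k p] :
    ∃ N : ℕ, ∀ x : K, x ^ p ^ N ∈ separableClosure k K := by
  classical
  have : ExpChar K p := expChar_of_injective_algebraMap (algebraMap k K).injective p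
  have : IsPurelyInseparable (separableClosure k K) K := separableClosure.isPurelyInseparable k K
  have : ExpChar (separableClosure k K) p :=
    expChar_of_injective_algebraMap (algebraMap k (separableClosure k K)).injective p
  have h1 : ∀ x : K, ∃ n : ℕ, x ^ p ^ n ∈ separableClosure k K := by
    intro x
    obtain ⟨n, y, hy⟩ := IsPurelyInseparable.pow_mem (separableClosure k K) p x
    exact ⟨n, hy ▸ y.2⟩
  choose n hn using h1
  let b := Module.finBasis k K
  refine ⟨Finset.univ.sup fun i => n (b i), ?_⟩
  set N := Finset.univ.sup fun i => n (b i) with hN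
  have hb : ∀ i, (b i) ^ p ^ N ∈ separableClosure k K := by
    intro i
    have hle : n (b i) ≤ N := Finset.le_sup (f := fun i => n (b i)) (Finset.mem_univ i)
    obtain ⟨j, hj⟩ := Nat.exists_eq_add_of_le hle
    rw [hj, pow_add, pow_mul]
    exact pow_mem (hn (b i)) _
  intro x
  rw [← b.sum_repr x, ← iterateFrobenius_def (R := K) p N, map_sum]
  refine sum_mem fun i _ => ?_
  rw [iterateFrobenius_def, smul_pow]
  exact (separableClosure k K).smul_mem (hb i)

/-- **The exponent is a power of the exponential characteristic.** -/
theorem exponent_eq_pow (p : ℕ) [ExpChar k p] (e : ℕ) (he : 0 < e)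
    (hexp : ∀ x : K, x ^ e ∈ separableClosure k K)
    (hmin : ∀ n : ℕ, 0 < n → (∀ x : K, x ^ n ∈ separableClosure k K) → e ≤ n) :
    ∃ s : ℕ, e = p ^ s ∧ (∀ x : K, x ^ p ^ s ∈ separableClosure k K) ∧
      (s ≠ 0 → ∃ y : K, y ^ p ^ (s - 1) ∉ separableClosure k K) := by
  classical
  have hex := exists_pow_mem_separableClosure (k := k) (K := K) p
  obtain hp | hp := expChar_is_prime_or_one k p
  · set s := Nat.find hex with hs
    have hspec : ∀ x : K, x ^ p ^ s ∈ separableClosure k K := Nat.find_spec hex
    have hle : e ≤ p ^ s := hmin (p ^ s) (pow_pos hp.pos s) hspec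
    obtain ⟨a, has, hga⟩ := (Nat.dvd_prime_pow hp).1 (Nat.gcd_dvd_right e (p ^ s))
    have hclaim : ∀ x : K, x ^ p ^ a ∈ separableClosure k K := by
      intro x
      rw [← hga]
      by_cases hx : x = 0
      · rw [hx, zero_pow (Nat.gcd_pos_of_pos_left _ he).ne']
        exact zero_mem _
      · have h1 : (x ^ Nat.gcd e (p ^ s) : K) =
            (x ^ e) ^ (Nat.gcdA e (p ^ s)) * (x ^ p ^ s) ^ (Nat.gcdB e (p ^ s)) := by
          rw [← zpow_natCast x (Nat.gcd e (p ^ s)), Nat.gcd_eq_gcd_ab, zpow_add₀ hx, zpow_mul,
            zpow_mul, zpow_natCast, zpow_natCast]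
        rw [h1]
        exact mul_mem (zpow_mem (hexp x) _) (zpow_mem (hspec x) _)
    have hsa : s ≤ a := Nat.find_min' hex hclaim
    have hsa' : a = s := le_antisymm has hsa
    have hdvd : p ^ s ∣ e := by
      have := Nat.gcd_dvd_left e (p ^ s)
      rwa [hga, hsa'] at this
    have hes : e = p ^ s := le_antisymm hle (Nat.le_of_dvd he hdvd)
    refine ⟨s, hes, hspec, fun hs0 => ?_⟩
    have := Nat.find_min hex (Nat.sub_one_lt hs0)
    push Not at this
    exact this
  · subst hp
    obtain ⟨N, hN⟩ := hex
    have h1 : ∀ x : K, x ^ 1 ∈ separableClosure k K := fun x => by simpa using hN x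
    have he1 : e = 1 := le_antisymm (hmin 1 one_pos h1) he
    exact ⟨0, by simpa using he1, fun x => by simpa using h1 x, fun h => absurd rfl h⟩

/-- the `k`-subspace of `K` of the elements whose `p ^ n`-th power lies in an intermediate
field -/
def powPreimage (p : ℕ) [ExpChar K p] (L : IntermediateField k K) (n : ℕ) : Submodule k K where
  carrier := {w | w ^ p ^ n ∈ L}
  add_mem' {a b} ha hb := by
    show (a + b) ^ p ^ n ∈ L
    rw [add_pow_expChar_pow]
    exact add_mem ha hb
  zero_mem' := by
    show (0 : K) ^ p ^ n ∈ L
    rw [zero_pow (pow_pos (expChar_pos K p) n).ne']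
    exact zero_mem _
  smul_mem' c {a} ha := by
    show (c • a) ^ p ^ n ∈ L
    rw [smul_pow]
    exact L.smul_mem ha

theorem mem_powPreimage (p : ℕ) [ExpChar K p] (L : IntermediateField k K) (n : ℕ) (w : K) :
    w ∈ powPreimage p L n ↔ w ^ p ^ n ∈ L := Iff.rfl

theorem finrank_separableClosure_eq :
    Module.finrank k (separableClosure k K) = Field.finSepDegree k K := by
  rw [Field.finSepDegree_eq k K]
  rfl

/-- **An element of degree `[K:k]_s · p ^ s`.** -/
theorem exists_natDegree_minpoly_eq (p : ℕ) [ExpChar k p] (s : ℕ)
    (hs : ∀ x : K, x ^ p ^ s ∈ separableClosure k K)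
    (hs' : s ≠ 0 → ∃ y : K, y ^ p ^ (s - 1) ∉ separableClosure k K) :
    ∃ w : K, (minpoly k w).natDegree = Field.finSepDegree k K * p ^ s := by
  classical
  have : ExpChar K p := expChar_of_injective_algebraMap (algebraMap k K).injective p
  by_cases hs0 : s = 0
  · subst hs0
    have htop : separableClosure k K = ⊤ := by
      rw [eq_top_iff]
      intro x _
      simpa using hs x
    have : Algebra.IsSeparable k K := (separableClosure.eq_top_iff k K).1 htop
    obtain ⟨w, hw⟩ := Field.exists_primitive_element k K
    refine ⟨w, ?_⟩
    rw [← IntermediateField.adjoin.finrank (Algebra.IsIntegral.isIntegral w), hw,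
      IntermediateField.finrank_top', Field.finSepDegree_eq_finrank_of_isSeparable, pow_zero,
      mul_one]
  · obtain ⟨y, hy⟩ := hs' hs0
    -- `p` is prime and `k` is infinite
    have hp : p.Prime := by
      rcases expChar_is_prime_or_one k p with h | h
      · exact h
      · exfalso
        apply hy
        have := hs y
        rw [h, one_pow, pow_one] at this
        rw [h, one_pow, pow_one]
        exact this
    have hinf : Infinite k := by
      by_contra hfin
      rw [not_infinite_iff_finite] at hfin
      have : Algebra.IsSeparable k K := Algebra.IsAlgebraic.isSeparable_of_perfectField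
      have htop : separableClosure k K = ⊤ := (separableClosure.eq_top_iff k K).2 this
      exact hy (htop ▸ IntermediateField.mem_top)
    set Ks := separableClosure k K with hKs
    obtain ⟨θ, hθ⟩ := Field.exists_primitive_element k Ks
    have hfinI : Finite (IntermediateField k Ks) :=
      Field.finite_intermediateField_of_exists_primitive_element k Ks ⟨θ, hθ⟩
    -- the finitely many proper subspaces to avoid
    let ι := Option {M : IntermediateField k Ks // M ≠ ⊤}
    let V : ι → Subspace k K := fun o =>
      match o with
      | none => powPreimage p Ks (s - 1)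
      | some M => powPreimage p (IntermediateField.lift M.1) s
    have hV : ∀ i, V i ≠ ⊤ := by
      intro i
      match i with
      | none =>
        intro htop
        have : y ∈ powPreimage p Ks (s - 1) := by
          show y ∈ V none
          rw [htop]; exact Submodule.mem_top
        exact hy this
      | some M =>
        intro htop
        have h1 : (θ : K) ∈ powPreimage p (IntermediateField.lift M.1) s := by
          show (θ : K) ∈ V (some M)
          rw [htop]; exact Submodule.mem_top
        rw [mem_powPreimage] at h1
        have h2 : θ ^ p ^ s ∈ M.1 := by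
          rw [← IntermediateField.mem_lift]
          exact h1
        have h3 : k⟮θ⟯ = k⟮θ ^ p ^ s⟯ :=
          IntermediateField.adjoin_simple_eq_adjoin_pow_expChar_pow_of_isSeparable' k Ks θ p s
        have h4 : k⟮θ ^ p ^ s⟯ ≤ M.1 := IntermediateField.adjoin_simple_le_iff.2 h2
        rw [← h3, hθ] at h4
        exact M.2 (top_le_iff.1 h4)
    obtain ⟨w, hw⟩ : ∃ w : K, ∀ i, w ∉ V i := by
      by_contra hcon
      push Not at hcon
      have hcov : ⋃ i, (V i : Set K) = Set.univ := by
        rw [Set.eq_univ_iff_forall]
        intro w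
        obtain ⟨i, hi⟩ := hcon w
        exact Set.mem_iUnion.2 ⟨i, hi⟩
      obtain ⟨i, hi⟩ := Subspace.exists_eq_top_of_iUnion_eq_univ hcov
      exact hV i hi
    refine ⟨w, ?_⟩
    have hw0 : w ^ p ^ (s - 1) ∉ Ks := hw none
    have hwM : ∀ M : IntermediateField k Ks, M ≠ ⊤ → w ^ p ^ s ∉ IntermediateField.lift M :=
      fun M hM => hw (some ⟨M, hM⟩)
    set u : Ks := ⟨w ^ p ^ s, hs w⟩ with hu
    have hutop : k⟮u⟯ = ⊤ := by
      by_contra hne
      apply hwM k⟮u⟯ hne
      have : (u : K) ∈ IntermediateField.lift k⟮u⟯ :=
        (IntermediateField.mem_lift u).2 (IntermediateField.mem_adjoin_simple_self k u)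
      exact this
    have hle : Ks ≤ k⟮w⟯ := by
      have h1 : Ks = k⟮(u : K)⟯ := by
        rw [← IntermediateField.lift_adjoin_simple, hutop, IntermediateField.lift_top]
      rw [h1, IntermediateField.adjoin_simple_le_iff]
      exact pow_mem (IntermediateField.mem_adjoin_simple_self k w) _
    have hintK : IsIntegral Ks w := Algebra.IsIntegral.isIntegral w
    -- the minimal polynomial over `Ks`
    have hdeg : (minpoly Ks w).natDegree = p ^ s := by
      have : IsPurelyInseparable Ks K := separableClosure.isPurelyInseparable k K
      have : ExpChar Ks p := expChar_of_injective_algebraMap (algebraMap k Ks).injective p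
      obtain ⟨n, c, hc⟩ := IsPurelyInseparable.minpoly_eq_X_pow_sub_C Ks p w
      have hnd : (minpoly Ks w).natDegree = p ^ n := by
        rw [hc, Polynomial.natDegree_sub_C, Polynomial.natDegree_X_pow]
      rw [hnd]
      have hroot : w ^ p ^ n = (c : K) := by
        have := minpoly.aeval Ks w
        rw [hc, map_sub, map_pow, Polynomial.aeval_X, Polynomial.aeval_C, sub_eq_zero] at this
        exact this
      have hns : s ≤ n := by
        by_contra hlt
        push Not at hlt
        apply hw0
        obtain ⟨j, hj⟩ := Nat.exists_eq_add_of_le (Nat.le_sub_one_of_lt hlt)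
        rw [hj, pow_add, pow_mul, hroot]
        exact pow_mem c.2 _
      have hdvd : minpoly Ks w ∣ Polynomial.X ^ p ^ s - Polynomial.C u := by
        apply minpoly.dvd
        rw [map_sub, map_pow, Polynomial.aeval_X, Polynomial.aeval_C, sub_eq_zero]
        rfl
      have hne : (Polynomial.X ^ p ^ s - Polynomial.C u : Polynomial Ks) ≠ 0 :=
        Polynomial.X_pow_sub_C_ne_zero (pow_pos hp.pos s) u
      have hle2 := Polynomial.natDegree_le_of_dvd hdvd hne
      rw [hnd, Polynomial.natDegree_sub_C, Polynomial.natDegree_X_pow] at hle2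
      have hsn : n ≤ s := (Nat.pow_le_pow_iff_right hp.one_lt).1 hle2
      rw [le_antisymm hsn hns]
    rw [← IntermediateField.adjoin.finrank (Algebra.IsIntegral.isIntegral w),
      ← IntermediateField.finrank_bot_mul_relfinrank hle, finrank_separableClosure_eq,
      IntermediateField.relfinrank_eq_finrank_of_le hle, IntermediateField.extendScalars_adjoin hle,
      IntermediateField.adjoin.finrank hintK, hdeg]

end Groth.Agent.Lib.Helper25.FieldQuasiDeg
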