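import Mathlib
import Groth.Agent.Lib.Helper25.PolyRep

/-!
# Closed subfunctors of `GL_n` cut out by polynomial equations in the matrix entries
-/

set_option autoImplicit false
set_option linter.unusedSectionVars false
universe u

namespace Helper25.GLsub

open MvPolynomial Helper25.PolyRep

variable {R : Type u} [CommRing R] {ι : Type} [Fintype ι] [DecidableEq ι] {τ : Type}
  (rels : τ → MvPolynomial (ι × ι) R)

/-- The entries of a matrix as a point of affine space. -/
def ent {A : Type*} (g : Matrix ι ι A) : ι × ι → A := fun p => g p.1 p.2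

/-- The subfunctor of `GL_n` cut out by `rels`. -/
def pts (A : Type*) [CommRing A] [Algebra R A] : Set (Matrix ι ι A) :=
  {g | IsUnit g.det ∧ ∀ k, aeval (ent g) (rels k) = 0}

/-- The generic matrix. -/
noncomputable def Xmat (R : Type u) [CommRing R] (ι : Type) :
    Matrix ι ι (MvPolynomial ((ι × ι) ⊕ Unit) R) :=
  Matrix.of fun i j => X (Sum.inl (i, j))

/-- The relations: `det · T = 1` and the given ones. -/
noncomputable def allRels : Option τ → MvPolynomial ((ι × ι) ⊕ Unit) R
  | none => (Xmat R ι).det * X (Sum.inr ()) - 1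
  | some k => rename Sum.inl (rels k)

/-- The representing algebra. -/
abbrev Alg : Type u := Quot (allRels rels)

variable {A A' : Type*} [CommRing A] [Algebra R A] [CommRing A'] [Algebra R A']

theorem aeval_det_Xmat (x : (ι × ι) ⊕ Unit → A) :
    aeval x (Xmat R ι).det = (Matrix.of fun i j => x (Sum.inl (i, j)) : Matrix ι ι A).det := by
  rw [AlgHom.map_det]
  congr 1
  ext i j
  simp [Xmat]

/-- Solutions of all the relations are the points of the subfunctor. -/
noncomputable def solEquivPts (A : Type*) [CommRing A] [Algebra R A] :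
    Sol (allRels rels) A ≃ pts rels A where
  toFun x := ⟨Matrix.of fun i j => x.1 (Sum.inl (i, j)), by
    constructor
    · have h := x.2 none
      simp only [allRels, map_sub, map_mul, aeval_X, map_one, aeval_det_Xmat] at h
      exact IsUnit.of_mul_eq_one _ (sub_eq_zero.mp h)
    · intro k
      have h := x.2 (some k)
      simp only [allRels, aeval_rename] at h
      exact h⟩
  invFun g := ⟨Sum.elim (ent g.1) (fun _ => ((g.2.1.unit⁻¹ : Aˣ) : A)), by
    rintro (_ | k)
    · simp only [allRels, map_sub, map_mul, aeval_X, map_one, aeval_det_Xmat, Sum.elim_inl,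
        Sum.elim_inr]
      have : (Matrix.of fun i j => ent g.1 (i, j)) = g.1 := by ext i j; rfl
      rw [this, sub_eq_zero]
      exact g.2.1.mul_val_inv
    · simp only [allRels, aeval_rename]
      exact g.2.2 k⟩
  left_inv x := by
    apply Subtype.ext
    funext s
    rcases s with ⟨i, j⟩ | ⟨⟩
    · rfl
    · simp only [Sum.elim_inr]
      have h := x.2 none
      simp only [allRels, map_sub, map_mul, aeval_X, map_one, aeval_det_Xmat] at h
      have h' := sub_eq_zero.mp h
      set d := (Matrix.of fun i j => x.1 (Sum.inl (i, j)) : Matrix ι ι A).det with hd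
      have hu : IsUnit d := IsUnit.of_mul_eq_one _ h'
      calc ((hu.unit⁻¹ : Aˣ) : A) = ((hu.unit⁻¹ : Aˣ) : A) * (d * x.1 (Sum.inr ())) := by
            rw [h', mul_one]
        _ = x.1 (Sum.inr ()) := by
            rw [← mul_assoc]
            have : ((hu.unit⁻¹ : Aˣ) : A) * d = 1 := hu.val_inv_mul
            rw [this, one_mul]
  right_inv g := by
    apply Subtype.ext
    ext i j
    rfl

/-- Algebra maps out of the representing algebra are points. -/
noncomputable def rep (A : Type*) [CommRing A] [Algebra R A] : (Alg rels →ₐ[R] A) ≃ pts rels A :=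
  (solEquiv (allRels rels) A).trans (solEquivPts rels A)

theorem rep_comp (φ : A →ₐ[R] A') (f : Alg rels →ₐ[R] A) :
    (rep rels A' (φ.comp f)).1 = (rep rels A f).1.map φ := by
  ext i j
  rfl

instance [Finite τ] : Algebra.FinitePresentation R (Alg rels) := inferInstance

/-- Formal smoothness of the representing algebra is the infinitesimal lifting property of the
functor. -/
theorem formallySmooth_iff :
    Algebra.FormallySmooth R (Alg rels) ↔
      ∀ (A : Type u) [CommRing A] [Algebra R A] (I : Ideal A), I ^ 2 = ⊥ →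
        ∀ g' ∈ pts rels (A ⧸ I), ∃ g ∈ pts rels A, g.map (Ideal.Quotient.mk I) = g' := by
  constructor
  · intro hfs A _ _ I hI g' hg'
    obtain ⟨f, hf⟩ := Algebra.FormallySmooth.comp_surjective R (Alg rels) I hI
      ((rep rels (A ⧸ I)).symm ⟨g', hg'⟩)
    refine ⟨(rep rels A f).1, (rep rels A f).2, ?_⟩
    have h1 := rep_comp rels (Ideal.Quotient.mkₐ R I) f
    rw [hf, Equiv.apply_symm_apply] at h1
    exact h1.symm
  · intro H
    apply Algebra.FormallySmooth.of_comp_surjective
    intro A _ _ I hI f'
    obtain ⟨g, hg, hgg'⟩ := H A I hI (rep rels (A ⧸ I) f').1 (rep rels (A ⧸ I) f').2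
    refine ⟨(rep rels A).symm ⟨g, hg⟩, ?_⟩
    apply (rep rels (A ⧸ I)).injective
    apply Subtype.ext
    rw [rep_comp, Equiv.apply_symm_apply]
    exact hgg'

theorem smooth_iff [Finite τ] :
    Algebra.Smooth R (Alg rels) ↔
      ∀ (A : Type u) [CommRing A] [Algebra R A] (I : Ideal A), I ^ 2 = ⊥ →
        ∀ g' ∈ pts rels (A ⧸ I), ∃ g ∈ pts rels A, g.map (Ideal.Quotient.mk I) = g' := by
  rw [← formallySmooth_iff]
  exact ⟨fun h => h.formallySmooth, fun h => ⟨h, inferInstance⟩⟩

end Helper25.GLsub
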