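import Mathlib
import Groth.Agent.Lib.Helper25.GLsub

/-!
# Smoothness of the representing algebra from the lifting property over algebras over a
faithfully flat cover
-/

set_option autoImplicit false
set_option linter.unusedSectionVars false
set_option linter.style.haveILetI false
universe u

namespace Helper25.GLsub

open MvPolynomial Helper25.PolyRep TensorProduct

variable {R : Type u} [CommRing R] {ι : Type} [Fintype ι] [DecidableEq ι] {τ : Type}
  (rels : τ → MvPolynomial (ι × ι) R)

/-- To prove smoothness of the representing algebra it suffices to check the infinitesimal lifting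
property on algebras over a faithfully flat `R`-algebra `S`. -/
theorem smooth_of_lifting_over [Finite τ] (S : Type u) [CommRing S] [Algebra R S]
    [Module.FaithfullyFlat R S]
    (H : ∀ (A : Type u) [CommRing A] [Algebra R A] [Algebra S A] [IsScalarTower R S A]
      (I : Ideal A), I ^ 2 = ⊥ →
        ∀ g' ∈ pts rels (A ⧸ I), ∃ g ∈ pts rels A, g.map (Ideal.Quotient.mk I) = g') :
    Algebra.Smooth R (Alg rels) := by
  haveI : Algebra.Smooth S (S ⊗[R] Alg rels) := by
    refine ⟨?_, inferInstance⟩
    apply Algebra.FormallySmooth.of_comp_surjective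
    intro A _ _ I hI f'
    letI : Algebra R A := ((algebraMap S A).comp (algebraMap R S)).toAlgebra
    haveI : IsScalarTower R S A := IsScalarTower.of_algebraMap_eq fun _ => rfl
    let f'R : Alg rels →ₐ[R] A ⧸ I :=
      (f'.restrictScalars R).comp Algebra.TensorProduct.includeRight
    obtain ⟨g, hg, hgg'⟩ := H A I hI (rep rels (A ⧸ I) f'R).1 (rep rels (A ⧸ I) f'R).2
    let fR : Alg rels →ₐ[R] A := (rep rels A).symm ⟨g, hg⟩
    let f : S ⊗[R] Alg rels →ₐ[S] A :=
      Algebra.TensorProduct.lift (Algebra.ofId S A) fR (fun _ _ => Commute.all _ _)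
    refine ⟨f, ?_⟩
    apply Algebra.TensorProduct.ext
    · ext
    · apply (rep rels (A ⧸ I)).injective
      apply Subtype.ext
      have h1 : (((Ideal.Quotient.mkₐ S I).comp f).restrictScalars R).comp
          Algebra.TensorProduct.includeRight = (Ideal.Quotient.mkₐ R I).comp fR := by
        ext b
        simp [f]
      rw [h1, rep_comp, Equiv.apply_symm_apply]
      exact hgg'
  exact Algebra.Smooth.of_smooth_tensorProduct_of_faithfullyFlat S

end Helper25.GLsub
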