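import Mathlib
import Groth.Prelude.Def_QuadGrp2
import Groth.Agent.Lib.Helper25.AffRep

/-!
# A pinned linear group scheme is the spectrum of any algebra representing its functor
-/

set_option autoImplicit false
set_option linter.style.haveILetI false
universe u
open CategoryTheory AlgebraicGeometry Limits TensorProduct MonObj

namespace Helper25.AffRep

variable {R : Type u} [CommRing R] {M : Type u} [AddCommGroup M] [Module R M]

theorem linearEquiv_ext_one_tmul {A : Type u} [CommRing A] [Algebra R A]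
    (f g : (A ⊗[R] M) ≃ₗ[A] (A ⊗[R] M)) (h : ∀ m : M, f (1 ⊗ₜ[R] m) = g (1 ⊗ₜ[R] m)) : f = g := by
  apply LinearEquiv.toLinearMap_injective
  apply TensorProduct.AlgebraTensorModule.ext
  intro a m
  have e : a ⊗ₜ[R] m = a • ((1 : A) ⊗ₜ[R] m) := by rw [TensorProduct.smul_tmul', smul_eq_mul, _root_.mul_one]
  simp only [LinearEquiv.coe_coe]
  rw [e, map_smul, map_smul, h]

variable {S : ∀ (A : Type u) [CommRing A] [Algebra R A], Subgroup ((A ⊗[R] M) ≃ₗ[A] (A ⊗[R] M))}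
  {G : Over (Spec (CommRingCat.of R))} [GrpObj G]

/-- If an `R`-algebra `B` represents the subgroup functor `S` (naturally), the universal point
`Spec B ⟶ G` of a group scheme `G` pinned to `S` is an isomorphism. -/
theorem LinRep.exists_isIso (D : QuadGrp.LinRep R M S G) (B : Type u) [CommRing B] [Algebra R B]
    (rep : ∀ (A : Type u) [CommRing A] [Algebra R A], (B →ₐ[R] A) ≃ ↥(S A))
    (hrep : ∀ (A A' : Type u) [CommRing A] [Algebra R A] [CommRing A'] [Algebra R A']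
      (φ : A →ₐ[R] A') (f : B →ₐ[R] A) (m : M),
      ((rep A' (φ.comp f) : ↥(S A')) : (A' ⊗[R] M) ≃ₗ[A'] (A' ⊗[R] M)) (1 ⊗ₜ[R] m) =
        LinearMap.rTensor M φ.toLinearMap
          (((rep A f : ↥(S A)) : (A ⊗[R] M) ≃ₗ[A] (A ⊗[R] M)) (1 ⊗ₜ[R] m))) :
    ∃ y₀ : QuadGrp.specOver R B ⟶ G, IsIso y₀ := by
  let y₀ : QuadGrp.specOver R B ⟶ G := (D.pts B).symm (rep B (AlgHom.id R B))
  refine ⟨y₀, ?_⟩
  refine isIso_of_rep B y₀ (fun A _ _ => ↥(S A)) (fun A _ _ => (D.pts A).toEquiv) rep ?_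
  intro A _ _ φ
  apply Subtype.ext
  apply linearEquiv_ext_one_tmul
  intro m
  have h1 := D.natural B A φ y₀ m
  have h2 : D.pts B y₀ = rep B (AlgHom.id R B) := (D.pts B).apply_symm_apply _
  have h3 := hrep B A φ (AlgHom.id R B) m
  rw [AlgHom.comp_id] at h3
  change ((D.pts A (QuadGrp.specOverMap R φ ≫ y₀) : ↥(S A)) : (A ⊗[R] M) ≃ₗ[A] (A ⊗[R] M))
    (1 ⊗ₜ[R] m) = _
  rw [h1, h2, h3]

theorem LinRep.smooth_iff (D : QuadGrp.LinRep R M S G) (B : Type u) [CommRing B] [Algebra R B]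
    (rep : ∀ (A : Type u) [CommRing A] [Algebra R A], (B →ₐ[R] A) ≃ ↥(S A))
    (hrep : ∀ (A A' : Type u) [CommRing A] [Algebra R A] [CommRing A'] [Algebra R A']
      (φ : A →ₐ[R] A') (f : B →ₐ[R] A) (m : M),
      ((rep A' (φ.comp f) : ↥(S A')) : (A' ⊗[R] M) ≃ₗ[A'] (A' ⊗[R] M)) (1 ⊗ₜ[R] m) =
        LinearMap.rTensor M φ.toLinearMap
          (((rep A f : ↥(S A)) : (A ⊗[R] M) ≃ₗ[A] (A ⊗[R] M)) (1 ⊗ₜ[R] m))) :
    Smooth G.hom ↔ Algebra.Smooth R B := by
  obtain ⟨y₀, hy⟩ := LinRep.exists_isIso D B rep hrep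
  exact smooth_iff_of_isIso B y₀

end Helper25.AffRep
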