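import Mathlib
import Groth.Prelude.Def_QuadGrp2
import Groth.Agent.Lib.Helper25.GLsub
import Groth.Agent.Lib.Helper25.LinRepIso

/-!
# Pinned linear group schemes on `R^n` whose points are cut out of `GL_n` by polynomial equations
-/

set_option autoImplicit false
set_option linter.unusedSectionVars false
universe u

namespace Helper25.GLsub

open MvPolynomial Helper25.PolyRep TensorProduct CategoryTheory AlgebraicGeometry

variable {R : Type u} [CommRing R] {ι : Type} [Fintype ι] [DecidableEq ι] {τ : Type}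
  (rels : τ → MvPolynomial (ι × ι) R)

/-- The standard basis of `A ⊗ R^ι`. -/
noncomputable def bA (R : Type u) [CommRing R] (ι : Type) [Fintype ι] [DecidableEq ι]
    (A : Type u) [CommRing A] [Algebra R A] : Module.Basis ι A (A ⊗[R] (ι → R)) :=
  Algebra.TensorProduct.basis A (Pi.basisFun R ι)

variable {A A' : Type u} [CommRing A] [Algebra R A] [CommRing A'] [Algebra R A']

theorem bA_apply (i : ι) : bA R ι A i = 1 ⊗ₜ[R] Pi.single i 1 := by
  simp [bA]

/-- The matrix of an automorphism of `A ⊗ R^ι`. -/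
noncomputable def toMat (g : (A ⊗[R] (ι → R)) ≃ₗ[A] (A ⊗[R] (ι → R))) : Matrix ι ι A :=
  LinearMap.toMatrix (bA R ι A) (bA R ι A) g.toLinearMap

theorem isUnit_det_toMat (g : (A ⊗[R] (ι → R)) ≃ₗ[A] (A ⊗[R] (ι → R))) :
    IsUnit (toMat g).det := by
  unfold toMat
  rw [LinearMap.det_toMatrix]
  exact LinearEquiv.isUnit_det' g

variable (R) in
/-- The automorphism with a given invertible matrix. -/
noncomputable def ofMat (g : Matrix ι ι A) (h : IsUnit g.det) :
    (A ⊗[R] (ι → R)) ≃ₗ[A] (A ⊗[R] (ι → R)) :=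
  LinearEquiv.ofIsUnitDet (f := Matrix.toLin (bA R ι A) (bA R ι A) g) (v := bA R ι A)
    (v' := bA R ι A) (by rwa [LinearMap.toMatrix_toLin])

theorem toMat_ofMat (g : Matrix ι ι A) (h : IsUnit g.det) : toMat (ofMat R g h) = g := by
  unfold toMat ofMat
  rw [LinearEquiv.coe_ofIsUnitDet, LinearMap.toMatrix_toLin]

theorem ofMat_toMat (g : (A ⊗[R] (ι → R)) ≃ₗ[A] (A ⊗[R] (ι → R))) :
    ofMat R (toMat g) (isUnit_det_toMat g) = g := by
  apply LinearEquiv.toLinearMap_injective
  unfold toMat ofMat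
  rw [LinearEquiv.coe_ofIsUnitDet, Matrix.toLin_toMatrix]

theorem ofMat_apply_bA (g : Matrix ι ι A) (h : IsUnit g.det) (j : ι) :
    ofMat R g h (bA R ι A j) = ∑ i, g i j • bA R ι A i := by
  unfold ofMat
  rw [LinearEquiv.ofIsUnitDet_apply, Matrix.toLin_self]

variable {S : ∀ (A : Type u) [CommRing A] [Algebra R A],
  Subgroup ((A ⊗[R] (ι → R)) ≃ₗ[A] (A ⊗[R] (ι → R)))}

/-- Points of the subfunctor of `GL_n` are the elements of the subgroup functor. -/
noncomputable def ptsEquiv (hS : ∀ (A : Type u) [CommRing A] [Algebra R A]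
      (g : (A ⊗[R] (ι → R)) ≃ₗ[A] (A ⊗[R] (ι → R))), g ∈ S A ↔ toMat g ∈ pts rels A)
    (A : Type u) [CommRing A] [Algebra R A] : pts rels A ≃ ↥(S A) where
  toFun g := ⟨ofMat R g.1 g.2.1, by rw [hS, toMat_ofMat]; exact g.2⟩
  invFun g := ⟨toMat g.1, (hS A g.1).mp g.2⟩
  left_inv g := Subtype.ext (toMat_ofMat g.1 g.2.1)
  right_inv g := Subtype.ext (ofMat_toMat _)

theorem rTensor_ofMat_one_tmul (φ : A →ₐ[R] A') (g : Matrix ι ι A) (h : IsUnit g.det)
    (h' : IsUnit (g.map φ).det) (m : ι → R) :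
    ofMat R (g.map φ) h' (1 ⊗ₜ[R] m) =
      LinearMap.rTensor (ι → R) φ.toLinearMap (ofMat R g h (1 ⊗ₜ[R] m)) := by
  -- both sides are `R`-linear in `m`
  let L₁ : (ι → R) →ₗ[R] A' ⊗[R] (ι → R) :=
    ((ofMat R (g.map φ) h').toLinearMap.restrictScalars R).comp
      ((TensorProduct.mk R A' (ι → R)) 1)
  let L₂ : (ι → R) →ₗ[R] A' ⊗[R] (ι → R) :=
    (LinearMap.rTensor (ι → R) φ.toLinearMap).comp
      (((ofMat R g h).toLinearMap.restrictScalars R).comp ((TensorProduct.mk R A (ι → R)) 1))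
  suffices L₁ = L₂ from LinearMap.congr_fun this m
  apply LinearMap.pi_ext'
  intro j
  apply LinearMap.ext_ring
  simp only [L₁, L₂, LinearMap.coe_comp, Function.comp_apply, LinearMap.coe_single,
    LinearMap.coe_restrictScalars, LinearEquiv.coe_coe, TensorProduct.mk_apply]
  rw [← bA_apply, ← bA_apply, ofMat_apply_bA, ofMat_apply_bA, map_sum]
  refine Finset.sum_congr rfl fun i _ => ?_
  rw [bA_apply, bA_apply, TensorProduct.smul_tmul', TensorProduct.smul_tmul',
    LinearMap.rTensor_tmul]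
  simp

/-- **Smoothness criterion**: a group scheme pinned to a subgroup functor of `GL_n` cut out by
finitely many polynomial equations is smooth iff the functor has the infinitesimal lifting
property. -/
theorem smooth_iff_lifting [Finite τ] {G : Over (Spec (CommRingCat.of R))} [GrpObj G]
    (D : QuadGrp.LinRep R (ι → R) S G)
    (hS : ∀ (A : Type u) [CommRing A] [Algebra R A]
      (g : (A ⊗[R] (ι → R)) ≃ₗ[A] (A ⊗[R] (ι → R))), g ∈ S A ↔ toMat g ∈ pts rels A) :
    Smooth G.hom ↔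
      ∀ (A : Type u) [CommRing A] [Algebra R A] (I : Ideal A), I ^ 2 = ⊥ →
        ∀ g' ∈ pts rels (A ⧸ I), ∃ g ∈ pts rels A, g.map (Ideal.Quotient.mk I) = g' := by
  rw [← smooth_iff]
  refine Helper25.AffRep.LinRep.smooth_iff D (Alg rels)
    (fun A _ _ => (rep rels A).trans (ptsEquiv rels hS A)) ?_
  intro A A' _ _ _ _ φ f m
  simp only [Equiv.trans_apply]
  change ofMat R (rep rels A' (φ.comp f)).1 (rep rels A' (φ.comp f)).2.1 (1 ⊗ₜ[R] m) =
    LinearMap.rTensor (ι → R) φ.toLinearMap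
      (ofMat R (rep rels A f).1 (rep rels A f).2.1 (1 ⊗ₜ[R] m))
  have h1 := rep_comp rels φ f
  have h2 : IsUnit ((rep rels A f).1.map φ).det := by rw [← h1]; exact (rep rels A' (φ.comp f)).2.1
  rw [← rTensor_ofMat_one_tmul φ (rep rels A f).1 (rep rels A f).2.1 h2]
  congr 1

end Helper25.GLsub
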