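import Groth.Agent.Lib.Helper25.GPinLift

/-!
# Infinitesimal lifting for the Clifford group in even rank
-/

set_option autoImplicit false
set_option linter.unusedSectionVars false
set_option linter.unusedVariables false
set_option linter.unusedSimpArgs false
set_option linter.style.haveILetI false
set_option linter.unreachableTactic false
set_option linter.unusedTactic false

universe u

namespace Helper25.GPinLift

open CliffordAlgebra QuadGrp Helper25.Cliff Helper25.CliffBCF Helper25.GLsub Helper25.QuadMat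
open scoped TensorProduct
open Groth.Agent.Lib.Helper41.HalfDisc (baseChangeForm_one_tmul polar_baseChangeForm_one_tmul)

section Polar

variable {R : Type u} [CommRing R] {M : Type u} [AddCommGroup M] [Module R M]
  [Module.Free R M] [Module.Finite R M] (Q : QuadraticForm R M)
  (A : Type u) [CommRing A] [Algebra R A]

/-- Regularity is stable under base change. -/
theorem polarBilin_baseChangeForm_surjective
    (hQ : Function.Surjective (QuadraticMap.polarBilin Q)) :
    Function.Surjective (QuadraticMap.polarBilin (baseChangeForm A Q)) := by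
  classical
  let b := Module.Free.chooseBasis R M
  let bA := b.baseChange A
  choose d hd using fun i => hQ (b.coord i)
  intro f
  refine ⟨∑ i, f (bA i) • ((1 : A) ⊗ₜ[R] d i), ?_⟩
  apply bA.ext
  intro j
  rw [map_sum, LinearMap.sum_apply]
  have : ∀ i, (QuadraticMap.polarBilin (baseChangeForm A Q)) (f (bA i) • ((1 : A) ⊗ₜ[R] d i)) (bA j)
      = if i = j then f (bA i) else 0 := by
    intro i
    have hbA : bA j = (1 : A) ⊗ₜ[R] b j := Module.Basis.baseChange_apply _ _ _
    rw [map_smul, LinearMap.smul_apply, QuadraticMap.polarBilin_apply_apply,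
      hbA, polar_baseChangeForm_one_tmul,
      ← QuadraticMap.polarBilin_apply_apply, hd i, Module.Basis.coord_apply,
      Module.Basis.repr_self, Finsupp.single_apply]
    by_cases h : i = j
    · subst h
      rw [if_pos rfl, if_pos rfl, map_one, smul_eq_mul, mul_one]
    · rw [if_neg (Ne.symm h), if_neg h, map_zero, smul_zero]
  rw [Finset.sum_congr rfl fun i _ => this i, Finset.sum_ite_eq' Finset.univ j]
  simp

theorem mem_O_baseChangeForm_iff (g : (A ⊗[R] M) ≃ₗ[A] (A ⊗[R] M)) :
    g ∈ QuadGrp.O (baseChangeForm A Q) ↔ g ∈ QuadGrp.orth Q A := by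
  unfold QuadGrp.orth
  rw [QuadGrp.mem_O, QuadGrp.mem_O]
  refine forall_congr' fun v => ?_
  unfold QuadGrp.baseChangeForm
  rw [LinearMap.compQuadraticMap_apply, LinearMap.compQuadraticMap_apply]
  exact (TensorProduct.AlgebraTensorModule.rid R A A).injective.eq_iff

theorem compat_of_one_tmul {A A' : Type u} [CommRing A] [Algebra R A] [CommRing A'] [Algebra R A']
    (φ : A →ₐ[R] A') (g : (A ⊗[R] M) ≃ₗ[A] (A ⊗[R] M)) (g' : (A' ⊗[R] M) ≃ₗ[A'] (A' ⊗[R] M))
    (h : ∀ m : M, g' ((1 : A') ⊗ₜ[R] m) = LinearMap.rTensor M φ.toLinearMap (g ((1 : A) ⊗ₜ[R] m)))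
    (v : A ⊗[R] M) :
    g' (LinearMap.rTensor M φ.toLinearMap v) = LinearMap.rTensor M φ.toLinearMap (g v) := by
  induction v using TensorProduct.induction_on with
  | zero => simp
  | tmul a m =>
    have e1 : a ⊗ₜ[R] m = a • ((1 : A) ⊗ₜ[R] m) := by
      rw [TensorProduct.smul_tmul', smul_eq_mul, mul_one]
    have e2 : LinearMap.rTensor M φ.toLinearMap (a ⊗ₜ[R] m) = φ a • ((1 : A') ⊗ₜ[R] m) := by
      rw [LinearMap.rTensor_tmul, TensorProduct.smul_tmul', smul_eq_mul, mul_one]
      rfl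
    rw [e2, map_smul, h, e1, map_smul, Helper25.CliffPoly.rTensor_smul]
  | add x y hx hy => rw [map_add, map_add, hx, hy, map_add, map_add]

end Polar

section Even

variable {R : Type u} [CommRing R] {ι : Type} [Fintype ι] [DecidableEq ι] [LinearOrder ι]
  (Q : QuadraticForm R (ι → R))

/-- Isometries of a regular form lift along square-zero extensions. -/
theorem exists_lift_isometry_even (N : Matrix ι ι R) (hN : ∀ v, Q v = qf N v)
    (hP : IsUnit (N + N.transpose).det)
    (A : Type u) [CommRing A] [Algebra R A] (I : Ideal A) (hI : I ^ 2 = ⊥)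
    (g' : ((A ⧸ I) ⊗[R] (ι → R)) ≃ₗ[A ⧸ I] ((A ⧸ I) ⊗[R] (ι → R)))
    (hg' : g' ∈ QuadGrp.O (baseChangeForm (A ⧸ I) Q)) :
    ∃ g : (A ⊗[R] (ι → R)) ≃ₗ[A] (A ⊗[R] (ι → R)), g ∈ QuadGrp.O (baseChangeForm A Q) ∧
      ∀ v, g' (LinearMap.rTensor (ι → R) (Ideal.Quotient.mkₐ R I).toLinearMap v) =
        LinearMap.rTensor (ι → R) (Ideal.Quotient.mkₐ R I).toLinearMap (g v) := by
  rw [mem_O_baseChangeForm_iff, mem_orth_iff Q N hN] at hg'
  obtain ⟨G, hG, hGg'⟩ := lifting_orth N hP A I hI (toMat g') hg'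
  have hGdet : IsUnit G.det := hG.1
  refine ⟨ofMat R G hGdet, ?_, ?_⟩
  · rw [mem_O_baseChangeForm_iff, mem_orth_iff Q N hN, toMat_ofMat]
    exact hG
  · apply compat_of_one_tmul
    intro m
    have hdet' : IsUnit (G.map (Ideal.Quotient.mkₐ R I)).det := by
      have : G.map (Ideal.Quotient.mkₐ R I) = toMat g' := hGg'
      rw [this]; exact isUnit_det_toMat g'
    rw [← rTensor_ofMat_one_tmul (Ideal.Quotient.mkₐ R I) G hGdet hdet' m]
    have : ofMat R (G.map (Ideal.Quotient.mkₐ R I)) hdet' = g' := by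
      have h1 : G.map (Ideal.Quotient.mkₐ R I) = toMat g' := hGg'
      rw [← ofMat_toMat g']
      congr 1
    rw [this]

theorem mkₐ_ker_sq {A : Type u} [CommRing A] [Algebra R A] (I : Ideal A) (hI : I ^ 2 = ⊥)
    (a b : A) (ha : Ideal.Quotient.mkₐ R I a = 0) (hb : Ideal.Quotient.mkₐ R I b = 0) :
    a * b = 0 := by
  have ha' : a ∈ I := Ideal.Quotient.eq_zero_iff_mem.mp ha
  have hb' : b ∈ I := Ideal.Quotient.eq_zero_iff_mem.mp hb
  have : a * b ∈ I ^ 2 := by rw [pow_two]; exact Ideal.mul_mem_mul ha' hb'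
  rw [hI] at this
  exact this

/-- The Clifford group functor of a regular form of even rank has the infinitesimal lifting
property. -/
theorem lifting_gpin_even (m : ℕ) (hm : 1 ≤ m) (Q : QuadraticForm R (Fin (2 * m) → R))
    (hQ : QuadGrp.IsRegular Q)
    (A : Type u) [CommRing A] [Algebra R A] (I : Ideal A) (hI : I ^ 2 = ⊥)
    (t' : (CliffordAlgebra (baseChangeForm (A ⧸ I) Q))ˣ) (ht' : t' ∈ gpin Q (A ⧸ I)) :
    ∃ t ∈ gpin Q A, Fcan Q (Ideal.Quotient.mkₐ R I)
      ((t : (CliffordAlgebra (baseChangeForm A Q))ˣ) : CliffordAlgebra (baseChangeForm A Q)) =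
      (t' : CliffordAlgebra (baseChangeForm (A ⧸ I) Q)) := by
  classical
  rcases subsingleton_or_nontrivial A with hA | hA
  · haveI : Subsingleton (A ⧸ I) := (Ideal.Quotient.mk_surjective (I := I)).subsingleton
    haveI : Subsingleton (CliffordAlgebra (baseChangeForm (A ⧸ I) Q)) :=
      Module.subsingleton (A ⧸ I) _
    exact ⟨1, one_mem _, Subsingleton.elim _ _⟩
  haveI : Nontrivial R := (algebraMap R A).domain_nontrivial
  obtain ⟨N, hN'⟩ := exists_matrix_of_basis Q (Pi.basisFun R (Fin (2 * m)))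
  have hN : ∀ v, Q v = qf N v := fun v => by
    rw [← hN' v, qfForm_apply]
    rfl
  have hP : IsUnit (N + N.transpose).det :=
    isUnit_det_of_regular Q (Pi.basisFun R (Fin (2 * m))) N hN' hQ.2
  have hfin : Module.finrank A (A ⊗[R] (Fin (2 * m) → R)) = 2 * m := by
    rw [Module.finrank_baseChange, Module.finrank_fin_fun]
  have hsurj := polarBilin_baseChangeForm_surjective Q A hQ.2
  haveI hAz : IsAzumaya A (CliffordAlgebra (baseChangeForm A Q)) :=
    isAzumaya_clifford A _ m hfin (baseChangeForm A Q) hsurj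
  obtain ⟨g', hg', hconj'⟩ :=
    Groth.Agent.Lib.Helper47.CliffTau.exists_isometry_of_mem_GPin' (baseChangeForm (A ⧸ I) Q) t' ht'.1
  obtain ⟨g, hg, hc⟩ := exists_lift_isometry_even Q N hN hP A I hI g' hg'
  obtain ⟨t, htt', hconj⟩ := exists_lift_conj_even Q (Ideal.Quotient.mkₐ R I)
    (Ideal.Quotient.mkₐ_surjective R I) (mkₐ_ker_sq I hI) g hg g' hg' hc t' hconj'
  have htG : t ∈ QuadGrp.GPin' (baseChangeForm A Q) := mem_GPin'_of_conj _ t g hconj
  obtain ⟨-, hcen, -⟩ := clifford_even_rank_structure A _ m hm hfin (baseChangeForm A Q) hsurj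
  refine ⟨t, ⟨htG, ?_⟩, htt'⟩
  exact isLocHomog_of_mem_GPin' _ hcen (Helper25.Cliff.algebraMap_injective _) t htG

end Even

end Helper25.GPinLift
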