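import Mathlib
import Groth.Prelude.Def_QuadGrp2
import Groth.Agent.Lib.Helper25.GLsubRep
import Groth.Agent.Lib.Helper25.QuadOddForm

/-!
# The orthogonal group functor of a matrix form as a closed subfunctor of `GL_n`
-/

set_option autoImplicit false
set_option linter.unusedSectionVars false
set_option linter.unusedVariables false
universe u

namespace Helper25.QuadMat

open Matrix

section QEqMore

variable {R : Type*} [CommRing R] {ι : Type*} [Fintype ι]

theorem QEq.add {N N' K K' : Matrix ι ι R} (h : QEq N N') (h' : QEq K K') :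
    QEq (N + K) (N' + K') :=
  ⟨fun i => by simp only [Matrix.add_apply, h.diag i, h'.diag i],
   fun i j => by
    simp only [Matrix.add_apply]
    linear_combination h.polar i j + h'.polar i j⟩

theorem QEq.transpose_self (N : Matrix ι ι R) : QEq Nᵀ N :=
  ⟨fun i => rfl, fun i j => by simp only [Matrix.transpose_apply]; ring⟩

theorem QEq.neg {N N' : Matrix ι ι R} (h : QEq N N') : QEq (-N) (-N') :=
  ⟨fun i => by simp only [Matrix.neg_apply, h.diag i],
   fun i j => by
    simp only [Matrix.neg_apply]
    linear_combination -(h.polar i j)⟩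

theorem QEq.of_qf_eq [DecidableEq ι] {N N' : Matrix ι ι R} (h : ∀ x, qf N x = qf N' x) :
    QEq N N' := by
  have hd : ∀ i, N i i = N' i i := fun i => by
    have := h (Pi.single i 1)
    rwa [qf_single, qf_single] at this
  refine ⟨hd, fun i j => ?_⟩
  by_cases hij : i = j
  · subst hij; rw [hd]
  · have := h (Pi.single i 1 + Pi.single j 1)
    simp only [qf_eq_bl, bl_add_left, bl_add_right, bl_single_single] at this
    linear_combination this - hd i - hd j

end QEqMore

end Helper25.QuadMat


namespace Helper25.GLsub

open MvPolynomial Matrix Helper25.QuadMat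

variable {R : Type u} [CommRing R] {ι : Type} [Fintype ι] [DecidableEq ι]
variable {A : Type*} [CommRing A] [Algebra R A]

/-- The generic matrix with polynomial entries. -/
noncomputable def Ymat (R : Type u) [CommRing R] (ι : Type) : Matrix ι ι (MvPolynomial (ι × ι) R) :=
  Matrix.of fun i j => X (i, j)

theorem Ymat_map_aeval (g : Matrix ι ι A) :
    (Ymat R ι).map (aeval (R := R) (ent g)) = g := by
  ext i j
  simp [Ymat, ent]

/-- The matrix `Yᵀ N Y`. -/
noncomputable def conjPoly (N : Matrix ι ι R) : Matrix ι ι (MvPolynomial (ι × ι) R) :=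
  (Ymat R ι)ᵀ * N.map C * Ymat R ι

theorem conjPoly_map_aeval (N : Matrix ι ι R) (g : Matrix ι ι A) :
    (conjPoly N).map (aeval (R := R) (ent g)) = gᵀ * N.map (algebraMap R A) * g := by
  unfold conjPoly
  rw [Matrix.map_mul, Matrix.map_mul, Matrix.transpose_map, Ymat_map_aeval, Matrix.map_map]
  congr 2
  ext i j
  simp

theorem aeval_conjPoly (N : Matrix ι ι R) (g : Matrix ι ι A) (i j : ι) :
    aeval (R := R) (ent g) (conjPoly N i j) = (gᵀ * N.map (algebraMap R A) * g) i j := by
  rw [← conjPoly_map_aeval]; rfl

/-- The equations of the orthogonal group of the form with (non-symmetric) Gram matrix `N`. -/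
noncomputable def orthRels (N : Matrix ι ι R) : ι ⊕ (ι × ι) → MvPolynomial (ι × ι) R
  | Sum.inl i => conjPoly N i i - C (N i i)
  | Sum.inr (i, j) => conjPoly N i j + conjPoly N j i - C (N i j + N j i)

theorem mem_pts_orthRels (N : Matrix ι ι R) (g : Matrix ι ι A) :
    g ∈ pts (orthRels N) A ↔
      IsUnit g.det ∧ QEq (gᵀ * N.map (algebraMap R A) * g) (N.map (algebraMap R A)) := by
  unfold pts
  simp only [Set.mem_ofPred_eq]
  refine and_congr Iff.rfl ?_
  constructor
  · intro h
    refine ⟨fun i => ?_, fun i j => ?_⟩
    · have := h (Sum.inl i)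
      simp only [orthRels, map_sub, aeval_conjPoly, aeval_C] at this
      rw [Matrix.map_apply]
      exact sub_eq_zero.mp this
    · have := h (Sum.inr (i, j))
      simp only [orthRels, map_sub, map_add, aeval_conjPoly, aeval_C] at this
      rw [Matrix.map_apply, Matrix.map_apply]
      exact sub_eq_zero.mp this
  · rintro ⟨hd, hp⟩ (i | ⟨i, j⟩)
    · simp only [orthRels, map_sub, aeval_conjPoly, aeval_C]
      have := hd i
      rw [Matrix.map_apply] at this
      exact sub_eq_zero.mpr this
    · simp only [orthRels, map_sub, map_add, aeval_conjPoly, aeval_C]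
      have := hp i j
      rw [Matrix.map_apply, Matrix.map_apply] at this
      exact sub_eq_zero.mpr this

/-- The equations of the naive special orthogonal group. -/
noncomputable def sorthRels (N : Matrix ι ι R) : Option (ι ⊕ (ι × ι)) → MvPolynomial (ι × ι) R
  | none => (Ymat R ι).det - 1
  | some k => orthRels N k

theorem mem_pts_sorthRels (N : Matrix ι ι R) (g : Matrix ι ι A) :
    g ∈ pts (sorthRels N) A ↔ g ∈ pts (orthRels N) A ∧ g.det = 1 := by
  unfold pts
  simp only [Set.mem_ofPred_eq]
  have hdet : aeval (R := R) (ent g) (Ymat R ι).det = g.det := by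
    rw [AlgHom.map_det]
    congr 1
    exact Ymat_map_aeval g
  constructor
  · rintro ⟨h1, h2⟩
    refine ⟨⟨h1, fun k => h2 (some k)⟩, ?_⟩
    have := h2 none
    simp only [sorthRels, map_sub, map_one, hdet] at this
    exact sub_eq_zero.mp this
  · rintro ⟨⟨h1, h2⟩, h3⟩
    refine ⟨h1, ?_⟩
    rintro (_ | k)
    · simp only [sorthRels, map_sub, map_one, hdet, h3, sub_self]
    · exact h2 k

end Helper25.GLsub
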