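import Mathlib
import Groth.Prelude.Def_QuadGrp2
import Groth.Agent.Lib.Helper25.OrthRels

set_option autoImplicit false
set_option linter.unusedSectionVars false
set_option linter.unusedVariables false
universe u

namespace Helper25.GLsub

open MvPolynomial Matrix Helper25.QuadMat TensorProduct Helper25.Cliff

variable {R : Type u} [CommRing R] {ι : Type} [Fintype ι] [DecidableEq ι]
variable {A : Type u} [CommRing A] [Algebra R A]

theorem bA_equivFun_one_tmul (m : ι → R) :
    (bA R ι A).equivFun (1 ⊗ₜ[R] m) = fun i => algebraMap R A (m i) := by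
  ext i
  simp [bA, Algebra.TensorProduct.basis_repr_tmul, Algebra.algebraMap_eq_smul_one]

theorem baseChangeForm_eq (Q : QuadraticForm R (ι → R)) (N : Matrix ι ι R)
    (hN : ∀ v, Q v = qf N v) :
    QuadGrp.baseChangeForm A Q =
      (qfForm (N.map (algebraMap R A))).comp (bA R ι A).equivFun.toLinearMap := by
  apply _root_.baseChange_ext
  intro m
  have h1 : QuadGrp.baseChangeForm A Q (1 ⊗ₜ[R] m) = algebraMap R A (Q m) := by
    unfold QuadGrp.baseChangeForm
    rw [LinearMap.compQuadraticMap_apply, QuadGrp.baseChange_tmul]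
    simp [Algebra.algebraMap_eq_smul_one]
  rw [h1, QuadraticMap.comp_apply, LinearEquiv.coe_coe, bA_equivFun_one_tmul, qfForm_apply, hN]
  exact (qf_map (algebraMap R A) N m).symm

theorem equivFun_apply_eq_mulVec (g : (A ⊗[R] (ι → R)) ≃ₗ[A] (A ⊗[R] (ι → R)))
    (v : A ⊗[R] (ι → R)) :
    (bA R ι A).equivFun (g v) = toMat g *ᵥ (bA R ι A).equivFun v := by
  unfold toMat
  have := LinearMap.toMatrix_mulVec_repr (bA R ι A) (bA R ι A) g.toLinearMap v
  simp only [LinearEquiv.coe_coe] at this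
  exact this.symm

theorem mem_orth_iff (Q : QuadraticForm R (ι → R)) (N : Matrix ι ι R) (hN : ∀ v, Q v = qf N v)
    (g : (A ⊗[R] (ι → R)) ≃ₗ[A] (A ⊗[R] (ι → R))) :
    g ∈ QuadGrp.orth Q A ↔ toMat g ∈ pts (orthRels N) A := by
  rw [mem_pts_orthRels]
  have hO : g ∈ QuadGrp.orth Q A ↔
      ∀ v, QuadGrp.baseChangeForm A Q (g v) = QuadGrp.baseChangeForm A Q v := by
    unfold QuadGrp.orth
    rw [QuadGrp.mem_O]
    refine forall_congr' fun v => ?_
    unfold QuadGrp.baseChangeForm
    rw [LinearMap.compQuadraticMap_apply, LinearMap.compQuadraticMap_apply]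
    exact ((AlgebraTensorModule.rid R A A).injective.eq_iff).symm
  rw [hO, baseChangeForm_eq Q N hN]
  constructor
  · intro h
    refine ⟨isUnit_det_toMat g, QEq.of_qf_eq fun w => ?_⟩
    have := h ((bA R ι A).equivFun.symm w)
    simp only [QuadraticMap.comp_apply, LinearEquiv.coe_coe, qfForm_apply,
      equivFun_apply_eq_mulVec, LinearEquiv.apply_symm_apply] at this
    rw [qf_conj]
    exact this
  · rintro ⟨-, h⟩ v
    simp only [QuadraticMap.comp_apply, LinearEquiv.coe_coe, qfForm_apply,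
      equivFun_apply_eq_mulVec]
    rw [← qf_conj]
    exact qf_eq_of_QEq h _

theorem mem_sorth'_iff (Q : QuadraticForm R (ι → R)) (N : Matrix ι ι R) (hN : ∀ v, Q v = qf N v)
    (g : (A ⊗[R] (ι → R)) ≃ₗ[A] (A ⊗[R] (ι → R))) :
    g ∈ QuadGrp.sorth' Q A ↔ toMat g ∈ pts (sorthRels N) A := by
  rw [mem_pts_sorthRels, ← mem_orth_iff Q N hN]
  unfold QuadGrp.sorth' QuadGrp.SO' QuadGrp.orth
  rw [Subgroup.mem_inf, MonoidHom.mem_ker]
  refine and_congr Iff.rfl ?_
  unfold toMat
  rw [LinearMap.det_toMatrix, ← LinearEquiv.coe_det, Units.ext_iff]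
  rfl

end Helper25.GLsub
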