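import Groth.Agent.Lib.Helper25.QuadSplit
import Groth.Agent.Lib.Helper41.HalfDiscAdapted

/-!
# Odd rank: the half-discriminant of a matrix, peeling off planes (characteristic free)
-/

set_option autoImplicit false
set_option linter.unusedSectionVars false
set_option linter.unusedVariables false
set_option linter.unusedSimpArgs false
set_option linter.style.haveILetI false

universe u

namespace Helper25.QuadMat

open Matrix Groth.Agent.Lib.Helper41.HalfDisc

section HDet

variable {R : Type*} [CommRing R] {ι : Type*} [Fintype ι] [DecidableEq ι]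

/-- The half-discriminant of a matrix indexed by `ι`, through an enumeration of `ι`. -/
noncomputable def hdetE {n : ℕ} (e : ι ≃ Fin n) (N : Matrix ι ι R) : R :=
  evalHalf (N.submatrix e.symm e.symm)

theorem hdetE_conj {n : ℕ} (hn : Odd n) (e : ι ≃ Fin n) (N g : Matrix ι ι R) :
    hdetE e (gᵀ * N * g) = g.det ^ 2 * hdetE e N := by
  unfold hdetE
  have : (gᵀ * N * g).submatrix e.symm e.symm
      = (g.submatrix e.symm e.symm)ᵀ * N.submatrix e.symm e.symm * g.submatrix e.symm e.symm := by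
    rw [Matrix.transpose_submatrix, Matrix.submatrix_mul_equiv, Matrix.submatrix_mul_equiv]
  rw [this, evalHalf_conj hn, Matrix.det_submatrix_equiv_self]

theorem hdetE_congr {n : ℕ} (e : ι ≃ Fin n) {N N' : Matrix ι ι R} (h : QEq N N') :
    hdetE e N = hdetE e N' := by
  unfold hdetE evalHalf
  congr 1
  ext p
  induction p using Sym2.ind with
  | _ i j =>
    rw [cW_mk, cW_mk]
    simp only [Matrix.submatrix_apply]
    split_ifs with hij
    · exact h.diag _
    · exact h.polar _ _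

theorem hdetE_map {S : Type*} [CommRing S] (φ : R →+* S) {n : ℕ} (e : ι ≃ Fin n)
    (N : Matrix ι ι R) : hdetE e (N.map φ) = φ (hdetE e N) := by
  unfold hdetE
  rw [← evalHalf_map]
  rfl

theorem two_mul_hdetE {n : ℕ} (hn : Odd n) (e : ι ≃ Fin n) (N : Matrix ι ι R) :
    2 * hdetE e N = (N + Nᵀ).det := by
  unfold hdetE
  rw [two_mul_evalHalf hn]
  have : N.submatrix e.symm e.symm + (N.submatrix e.symm e.symm)ᵀ
      = (N + Nᵀ).submatrix e.symm e.symm := by
    ext i j; simp
  rw [this, Matrix.det_submatrix_equiv_self]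

theorem hdetE_fromBlocks {α β : Type*} [Fintype α] [DecidableEq α] [Fintype β] [DecidableEq β]
    {n n' : ℕ} (hn : Odd n) (hn' : Odd n') (e : α ⊕ β ≃ Fin n) (e' : β ≃ Fin n')
    (A : Matrix α α R) (D : Matrix β β R) :
    hdetE e (Matrix.fromBlocks A 0 0 D) = (A + Aᵀ).det * hdetE e' D := by
  classical
  let U := MvPolynomial ((α × α) ⊕ (β × β)) ℤ
  let AU : Matrix α α U := Matrix.of fun i j => MvPolynomial.X (Sum.inl (i, j))
  let DU : Matrix β β U := Matrix.of fun i j => MvPolynomial.X (Sum.inr (i, j))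
  let φ : U →+* R := MvPolynomial.eval₂Hom (Int.castRingHom R)
    (Sum.elim (fun p => A p.1 p.2) (fun p => D p.1 p.2))
  have hA : AU.map φ = A := by
    ext i j
    exact MvPolynomial.eval₂Hom_X' (Int.castRingHom R)
      (Sum.elim (fun p : α × α => A p.1 p.2) (fun p : β × β => D p.1 p.2)) (Sum.inl (i, j))
  have hD : DU.map φ = D := by
    ext i j
    exact MvPolynomial.eval₂Hom_X' (Int.castRingHom R)
      (Sum.elim (fun p : α × α => A p.1 p.2) (fun p : β × β => D p.1 p.2)) (Sum.inr (i, j))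
  have key : hdetE e (Matrix.fromBlocks AU 0 0 DU) = (AU + AUᵀ).det * hdetE e' DU := by
    have h2 : (2 : U) ≠ 0 := two_ne_zero
    apply mul_left_cancel₀ h2
    rw [two_mul_hdetE hn, mul_left_comm, two_mul_hdetE hn', Matrix.fromBlocks_transpose,
      Matrix.fromBlocks_add]
    simp only [Matrix.transpose_zero, add_zero]
    rw [Matrix.det_fromBlocks_zero₂₁]
  have h0 : (Matrix.fromBlocks AU 0 0 DU).map φ = Matrix.fromBlocks A 0 0 D := by
    rw [Matrix.fromBlocks_map, hA, hD]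
    simp
  have := congrArg φ key
  rw [← hdetE_map, h0, map_mul, ← hdetE_map, hD, RingHom.map_det] at this
  rw [this]
  congr 2
  rw [RingHom.mapMatrix_apply, Matrix.map_add _ (map_add φ), Matrix.transpose_map, hA]

theorem hdetE_eq_zero_of_offdiag {n : ℕ} (hn : Odd n) (h2n : 2 ≤ n) (e : ι ≃ Fin n)
    (N : Matrix ι ι R) (h2 : (2 : R) = 0) (hoff : ∀ i j, i ≠ j → N i j + N j i = 0) :
    hdetE e N = 0 := by
  obtain ⟨k, rfl⟩ : ∃ k, n = k + 1 := ⟨n - 1, by omega⟩
  unfold hdetE
  rw [evalHalf_adapted hn]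
  · have : ((N.submatrix e.symm e.symm + (N.submatrix e.symm e.symm)ᵀ).submatrix
        Fin.succ Fin.succ) = 0 := by
      ext i j
      simp only [Matrix.submatrix_apply, Matrix.add_apply, Matrix.transpose_apply,
        Matrix.zero_apply]
      by_cases hij : i = j
      · subst hij; rw [← two_mul, h2, zero_mul]
      · exact hoff _ _ (fun h => hij (Fin.succ_injective _ (e.symm.injective h)))
    rw [this]
    haveI : Nonempty (Fin k) := ⟨⟨0, by omega⟩⟩
    rw [Matrix.det_zero, mul_zero]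
  · intro j
    simp only [Matrix.submatrix_apply]
    exact hoff _ _ (fun h => (Fin.succ_ne_zero j).symm (e.symm.injective h))

theorem hdetE_one (e : ι ≃ Fin 1) (N : Matrix ι ι R) :
    hdetE e N = N (e.symm 0) (e.symm 0) := by
  unfold hdetE
  rw [evalHalf_adapted (k := 0) (by decide)]
  · simp [Matrix.det_isEmpty]
  · intro j; exact j.elim0

end HDet

section GoodPlane

variable {R : Type*} [CommRing R] {ι : Type*} [Fintype ι] [DecidableEq ι]

theorem exists_perm_two (z0 z1 i j : ι) (h01 : z0 ≠ z1) (hij : i ≠ j) :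
    ∃ σ : Equiv.Perm ι, σ z0 = i ∧ σ z1 = j := by
  have h1 : Equiv.swap z0 i z1 ≠ i := by
    intro h
    have : Equiv.swap z0 i z1 = Equiv.swap z0 i z0 := by rw [h, Equiv.swap_apply_left]
    exact h01 ((Equiv.swap z0 i).injective this).symm
  refine ⟨(Equiv.swap z0 i).trans (Equiv.swap (Equiv.swap z0 i z1) j), ?_, ?_⟩
  · rw [Equiv.trans_apply, Equiv.swap_apply_left]
    exact Equiv.swap_apply_of_ne_of_ne (Ne.symm h1) hij
  · rw [Equiv.trans_apply, Equiv.swap_apply_left]

theorem conj_perm_apply (N : Matrix ι ι R) (σ : Equiv.Perm ι) (x y : ι) :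
    (((1 : Matrix ι ι R).submatrix id σ)ᵀ * N * ((1 : Matrix ι ι R).submatrix id σ)) x y
      = N (σ x) (σ y) := by
  rw [conj_apply_bl, one_submatrix_col, one_submatrix_col, bl_single_single]

theorem exists_good_plane_char2 (N : Matrix ι ι R) (p : Ideal R) [p.IsPrime] (h2 : (2 : R) ∈ p)
    (i j : ι) (hij : i ≠ j) (hβ : N i j + N j i ∉ p) (z0 z1 : ι) (h01 : z0 ≠ z1) :
    ∃ G : Matrix ι ι R, IsUnit G.det ∧ (Gᵀ * N * G) z0 z0 ∉ p ∧ mu (Gᵀ * N * G) z0 z1 ∉ p := by
  have aux : ∀ i j : ι, i ≠ j → N i j + N j i ∉ p → N i i ∉ p →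
      ∃ G : Matrix ι ι R, IsUnit G.det ∧ (Gᵀ * N * G) z0 z0 ∉ p ∧
        mu (Gᵀ * N * G) z0 z1 ∉ p := by
    intro i j hij hβ hα
    obtain ⟨σ, hσ0, hσ1⟩ := exists_perm_two z0 z1 i j h01 hij
    refine ⟨(1 : Matrix ι ι R).submatrix id σ, isUnit_det_one_submatrix σ, ?_, ?_⟩
    · rw [conj_perm_apply, hσ0]; exact hα
    · unfold mu
      simp only [conj_perm_apply, hσ0, hσ1]
      intro hmu
      apply hβ
      refine Ideal.IsPrime.mem_of_pow_mem ‹_› 2 ?_
      have e : (N i j + N j i) ^ 2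
          = 2 * (2 * N i i * N j j) - (4 * N i i * N j j - (N i j + N j i) ^ 2) := by ring
      rw [e]
      exact p.sub_mem (p.mul_mem_right _ h2) hmu
  by_cases hi : N i i ∉ p
  · exact aux i j hij hβ hi
  by_cases hj : N j j ∉ p
  · exact aux j i hij.symm (by rwa [add_comm]) hj
  rw [not_not] at hi hj
  obtain ⟨σ, hσ0, hσ1⟩ := exists_perm_two z0 z1 i j h01 hij
  set N₁ := ((1 : Matrix ι ι R).submatrix id σ)ᵀ * N * ((1 : Matrix ι ι R).submatrix id σ)
    with hN₁
  have hmul : ((1 : Matrix ι ι R).submatrix id σ * Matrix.transvection z1 z0 1)ᵀ * N *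
      ((1 : Matrix ι ι R).submatrix id σ * Matrix.transvection z1 z0 1)
      = (Matrix.transvection z1 z0 (1 : R))ᵀ * N₁ * Matrix.transvection z1 z0 1 := by
    rw [Matrix.transpose_mul, hN₁]; simp only [Matrix.mul_assoc]
  obtain ⟨e11, e00, e10, e01⟩ := conj_transvection_entries N₁ z1 z1 z0 h01.symm
  simp only [hN₁, conj_perm_apply, hσ0, hσ1] at e11 e00 e10 e01
  rw [← hN₁] at e11 e00 e10 e01
  refine ⟨(1 : Matrix ι ι R).submatrix id σ * Matrix.transvection z1 z0 1, ?_, ?_, ?_⟩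
  · rw [Matrix.det_mul]
    exact (isUnit_det_one_submatrix σ).mul
      (by rw [Matrix.det_transvection_of_ne _ _ h01.symm]; exact isUnit_one)
  · rw [hmul, e00]
    intro hmem
    apply hβ
    have e : N i j + N j i = (N i i + N i j + (N j i + N j j)) - N i i - N j j := by ring
    rw [e]
    exact p.sub_mem (p.sub_mem hmem hi) hj
  · rw [hmul]
    unfold mu
    rw [e00, e11, e01, e10]
    intro hmu
    apply hβ
    refine Ideal.IsPrime.mem_of_pow_mem ‹_› 2 ?_
    have e : (N i j + N j i) ^ 2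
        = 2 * (2 * (N i i + N i j + (N j i + N j j)) * N j j - 2 * N j j * (N i j + N j i)
            - 2 * N j j ^ 2)
          - (4 * (N i i + N i j + (N j i + N j j)) * N j j
            - (N i j + N j j + (N j i + N j j)) ^ 2) := by ring
    rw [e]
    exact p.sub_mem (p.mul_mem_right _ h2) hmu

theorem exists_good_plane_odd (N : Matrix ι ι R) (p : Ideal R) [p.IsPrime] {n : ℕ}
    (e : ι ≃ Fin n) (hn : Odd n) (hH : hdetE e N ∉ p) (z0 z1 : ι) (h01 : z0 ≠ z1) :
    ∃ G : Matrix ι ι R, IsUnit G.det ∧ (Gᵀ * N * G) z0 z0 ∉ p ∧ mu (Gᵀ * N * G) z0 z1 ∉ p := by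
  by_cases h2 : (2 : R) ∈ p
  · have h2n : 2 ≤ n := by
      have h1 : Fintype.card ι = n := by rw [Fintype.card_congr e, Fintype.card_fin]
      have h3 : 1 < Fintype.card ι := Fintype.one_lt_card_iff.mpr ⟨z0, z1, h01⟩
      omega
    have : ∃ i j, i ≠ j ∧ N i j + N j i ∉ p := by
      by_contra hc
      push Not at hc
      apply hH
      rw [← Ideal.Quotient.eq_zero_iff_mem, ← hdetE_map]
      apply hdetE_eq_zero_of_offdiag hn h2n
      · rw [← map_ofNat (Ideal.Quotient.mk p) 2, Ideal.Quotient.eq_zero_iff_mem]; exact h2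
      · intro i j hij
        simp only [Matrix.map_apply, ← map_add]
        rw [Ideal.Quotient.eq_zero_iff_mem]
        exact hc i j hij
    obtain ⟨i, j, hij, hβ⟩ := this
    exact exists_good_plane_char2 N p h2 i j hij hβ z0 z1 h01
  · refine exists_good_plane N p ?_ z0 z1 h01
    rw [← two_mul_hdetE hn e]
    intro h
    rcases Ideal.IsPrime.mem_or_mem ‹_› h with h | h
    · exact h2 h
    · exact hH h

end GoodPlane

end Helper25.QuadMat

namespace Helper25.QuadMat

open Matrix Groth.Agent.Lib.Helper41.HalfDisc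

section SplitOff

variable {S : Type*} [CommRing S] {ι' : Type*} [Fintype ι'] [DecidableEq ι']

/-- Splitting off a plane, without any determinant bookkeeping. -/
theorem split_off_plane' (N₁ : Matrix (Fin 2 ⊕ ι') (Fin 2 ⊕ ι') S) (s h : S)
    (hs : s ^ 2 + (N₁ (.inl 0) (.inl 1) + N₁ (.inl 1) (.inl 0)) * s
      + N₁ (.inl 0) (.inl 0) * N₁ (.inl 1) (.inl 1) = 0)
    (hh : N₁ (.inl 0) (.inl 0) * mu N₁ (.inl 0) (.inl 1) * h = 1) :
    ∃ (g : Matrix (Fin 2 ⊕ ι') (Fin 2 ⊕ ι') S) (D' : Matrix ι' ι' S),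
      IsUnit g.det ∧ QEq (gᵀ * N₁ * g) (Matrix.fromBlocks (H2 S) 0 0 D') := by
  set A := N₁.toBlocks₁₁ with hA
  set B := N₁.toBlocks₁₂ with hB
  set C := N₁.toBlocks₂₁ with hC
  set D := N₁.toBlocks₂₂ with hD
  have hN : N₁ = Matrix.fromBlocks A B C D := (Matrix.fromBlocks_toBlocks N₁).symm
  have hAapp : ∀ i j, A i j = N₁ (.inl i) (.inl j) := fun i j => rfl
  set P := A + Aᵀ with hP
  set μ := mu N₁ (.inl 0) (.inl 1) with hμdef
  have hPdet : P.det = μ := by
    rw [Matrix.det_fin_two, hμdef]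
    unfold mu
    simp only [hP, Matrix.add_apply, Matrix.transpose_apply, hAapp]
    ring
  set μinv := N₁ (.inl 0) (.inl 0) * h with hμinv
  have hμ : μinv * μ = 1 := by rw [hμinv, ← hh]; ring
  set Pinv := μinv • P.adjugate with hPinv
  have hPP : P * Pinv = 1 := by
    rw [hPinv, Matrix.mul_smul, Matrix.mul_adjugate, hPdet, smul_smul, hμ, one_smul]
  set X := B + Cᵀ with hX
  set Y := -(Pinv * X) with hY
  have hPY : P * Y + X = 0 := by
    rw [hY, Matrix.mul_neg, ← Matrix.mul_assoc, hPP, Matrix.one_mul, neg_add_cancel]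
  set U : Matrix (Fin 2 ⊕ ι') (Fin 2 ⊕ ι') S := Matrix.fromBlocks 1 Y 0 1 with hU
  set D' := Yᵀ * (A * Y + B) + (C * Y + D) with hD'
  have hUN : Uᵀ * N₁ * U = Matrix.fromBlocks A (A * Y + B) (Yᵀ * A + C) D' := by
    rw [hN, hU, Matrix.fromBlocks_transpose, Matrix.fromBlocks_multiply,
      Matrix.fromBlocks_multiply]
    simp only [Matrix.transpose_one, Matrix.transpose_zero, Matrix.one_mul, Matrix.zero_mul,
      Matrix.mul_one, Matrix.mul_zero, add_zero, zero_add, Matrix.mul_add, hD']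
    congr 1
    rw [Matrix.add_mul, Matrix.mul_assoc]
    abel
  have hQ1 : QEq (Uᵀ * N₁ * U) (Matrix.fromBlocks A 0 0 D') := by
    rw [hUN]
    refine QEq.fromBlocks (QEq.refl _) (QEq.refl _) fun a k => ?_
    have e : A * Y + B + (Yᵀ * A + C)ᵀ = P * Y + X := by
      rw [Matrix.transpose_add, Matrix.transpose_mul, Matrix.transpose_transpose, hP, hX,
        Matrix.add_mul]
      abel
    have := congrFun (congrFun (e.trans hPY) a) k
    simp only [Matrix.add_apply, Matrix.transpose_apply, Matrix.zero_apply] at this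
    simp only [Matrix.zero_apply, add_zero]
    exact this
  obtain ⟨G₃, hG₃det, hG₃⟩ := plane_split A s h (by simpa only [hAapp] using hs)
    (by
      have : mu N₁ (.inl 0) (.inl 1) = 4 * A 0 0 * A 1 1 - (A 0 1 + A 1 0) ^ 2 := rfl
      rw [← this]; exact hh)
  set G₃' : Matrix (Fin 2 ⊕ ι') (Fin 2 ⊕ ι') S := Matrix.fromBlocks G₃ 0 0 1 with hG₃'
  have hG₃'mul : G₃'ᵀ * Matrix.fromBlocks A 0 0 D' * G₃'
      = Matrix.fromBlocks (G₃ᵀ * A * G₃) 0 0 D' := by
    rw [hG₃', Matrix.fromBlocks_transpose, Matrix.fromBlocks_multiply,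
      Matrix.fromBlocks_multiply]
    simp only [Matrix.transpose_one, Matrix.transpose_zero, Matrix.one_mul, Matrix.zero_mul,
      Matrix.mul_one, Matrix.mul_zero, add_zero, zero_add]
  refine ⟨U * G₃', D', ?_, ?_⟩
  · rw [Matrix.det_mul, hU, hG₃', Matrix.det_fromBlocks_zero₂₁, Matrix.det_fromBlocks_zero₂₁,
      Matrix.det_one, Matrix.det_one, one_mul, one_mul, mul_one]
    exact hG₃det
  · have e : (U * G₃')ᵀ * N₁ * (U * G₃') = G₃'ᵀ * (Uᵀ * N₁ * U) * G₃' := by
      rw [Matrix.transpose_mul]; simp only [Matrix.mul_assoc]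
    rw [e]
    refine (hQ1.conj G₃').trans ?_
    rw [hG₃'mul]
    exact QEq.fromBlocks hG₃ (QEq.refl _) fun _ _ => rfl

theorem det_H2_polar : (H2 S + (H2 S)ᵀ).det = -1 := by
  rw [Matrix.det_fin_two]
  simp [H2]

end SplitOff

/-- Étale-local (at every prime) congruence of every semiregular matrix (odd size) to a member of
the target family `T`, parametrised by a unit. -/
def LocSplitOdd (ι : Type) [Fintype ι] [DecidableEq ι]
    (T : ∀ (S : Type u) [CommRing S], S → Matrix ι ι S) : Prop :=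
  ∀ (R : Type u) [CommRing R] (p : PrimeSpectrum R) (N : Matrix ι ι R) (n : ℕ) (e : ι ≃ Fin n),
    Odd n → IsUnit (hdetE e N) →
    ∃ (B : Type u) (_ : CommRing B) (_ : Algebra R B), Algebra.Etale R B ∧
      (∃ q : PrimeSpectrum B, q.asIdeal.comap (algebraMap R B) = p.asIdeal) ∧
      ∃ (g : Matrix ι ι B) (a : B), IsUnit g.det ∧ IsUnit a ∧
        QEq (gᵀ * N.map (algebraMap R B) * g) (T B a)

theorem LocSplitOdd.congr {ι : Type} [Fintype ι] [DecidableEq ι]
    {T T' : ∀ (S : Type u) [CommRing S], S → Matrix ι ι S}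
    (h : ∀ (S : Type u) [CommRing S] (a : S), T S a = T' S a) (H : LocSplitOdd ι T) :
    LocSplitOdd ι T' := by
  intro R _ p N n e hn hN
  obtain ⟨B, i1, i2, h1, h2, g, a, hg, ha, hQ⟩ := H R p N n e hn hN
  exact ⟨B, i1, i2, h1, h2, g, a, hg, ha, h B a ▸ hQ⟩

theorem LocSplitOdd.reindex {ι κ : Type} [Fintype ι] [DecidableEq ι] [Fintype κ] [DecidableEq κ]
    (σ : κ ≃ ι) {T : ∀ (S : Type u) [CommRing S], S → Matrix ι ι S} (H : LocSplitOdd ι T) :
    LocSplitOdd κ (fun S _ a => (T S a).submatrix σ σ) := by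
  intro R _ p N n e hn hN
  have hN' : IsUnit (hdetE (σ.symm.trans e) (N.submatrix σ.symm σ.symm)) := by
    have : hdetE (σ.symm.trans e) (N.submatrix σ.symm σ.symm) = hdetE e N := by
      unfold hdetE
      congr 1
      ext i j
      simp
    rw [this]; exact hN
  obtain ⟨B, i1, i2, h1, h2, g, a, hg, ha, hQ⟩ :=
    H R p (N.submatrix σ.symm σ.symm) n (σ.symm.trans e) hn hN'
  refine ⟨B, i1, i2, h1, h2, g.submatrix σ σ, a, ?_, ha, ?_⟩
  · rw [Matrix.det_submatrix_equiv_self]; exact hg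
  · have := hQ.submatrix σ
    convert this using 1
    rw [← Matrix.submatrix_mul_equiv _ _ σ σ σ, ← Matrix.submatrix_mul_equiv _ _ σ σ σ,
      Matrix.transpose_submatrix]
    congr 2
    ext i j
    simp

theorem LocSplitOdd.step {ι' : Type} [Fintype ι'] [DecidableEq ι']
    {T' : ∀ (S : Type u) [CommRing S], S → Matrix ι' ι' S} (H : LocSplitOdd ι' T') :
    LocSplitOdd (Fin 2 ⊕ ι') (fun S _ a => Matrix.fromBlocks (H2 S) 0 0 (T' S a)) := by
  intro R _ p N n e hn hN
  have hdetp : hdetE e N ∉ p.asIdeal := fun h =>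
    p.isPrime.ne_top (Ideal.eq_top_of_isUnit_mem _ h hN)
  -- enumeration of the complement
  have hcard : Fintype.card ι' + 2 = n := by
    have := Fintype.card_congr e
    rw [Fintype.card_sum, Fintype.card_fin, Fintype.card_fin] at this
    omega
  set n' := Fintype.card ι' with hn'def
  have hn' : Odd n' := by
    rcases hn with ⟨k, hk⟩
    exact ⟨k - 1, by omega⟩
  let e' : ι' ≃ Fin n' := Fintype.equivFin ι'
  obtain ⟨G, hG, hα, hμ⟩ :=
    exists_good_plane_odd N p.asIdeal e hn hdetp (Sum.inl 0) (Sum.inl 1) (by simp)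
  obtain ⟨B₁, i1, i2, het1, ⟨q₁, hq₁⟩, s, h, hs, hh⟩ := exists_etale_root R p
    ((Gᵀ * N * G) (Sum.inl 0) (Sum.inl 0)) ((Gᵀ * N * G) (Sum.inl 1) (Sum.inl 1))
    ((Gᵀ * N * G) (Sum.inl 0) (Sum.inl 1) + (Gᵀ * N * G) (Sum.inl 1) (Sum.inl 0)) hα hμ
  obtain ⟨g₂, D', hg₂, hQ₂⟩ := split_off_plane' ((Gᵀ * N * G).map (algebraMap R B₁)) s h
    (by
      simp only [Matrix.map_apply, ← map_add, ← map_mul]
      rw [map_mul] at hs ⊢
      linear_combination hs)
    (by
      unfold mu
      simp only [Matrix.map_apply]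
      rw [← hh]
      simp only [map_mul, map_sub, map_pow, map_add, map_ofNat])
  have hD' : IsUnit (hdetE e' D') := by
    have h1 : hdetE e (Matrix.fromBlocks (H2 B₁) 0 0 D')
        = g₂.det ^ 2 * algebraMap R B₁ (G.det ^ 2 * hdetE e N) := by
      rw [← hdetE_congr e hQ₂, hdetE_conj hn, hdetE_map, hdetE_conj hn]
    have h2 : IsUnit (hdetE e (Matrix.fromBlocks (H2 B₁) 0 0 D')) := by
      rw [h1]
      exact (hg₂.pow 2).mul (((hG.pow 2).mul hN).map _)
    rw [hdetE_fromBlocks hn hn' e e'] at h2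
    exact isUnit_of_mul_isUnit_right h2
  obtain ⟨B₂, j1, j2, het2, ⟨q₂, hq₂⟩, g₃, a, hg₃, ha, hQ₃⟩ := H B₁ q₁ D' n' e' hn' hD'
  letI : Algebra R B₂ := ((algebraMap B₁ B₂).comp (algebraMap R B₁)).toAlgebra
  haveI : IsScalarTower R B₁ B₂ := IsScalarTower.of_algebraMap_eq fun _ => rfl
  refine ⟨B₂, j1, inferInstance, Algebra.Etale.comp R B₁ B₂, ⟨q₂, ?_⟩,
    G.map (algebraMap R B₂) * g₂.map (algebraMap B₁ B₂) * Matrix.fromBlocks 1 0 0 g₃, a, ?_, ha, ?_⟩
  · rw [IsScalarTower.algebraMap_eq R B₁ B₂, ← Ideal.comap_comap, hq₂, hq₁]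
  · rw [Matrix.det_mul, Matrix.det_mul, Matrix.det_fromBlocks_zero₂₁, Matrix.det_one, one_mul]
    refine (IsUnit.mul ?_ ?_).mul hg₃
    · have : (G.map (algebraMap R B₂)).det = algebraMap R B₂ G.det := by
        rw [RingHom.map_det]; rfl
      rw [this]; exact hG.map _
    · have : (g₂.map (algebraMap B₁ B₂)).det = algebraMap B₁ B₂ g₂.det := by
        rw [RingHom.map_det]; rfl
      rw [this]; exact hg₂.map _
  · have hψ : ∀ M : Matrix (Fin 2 ⊕ ι') (Fin 2 ⊕ ι') R,
        M.map (algebraMap R B₂) = (M.map (algebraMap R B₁)).map (algebraMap B₁ B₂) := fun M => by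
      rw [Matrix.map_map]; rfl
    have e1 : (G.map (algebraMap R B₂) * g₂.map (algebraMap B₁ B₂)
          * Matrix.fromBlocks 1 0 0 g₃)ᵀ * N.map (algebraMap R B₂)
          * (G.map (algebraMap R B₂) * g₂.map (algebraMap B₁ B₂) * Matrix.fromBlocks 1 0 0 g₃)
        = (Matrix.fromBlocks 1 0 0 g₃)ᵀ
          * ((g₂ᵀ * (Gᵀ * N * G).map (algebraMap R B₁) * g₂).map (algebraMap B₁ B₂))
          * Matrix.fromBlocks 1 0 0 g₃ := by
      rw [hψ G, hψ N]
      simp only [Matrix.map_mul, Matrix.transpose_mul, Matrix.transpose_map, Matrix.mul_assoc]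
    rw [e1]
    have hQ₂' := (hQ₂.map (algebraMap B₁ B₂)).conj
      (Matrix.fromBlocks (1 : Matrix (Fin 2) (Fin 2) B₂) 0 0 g₃)
    refine hQ₂'.trans ?_
    rw [Matrix.fromBlocks_map, H2_map, Matrix.fromBlocks_transpose, Matrix.fromBlocks_multiply,
      Matrix.fromBlocks_multiply]
    have hz1 : (0 : Matrix (Fin 2) ι' B₁).map (algebraMap B₁ B₂) = 0 :=
      Matrix.map_zero _ (map_zero _)
    have hz2 : (0 : Matrix ι' (Fin 2) B₁).map (algebraMap B₁ B₂) = 0 :=
      Matrix.map_zero _ (map_zero _)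
    simp only [Matrix.transpose_one, Matrix.transpose_zero, Matrix.one_mul, Matrix.zero_mul,
      Matrix.mul_one, Matrix.mul_zero, add_zero, zero_add, hz1, hz2]
    exact QEq.fromBlocks (QEq.refl _) hQ₃ fun _ _ => rfl

/-- The odd split family `∑ x_j x_{m+j} + a z²`. -/
def JOdd (m : ℕ) (S : Type*) [CommRing S] (a : S) :
    Matrix ((Fin m ⊕ Fin m) ⊕ Fin 1) ((Fin m ⊕ Fin m) ⊕ Fin 1) S :=
  Matrix.fromBlocks (J m S) 0 0 (Matrix.of fun _ _ => a)

/-- Peeling off the first hyperbolic pair, odd version. -/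
def peelOdd (m : ℕ) :
    (Fin (m + 1) ⊕ Fin (m + 1)) ⊕ Fin 1 ≃ Fin 2 ⊕ ((Fin m ⊕ Fin m) ⊕ Fin 1) :=
  ((peel m).sumCongr (Equiv.refl _)).trans (Equiv.sumAssoc _ _ _)

theorem JOdd_succ (m : ℕ) (S : Type*) [CommRing S] (a : S) :
    JOdd (m + 1) S a
      = (Matrix.fromBlocks (H2 S) 0 0 (JOdd m S a)).submatrix (peelOdd m) (peelOdd m) := by
  ext i j
  rcases i with i | i <;> rcases j with j | j
  · have := congrFun (congrFun (J_succ m S) i) j
    simp only [JOdd, Matrix.fromBlocks_apply₁₁, Matrix.submatrix_apply]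
    rw [this]
    simp only [Matrix.submatrix_apply, peelOdd, Equiv.trans_apply, Equiv.sumCongr_apply,
      Sum.map_inl]
    rcases h1 : peel m i with x | x <;> rcases h2 : peel m j with y | y <;>
      simp [Equiv.sumAssoc, JOdd]
  · simp only [JOdd, Matrix.fromBlocks_apply₁₂, Matrix.submatrix_apply, Matrix.zero_apply,
      peelOdd, Equiv.trans_apply, Equiv.sumCongr_apply, Sum.map_inl, Sum.map_inr]
    rcases h1 : peel m i with x | x <;> simp [Equiv.sumAssoc, JOdd]
  · simp only [JOdd, Matrix.fromBlocks_apply₂₁, Matrix.submatrix_apply, Matrix.zero_apply,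
      peelOdd, Equiv.trans_apply, Equiv.sumCongr_apply, Sum.map_inl, Sum.map_inr]
    rcases h2 : peel m j with y | y <;> simp [Equiv.sumAssoc, JOdd]
  · simp [JOdd, peelOdd, Equiv.sumAssoc]

theorem locSplitOdd_JOdd (m : ℕ) :
    LocSplitOdd.{u} ((Fin m ⊕ Fin m) ⊕ Fin 1) (fun S _ a => JOdd m S a) := by
  induction m with
  | zero =>
    intro R _ p N n e hn hN
    have hn1 : n = 1 := by
      have := Fintype.card_congr e
      simpa using this.symm
    subst hn1
    refine ⟨R, inferInstance, inferInstance, inferInstance, ⟨p, ?_⟩, 1,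
      N (e.symm 0) (e.symm 0), ?_, ?_, ?_⟩
    · simp
    · simp
    · rw [← hdetE_one e N]; exact hN
    · have hall : ∀ i : (Fin 0 ⊕ Fin 0) ⊕ Fin 1, i = e.symm 0 := fun i =>
        e.injective (Subsingleton.elim _ _)
      have h0 : e.symm 0 = Sum.inr 0 := by
        rcases h : e.symm 0 with (x | x) | x
        · exact x.elim0
        · exact x.elim0
        · rw [Subsingleton.elim x 0]
      refine ⟨fun i => ?_, fun i j => ?_⟩
      · rw [hall i, h0]; simp [JOdd]
      · rw [hall i, hall j, h0]; simp [JOdd]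
  | succ m ih =>
    have h1 := (LocSplitOdd.step ih).reindex (peelOdd m)
    exact h1.congr fun S _ a => (JOdd_succ m S a).symm

end Helper25.QuadMat

namespace Helper25.QuadMat

open Matrix Polynomial

theorem JOdd_map {S S' : Type*} [CommRing S] [CommRing S'] (φ : S →+* S') (m : ℕ) (a : S) :
    (JOdd m S a).map φ = JOdd m S' (φ a) := by
  unfold JOdd J
  rw [Matrix.fromBlocks_map, Matrix.fromBlocks_map]
  congr 1
  · congr 1 <;> ext i j <;> simp [Matrix.one_apply]
  · ext i j; simp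
  · ext i j; simp

theorem QEq.of_pi' {T : Type*} [Fintype T] {B : T → Type*} [∀ t, CommRing (B t)] {n : Type*}
    [Fintype n] {M M' : Matrix n n (∀ t, B t)}
    (h : ∀ t, QEq (M.map (Pi.evalRingHom B t)) (M'.map (Pi.evalRingHom B t))) : QEq M M' := by
  refine ⟨fun i => funext fun t => ?_, fun i j => funext fun t => ?_⟩
  · simpa using (h t).diag i
  · simpa using (h t).polar i j

/-- **Étale-local splitting** of a semiregular quadratic form of odd rank, up to the last
coefficient. -/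
theorem exists_etale_cover_split_odd (A : Type u) [CommRing A] (m : ℕ)
    (N : Matrix ((Fin m ⊕ Fin m) ⊕ Fin 1) ((Fin m ⊕ Fin m) ⊕ Fin 1) A) {n : ℕ}
    (e : (Fin m ⊕ Fin m) ⊕ Fin 1 ≃ Fin n) (hn : Odd n) (hN : IsUnit (hdetE e N)) :
    ∃ (S : Type u) (_ : CommRing S) (_ : Algebra A S), Algebra.Etale A S ∧
      Module.FaithfullyFlat A S ∧
      ∃ (g : Matrix ((Fin m ⊕ Fin m) ⊕ Fin 1) ((Fin m ⊕ Fin m) ⊕ Fin 1) S) (a : S),
        IsUnit g.det ∧ IsUnit a ∧ QEq (gᵀ * N.map (algebraMap A S) * g) (JOdd m S a) := by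
  classical
  obtain ⟨k, B, i1, i2, het, hcov, hsplit⟩ := exists_finite_etale_cover
    (P := fun B _ _ => ∃ (g : Matrix ((Fin m ⊕ Fin m) ⊕ Fin 1) ((Fin m ⊕ Fin m) ⊕ Fin 1) B)
      (a : B), IsUnit g.det ∧ IsUnit a ∧ QEq (gᵀ * N.map (algebraMap A B) * g) (JOdd m B a))
    fun p => locSplitOdd_JOdd m A p N n e hn hN
  choose g a hg ha hgQ using hsplit
  let S : Type u := ∀ t, B t
  haveI hflat : Module.Flat A S :=
    Module.Flat.of_linearEquiv (DFinsupp.linearEquivFunOnFintype (R := A) (M := B)).symm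
  have hff : Module.FaithfullyFlat A S := by
    refine Module.FaithfullyFlat.of_comap_surjective fun p => ?_
    obtain ⟨t, q, hq⟩ := hcov p
    refine ⟨⟨q.asIdeal.comap (Pi.evalRingHom B t), Ideal.comap_isPrime _ _⟩, ?_⟩
    ext1
    change (q.asIdeal.comap (Pi.evalRingHom B t)).comap (algebraMap A S) = p.asIdeal
    rw [Ideal.comap_comap]
    exact hq
  refine ⟨S, inferInstance, inferInstance, inferInstance, hff, ?_⟩
  let G : Matrix ((Fin m ⊕ Fin m) ⊕ Fin 1) ((Fin m ⊕ Fin m) ⊕ Fin 1) S :=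
    Matrix.of fun i j t => g t i j
  have hGmap : ∀ t, G.map (Pi.evalRingHom B t) = g t := fun t => rfl
  have hGdet : IsUnit G.det := by
    rw [Pi.isUnit_iff]
    intro t
    have : G.det t = (g t).det := by
      have := RingHom.map_det (Pi.evalRingHom B t) G
      rw [RingHom.mapMatrix_apply, hGmap] at this
      exact this
    rw [this]; exact hg t
  refine ⟨G, fun t => a t, hGdet, ?_, ?_⟩
  · rw [Pi.isUnit_iff]; exact ha
  · refine QEq.of_pi' fun t => ?_
    have h1 : (G.transpose * N.map (algebraMap A S) * G).map (Pi.evalRingHom B t)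
        = (g t).transpose * N.map (algebraMap A (B t)) * g t := by
      rw [Matrix.map_mul, Matrix.map_mul, Matrix.transpose_map, hGmap, Matrix.map_map]
      rfl
    rw [h1, JOdd_map]
    exact hgQ t

/-- Adjoining a square root is faithfully flat and finitely presented. -/
theorem exists_sqrt_cover (S₀ : Type u) [CommRing S₀] (w : S₀) :
    ∃ (S : Type u) (_ : CommRing S) (_ : Algebra S₀ S), Module.FaithfullyFlat S₀ S ∧
      Algebra.FinitePresentation S₀ S ∧ ∃ t : S, t ^ 2 = algebraMap S₀ S w := by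
  rcases subsingleton_or_nontrivial S₀ with hS | hS
  · exact ⟨S₀, inferInstance, inferInstance, inferInstance, inferInstance, 0,
      Subsingleton.elim _ _⟩
  · have hf : (X ^ 2 - C w : S₀[X]).Monic := monic_X_pow_sub_C w (by norm_num)
    have hdeg : (X ^ 2 - C w : S₀[X]).natDegree = 2 := natDegree_X_pow_sub_C
    let pb := AdjoinRoot.powerBasis' hf
    have hdim : pb.dim = 2 := by rw [AdjoinRoot.powerBasis'_dim, hdeg]
    haveI : Nonempty (Fin pb.dim) := ⟨⟨0, by omega⟩⟩
    have hff : Module.FaithfullyFlat S₀ (AdjoinRoot (X ^ 2 - C w : S₀[X])) :=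
      Module.FaithfullyFlat.of_linearEquiv _ _ pb.basis.repr
    refine ⟨AdjoinRoot (X ^ 2 - C w : S₀[X]), inferInstance, inferInstance, hff, inferInstance,
      AdjoinRoot.root _, ?_⟩
    have := AdjoinRoot.eval₂_root (X ^ 2 - C w : S₀[X])
    simp only [eval₂_sub, eval₂_pow, eval₂_X, eval₂_C] at this
    rw [← sub_eq_zero, ← this]
    rfl

/-- **Fppf-local splitting** of a semiregular quadratic form of odd rank: `∑ x_j x_{m+j} + ε z²`
for a prescribed sign `ε`. -/
theorem exists_fppf_cover_split_odd (A : Type u) [CommRing A] (m : ℕ)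
    (N : Matrix ((Fin m ⊕ Fin m) ⊕ Fin 1) ((Fin m ⊕ Fin m) ⊕ Fin 1) A) {n : ℕ}
    (e : (Fin m ⊕ Fin m) ⊕ Fin 1 ≃ Fin n) (hn : Odd n) (hN : IsUnit (hdetE e N)) (ε : ℤˣ) :
    ∃ (S : Type u) (_ : CommRing S) (_ : Algebra A S), Module.FaithfullyFlat A S ∧
      Algebra.FinitePresentation A S ∧
      ∃ g : Matrix ((Fin m ⊕ Fin m) ⊕ Fin 1) ((Fin m ⊕ Fin m) ⊕ Fin 1) S,
        IsUnit g.det ∧ QEq (gᵀ * N.map (algebraMap A S) * g) (JOdd m S (((ε : ℤ) : S))) := by
  classical
  obtain ⟨S₀, i1, i2, het, hff₀, g₀, a, hg₀, ha, hQ₀⟩ :=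
    exists_etale_cover_split_odd A m N e hn hN
  obtain ⟨ainv, hainv⟩ := ha.exists_right_inv
  obtain ⟨S, j1, j2, hff₁, hfp₁, t, ht⟩ := exists_sqrt_cover S₀ (((ε : ℤ) : S₀) * ainv)
  letI : Algebra A S := ((algebraMap S₀ S).comp (algebraMap A S₀)).toAlgebra
  haveI : IsScalarTower A S₀ S := IsScalarTower.of_algebraMap_eq fun _ => rfl
  have hff : Module.FaithfullyFlat A S := Module.FaithfullyFlat.trans A S₀ S
  have hfp : Algebra.FinitePresentation A S := Algebra.FinitePresentation.trans A S₀ S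
  have hεu : IsUnit (((ε : ℤ) : S)) := by
    have : IsUnit ((ε : ℤ)) := ε.isUnit
    exact this.map (Int.castRingHom S)
  have htu : IsUnit t := by
    have h1 : IsUnit (t ^ 2) := by
      rw [ht, map_mul, map_intCast]
      refine hεu.mul ?_
      have : IsUnit ainv := IsUnit.of_mul_eq_one_right a hainv
      exact this.map _
    exact (isUnit_pow_iff two_ne_zero).mp h1
  let g₁ : Matrix ((Fin m ⊕ Fin m) ⊕ Fin 1) ((Fin m ⊕ Fin m) ⊕ Fin 1) S :=
    Matrix.fromBlocks 1 0 0 (Matrix.of fun _ _ => t)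
  refine ⟨S, j1, inferInstance, hff, hfp, g₀.map (algebraMap S₀ S) * g₁, ?_, ?_⟩
  · rw [Matrix.det_mul]
    refine IsUnit.mul ?_ ?_
    · have : (g₀.map (algebraMap S₀ S)).det = algebraMap S₀ S g₀.det := by
        rw [RingHom.map_det]; rfl
      rw [this]; exact hg₀.map _
    · rw [Matrix.det_fromBlocks_zero₂₁, Matrix.det_one, one_mul]
      have : (Matrix.of fun _ _ => t : Matrix (Fin 1) (Fin 1) S).det = t := by
        simp [Matrix.det_fin_one]
      rw [this]; exact htu
  · have hψ : N.map (algebraMap A S) = (N.map (algebraMap A S₀)).map (algebraMap S₀ S) := by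
      rw [Matrix.map_map]; rfl
    have e1 : (g₀.map (algebraMap S₀ S) * g₁)ᵀ * N.map (algebraMap A S)
          * (g₀.map (algebraMap S₀ S) * g₁)
        = g₁ᵀ * ((g₀ᵀ * N.map (algebraMap A S₀) * g₀).map (algebraMap S₀ S)) * g₁ := by
      rw [hψ]
      simp only [Matrix.map_mul, Matrix.transpose_mul, Matrix.transpose_map, Matrix.mul_assoc]
    rw [e1]
    refine ((hQ₀.map (algebraMap S₀ S)).conj g₁).trans ?_
    rw [JOdd_map]
    unfold JOdd
    rw [Matrix.fromBlocks_transpose, Matrix.fromBlocks_multiply, Matrix.fromBlocks_multiply]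
    simp only [Matrix.transpose_one, Matrix.transpose_zero, Matrix.one_mul, Matrix.zero_mul,
      Matrix.mul_one, Matrix.mul_zero, add_zero, zero_add]
    refine QEq.fromBlocks (QEq.refl _) (QEq.of_eq ?_) fun _ _ => rfl
    ext i j
    simp only [Matrix.mul_apply, Matrix.transpose_apply, Matrix.of_apply, Fin.sum_univ_one]
    have h2 : algebraMap S₀ S a * algebraMap S₀ S ainv = 1 := by
      rw [← map_mul, hainv, map_one]
    have h3 : t ^ 2 = ((ε : ℤ) : S) * algebraMap S₀ S ainv := by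
      rw [ht, map_mul, map_intCast]
    linear_combination (algebraMap S₀ S a) * h3 + ((ε : ℤ) : S) * h2

end Helper25.QuadMat
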