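import Mathlib
import Groth.Agent.Lib.Helper25.OrthRels
import Groth.Agent.Lib.Helper25.QuadOdd

/-!
# Odd rank, `2` not a unit: the orthogonal group functor has no infinitesimal lifting property
-/

set_option autoImplicit false
set_option linter.unusedSectionVars false
set_option linter.unusedVariables false
universe u

namespace Helper25.GLsub

open Matrix Helper25.QuadMat Polynomial

variable {R : Type u} [CommRing R] {ι : Type} [Fintype ι] [DecidableEq ι]

/-- In odd rank with unit half-discriminant, isometries have determinant of square one. -/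
theorem det_sq_eq_one_of_mem {A : Type*} [CommRing A] [Algebra R A] {n : ℕ} (hn : Odd n)
    (e : ι ≃ Fin n) (N : Matrix ι ι R) (hh : IsUnit (hdetE e N)) (g : Matrix ι ι A)
    (hg : QEq (gᵀ * N.map (algebraMap R A) * g) (N.map (algebraMap R A))) : g.det ^ 2 = 1 := by
  have h1 := hdetE_conj hn e (N.map (algebraMap R A)) g
  rw [hdetE_congr e hg] at h1
  have hu : IsUnit (hdetE e (N.map (algebraMap R A))) := by
    rw [hdetE_map]; exact hh.map _
  have h2 : (g.det ^ 2 - 1) * hdetE e (N.map (algebraMap R A)) = 0 := by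
    rw [sub_mul, one_mul, ← h1, sub_self]
  exact sub_eq_zero.mp (hu.mul_left_eq_zero.mp h2)

theorem not_lifting_of_odd {n : ℕ} (hn : Odd n) (e : ι ≃ Fin n) (N : Matrix ι ι R)
    (hh : IsUnit (hdetE e N)) (h2 : ¬ IsUnit (2 : R)) :
    ¬ (∀ (A : Type u) [CommRing A] [Algebra R A] (I : Ideal A), I ^ 2 = ⊥ →
        ∀ g' ∈ pts (orthRels N) (A ⧸ I), ∃ g ∈ pts (orthRels N) A,
          g.map (Ideal.Quotient.mk I) = g') := by
  intro H
  -- the test ring
  let k : Type u := R ⧸ Ideal.span {(2 : R)}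
  have : Nontrivial k := by
    rw [Ideal.Quotient.nontrivial_iff]
    intro h
    exact h2 (Ideal.span_singleton_eq_top.mp h)
  have hk2 : (2 : k) = 0 := by
    have : (2 : k) = Ideal.Quotient.mk (Ideal.span {(2 : R)}) 2 :=
      (map_ofNat (Ideal.Quotient.mk (Ideal.span {(2 : R)})) 2).symm
    rw [this, Ideal.Quotient.eq_zero_iff_mem]
    exact Ideal.mem_span_singleton_self 2
  let f : k[X] := X ^ 3
  let A : Type u := AdjoinRoot f
  let x : A := AdjoinRoot.root f
  have hA2 : (2 : A) = 0 := by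
    have : (2 : A) = algebraMap k A 2 := (map_ofNat (algebraMap k A) 2).symm
    rw [this, hk2, map_zero]
  have hx3 : x ^ 3 = 0 := by
    have : AdjoinRoot.mk f (X ^ 3) = 0 := AdjoinRoot.mk_self
    rw [map_pow, AdjoinRoot.mk_X] at this
    exact this
  have hx2 : x ^ 2 ≠ 0 := by
    intro h
    have h1 : AdjoinRoot.mk f (X ^ 2) = 0 := by
      rw [map_pow, AdjoinRoot.mk_X]; exact h
    rw [AdjoinRoot.mk_eq_zero] at h1
    have h3 := (Polynomial.X_pow_dvd_iff.mp h1) 2 (by norm_num)
    simp at h3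
  let I : Ideal A := Ideal.span {x ^ 2}
  have hI : I ^ 2 = ⊥ := by
    rw [Ideal.span_singleton_pow, Ideal.span_singleton_eq_bot]
    calc (x ^ 2) ^ 2 = x ^ 3 * x := by ring
      _ = 0 := by rw [hx3, zero_mul]
  set π := Ideal.Quotient.mk I with hπ
  let c : A := 1 + x
  have hc2 : π c * π c = 1 := by
    have hx2I : π (x ^ 2) = 0 := Ideal.Quotient.eq_zero_iff_mem.mpr (Ideal.mem_span_singleton_self _)
    have : c * c = 1 + 2 * x + x ^ 2 := by simp only [c]; ring
    rw [← map_mul, this, hA2, zero_mul, add_zero, map_add, hx2I, add_zero, map_one]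
  -- the point `c̄ · 1`
  let g' : Matrix ι ι (A ⧸ I) := π c • (1 : Matrix ι ι (A ⧸ I))
  have hg'det : g'.det = π c ^ n := by
    simp only [g']
    rw [Matrix.det_smul, Matrix.det_one, mul_one, Fintype.card_congr e, Fintype.card_fin]
  have hcn : π c ^ n = π c := by
    obtain ⟨m, rfl⟩ := hn
    rw [pow_succ, pow_mul, pow_two, hc2, one_pow, one_mul]
  have hg' : g' ∈ pts (orthRels N) (A ⧸ I) := by
    rw [mem_pts_orthRels]
    constructor
    · rw [hg'det, hcn]
      exact IsUnit.of_mul_eq_one _ hc2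
    · apply QEq.of_eq
      simp only [g']
      rw [Matrix.transpose_smul, Matrix.transpose_one, Matrix.smul_mul, Matrix.one_mul,
        Matrix.mul_smul, Matrix.mul_one, smul_smul, hc2, one_smul]
  obtain ⟨g, hg, hgg'⟩ := H A I hI g' hg'
  rw [mem_pts_orthRels] at hg
  have hd2 : g.det ^ 2 = 1 := det_sq_eq_one_of_mem hn e N hh g hg.2
  have hdπ : π g.det = π c := by
    rw [RingHom.map_det]
    have : (π.mapMatrix g) = g' := hgg'
    rw [this, hg'det, hcn]
  have hmem : g.det - c ∈ I := by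
    rw [← Ideal.Quotient.eq_zero_iff_mem, map_sub, ← hπ, hdπ, sub_self]
  obtain ⟨a, ha⟩ := Ideal.mem_span_singleton'.mp hmem
  have hd : g.det = c + a * x ^ 2 := by rw [ha]; ring
  apply hx2
  have hx4 : x ^ 4 = 0 := by
    calc x ^ 4 = x ^ 3 * x := by ring
      _ = 0 := by rw [hx3, zero_mul]
  have : (1 : A) = 1 + x ^ 2 := by
    calc (1 : A) = g.det ^ 2 := hd2.symm
      _ = (c + a * x ^ 2) ^ 2 := by rw [hd]
      _ = 1 + x ^ 2 + 2 * (x + c * a * x ^ 2) + a ^ 2 * x ^ 4 := by simp only [c]; ring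
      _ = 1 + x ^ 2 := by rw [hA2, hx4]; ring
  linear_combination -this

end Helper25.GLsub
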