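import Mathlib
import Groth.Agent.Lib.Helper25.OrthRels

/-!
# Infinitesimal lifting of isometries of a regular matrix form
-/

set_option autoImplicit false
set_option linter.unusedSectionVars false
set_option linter.unusedVariables false
universe u

namespace Helper25.QuadMat

open Matrix

variable {A : Type*} [CommRing A] {ι : Type*} [Fintype ι] [DecidableEq ι]

/-- Matrices with entries in a square-zero ideal multiply to zero. -/
theorem mul_eq_zero_of_map_eq_zero (I : Ideal A) (hI : I ^ 2 = ⊥) (X Y : Matrix ι ι A)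
    (hX : X.map (Ideal.Quotient.mk I) = 0) (hY : Y.map (Ideal.Quotient.mk I) = 0) : X * Y = 0 := by
  have hX' : ∀ i j, X i j ∈ I := fun i j => by
    have := congrFun (congrFun hX i) j
    simpa [Ideal.Quotient.eq_zero_iff_mem] using this
  have hY' : ∀ i j, Y i j ∈ I := fun i j => by
    have := congrFun (congrFun hY i) j
    simpa [Ideal.Quotient.eq_zero_iff_mem] using this
  ext i j
  rw [Matrix.mul_apply, Matrix.zero_apply]
  refine Finset.sum_eq_zero fun k _ => ?_
  have : X i k * Y k j ∈ I ^ 2 := by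
    rw [pow_two]; exact Ideal.mul_mem_mul (hX' i k) (hY' k j)
  rwa [hI, Ideal.mem_bot] at this

theorem QEq.sub_zero {R : Type*} [CommRing R] {N N' : Matrix ι ι R} (h : QEq N N') : QEq (N - N') 0 :=
  ⟨fun i => by simp only [Matrix.sub_apply, Matrix.zero_apply, h.diag i, sub_self],
   fun i j => by
    simp only [Matrix.sub_apply, Matrix.zero_apply]
    linear_combination h.polar i j⟩

theorem exists_lift_orth [LinearOrder ι] (N : Matrix ι ι A) (hP : IsUnit (N + Nᵀ).det)
    (I : Ideal A) (hI : I ^ 2 = ⊥) (g' : Matrix ι ι (A ⧸ I)) (hdet : IsUnit g'.det)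
    (hq : QEq (g'ᵀ * N.map (Ideal.Quotient.mk I) * g') (N.map (Ideal.Quotient.mk I))) :
    ∃ g : Matrix ι ι A, IsUnit g.det ∧ QEq (gᵀ * N * g) N ∧ g.map (Ideal.Quotient.mk I) = g' := by
  set π := Ideal.Quotient.mk I with hπ
  let g₀ : Matrix ι ι A := g'.map (Function.surjInv Ideal.Quotient.mk_surjective)
  have hg₀ : g₀.map π = g' := by
    ext i j
    simp only [g₀, Matrix.map_apply]
    exact Function.surjInv_eq _ _
  set M := g₀ᵀ * N * g₀ with hM
  set δ := M - N with hδ
  have hMπ : M.map π = g'ᵀ * N.map π * g' := by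
    rw [hM, Matrix.map_mul, Matrix.map_mul, Matrix.transpose_map, hg₀]
  have hδπ : QEq (δ.map π) 0 := by
    have : δ.map π = M.map π - N.map π := by
      ext i j; simp [hδ]
    rw [this, hMπ]
    exact hq.sub_zero
  have hdiagI : ∀ i, π (δ i i) = 0 := fun i => by
    have := hδπ.diag i
    simpa using this
  have hpolI : ∀ i j, π (δ i j + δ j i) = 0 := fun i j => by
    have := hδπ.polar i j
    simpa using this
  let β : Matrix ι ι A := Matrix.of fun i j =>
    if i = j then δ i i else if i < j then δ i j + δ j i else 0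
  have hβπ : β.map π = 0 := by
    ext i j
    simp only [β, Matrix.map_apply, Matrix.of_apply, Matrix.zero_apply]
    split_ifs
    · exact hdiagI i
    · exact hpolI i j
    · exact map_zero _
  have hβδ : QEq β δ := by
    refine ⟨fun i => by simp [β], fun i j => ?_⟩
    simp only [β, Matrix.of_apply]
    rcases lt_trichotomy i j with h | h | h
    · have h1 : i ≠ j := ne_of_lt h
      have h2 : ¬ j < i := not_lt_of_gt h
      simp [h1, h1.symm, h, h2]
    · subst h; simp
    · have h1 : i ≠ j := ne_of_gt h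
      have h2 : ¬ i < j := not_lt_of_gt h
      simp [h1, h1.symm, h, h2]
      ring
  set P := N + Nᵀ with hPdef
  have hPP : P * P⁻¹ = 1 := Matrix.mul_nonsing_inv P hP
  set η : Matrix ι ι A := -(P⁻¹ * β) with hη
  have hηπ : η.map π = 0 := by
    have : η.map π = -((P⁻¹ * β).map π) := by
      rw [hη]; ext i j; simp only [Matrix.map_apply, Matrix.neg_apply, map_neg]
    rw [this, Matrix.map_mul, hβπ, Matrix.mul_zero, neg_zero]
  have hηTπ : ηᵀ.map π = 0 := by
    rw [Matrix.transpose_map, hηπ, Matrix.transpose_zero]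
  refine ⟨g₀ * (1 + η), ?_, ?_, ?_⟩
  · -- unit determinant
    have h1 : (g₀ * (1 + η)).map π = g' := by
      rw [Matrix.map_mul, hg₀, Matrix.map_add _ (fun _ _ => map_add _ _ _), hηπ, add_zero]
      have : (1 : Matrix ι ι A).map π = 1 := Matrix.map_one _ (map_zero _) (map_one _)
      rw [this, Matrix.mul_one]
    have h2 : π (g₀ * (1 + η)).det = g'.det := by
      rw [RingHom.map_det]
      congr 1
    rw [← IsNilpotent.isUnit_quotient_mk_iff (I := I) ⟨2, hI⟩]
    rw [← hπ, h2]
    exact hdet
  · -- the quadratic form is preserved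
    have hexp : (g₀ * (1 + η))ᵀ * N * (g₀ * (1 + η)) = M + ηᵀ * M + M * η + ηᵀ * M * η := by
      rw [Matrix.transpose_mul, Matrix.transpose_add, Matrix.transpose_one, hM]
      noncomm_ring
    have h0 : ηᵀ * M * η = 0 := by
      apply mul_eq_zero_of_map_eq_zero I hI _ _ _ hηπ
      rw [Matrix.map_mul, hηTπ, Matrix.zero_mul]
    have hS : (δ + δᵀ).map π = 0 := by
      ext i j
      have := hpolI i j
      simpa using this
    have h1 : (M + Mᵀ) * η = -β := by
      have e1 : M + Mᵀ = P + (δ + δᵀ) := by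
        rw [hδ, hPdef, Matrix.transpose_sub]; abel
      rw [e1, Matrix.add_mul, mul_eq_zero_of_map_eq_zero I hI _ _ hS hηπ, add_zero, hη,
        Matrix.mul_neg, ← Matrix.mul_assoc, hPP, Matrix.one_mul]
    -- `ηᵀ M ~ Mᵀ η`
    have h2 : QEq (ηᵀ * M) (Mᵀ * η) := by
      have := QEq.transpose_self (Mᵀ * η)
      rwa [Matrix.transpose_mul, Matrix.transpose_transpose] at this
    rw [hexp, h0, add_zero]
    have h3 : QEq (M + ηᵀ * M + M * η) (M + Mᵀ * η + M * η) :=
      ((QEq.refl M).add h2).add (QEq.refl _)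
    refine h3.trans ?_
    have e2 : M + Mᵀ * η + M * η = N + (δ - β) := by
      have : Mᵀ * η + M * η = (M + Mᵀ) * η := by rw [Matrix.add_mul]; abel
      rw [add_assoc, this, h1, hδ]; abel
    rw [e2]
    have h4 : QEq (δ - β) 0 := hβδ.symm.sub_zero
    have := (QEq.refl N).add h4
    rwa [add_zero] at this
  · rw [Matrix.map_mul, hg₀, Matrix.map_add _ (fun _ _ => map_add _ _ _), hηπ, add_zero]
    have : (1 : Matrix ι ι A).map π = 1 := Matrix.map_one _ (map_zero _) (map_one _)
    rw [this, Matrix.mul_one]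

end Helper25.QuadMat
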