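import Mathlib
import Groth.Agent.Lib.Helper25.OrthMem
import Groth.Agent.Lib.Helper25.OrthLift
import Groth.Agent.Lib.Helper25.OrthConv

/-!
# Infinitesimal lifting for the orthogonal group functors of regular matrix forms
-/

set_option autoImplicit false
set_option linter.unusedSectionVars false
set_option linter.unusedVariables false
universe u

namespace Helper25.GLsub

open Matrix Helper25.QuadMat

variable {R : Type u} [CommRing R] {ι : Type} [Fintype ι] [DecidableEq ι]

theorem map_algebraMap_quotient {A : Type*} [CommRing A] [Algebra R A] (I : Ideal A)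
    (N : Matrix ι ι R) :
    N.map (algebraMap R (A ⧸ I)) = (N.map (algebraMap R A)).map (Ideal.Quotient.mk I) := by
  ext i j
  rfl

theorem isUnit_det_polar_map {A : Type*} [CommRing A] [Algebra R A] (N : Matrix ι ι R)
    (hP : IsUnit (N + Nᵀ).det) :
    IsUnit (N.map (algebraMap R A) + (N.map (algebraMap R A))ᵀ).det := by
  have : N.map (algebraMap R A) + (N.map (algebraMap R A))ᵀ = (algebraMap R A).mapMatrix (N + Nᵀ) := by
    ext i j
    simp
  rw [this, ← RingHom.map_det]
  exact hP.map _

/-- The orthogonal group functor of a regular form has the infinitesimal lifting property. -/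
theorem lifting_orth [LinearOrder ι] (N : Matrix ι ι R) (hP : IsUnit (N + Nᵀ).det)
    (A : Type u) [CommRing A] [Algebra R A] (I : Ideal A) (hI : I ^ 2 = ⊥)
    (g' : Matrix ι ι (A ⧸ I)) (hg' : g' ∈ pts (orthRels N) (A ⧸ I)) :
    ∃ g ∈ pts (orthRels N) A, g.map (Ideal.Quotient.mk I) = g' := by
  rw [mem_pts_orthRels, map_algebraMap_quotient] at hg'
  obtain ⟨g, hg1, hg2, hg3⟩ := exists_lift_orth (N.map (algebraMap R A))
    (isUnit_det_polar_map N hP) I hI g' hg'.1 hg'.2
  exact ⟨g, (mem_pts_orthRels N g).mpr ⟨hg1, hg2⟩, hg3⟩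

/-- Isometries of a regular form have determinant of square one. -/
theorem det_sq_eq_one_of_regular {A : Type*} [CommRing A] (N : Matrix ι ι A)
    (hP : IsUnit (N + Nᵀ).det) (g : Matrix ι ι A) (hg : QEq (gᵀ * N * g) N) : g.det ^ 2 = 1 := by
  have h1 : gᵀ * (N + Nᵀ) * g = N + Nᵀ := by
    ext i j
    have := hg.polar i j
    have e : (gᵀ * (N + Nᵀ) * g) i j = (gᵀ * N * g) i j + (gᵀ * N * g) j i := by
      have : gᵀ * (N + Nᵀ) * g = gᵀ * N * g + (gᵀ * N * g)ᵀ := by
        rw [Matrix.transpose_mul, Matrix.transpose_mul, Matrix.transpose_transpose,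
          Matrix.mul_add, Matrix.add_mul, Matrix.mul_assoc gᵀ Nᵀ g]
      rw [this]; rfl
    rw [e, this]; rfl
  have h2 := congrArg Matrix.det h1
  rw [Matrix.det_mul, Matrix.det_mul, Matrix.det_transpose] at h2
  have h3 : (g.det ^ 2 - 1) * (N + Nᵀ).det = 0 := by linear_combination h2
  exact sub_eq_zero.mp (hP.mul_left_eq_zero.mp h3)

/-- With `2` invertible, the naive special orthogonal group functor of a regular form has the
infinitesimal lifting property. -/
theorem lifting_sorth_of_two [LinearOrder ι] (N : Matrix ι ι R) (hP : IsUnit (N + Nᵀ).det)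
    (h2 : IsUnit (2 : R))
    (A : Type u) [CommRing A] [Algebra R A] (I : Ideal A) (hI : I ^ 2 = ⊥)
    (g' : Matrix ι ι (A ⧸ I)) (hg' : g' ∈ pts (sorthRels N) (A ⧸ I)) :
    ∃ g ∈ pts (sorthRels N) A, g.map (Ideal.Quotient.mk I) = g' := by
  rw [mem_pts_sorthRels] at hg'
  obtain ⟨g, hg, hgg'⟩ := lifting_orth N hP A I hI g' hg'.1
  refine ⟨g, (mem_pts_sorthRels N g).mpr ⟨hg, ?_⟩, hgg'⟩
  have hd2 : g.det ^ 2 = 1 :=
    det_sq_eq_one_of_regular _ (isUnit_det_polar_map N hP) g ((mem_pts_orthRels N g).mp hg).2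
  have hdπ : Ideal.Quotient.mk I g.det = 1 := by
    rw [RingHom.map_det]
    have : (Ideal.Quotient.mk I).mapMatrix g = g' := hgg'
    rw [this, hg'.2]
  have hmem : g.det - 1 ∈ I := by
    rw [← Ideal.Quotient.eq_zero_iff_mem, map_sub, hdπ, map_one, sub_self]
  have hsq : (g.det - 1) * (g.det - 1) = 0 := by
    have : (g.det - 1) * (g.det - 1) ∈ I ^ 2 := by
      rw [pow_two]; exact Ideal.mul_mem_mul hmem hmem
    rwa [hI, Ideal.mem_bot] at this
  have h2A : IsUnit (2 : A) := by
    have := h2.map (algebraMap R A)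
    rwa [map_ofNat] at this
  have : 2 * (g.det - 1) = 0 := by linear_combination hd2 - hsq
  exact sub_eq_zero.mp (h2A.mul_right_eq_zero.mp this)

end Helper25.GLsub
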