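import Groth.Agent.Lib.Helper25.SepDeriv
import Groth.Agent.Lib.Helper25.CliffPolyRep
import Groth.Agent.Lib.Helper25.CliffAz
import Groth.Agent.Lib.Helper25.CliffDickson
import Groth.Agent.Lib.Helper25.OrthSmooth
import Groth.Agent.Lib.Helper25.OrthMem
import Groth.Agent.Lib.Helper47.CliffTau

/-!
# Infinitesimal lifting for the Clifford group
-/

set_option autoImplicit false
set_option linter.unusedSectionVars false
set_option linter.unusedVariables false
set_option linter.unusedSimpArgs false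
set_option linter.style.haveILetI false
set_option linter.unreachableTactic false
set_option linter.unusedTactic false

universe u

namespace Helper25.GPinLift

open CliffordAlgebra QuadGrp Helper25.Cliff Helper25.CliffBCF
open scoped TensorProduct

section Ring

variable {C C' : Type*} [Ring C] [Ring C'] (F : C →+* C')

/-- A lift of a unit along a ring map with square-zero kernel is a unit. -/
theorem isUnit_of_map (hF : Function.Surjective F)
    (hker : ∀ x y, F x = 0 → F y = 0 → x * y = 0) (x : C) (hx : IsUnit (F x)) : IsUnit x := by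
  obtain ⟨t', ht'⟩ := hx
  obtain ⟨w, hw⟩ := hF (↑t'⁻¹ : C')
  have h1 : F (x * w - 1) = 0 := by rw [map_sub, map_mul, hw, ← ht', Units.mul_inv, map_one, sub_self]
  have h2 : F (w * x - 1) = 0 := by rw [map_sub, map_mul, hw, ← ht', Units.inv_mul, map_one, sub_self]
  have e1 : x * (w * (1 - (x * w - 1))) = 1 := by
    have := hker _ _ h1 h1
    have e : x * (w * (1 - (x * w - 1))) = 1 - (x * w - 1) * (x * w - 1) := by noncomm_ring
    rw [e, this, sub_zero]
  have e2 : ((1 - (w * x - 1)) * w) * x = 1 := by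
    have := hker _ _ h2 h2
    have e : ((1 - (w * x - 1)) * w) * x = 1 - (w * x - 1) * (w * x - 1) := by noncomm_ring
    rw [e, this, sub_zero]
  exact isUnit_iff_exists.mpr ⟨w * (1 - (x * w - 1)), e1, by
    have : (1 - (w * x - 1)) * w = w * (1 - (x * w - 1)) := by
      calc (1 - (w * x - 1)) * w = (1 - (w * x - 1)) * w * (x * (w * (1 - (x * w - 1)))) := by
            rw [e1, mul_one]
        _ = ((1 - (w * x - 1)) * w * x) * (w * (1 - (x * w - 1))) := by noncomm_ring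
        _ = w * (1 - (x * w - 1)) := by rw [e2, one_mul]
    rw [← this, e2]⟩

variable {A : Type*} [CommRing A] [Algebra A C]

/-- An algebra endomorphism congruent to the identity modulo a square-zero ideal is, on an Azumaya
algebra mapping to the algebra, conjugation by an element `1 + y` with `y` in the ideal. -/
theorem exists_conj_of_endo (hker : ∀ x y, F x = 0 → F y = 0 → x * y = 0)
    {C₀ : Type*} [Ring C₀] [Algebra A C₀] [IsAzumaya A C₀] (ε : C₀ →ₗ[A] A) (hε : ε 1 = 1)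
    (ψ : C₀ →ₐ[A] C) (Φ : C →ₐ[A] C) (hΦ : ∀ x, F (Φ x) = F x) (N₀ : AddSubgroup C)
    (hN₀ : ∀ a b, (Φ (ψ a) - ψ a) * ψ b ∈ N₀) :
    ∃ y ∈ N₀, F y = 0 ∧ ∀ c, Φ (ψ c) = (1 + y) * ψ c * (1 - y) := by
  let D : C₀ →ₗ[A] C := (Φ.toLinearMap - LinearMap.id) ∘ₗ ψ.toLinearMap
  have hDapp : ∀ a, D a = Φ (ψ a) - ψ a := fun a => rfl
  have hFD : ∀ a, F (D a) = 0 := fun a => by rw [hDapp, map_sub, hΦ, sub_self]
  have hD : ∀ a b, D (a * b) = D a * ψ b + ψ a * D b := by
    intro a b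
    have h0 := hker _ _ (hFD a) (hFD b)
    rw [hDapp, hDapp] at h0
    rw [hDapp, hDapp, hDapp, map_mul, map_mul]
    have e : Φ (ψ a) * Φ (ψ b) - ψ a * ψ b = (Φ (ψ a) - ψ a) * ψ b + ψ a * (Φ (ψ b) - ψ b) +
        (Φ (ψ a) - ψ a) * (Φ (ψ b) - ψ b) := by noncomm_ring
    rw [e, h0, add_zero]
  let N : AddSubgroup C := N₀ ⊓ (F : C →+ C').ker
  have hN : ∀ a b, D a * ψ b ∈ N := by
    intro a b
    refine ⟨hN₀ a b, ?_⟩
    show F (D a * ψ b) = 0
    rw [map_mul, hFD, zero_mul]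
  obtain ⟨y, hy, hyD⟩ := Helper25.SepDeriv.exists_inner ψ D hD ε hε N hN
  have hFy : F y = 0 := hy.2
  refine ⟨y, hy.1, hFy, fun c => ?_⟩
  have h1 : y * ψ c * y = 0 := hker _ _ (by rw [map_mul, hFy, zero_mul]) hFy
  have h2 := hyD c
  rw [hDapp] at h2
  have e : (1 + y) * ψ c * (1 - y) = ψ c + (y * ψ c - ψ c * y) - y * ψ c * y := by noncomm_ring
  rw [e, h1, sub_zero, ← h2]
  abel

end Ring

section Lift

variable {R : Type u} [CommRing R] {M : Type u} [AddCommGroup M] [Module R M]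
  [Module.Free R M] [Module.Finite R M] (Q : QuadraticForm R M)
  {A A' : Type u} [CommRing A] [Algebra R A] [CommRing A'] [Algebra R A']

theorem Fcan_map (φ : A →ₐ[R] A') (g : (A ⊗[R] M) ≃ₗ[A] (A ⊗[R] M))
    (hg : g ∈ QuadGrp.O (baseChangeForm A Q))
    (g' : (A' ⊗[R] M) ≃ₗ[A'] (A' ⊗[R] M)) (hg' : g' ∈ QuadGrp.O (baseChangeForm A' Q))
    (hc : ∀ v, g' (LinearMap.rTensor M φ.toLinearMap v) = LinearMap.rTensor M φ.toLinearMap (g v))
    (x : CliffordAlgebra (baseChangeForm A Q)) :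
    Fcan Q φ (CliffordAlgebra.map (isometryOfMem _ g hg) x) =
      CliffordAlgebra.map (isometryOfMem _ g' hg') (Fcan Q φ x) := by
  induction x using CliffordAlgebra.induction with
  | algebraMap a => rw [AlgHom.commutes, Fcan_algebraMap, AlgHom.commutes]
  | ι v =>
    rw [CliffordAlgebra.map_apply_ι, Fcan_ι, Fcan_ι, CliffordAlgebra.map_apply_ι,
      isometryOfMem_apply, isometryOfMem_apply, hc]
  | mul x y hx hy => rw [map_mul, map_mul, hx, hy, map_mul, map_mul]
  | add x y hx hy => rw [map_add, map_add, hx, hy, map_add, map_add]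

/-- The retraction of the structure map of a Clifford algebra of a free module. -/
noncomputable def eps {A : Type*} [CommRing A] {V : Type*} [AddCommGroup V] [Module A V]
    [Module.Free A V] (Q' : QuadraticForm A V) : CliffordAlgebra Q' →ₗ[A] A :=
  (ExteriorAlgebra.algebraMapInv (R := A) (M := V)).toLinearMap ∘ₗ (toExterior Q').toLinearMap

theorem eps_one {A : Type*} [CommRing A] {V : Type*} [AddCommGroup V] [Module A V]
    [Module.Free A V] (Q' : QuadraticForm A V) : eps Q' 1 = 1 := by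
  simp [eps]

theorem Fcan_ker_sq (φ : A →ₐ[R] A') (hker : ∀ a b : A, φ a = 0 → φ b = 0 → a * b = 0)
    (x y : CliffordAlgebra (baseChangeForm A Q)) (hx : Fcan Q φ x = 0) (hy : Fcan Q φ y = 0) :
    x * y = 0 := mul_eq_zero_of_Fcan_eq_zero Q φ hker x y hx hy

/-- A unit of `C(Q_A')` lifts to a unit of `C(Q_A)`. -/
theorem exists_unit_lift (φ : A →ₐ[R] A') (hφ : Function.Surjective φ)
    (hker : ∀ a b : A, φ a = 0 → φ b = 0 → a * b = 0)
    (x : CliffordAlgebra (baseChangeForm A Q)) (t' : (CliffordAlgebra (baseChangeForm A' Q))ˣ)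
    (hx : Fcan Q φ x = t') :
    ∃ t : (CliffordAlgebra (baseChangeForm A Q))ˣ, (t : CliffordAlgebra _) = x ∧
      Fcan Q φ (↑t⁻¹ : CliffordAlgebra _) = ↑t'⁻¹ := by
  have hu : IsUnit x := isUnit_of_map (Fcan Q φ) (Fcan_surjective Q φ hφ)
    (Fcan_ker_sq Q φ hker) x (by rw [hx]; exact t'.isUnit)
  obtain ⟨t, ht⟩ := hu
  refine ⟨t, ht, ?_⟩
  have h1 : Fcan Q φ (↑t⁻¹ : CliffordAlgebra _) * t' = 1 := by
    rw [← hx, ← ht, ← map_mul, Units.inv_mul, map_one]
  calc Fcan Q φ (↑t⁻¹ : CliffordAlgebra _)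
      = Fcan Q φ (↑t⁻¹ : CliffordAlgebra _) * t' * ↑t'⁻¹ := by
        rw [mul_assoc, Units.mul_inv, mul_one]
    _ = ↑t'⁻¹ := by rw [h1, one_mul]

/-- Lifting a unit inducing an isometry `g'` to a unit inducing a given lift `g` of `g'`, when the
Clifford algebra is Azumaya (even rank). -/
theorem exists_lift_conj_even [IsAzumaya A (CliffordAlgebra (baseChangeForm A Q))]
    (φ : A →ₐ[R] A') (hφ : Function.Surjective φ)
    (hker : ∀ a b : A, φ a = 0 → φ b = 0 → a * b = 0)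
    (g : (A ⊗[R] M) ≃ₗ[A] (A ⊗[R] M)) (hg : g ∈ QuadGrp.O (baseChangeForm A Q))
    (g' : (A' ⊗[R] M) ≃ₗ[A'] (A' ⊗[R] M)) (hg' : g' ∈ QuadGrp.O (baseChangeForm A' Q))
    (hc : ∀ v, g' (LinearMap.rTensor M φ.toLinearMap v) = LinearMap.rTensor M φ.toLinearMap (g v))
    (t' : (CliffordAlgebra (baseChangeForm A' Q))ˣ)
    (ht' : ∀ v, (t' : CliffordAlgebra (baseChangeForm A' Q)) * ι _ v *
      (↑t'⁻¹ : CliffordAlgebra (baseChangeForm A' Q)) = ι _ (g' v)) :
    ∃ t : (CliffordAlgebra (baseChangeForm A Q))ˣ,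
      Fcan Q φ (t : CliffordAlgebra (baseChangeForm A Q)) = t' ∧
      ∀ v, (t : CliffordAlgebra (baseChangeForm A Q)) * ι _ v *
        (↑t⁻¹ : CliffordAlgebra (baseChangeForm A Q)) = ι _ (g v) := by
  obtain ⟨x₀, hx₀⟩ := Fcan_surjective Q φ hφ (t' : CliffordAlgebra _)
  obtain ⟨u₀, hu₀, hu₀inv⟩ := exists_unit_lift Q φ hφ hker x₀ t' hx₀
  have hFu₀ : Fcan Q φ (u₀ : CliffordAlgebra _) = t' := by rw [hu₀, hx₀]
  let Φ : CliffordAlgebra (baseChangeForm A Q) →ₐ[A] CliffordAlgebra (baseChangeForm A Q) :=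
    (conjHom _ u₀⁻¹).comp (CliffordAlgebra.map (isometryOfMem _ g hg))
  have hΦapp : ∀ x, Φ x = (↑u₀⁻¹ : CliffordAlgebra (baseChangeForm A Q)) *
      CliffordAlgebra.map (isometryOfMem _ g hg) x *
      (u₀ : CliffordAlgebra (baseChangeForm A Q)) := fun x => by
    show conjHom _ u₀⁻¹ _ = _
    rw [conjHom_apply, inv_inv]
    rfl
  have hΦ : ∀ x, Fcan Q φ (Φ x) = Fcan Q φ x := fun x => by
    rw [hΦapp, map_mul, map_mul, hu₀inv, hFu₀, Fcan_map Q φ g hg g' hg' hc,
      map_eq_conj _ t' g' hg' ht']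
    simp only [← mul_assoc, Units.inv_mul, one_mul]
    rw [mul_assoc, Units.inv_mul, mul_one]
  obtain ⟨y, -, hFy, hy⟩ := exists_conj_of_endo (Fcan Q φ) (Fcan_ker_sq Q φ hker)
    (eps (baseChangeForm A Q)) (eps_one _) (AlgHom.id A _) Φ hΦ ⊤ (fun _ _ => trivial)
  have hyy : y * y = 0 := Fcan_ker_sq Q φ hker y y hFy hFy
  have h1 : (1 + y) * (1 - y) = 1 := by
    have : (1 + y) * (1 - y) = 1 - y * y := by noncomm_ring
    rw [this, hyy, sub_zero]
  have h2 : (1 - y) * (1 + y) = 1 := by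
    have : (1 - y) * (1 + y) = 1 - y * y := by noncomm_ring
    rw [this, hyy, sub_zero]
  let t : (CliffordAlgebra (baseChangeForm A Q))ˣ := u₀ * ⟨1 + y, 1 - y, h1, h2⟩
  have htval : (t : CliffordAlgebra (baseChangeForm A Q)) =
      (u₀ : CliffordAlgebra (baseChangeForm A Q)) * (1 + y) := rfl
  have htinv : (↑t⁻¹ : CliffordAlgebra (baseChangeForm A Q)) =
      (1 - y) * (↑u₀⁻¹ : CliffordAlgebra (baseChangeForm A Q)) := by
    show ((u₀ * ⟨1 + y, 1 - y, h1, h2⟩)⁻¹ : (CliffordAlgebra (baseChangeForm A Q))ˣ).val = _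
    rw [mul_inv_rev]
    rfl
  refine ⟨t, ?_, fun v => ?_⟩
  · rw [htval, map_mul, map_add, map_one, hFy, add_zero, mul_one, hFu₀]
  · have h3 := hy (ι _ v)
    rw [AlgHom.id_apply, hΦapp, CliffordAlgebra.map_apply_ι, isometryOfMem_apply] at h3
    rw [htval, htinv]
    calc (u₀ : CliffordAlgebra (baseChangeForm A Q)) * (1 + y) * ι _ v *
          ((1 - y) * (↑u₀⁻¹ : CliffordAlgebra (baseChangeForm A Q)))
        = (u₀ : CliffordAlgebra (baseChangeForm A Q)) * ((1 + y) * ι _ v * (1 - y)) *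
          (↑u₀⁻¹ : CliffordAlgebra (baseChangeForm A Q)) := by noncomm_ring
      _ = ι _ (g v) := by
        rw [← h3]
        simp only [← mul_assoc, Units.mul_inv, one_mul]
        rw [mul_assoc, Units.mul_inv, mul_one]

end Lift

end Helper25.GPinLift
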