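import Groth.Agent.Lib.Helper25.GPinEven

/-!
# Infinitesimal lifting for the Clifford group in odd rank
-/

set_option autoImplicit false
set_option linter.unusedSectionVars false
set_option linter.unusedVariables false
set_option linter.unusedSimpArgs false
set_option linter.style.haveILetI false
set_option linter.unreachableTactic false
set_option linter.unusedTactic false

universe u

namespace Helper25.GPinLift

open CliffordAlgebra QuadGrp Helper25.Cliff Helper25.CliffBCF Helper25.GLsub Helper25.QuadMat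
open scoped TensorProduct

section Parity

variable {R : Type*} [CommRing R] {M : Type*} [AddCommGroup M] [Module R M]
  (Q : QuadraticForm R M)

theorem map_mem_even {M₂ : Type*} [AddCommGroup M₂] [Module R M₂] {Q₂ : QuadraticForm R M₂}
    (f : Q →qᵢ Q₂) (x : CliffordAlgebra Q) (hx : x ∈ evenOdd Q 0) :
    CliffordAlgebra.map f x ∈ evenOdd Q₂ 0 := by
  induction x, hx using CliffordAlgebra.even_induction with
  | algebraMap r => rw [AlgHom.commutes]; exact SetLike.algebraMap_mem_graded _ _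
  | add x y hx hy ihx ihy => rw [map_add]; exact Submodule.add_mem _ ihx ihy
  | ι_mul_ι_mul m₁ m₂ x hx ih =>
    rw [map_mul, map_mul, CliffordAlgebra.map_apply_ι, CliffordAlgebra.map_apply_ι]
    have := SetLike.mul_mem_graded (ι_mul_ι_mem_evenOdd_zero Q₂ (f m₁) (f m₂)) ih
    rwa [zero_add] at this

theorem map_mem_odd {M₂ : Type*} [AddCommGroup M₂] [Module R M₂] {Q₂ : QuadraticForm R M₂}
    (f : Q →qᵢ Q₂) (x : CliffordAlgebra Q) (hx : x ∈ evenOdd Q 1) :
    CliffordAlgebra.map f x ∈ evenOdd Q₂ 1 := by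
  induction x, hx using CliffordAlgebra.odd_induction with
  | ι v => rw [CliffordAlgebra.map_apply_ι]; exact ι_mem_evenOdd_one _ _
  | add x y hx hy ihx ihy => rw [map_add]; exact Submodule.add_mem _ ihx ihy
  | ι_mul_ι_mul m₁ m₂ x hx ih =>
    rw [map_mul, map_mul, CliffordAlgebra.map_apply_ι, CliffordAlgebra.map_apply_ι]
    have := SetLike.mul_mem_graded (ι_mul_ι_mem_evenOdd_zero Q₂ (f m₁) (f m₂)) ih
    rwa [zero_add] at this

/-- Conjugation by a locally homogeneous unit preserves the grading. -/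
theorem conj_mem_evenOdd (w : (CliffordAlgebra Q)ˣ) (e : R) (he : IsIdempotentElem e)
    (h0 : e • (w : CliffordAlgebra Q) ∈ evenOdd Q 0)
    (h1 : (1 - e) • (w : CliffordAlgebra Q) ∈ evenOdd Q 1) (i : ZMod 2)
    (x : CliffordAlgebra Q) (hx : x ∈ evenOdd Q i) :
    (w : CliffordAlgebra Q) * x * (↑w⁻¹ : CliffordAlgebra Q) ∈ evenOdd Q i := by
  obtain ⟨k0, k1⟩ := QuadGrp.isLocHomog_inv_aux Q w e h0 h1
  have hee : e * e = e := he
  have hff : (1 - e) * (1 - e) = 1 - e := by linear_combination hee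
  have hsplit : (w : CliffordAlgebra Q) * x * (↑w⁻¹ : CliffordAlgebra Q) =
      (e • (w : CliffordAlgebra Q)) * x * (e • (↑w⁻¹ : CliffordAlgebra Q)) +
      ((1 - e) • (w : CliffordAlgebra Q)) * x * ((1 - e) • (↑w⁻¹ : CliffordAlgebra Q)) := by
    rw [smul_mul_assoc, smul_mul_assoc, mul_smul_comm, smul_smul, hee,
      smul_mul_assoc, smul_mul_assoc, mul_smul_comm, smul_smul, hff, ← add_smul]
    simp
  rw [hsplit]
  refine Submodule.add_mem _ ?_ ?_
  · have := SetLike.mul_mem_graded (SetLike.mul_mem_graded h0 hx) k0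
    rwa [zero_add, add_zero] at this
  · have := SetLike.mul_mem_graded (SetLike.mul_mem_graded h1 hx) k1
    have e1 : (1 : ZMod 2) + i + 1 = i := by
      fin_cases i <;> rfl
    rwa [e1] at this

end Parity

section OddCenter

variable {A : Type*} [CommRing A] {V : Type*} [AddCommGroup V] [Module A V]
  (Q' : QuadraticForm A V)

/-- In the presence of enough odd central elements, an element commuting with the even subalgebra
is central. -/
theorem mem_center_of_commute_even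
    (hF2 : (1 : CliffordAlgebra Q') ∈ oddCenter Q' * oddCenter Q') (ζ : CliffordAlgebra Q')
    (hζ : ∀ c ∈ evenOdd Q' 0, ζ * c = c * ζ) : ζ ∈ Subalgebra.center A (CliffordAlgebra Q') := by
  obtain ⟨n, l, l', hl, hl', hsum⟩ := exists_sum_of_mem_mul hF2
  rw [Subalgebra.mem_center_iff]
  intro x
  have hodd : ∀ x₁ ∈ evenOdd Q' 1, x₁ * ζ = ζ * x₁ := by
    intro x₁ hx₁
    have hx : x₁ = ∑ k, (x₁ * l k) * l' k := by
      conv_lhs => rw [← mul_one x₁, hsum, Finset.mul_sum]
      simp only [mul_assoc]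
    have hev : ∀ k, x₁ * l k ∈ evenOdd Q' 0 := fun k => odd_mul_odd_mem_even Q' hx₁ (hl k).2
    have hcen : ∀ k b, b * l' k = l' k * b := fun k =>
      (Subalgebra.mem_center_iff (R := A)).mp (hl' k).1
    calc x₁ * ζ = ∑ k, (x₁ * l k) * l' k * ζ := by rw [← Finset.sum_mul, ← hx]
      _ = ∑ k, ζ * ((x₁ * l k) * l' k) := by
        refine Finset.sum_congr rfl fun k _ => ?_
        rw [mul_assoc, ← hcen k ζ, ← mul_assoc, ← hζ _ (hev k), mul_assoc]
      _ = ζ * x₁ := by rw [← Finset.mul_sum, ← hx]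
  rw [← pE_add_pO Q' x, add_mul, mul_add, hζ _ (pE_mem Q' x), hodd _ (pO_mem Q' x)]

/-- An algebra endomorphism preserving the grading and fixing the even subalgebra acts on the odd
part by a scalar, in odd rank. -/
theorem exists_scalar_of_fix_even
    (hF1 : ∀ z, z ∈ Subalgebra.center A (CliffordAlgebra Q') → z ∈ evenOdd Q' 0 →
        z ∈ (algebraMap A (CliffordAlgebra Q')).range)
    (hF2 : (1 : CliffordAlgebra Q') ∈ oddCenter Q' * oddCenter Q')
    (Θ : CliffordAlgebra Q' →ₐ[A] CliffordAlgebra Q')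
    (hpar : ∀ x ∈ evenOdd Q' 1, Θ x ∈ evenOdd Q' 1)
    (hfix : ∀ c ∈ evenOdd Q' 0, Θ c = c) :
    ∃ a : A, ∀ x ∈ evenOdd Q' 1, Θ x = a • x := by
  obtain ⟨n, l, l', hl, hl', hsum⟩ := exists_sum_of_mem_mul hF2
  have hΘcen : ∀ k, Θ (l' k) ∈ Subalgebra.center A (CliffordAlgebra Q') := by
    intro k
    apply mem_center_of_commute_even Q' hF2
    intro c hc
    have hcen := (Subalgebra.mem_center_iff (R := A)).mp (hl' k).1 c
    calc Θ (l' k) * c = Θ (l' k) * Θ c := by rw [hfix c hc]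
      _ = Θ (l' k * c) := by rw [map_mul]
      _ = Θ (c * l' k) := by rw [hcen]
      _ = c * Θ (l' k) := by rw [map_mul, hfix c hc]
  have hsc : ∀ k, ∃ a : A, algebraMap A (CliffordAlgebra Q') a = l k * Θ (l' k) := by
    intro k
    obtain ⟨a, ha⟩ := hF1 (l k * Θ (l' k)) (Subalgebra.mul_mem _ (hl k).1 (hΘcen k))
      (odd_mul_odd_mem_even Q' (hl k).2 (hpar _ (hl' k).2))
    exact ⟨a, ha⟩
  choose a ha using hsc
  refine ⟨∑ k, a k, fun x hx => ?_⟩
  have hxs : x = ∑ k, (x * l k) * l' k := by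
    conv_lhs => rw [← mul_one x, hsum, Finset.mul_sum]
    simp only [mul_assoc]
  have hev : ∀ k, x * l k ∈ evenOdd Q' 0 := fun k => odd_mul_odd_mem_even Q' hx (hl k).2
  calc Θ x = ∑ k, Θ ((x * l k) * l' k) := by
        conv_lhs => rw [hxs]
        rw [map_sum]
    _ = ∑ k, x * (l k * Θ (l' k)) := by
        refine Finset.sum_congr rfl fun k _ => ?_
        rw [map_mul, hfix _ (hev k), mul_assoc]
    _ = ∑ k, a k • x := by
        refine Finset.sum_congr rfl fun k _ => ?_
        rw [← ha k, ← Algebra.commutes, ← Algebra.smul_def]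
    _ = (∑ k, a k) • x := by rw [Finset.sum_smul]

end OddCenter

section OddLift

variable {R : Type u} [CommRing R] {M : Type u} [AddCommGroup M] [Module R M]
  [Module.Free R M] [Module.Finite R M] (Q : QuadraticForm R M)
  {A A' : Type u} [CommRing A] [Algebra R A] [CommRing A'] [Algebra R A']

local notation "CA" => CliffordAlgebra (baseChangeForm A Q)
local notation "CA'" => CliffordAlgebra (baseChangeForm A' Q)

theorem Fcan_inv (φ : A →ₐ[R] A') (t : CAˣ) (t' : CA'ˣ) (h : Fcan Q φ (t : CA) = (t' : CA')) :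
    Fcan Q φ (↑t⁻¹ : CA) = (↑t'⁻¹ : CA') := by
  have h1 : Fcan Q φ (↑t⁻¹ : CA) * (t' : CA') = 1 := by
    rw [← h, ← map_mul, Units.inv_mul, map_one]
  calc Fcan Q φ (↑t⁻¹ : CA) = Fcan Q φ (↑t⁻¹ : CA) * (t' : CA') * (↑t'⁻¹ : CA') := by
        rw [mul_assoc, Units.mul_inv, mul_one]
    _ = (↑t'⁻¹ : CA') := by rw [h1, one_mul]

/-- Lifting a locally homogeneous unit inducing an isometry `g'` to a locally homogeneous unit
inducing a scalar multiple of a given lift `g` of `g'`, in odd rank. -/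
theorem exists_lift_conj_odd [IsAzumaya A ↥(even (baseChangeForm A Q))]
    (hF1 : ∀ z, z ∈ Subalgebra.center A CA → z ∈ evenOdd (baseChangeForm A Q) 0 →
        z ∈ (algebraMap A CA).range)
    (hF2 : (1 : CA) ∈ oddCenter (baseChangeForm A Q) * oddCenter (baseChangeForm A Q))
    (φ : A →ₐ[R] A') (hφ : Function.Surjective φ)
    (hker : ∀ a b : A, φ a = 0 → φ b = 0 → a * b = 0)
    (hfaith : ∀ b : A', (∀ v : A' ⊗[R] M, b • v = 0) → b = 0)
    (g : (A ⊗[R] M) ≃ₗ[A] (A ⊗[R] M)) (hg : g ∈ QuadGrp.O (baseChangeForm A Q))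
    (g' : (A' ⊗[R] M) ≃ₗ[A'] (A' ⊗[R] M)) (hg' : g' ∈ QuadGrp.O (baseChangeForm A' Q))
    (hc : ∀ v, g' (LinearMap.rTensor M φ.toLinearMap v) = LinearMap.rTensor M φ.toLinearMap (g v))
    (t' : CA'ˣ) (ht' : ∀ v, (t' : CA') * ι _ v * (↑t'⁻¹ : CA') = ι _ (g' v))
    (e' : A') (he' : IsIdempotentElem e')
    (h0' : e' • (t' : CA') ∈ evenOdd (baseChangeForm A' Q) 0)
    (h1' : (1 - e') • (t' : CA') ∈ evenOdd (baseChangeForm A' Q) 1) :
    ∃ (t : CAˣ) (a a' : A), a * a' = 1 ∧ Fcan Q φ (t : CA) = (t' : CA') ∧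
      (∀ v, (t : CA) * ι _ v * (↑t⁻¹ : CA) = a' • ι _ (g v)) ∧
      (∀ v, (↑t⁻¹ : CA) * ι _ (g v) * (t : CA) = a • ι _ v) ∧
      QuadGrp.IsLocHomog (baseChangeForm A Q) (t : CA) := by
  -- lift the idempotent
  obtain ⟨e, he, hee'⟩ := exists_isIdempotentElem_eq_of_ker_isNilpotent φ.toRingHom
    (fun x hx => ⟨2, by rw [pow_two]; exact hker x x hx hx⟩) e' (hφ e') he'
  have hee' : φ e = e' := hee'
  have hee : e * e = e := he
  have hff : (1 - e) * (1 - e) = 1 - e := by linear_combination hee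
  have hef : e * (1 - e) = 0 := by linear_combination -hee
  have hfe : (1 - e) * e = 0 := by linear_combination -hee
  -- lift the homogeneous components
  obtain ⟨p, hp, hFp⟩ := exists_even_lift Q φ hφ _ h0'
  obtain ⟨q, hq, hFq⟩ := exists_odd_lift Q φ hφ _ h1'
  have he'e' : e' * e' = e' := he'
  have hf'f' : (1 - e') * (1 - e') = 1 - e' := by linear_combination he'e'
  have hx₀ : Fcan Q φ (e • p + (1 - e) • q) = (t' : CA') := by
    rw [map_add, Fcan_smul, Fcan_smul, hFp, hFq, map_sub, map_one, hee', smul_smul, smul_smul,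
      he'e', hf'f', ← add_smul]
    simp
  obtain ⟨u₀, hu₀, hu₀inv⟩ := exists_unit_lift Q φ hφ hker _ t' hx₀
  have hFu₀ : Fcan Q φ (u₀ : CA) = (t' : CA') := by rw [hu₀, hx₀]
  have hu₀e : e • (u₀ : CA) ∈ evenOdd (baseChangeForm A Q) 0 := by
    rw [hu₀, smul_add, smul_smul, smul_smul, hee, hef, zero_smul, add_zero]
    exact Submodule.smul_mem _ _ hp
  have hu₀o : (1 - e) • (u₀ : CA) ∈ evenOdd (baseChangeForm A Q) 1 := by
    rw [hu₀, smul_add, smul_smul, smul_smul, hfe, hff, zero_smul, zero_add]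
    exact Submodule.smul_mem _ _ hq
  obtain ⟨hu₀ie, hu₀io⟩ := QuadGrp.isLocHomog_inv_aux _ u₀ e hu₀e hu₀o
  -- the endomorphism Φ
  let Φ : CA →ₐ[A] CA := (conjHom _ u₀⁻¹).comp (CliffordAlgebra.map (isometryOfMem _ g hg))
  have hΦapp : ∀ x, Φ x = (↑u₀⁻¹ : CA) * CliffordAlgebra.map (isometryOfMem _ g hg) x *
      (u₀ : CA) := fun x => by
    show conjHom _ u₀⁻¹ _ = _
    rw [conjHom_apply, inv_inv]
    rfl
  have hΦ : ∀ x, Fcan Q φ (Φ x) = Fcan Q φ x := fun x => by
    rw [hΦapp, map_mul, map_mul, hu₀inv, hFu₀, Fcan_map Q φ g hg g' hg' hc,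
      map_eq_conj _ t' g' hg' ht']
    simp only [← mul_assoc, Units.inv_mul, one_mul]
    rw [mul_assoc, Units.inv_mul, mul_one]
  have hmappar : ∀ (i : ZMod 2) (x : CA), x ∈ evenOdd (baseChangeForm A Q) i →
      CliffordAlgebra.map (isometryOfMem _ g hg) x ∈ evenOdd (baseChangeForm A Q) i := by
    intro i x hx
    fin_cases i
    · exact map_mem_even _ _ x hx
    · exact map_mem_odd _ _ x hx
  have hΦpar : ∀ (i : ZMod 2) (x : CA), x ∈ evenOdd (baseChangeForm A Q) i →
      Φ x ∈ evenOdd (baseChangeForm A Q) i := by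
    intro i x hx
    rw [hΦapp]
    have := conj_mem_evenOdd _ u₀⁻¹ e he hu₀ie hu₀io i _ (hmappar i x hx)
    rwa [inv_inv] at this
  -- make Φ inner on the even subalgebra
  obtain ⟨y, hy0, hFy, hy⟩ := exists_conj_of_endo (Fcan Q φ) (Fcan_ker_sq Q φ hker)
    ((eps (baseChangeForm A Q)) ∘ₗ (even (baseChangeForm A Q)).val.toLinearMap)
    (by simp [eps_one]) (even (baseChangeForm A Q)).val Φ hΦ
    (evenOdd (baseChangeForm A Q) 0).toAddSubgroup (fun a b => by
      show _ ∈ evenOdd (baseChangeForm A Q) 0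
      have h1 : Φ (a : CA) - (a : CA) ∈ evenOdd (baseChangeForm A Q) 0 :=
        Submodule.sub_mem _ (hΦpar 0 _ a.2) a.2
      have := SetLike.mul_mem_graded h1 b.2
      rwa [zero_add] at this)
  have hy0 : y ∈ evenOdd (baseChangeForm A Q) 0 := hy0
  have hyy : y * y = 0 := Fcan_ker_sq Q φ hker y y hFy hFy
  have h1 : (1 + y) * (1 - y) = 1 := by
    have : (1 + y) * (1 - y) = 1 - y * y := by noncomm_ring
    rw [this, hyy, sub_zero]
  have h2 : (1 - y) * (1 + y) = 1 := by
    have : (1 - y) * (1 + y) = 1 - y * y := by noncomm_ring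
    rw [this, hyy, sub_zero]
  let t : CAˣ := u₀ * ⟨1 + y, 1 - y, h1, h2⟩
  have htval : (t : CA) = (u₀ : CA) * (1 + y) := rfl
  have htinv : (↑t⁻¹ : CA) = (1 - y) * (↑u₀⁻¹ : CA) := by
    show ((u₀ * ⟨1 + y, 1 - y, h1, h2⟩)⁻¹ : CAˣ).val = _
    rw [mul_inv_rev]
    rfl
  have hFt : Fcan Q φ (t : CA) = (t' : CA') := by
    rw [htval, map_mul, map_add, map_one, hFy, add_zero, mul_one, hFu₀]
  have h1y : (1 + y) ∈ evenOdd (baseChangeForm A Q) 0 :=
    Submodule.add_mem _ (SetLike.one_mem_graded _) hy0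
  have hte : e • (t : CA) ∈ evenOdd (baseChangeForm A Q) 0 := by
    rw [htval, ← smul_mul_assoc]
    have := SetLike.mul_mem_graded hu₀e h1y
    rwa [zero_add] at this
  have hto : (1 - e) • (t : CA) ∈ evenOdd (baseChangeForm A Q) 1 := by
    rw [htval, ← smul_mul_assoc]
    have := SetLike.mul_mem_graded hu₀o h1y
    rwa [add_zero] at this
  obtain ⟨htie, htio⟩ := QuadGrp.isLocHomog_inv_aux _ t e hte hto
  -- the endomorphism Θ
  let Θ : CA →ₐ[A] CA := (conjHom _ t⁻¹).comp (CliffordAlgebra.map (isometryOfMem _ g hg))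
  have hΘapp : ∀ x, Θ x = (↑t⁻¹ : CA) * CliffordAlgebra.map (isometryOfMem _ g hg) x *
      (t : CA) := fun x => by
    show conjHom _ t⁻¹ _ = _
    rw [conjHom_apply, inv_inv]
    rfl
  have hΘpar : ∀ x ∈ evenOdd (baseChangeForm A Q) 1, Θ x ∈ evenOdd (baseChangeForm A Q) 1 := by
    intro x hx
    rw [hΘapp]
    have := conj_mem_evenOdd _ t⁻¹ e he htie htio 1 _ (hmappar 1 x hx)
    rwa [inv_inv] at this
  have hΘfix : ∀ c ∈ evenOdd (baseChangeForm A Q) 0, Θ c = c := by
    intro c hc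
    have h3 := hy ⟨c, hc⟩
    have h3' : Φ c = (1 + y) * c * (1 - y) := h3
    rw [hΦapp] at h3'
    rw [hΘapp, htval, htinv]
    calc (1 - y) * (↑u₀⁻¹ : CA) * CliffordAlgebra.map (isometryOfMem _ g hg) c *
          ((u₀ : CA) * (1 + y))
        = (1 - y) * ((↑u₀⁻¹ : CA) * CliffordAlgebra.map (isometryOfMem _ g hg) c * (u₀ : CA)) *
          (1 + y) := by noncomm_ring
      _ = ((1 - y) * (1 + y)) * c * ((1 - y) * (1 + y)) := by rw [h3']; noncomm_ring
      _ = c := by rw [h2, one_mul, mul_one]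
  obtain ⟨a, ha⟩ := exists_scalar_of_fix_even _ hF1 hF2 Θ hΘpar hΘfix
  have hconj : ∀ v, (↑t⁻¹ : CA) * ι _ (g v) * (t : CA) = a • ι _ v := by
    intro v
    have := ha _ (ι_mem_evenOdd_one _ v)
    rw [hΘapp, CliffordAlgebra.map_apply_ι, isometryOfMem_apply] at this
    exact this
  -- the scalar is congruent to one
  have hFtinv := Fcan_inv Q φ t t' hFt
  have hφa : φ a = 1 := by
    have hsub : φ a - 1 = 0 := by
      apply hfaith
      intro v'
      obtain ⟨v, rfl⟩ := LinearMap.rTensor_surjective M (g := φ.toLinearMap) hφ v'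
      apply Helper25.Cliff.ι_injective (baseChangeForm A' Q)
      have k1 := congrArg (Fcan Q φ) (hconj v)
      rw [map_mul, map_mul, hFtinv, hFt, Fcan_ι, Fcan_smul, Fcan_ι, ← hc] at k1
      have k2 := ht' (LinearMap.rTensor M φ.toLinearMap v)
      rw [← k2] at k1
      simp only [← mul_assoc, Units.inv_mul, one_mul] at k1
      rw [mul_assoc, Units.inv_mul, mul_one] at k1
      rw [map_zero, map_smul, sub_smul, one_smul, ← k1, sub_self]
    exact sub_eq_zero.mp hsub
  have haa : (a - 1) * (a - 1) = 0 := hker _ _ (by rw [map_sub, hφa, map_one, sub_self])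
    (by rw [map_sub, hφa, map_one, sub_self])
  have haa' : a * (2 - a) = 1 := by linear_combination -haa
  refine ⟨t, a, 2 - a, haa', hFt, fun v => ?_, hconj, ⟨e, he, hte, hto⟩⟩
  have k := hconj v
  have k' : ι (baseChangeForm A Q) (g v) = a • ((t : CA) * ι _ v * (↑t⁻¹ : CA)) := by
    calc ι (baseChangeForm A Q) (g v)
        = (t : CA) * ((↑t⁻¹ : CA) * ι _ (g v) * (t : CA)) * (↑t⁻¹ : CA) := by
          simp only [← mul_assoc, Units.mul_inv, one_mul]
          rw [mul_assoc, Units.mul_inv, mul_one]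
      _ = a • ((t : CA) * ι _ v * (↑t⁻¹ : CA)) := by
          rw [k, mul_smul_comm, smul_mul_assoc]
  rw [k', smul_smul, mul_comm, haa', one_smul]

end OddLift

end Helper25.GPinLift
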