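import Mathlib
import Groth.Agent.Lib.Helper25.OrthLift
import Groth.Agent.Lib.Helper25.QuadOdd

/-!
# Infinitesimal lifting for the special orthogonal group of a split form of odd rank
-/

set_option autoImplicit false
set_option linter.unusedSectionVars false
set_option linter.unusedVariables false
set_option linter.style.haveILetI false
universe u

namespace Helper25.QuadMat

open Matrix

variable {A : Type*} [CommRing A] {ι : Type*} [Fintype ι] [DecidableEq ι]

/-- A first lift: any isometry mod `I` lifts to a matrix which is an isometry up to a defect with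
entries in `I`. -/
theorem exists_prelift (N : Matrix ι ι A) (I : Ideal A) (g' : Matrix ι ι (A ⧸ I))
    (hq : QEq (g'ᵀ * N.map (Ideal.Quotient.mk I) * g') (N.map (Ideal.Quotient.mk I))) :
    ∃ (g₀ β : Matrix ι ι A), g₀.map (Ideal.Quotient.mk I) = g' ∧
      β.map (Ideal.Quotient.mk I) = 0 ∧ QEq (g₀ᵀ * N * g₀) (N + β) := by
  classical
  letI : LinearOrder ι := LinearOrder.lift' (Fintype.equivFin ι) (Fintype.equivFin ι).injective
  set π := Ideal.Quotient.mk I with hπ
  let g₀ : Matrix ι ι A := g'.map (Function.surjInv Ideal.Quotient.mk_surjective)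
  have hg₀ : g₀.map π = g' := by
    ext i j
    simp only [g₀, Matrix.map_apply]
    exact Function.surjInv_eq _ _
  set M := g₀ᵀ * N * g₀ with hM
  set δ := M - N with hδ
  have hMπ : M.map π = g'ᵀ * N.map π * g' := by
    rw [hM, Matrix.map_mul, Matrix.map_mul, Matrix.transpose_map, hg₀]
  have hδπ : QEq (δ.map π) 0 := by
    have : δ.map π = M.map π - N.map π := by
      ext i j; simp [hδ]
    rw [this, hMπ]
    exact hq.sub_zero
  have hdiagI : ∀ i, π (δ i i) = 0 := fun i => by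
    have := hδπ.diag i
    simpa using this
  have hpolI : ∀ i j, π (δ i j + δ j i) = 0 := fun i j => by
    have := hδπ.polar i j
    simpa using this
  let β : Matrix ι ι A := Matrix.of fun i j =>
    if i = j then δ i i else if i < j then δ i j + δ j i else 0
  have hβπ : β.map π = 0 := by
    ext i j
    simp only [β, Matrix.map_apply, Matrix.of_apply, Matrix.zero_apply]
    split_ifs
    · exact hdiagI i
    · exact hpolI i j
    · exact map_zero _
  have hβδ : QEq β δ := by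
    refine ⟨fun i => by simp [β], fun i j => ?_⟩
    simp only [β, Matrix.of_apply]
    rcases lt_trichotomy i j with h | h | h
    · have h1 : i ≠ j := ne_of_lt h
      have h2 : ¬ j < i := not_lt_of_gt h
      simp [h1, h1.symm, h, h2]
    · subst h; simp
    · have h1 : i ≠ j := ne_of_gt h
      have h2 : ¬ i < j := not_lt_of_gt h
      simp [h1, h1.symm, h, h2]
      ring
  refine ⟨g₀, β, hg₀, hβπ, ?_⟩
  have : M = N + δ := by rw [hδ]; abel
  change QEq M (N + β)
  rw [this]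
  exact (QEq.refl N).add hβδ.symm

/-- Conjugating by `1 + ξ` with `ξ` infinitesimal. -/
theorem conj_one_add (I : Ideal A) (hI : I ^ 2 = ⊥) (M ξ : Matrix ι ι A)
    (hξ : ξ.map (Ideal.Quotient.mk I) = 0) :
    QEq ((1 + ξ)ᵀ * M * (1 + ξ)) (M + (M + Mᵀ) * ξ) := by
  have hξT : ξᵀ.map (Ideal.Quotient.mk I) = 0 := by
    rw [Matrix.transpose_map, hξ, Matrix.transpose_zero]
  have hexp : (1 + ξ)ᵀ * M * (1 + ξ) = M + ξᵀ * M + M * ξ + ξᵀ * M * ξ := by
    rw [Matrix.transpose_add, Matrix.transpose_one]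
    noncomm_ring
  have h0 : ξᵀ * M * ξ = 0 := by
    apply mul_eq_zero_of_map_eq_zero I hI _ _ _ hξ
    rw [Matrix.map_mul, hξT, Matrix.zero_mul]
  have h2 : QEq (ξᵀ * M) (Mᵀ * ξ) := by
    have := QEq.transpose_self (Mᵀ * ξ)
    rwa [Matrix.transpose_mul, Matrix.transpose_transpose] at this
  rw [hexp, h0, add_zero]
  have h3 : QEq (M + ξᵀ * M + M * ξ) (M + Mᵀ * ξ + M * ξ) :=
    ((QEq.refl M).add h2).add (QEq.refl _)
  refine h3.trans (QEq.of_eq ?_)
  rw [Matrix.add_mul]; abel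

/-- Combination: a prelift corrected by `1 + ξ`. -/
theorem conj_prelift (I : Ideal A) (hI : I ^ 2 = ⊥) (N g₀ β ξ : Matrix ι ι A)
    (hβ : β.map (Ideal.Quotient.mk I) = 0) (hξ : ξ.map (Ideal.Quotient.mk I) = 0)
    (h : QEq (g₀ᵀ * N * g₀) (N + β)) :
    QEq ((g₀ * (1 + ξ))ᵀ * N * (g₀ * (1 + ξ))) (N + β + (N + Nᵀ) * ξ) := by
  set M := g₀ᵀ * N * g₀ with hM
  have e1 : (g₀ * (1 + ξ))ᵀ * N * (g₀ * (1 + ξ)) = (1 + ξ)ᵀ * M * (1 + ξ) := by
    rw [Matrix.transpose_mul, hM]; noncomm_ring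
  rw [e1]
  refine (conj_one_add I hI M ξ hξ).trans ?_
  have hS : M + Mᵀ = (N + Nᵀ) + (β + βᵀ) := by
    ext i j
    have := h.polar i j
    simp only [Matrix.add_apply, Matrix.transpose_apply] at this ⊢
    linear_combination this
  have hβS : (β + βᵀ).map (Ideal.Quotient.mk I) = 0 := by
    rw [Matrix.map_add _ (fun _ _ => map_add _ _ _), Matrix.transpose_map, hβ]
    simp
  rw [hS, Matrix.add_mul, mul_eq_zero_of_map_eq_zero I hI _ _ hβS hξ, add_zero]
  exact h.add (QEq.refl _)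

theorem map_neg_mul_eq_zero {κ κ' κ'' : Type*} [Fintype κ'] (I : Ideal A) (X : Matrix κ κ' A)
    (Y : Matrix κ' κ'' A) (hY : Y.map (Ideal.Quotient.mk I) = 0) :
    (-(X * Y)).map (Ideal.Quotient.mk I) = 0 := by
  have : (-(X * Y)).map (Ideal.Quotient.mk I) = -((X * Y).map (Ideal.Quotient.mk I)) := by
    ext i j; simp only [Matrix.map_apply, Matrix.neg_apply, map_neg]
  rw [this, Matrix.map_mul, hY, Matrix.mul_zero, neg_zero]

variable {α : Type*} [Fintype α] [DecidableEq α]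

/-- **Infinitesimal lifting for `SO'`** of `N₀ ⊥ ⟨a⟩` with `N₀` regular and `a` a unit. -/
theorem exists_lift_sorth_odd {n : ℕ} (hn : Odd n) (e : α ⊕ Fin 1 ≃ Fin n)
    (N₀ : Matrix α α A) (hP₀ : IsUnit (N₀ + N₀ᵀ).det) (a : A) (ha : IsUnit a)
    (I : Ideal A) (hI : I ^ 2 = ⊥)
    (g' : Matrix (α ⊕ Fin 1) (α ⊕ Fin 1) (A ⧸ I)) (hdet : g'.det = 1)
    (hq : QEq (g'ᵀ * (Matrix.fromBlocks N₀ 0 0 (Matrix.of fun _ _ => a)).map (Ideal.Quotient.mk I)
      * g') ((Matrix.fromBlocks N₀ 0 0 (Matrix.of fun _ _ => a)).map (Ideal.Quotient.mk I))) :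
    ∃ g : Matrix (α ⊕ Fin 1) (α ⊕ Fin 1) A, g.det = 1 ∧
      QEq (gᵀ * Matrix.fromBlocks N₀ 0 0 (Matrix.of fun _ _ => a) * g)
        (Matrix.fromBlocks N₀ 0 0 (Matrix.of fun _ _ => a)) ∧
      g.map (Ideal.Quotient.mk I) = g' := by
  set π := Ideal.Quotient.mk I with hπ
  set N : Matrix (α ⊕ Fin 1) (α ⊕ Fin 1) A :=
    Matrix.fromBlocks N₀ 0 0 (Matrix.of fun _ _ => a) with hN
  obtain ⟨g₀, β, hg₀, hβ, hQ0⟩ := exists_prelift N I g' hq
  set β₁₁ := β.toBlocks₁₁ with hβ₁₁
  set β₁₂ := β.toBlocks₁₂ with hβ₁₂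
  set β₂₁ := β.toBlocks₂₁ with hβ₂₁
  set β₂₂ := β.toBlocks₂₂ with hβ₂₂
  have hβblocks : β = Matrix.fromBlocks β₁₁ β₁₂ β₂₁ β₂₂ := (Matrix.fromBlocks_toBlocks β).symm
  have hβπ11 : β₁₁.map π = 0 := by
    ext i j
    exact congrFun (congrFun hβ (Sum.inl i)) (Sum.inl j)
  have hβπ12 : β₁₂.map π = 0 := by
    ext i j
    exact congrFun (congrFun hβ (Sum.inl i)) (Sum.inr j)
  have hβπ21 : β₂₁.map π = 0 := by
    ext i j
    exact congrFun (congrFun hβ (Sum.inr i)) (Sum.inl j)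
  set P₀ := N₀ + N₀ᵀ with hP₀def
  have hPP : P₀ * P₀⁻¹ = 1 := Matrix.mul_nonsing_inv P₀ hP₀
  let ξ : Matrix (α ⊕ Fin 1) (α ⊕ Fin 1) A :=
    Matrix.fromBlocks (-(P₀⁻¹ * β₁₁)) (-(P₀⁻¹ * (β₁₂ + β₂₁ᵀ))) 0 0
  have hξ : ξ.map π = 0 := by
    simp only [ξ]
    rw [Matrix.fromBlocks_map, map_neg_mul_eq_zero I _ _ hβπ11, map_neg_mul_eq_zero I _ _ (by
      rw [Matrix.map_add _ (fun _ _ => map_add _ _ _), Matrix.transpose_map, hβπ12, hβπ21]
      simp)]
    simp
  have h1 := conj_prelift I hI N g₀ β ξ hβ hξ hQ0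
  set b : A := β₂₂ 0 0 with hb
  -- the defect after the first correction
  have h2 : QEq (N + β + (N + Nᵀ) * ξ)
      (Matrix.fromBlocks N₀ 0 0 (Matrix.of fun _ _ => a + b)) := by
    have hNT : N + Nᵀ = Matrix.fromBlocks P₀ 0 0
        ((Matrix.of fun _ _ => a : Matrix (Fin 1) (Fin 1) A) +
          (Matrix.of fun _ _ => a : Matrix (Fin 1) (Fin 1) A)ᵀ) := by
      rw [hN, Matrix.fromBlocks_transpose, Matrix.fromBlocks_add]
      simp [hP₀def]
    have hmul : (N + Nᵀ) * ξ = Matrix.fromBlocks (-β₁₁) (-(β₁₂ + β₂₁ᵀ)) 0 0 := by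
      rw [hNT]
      simp only [ξ]
      rw [Matrix.fromBlocks_multiply]
      simp only [Matrix.mul_neg, ← Matrix.mul_assoc, hPP, Matrix.one_mul, Matrix.zero_mul,
        Matrix.mul_zero, add_zero, neg_zero]
    rw [hmul, hN]
    conv_lhs => rw [hβblocks]
    rw [Matrix.fromBlocks_add, Matrix.fromBlocks_add]
    refine QEq.fromBlocks (QEq.of_eq (by abel)) (QEq.of_eq ?_) ?_
    · ext i j
      have hi : i = 0 := Subsingleton.elim _ _
      have hj : j = 0 := Subsingleton.elim _ _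
      subst hi hj
      simp [hb]
    · intro i k
      simp only [Matrix.add_apply, Matrix.zero_apply, Matrix.neg_apply, Matrix.transpose_apply]
      ring
  have h3 := h1.trans h2
  set g₁ := g₀ * (1 + ξ) with hg₁
  have hg₁π : g₁.map π = g' := by
    rw [hg₁, Matrix.map_mul, hg₀, Matrix.map_add _ (fun _ _ => map_add _ _ _), hξ, add_zero]
    have : (1 : Matrix (α ⊕ Fin 1) (α ⊕ Fin 1) A).map π = 1 :=
      Matrix.map_one _ (map_zero _) (map_one _)
    rw [this, Matrix.mul_one]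
  have hd₁π : π g₁.det = 1 := by
    rw [RingHom.map_det]
    have : π.mapMatrix g₁ = g' := hg₁π
    rw [this, hdet]
  have hu : IsUnit g₁.det := by
    rw [← IsNilpotent.isUnit_quotient_mk_iff (I := I) ⟨2, hI⟩, ← hπ, hd₁π]
    exact isUnit_one
  -- the half-discriminant relation
  have hrel : a + b = g₁.det ^ 2 * a := by
    have e1 := hdetE_conj hn e N g₁
    rw [hdetE_congr e h3] at e1
    have hodd1 : Odd 1 := odd_one
    rw [hN, hdetE_fromBlocks hn hodd1 e (Equiv.refl (Fin 1)) N₀,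
      hdetE_fromBlocks hn hodd1 e (Equiv.refl (Fin 1)) N₀, hdetE_one, hdetE_one] at e1
    simp only [Matrix.of_apply] at e1
    have : P₀.det * (a + b - g₁.det ^ 2 * a) = 0 := by linear_combination e1
    exact sub_eq_zero.mp (hP₀.mul_right_eq_zero.mp this)
  set dinv : A := ((hu.unit⁻¹ : Aˣ) : A) with hdinv
  have hdd : g₁.det * dinv = 1 := hu.mul_val_inv
  have hdinvπ : π dinv = 1 := by
    have := congrArg π hdd
    rwa [map_mul, hd₁π, one_mul, map_one] at this
  let D : Matrix (α ⊕ Fin 1) (α ⊕ Fin 1) A :=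
    Matrix.fromBlocks 1 0 0 (Matrix.of fun _ _ => dinv)
  refine ⟨g₁ * D, ?_, ?_, ?_⟩
  · rw [Matrix.det_mul]
    simp only [D]
    rw [Matrix.det_fromBlocks_zero₂₁, Matrix.det_one, one_mul]
    have : (Matrix.of fun _ _ => dinv : Matrix (Fin 1) (Fin 1) A).det = dinv := by
      simp
    rw [this, hdd]
  · have e1 : (g₁ * D)ᵀ * N * (g₁ * D) = Dᵀ * (g₁ᵀ * N * g₁) * D := by
      rw [Matrix.transpose_mul]; noncomm_ring
    rw [e1]
    refine (h3.conj D).trans (QEq.of_eq ?_)
    simp only [D]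
    rw [Matrix.fromBlocks_transpose, Matrix.fromBlocks_multiply, Matrix.fromBlocks_multiply, hN]
    simp only [Matrix.transpose_one, Matrix.transpose_zero, Matrix.one_mul, Matrix.mul_one,
      Matrix.zero_mul, Matrix.mul_zero, add_zero, zero_add]
    congr 1
    ext i j
    have hi : i = 0 := Subsingleton.elim _ _
    have hj : j = 0 := Subsingleton.elim _ _
    subst hi hj
    simp only [Matrix.mul_apply, Matrix.transpose_apply, Matrix.of_apply, Finset.univ_unique,
      Finset.sum_singleton]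
    rw [hrel]
    linear_combination (a * (g₁.det * dinv + 1)) * hdd
  · rw [Matrix.map_mul, hg₁π]
    have : D.map π = 1 := by
      simp only [D]
      rw [Matrix.fromBlocks_map]
      have h1 : (1 : Matrix α α A).map π = 1 := Matrix.map_one _ (map_zero _) (map_one _)
      have h2 : (Matrix.of fun _ _ => dinv : Matrix (Fin 1) (Fin 1) A).map π = 1 := by
        ext i j
        have hi : i = 0 := Subsingleton.elim _ _
        have hj : j = 0 := Subsingleton.elim _ _
        subst hi hj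
        simp [hdinvπ]
      rw [h1, h2]
      simp [Matrix.fromBlocks_one]
    rw [this, Matrix.mul_one]

theorem conj_conj {R : Type*} [CommRing R] {ι κ μ : Type*} [Fintype ι] [Fintype κ] [Fintype μ]
    (N : Matrix ι ι R) (X : Matrix ι κ R) (Y : Matrix κ μ R) :
    Yᵀ * (Xᵀ * N * X) * Y = (X * Y)ᵀ * N * (X * Y) := by
  rw [Matrix.transpose_mul]; simp only [Matrix.mul_assoc]

/-- Transport of the lifting property of `SO'` through a congruence `Tᵀ N T ~ J`. -/
theorem lift_transport {κ : Type*} [Fintype κ] [DecidableEq κ] (I : Ideal A)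
    (N : Matrix ι ι A) (J : Matrix κ κ A) (T : Matrix ι κ A) (T' : Matrix κ ι A)
    (h1 : T * T' = 1) (h2 : T' * T = 1) (hQ : QEq (Tᵀ * N * T) J)
    (HJ : ∀ h' : Matrix κ κ (A ⧸ I), h'.det = 1 →
      QEq (h'ᵀ * J.map (Ideal.Quotient.mk I) * h') (J.map (Ideal.Quotient.mk I)) →
      ∃ h : Matrix κ κ A, h.det = 1 ∧ QEq (hᵀ * J * h) J ∧ h.map (Ideal.Quotient.mk I) = h')
    (g' : Matrix ι ι (A ⧸ I)) (hdet : g'.det = 1)
    (hq : QEq (g'ᵀ * N.map (Ideal.Quotient.mk I) * g') (N.map (Ideal.Quotient.mk I))) :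
    ∃ g : Matrix ι ι A, g.det = 1 ∧ QEq (gᵀ * N * g) N ∧ g.map (Ideal.Quotient.mk I) = g' := by
  set π := Ideal.Quotient.mk I with hπ
  have h1π : T.map π * T'.map π = 1 := by
    rw [← Matrix.map_mul, h1]; exact Matrix.map_one _ (map_zero _) (map_one _)
  have h2π : T'.map π * T.map π = 1 := by
    rw [← Matrix.map_mul, h2]; exact Matrix.map_one _ (map_zero _) (map_one _)
  have hQπ : QEq ((T.map π)ᵀ * N.map π * T.map π) (J.map π) := by
    have := hQ.map π
    rwa [Matrix.map_mul, Matrix.map_mul, Matrix.transpose_map] at this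
  obtain ⟨h', hh'⟩ : ∃ h', h' = T'.map π * g' * T.map π := ⟨_, rfl⟩
  have hTh' : T.map π * h' = g' * T.map π := by
    rw [hh', ← Matrix.mul_assoc, ← Matrix.mul_assoc, h1π, Matrix.one_mul]
  have hdet' : h'.det = 1 := by
    rw [hh', Matrix.det_conj_of_mul_eq_one h2π h1π, hdet]
  have hq' : QEq (h'ᵀ * J.map π * h') (J.map π) := by
    refine (hQπ.symm.conj h').trans ?_
    rw [conj_conj, hTh', ← conj_conj]
    exact (hq.conj (T.map π)).trans hQπ
  obtain ⟨h, hhdet, hhq, hhπ⟩ := HJ h' hdet' hq'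
  have hN' : QEq N (T'ᵀ * J * T') := by
    have := hQ.conj T'
    rwa [conj_conj, h1, Matrix.transpose_one, Matrix.one_mul, Matrix.mul_one] at this
  obtain ⟨g, hg⟩ : ∃ g, g = T * h * T' := ⟨_, rfl⟩
  have hT'g : T' * g = h * T' := by
    rw [hg, ← Matrix.mul_assoc, ← Matrix.mul_assoc, h2, Matrix.one_mul]
  refine ⟨g, ?_, ?_, ?_⟩
  · rw [hg, Matrix.det_conj_of_mul_eq_one h1 h2, hhdet]
  · refine (hN'.conj g).trans ?_
    rw [conj_conj, hT'g, ← conj_conj]
    exact (hhq.conj T').trans hN'.symm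
  · rw [hg, Matrix.map_mul, Matrix.map_mul, hhπ, hh']
    calc T.map π * (T'.map π * g' * T.map π) * T'.map π
        = (T.map π * T'.map π) * g' * (T.map π * T'.map π) := by simp only [Matrix.mul_assoc]
      _ = g' := by rw [h1π, Matrix.one_mul, Matrix.mul_one]

end Helper25.QuadMat
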