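import Mathlib
import Groth.Agent.Lib.Helper25.OrthOddLift
import Groth.Agent.Lib.Helper25.OrthSmooth
import Groth.Agent.Lib.Helper25.GLsubDescent
import Groth.Agent.Lib.Helper25.QuadOddForm
import Groth.Agent.Lib.Helper25.GLsubRep

/-!
# Smoothness of the naive special orthogonal group in odd rank
-/

set_option autoImplicit false
set_option linter.unusedSectionVars false
set_option linter.unusedVariables false
set_option linter.style.haveILetI false
universe u

namespace Helper25.GLsub

open Matrix Helper25.QuadMat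

theorem isUnit_det_J_polar (m : ℕ) (A : Type*) [CommRing A] :
    IsUnit (QuadMat.J m A + (QuadMat.J m A)ᵀ).det := by
  have h : QuadMat.J m A + (QuadMat.J m A)ᵀ = Matrix.fromBlocks 0 1 1 0 := by
    unfold QuadMat.J
    rw [Matrix.fromBlocks_transpose, Matrix.fromBlocks_add]
    simp
  have h2 : (QuadMat.J m A + (QuadMat.J m A)ᵀ) * (QuadMat.J m A + (QuadMat.J m A)ᵀ) = 1 := by
    rw [h, Matrix.fromBlocks_multiply]
    simp [Matrix.fromBlocks_one]
  exact Matrix.isUnit_det_of_left_inverse h2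

section Perm

variable {A : Type*} [CommRing A] {ι κ : Type*} [Fintype ι] [DecidableEq ι] [Fintype κ]
  [DecidableEq κ]

/-- The permutation matrix of an equivalence. -/
def permMat (A : Type*) [CommRing A] (e : κ ≃ ι) : Matrix ι κ A :=
  (1 : Matrix ι ι A).submatrix id e

theorem permMat_mul_transpose (e : κ ≃ ι) : permMat A e * (permMat A e)ᵀ = 1 := by
  unfold permMat
  rw [Matrix.transpose_submatrix, Matrix.transpose_one, Matrix.submatrix_mul_equiv,
    Matrix.one_mul, Matrix.submatrix_id_id]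

theorem permMat_transpose_mul (e : κ ≃ ι) : (permMat A e)ᵀ * permMat A e = 1 := by
  unfold permMat
  rw [Matrix.transpose_submatrix, Matrix.transpose_one]
  have : ((1 : Matrix ι ι A).submatrix e id) * ((1 : Matrix ι ι A).submatrix id e)
      = ((1 : Matrix ι ι A) * 1).submatrix e e :=
    Matrix.submatrix_mul_equiv (1 : Matrix ι ι A) 1 e (Equiv.refl ι) e
  rw [this, Matrix.one_mul, Matrix.submatrix_one_equiv]

theorem permMat_conj (e : κ ≃ ι) (N : Matrix ι ι A) :
    (permMat A e)ᵀ * N * permMat A e = N.submatrix e e := by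
  unfold permMat
  rw [Matrix.transpose_submatrix, Matrix.transpose_one]
  have h1 : ((1 : Matrix ι ι A).submatrix e id) * N = N.submatrix e id := by
    have := Matrix.submatrix_mul_equiv (1 : Matrix ι ι A) N e (Equiv.refl ι) id
    simpa using this
  rw [h1]
  have h2 : N.submatrix e id * (1 : Matrix ι ι A).submatrix id e = N.submatrix e e := by
    have := Matrix.submatrix_mul_equiv N (1 : Matrix ι ι A) e (Equiv.refl ι) e
    simpa using this
  exact h2

end Perm

section SmoothAlg

open MvPolynomial Helper25.PolyRep TensorProduct CategoryTheory AlgebraicGeometry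

variable {R : Type u} [CommRing R] {ι : Type} [Fintype ι] [DecidableEq ι] {τ : Type}
  (rels : τ → MvPolynomial (ι × ι) R)
  {S : ∀ (A : Type u) [CommRing A] [Algebra R A],
    Subgroup ((A ⊗[R] (ι → R)) ≃ₗ[A] (A ⊗[R] (ι → R)))}

/-- A group scheme pinned to a subgroup functor of `GL_n` cut out by polynomial equations is
smooth iff the representing algebra is. -/
theorem smooth_iff_alg [Finite τ] {G : Over (Spec (CommRingCat.of R))} [GrpObj G]
    (D : QuadGrp.LinRep R (ι → R) S G)
    (hS : ∀ (A : Type u) [CommRing A] [Algebra R A]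
      (g : (A ⊗[R] (ι → R)) ≃ₗ[A] (A ⊗[R] (ι → R))), g ∈ S A ↔ toMat g ∈ pts rels A) :
    Smooth G.hom ↔ Algebra.Smooth R (Alg rels) := by
  rw [smooth_iff_lifting rels D hS, smooth_iff]

end SmoothAlg

section Main

variable {R : Type u} [CommRing R]

/-- **The naive special orthogonal group of a semiregular form of odd rank is smooth.** -/
theorem smooth_sorth_odd (m : ℕ) (N : Matrix (Fin (2 * m + 1)) (Fin (2 * m + 1)) R)
    (hh : IsUnit (hdetE (Equiv.refl (Fin (2 * m + 1))) N)) :
    Algebra.Smooth R (Alg (sorthRels N)) := by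
  classical
  let e := oddEquiv m
  let N' : Matrix ((Fin m ⊕ Fin m) ⊕ Fin 1) ((Fin m ⊕ Fin m) ⊕ Fin 1) R := N.submatrix e e
  have hh' : IsUnit (hdetE e N') := by
    have : hdetE e N' = hdetE (Equiv.refl (Fin (2 * m + 1))) N := by
      unfold hdetE
      congr 1
      ext i j
      simp [N']
    rwa [this]
  obtain ⟨S, _, _, hff, hfp, T₀, hT₀, hQ₀⟩ :=
    exists_fppf_cover_split_odd R m N' e ⟨m, rfl⟩ hh' 1
  haveI := hff
  apply smooth_of_lifting_over (sorthRels N) S
  intro A _ _ _ _ I hI g' hg'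
  rw [mem_pts_sorthRels, mem_pts_orthRels, map_algebraMap_quotient] at hg'
  obtain ⟨⟨-, hq⟩, hdet⟩ := hg'
  obtain ⟨NA, hNA⟩ : ∃ NA, NA = N.map (algebraMap R A) := ⟨_, rfl⟩
  rw [← hNA] at hq
  obtain ⟨T₀A, hT₀Adef⟩ : ∃ T₀A, T₀A = T₀.map (algebraMap S A) := ⟨_, rfl⟩
  have hT₀A : IsUnit T₀A.det := by
    have : T₀A.det = algebraMap S A T₀.det := by
      rw [hT₀Adef, RingHom.map_det]; rfl
    rw [this]; exact hT₀.map _
  obtain ⟨a, ha⟩ : ∃ a : A, a = algebraMap S A (((1 : ℤˣ) : ℤ) : S) := ⟨_, rfl⟩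
  have hau : IsUnit a := by rw [ha]; simp
  have hQA : QEq (T₀Aᵀ * NA.submatrix e e * T₀A)
      (Matrix.fromBlocks (QuadMat.J m A) 0 0 (Matrix.of fun _ _ => a)) := by
    have := hQ₀.map (algebraMap S A)
    rw [Matrix.map_mul, Matrix.map_mul, Matrix.transpose_map, JOdd_map, Matrix.map_map,
      ← hT₀Adef, ← ha] at this
    have e1 : N'.map (⇑(algebraMap S A) ∘ ⇑(algebraMap R S)) = NA.submatrix e e := by
      rw [hNA]
      ext i j
      simp only [N', Matrix.map_apply, Matrix.submatrix_apply, Function.comp_apply]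
      exact (IsScalarTower.algebraMap_apply R S A _).symm
    rw [e1] at this
    exact this
  have h1 : (permMat A e * T₀A) * (T₀A⁻¹ * (permMat A e)ᵀ) = 1 := by
    rw [Matrix.mul_assoc, ← Matrix.mul_assoc T₀A, Matrix.mul_nonsing_inv T₀A hT₀A, Matrix.one_mul,
      permMat_mul_transpose]
  have h2 : (T₀A⁻¹ * (permMat A e)ᵀ) * (permMat A e * T₀A) = 1 := by
    rw [Matrix.mul_assoc, ← Matrix.mul_assoc (permMat A e)ᵀ, permMat_transpose_mul,
      Matrix.one_mul, Matrix.nonsing_inv_mul T₀A hT₀A]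
  have hQ : QEq ((permMat A e * T₀A)ᵀ * NA * (permMat A e * T₀A))
      (Matrix.fromBlocks (QuadMat.J m A) 0 0 (Matrix.of fun _ _ => a)) := by
    rw [← conj_conj, permMat_conj]
    exact hQA
  obtain ⟨g, hgdet, hgq, hgπ⟩ := lift_transport I NA _ (permMat A e * T₀A)
    (T₀A⁻¹ * (permMat A e)ᵀ) h1 h2 hQ
    (fun h' hd' hq' => exists_lift_sorth_odd ⟨m, rfl⟩ e (QuadMat.J m A)
      (isUnit_det_J_polar m A) a hau I hI h' hd' hq') g' hdet hq
  rw [hNA] at hgq
  refine ⟨g, (mem_pts_sorthRels N g).mpr ⟨(mem_pts_orthRels N g).mpr ⟨?_, hgq⟩, hgdet⟩, hgπ⟩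
  rw [hgdet]; exact isUnit_one

end Main

end Helper25.GLsub
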