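import Groth.Agent.Lib.Helper25.GPinOdd
import Groth.Agent.Lib.Helper25.OrthOddSmooth

/-!
# Infinitesimal lifting for the Clifford group in odd rank: the main statement
-/

set_option autoImplicit false
set_option linter.unusedSectionVars false
set_option linter.unusedVariables false
set_option linter.unusedSimpArgs false
set_option linter.style.haveILetI false
set_option linter.unreachableTactic false
set_option linter.unusedTactic false

universe u

namespace Helper25.GPinLift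

open CliffordAlgebra QuadGrp Helper25.Cliff Helper25.CliffBCF Helper25.GLsub Helper25.QuadMat
open scoped TensorProduct
open Groth.Agent.Lib.Helper41.HalfDisc (halfDisc_baseChangeForm)

section Odd

variable {R : Type u} [CommRing R]

/-- Isometries of determinant one of a semiregular form of odd rank lift along square-zero
extensions. -/
theorem exists_lift_isometry_odd (m : ℕ) (Q : QuadraticForm R (Fin (2 * m + 1) → R))
    (N : Matrix (Fin (2 * m + 1)) (Fin (2 * m + 1)) R) (hN : ∀ v, Q v = qf N v)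
    (hh : IsUnit (hdetE (Equiv.refl (Fin (2 * m + 1))) N))
    (A : Type u) [CommRing A] [Algebra R A] (I : Ideal A) (hI : I ^ 2 = ⊥)
    (g' : ((A ⧸ I) ⊗[R] (Fin (2 * m + 1) → R)) ≃ₗ[A ⧸ I] ((A ⧸ I) ⊗[R] (Fin (2 * m + 1) → R)))
    (hg' : g' ∈ QuadGrp.sorth' Q (A ⧸ I)) :
    ∃ g : (A ⊗[R] (Fin (2 * m + 1) → R)) ≃ₗ[A] (A ⊗[R] (Fin (2 * m + 1) → R)),
      g ∈ QuadGrp.O (baseChangeForm A Q) ∧
      ∀ v, g' (LinearMap.rTensor _ (Ideal.Quotient.mkₐ R I).toLinearMap v) =
        LinearMap.rTensor _ (Ideal.Quotient.mkₐ R I).toLinearMap (g v) := by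
  rw [mem_sorth'_iff Q N hN] at hg'
  obtain ⟨G, hG, hGg'⟩ := (smooth_iff (sorthRels N)).mp (smooth_sorth_odd m N hh) A I hI
    (toMat g') hg'
  have hGdet : IsUnit G.det := hG.1
  refine ⟨ofMat R G hGdet, ?_, ?_⟩
  · rw [mem_O_baseChangeForm_iff]
    have : ofMat R G hGdet ∈ QuadGrp.sorth' Q A := by
      rw [mem_sorth'_iff Q N hN, toMat_ofMat]; exact hG
    exact this.1
  · apply compat_of_one_tmul
    intro v
    have hdet' : IsUnit (G.map (Ideal.Quotient.mkₐ R I)).det := by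
      have : G.map (Ideal.Quotient.mkₐ R I) = toMat g' := hGg'
      rw [this]; exact isUnit_det_toMat g'
    rw [← rTensor_ofMat_one_tmul (Ideal.Quotient.mkₐ R I) G hGdet hdet' v]
    have : ofMat R (G.map (Ideal.Quotient.mkₐ R I)) hdet' = g' := by
      have h1 : G.map (Ideal.Quotient.mkₐ R I) = toMat g' := hGg'
      rw [← ofMat_toMat g']
      congr 1
    rw [this]

/-- The structure of the Clifford algebra of the base change of a semiregular form of odd rank. -/
theorem odd_structure (m : ℕ) (Q : QuadraticForm R (Fin (2 * m + 1) → R))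
    (hQ : QuadGrp.IsSemiregular (Pi.basisFun R (Fin (2 * m + 1))) (LinearEquiv.refl R R) Q)
    (A : Type u) [CommRing A] [Algebra R A] :
    (∀ z, z ∈ Subalgebra.center A (CliffordAlgebra (baseChangeForm A Q)) →
      z ∈ evenOdd (baseChangeForm A Q) 0 →
        z ∈ (algebraMap A (CliffordAlgebra (baseChangeForm A Q))).range) ∧
    (1 : CliffordAlgebra (baseChangeForm A Q)) ∈
      oddCenter (baseChangeForm A Q) * oddCenter (baseChangeForm A Q) ∧
    IsAzumaya A ↥(even (baseChangeForm A Q)) := by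
  have hsemi : QuadGrp.IsSemiregular ((Pi.basisFun R (Fin (2 * m + 1))).baseChange A)
      (LinearEquiv.refl A A) (baseChangeForm A Q) := by
    unfold QuadGrp.IsSemiregular
    rw [halfDisc_baseChangeForm]
    exact hQ.map _
  obtain ⟨hF1, hF2, -, S, i1, i2, hff, -, ⟨Ψ⟩⟩ :=
    odd_core m ((Pi.basisFun R (Fin (2 * m + 1))).baseChange A) (baseChangeForm A Q) hsemi
  refine ⟨hF1, hF2, ?_⟩
  haveI := hff
  haveI : Nonempty (Fin (2 ^ m)) := ⟨⟨0, pow_pos (by norm_num) m⟩⟩
  haveI : IsAzumaya S (Matrix (Fin (2 ^ m)) (Fin (2 ^ m)) S) := IsAzumaya.matrix S _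
  haveI : IsAzumaya S (S ⊗[A] ↥(even (baseChangeForm A Q))) :=
    IsAzumaya.of_AlgEquiv S _ _ Ψ.symm
  exact Groth.Agent.Lib.Helper85.isAzumaya_of_baseChange_faithfullyFlat A S _

/-- The Clifford group functor of a semiregular form of odd rank has the infinitesimal lifting
property. -/
theorem lifting_gpin_odd (m : ℕ) (Q : QuadraticForm R (Fin (2 * m + 1) → R))
    (hQ : QuadGrp.IsSemiregular (Pi.basisFun R (Fin (2 * m + 1))) (LinearEquiv.refl R R) Q)
    (A : Type u) [CommRing A] [Algebra R A] (I : Ideal A) (hI : I ^ 2 = ⊥)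
    (t' : (CliffordAlgebra (baseChangeForm (A ⧸ I) Q))ˣ) (ht' : t' ∈ gpin Q (A ⧸ I)) :
    ∃ t ∈ gpin Q A, Fcan Q (Ideal.Quotient.mkₐ R I)
      ((t : (CliffordAlgebra (baseChangeForm A Q))ˣ) : CliffordAlgebra (baseChangeForm A Q)) =
      (t' : CliffordAlgebra (baseChangeForm (A ⧸ I) Q)) := by
  classical
  obtain ⟨N, hN'⟩ := exists_matrix_of_basis Q (Pi.basisFun R (Fin (2 * m + 1)))
  have hN : ∀ v, Q v = qf N v := fun v => by
    rw [← hN' v, qfForm_apply]
    rfl
  have hh : IsUnit (hdetE (Equiv.refl (Fin (2 * m + 1))) N) := by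
    refine isUnit_hdetE_of_isSemiregular (Pi.basisFun R (Fin (2 * m + 1))) Q hQ
      (Equiv.refl (Fin (2 * m + 1))) N (fun v => ?_)
    rw [← hN' v]
    rfl
  obtain ⟨hF1, hF2, hAz⟩ := odd_structure m Q hQ A
  haveI := hAz
  obtain ⟨ht'G, e', he', h0', h1'⟩ := ht'
  obtain ⟨g', hg', hconj'⟩ :=
    Groth.Agent.Lib.Helper47.CliffTau.exists_isometry_of_mem_GPin' (baseChangeForm (A ⧸ I) Q) t' ht'G
  have hdet : LinearEquiv.det g' = 1 :=
    Groth.Agent.Lib.Helper47.CliffTau.det_eq_one_of_conj_of_odd_rank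
      ((Pi.basisFun R (Fin (2 * m + 1))).baseChange (A ⧸ I)) (by
        have h2 : (2 : ZMod 2) = 0 := rfl
        push_cast
        rw [h2, zero_mul, zero_add]) g' hg' t'
      (map_eq_conj _ t' g' hg' hconj')
  have hg's : g' ∈ QuadGrp.sorth' Q (A ⧸ I) := by
    refine ⟨(mem_O_baseChangeForm_iff Q (A ⧸ I) g').mp hg', ?_⟩
    exact hdet
  obtain ⟨g, hg, hc⟩ := exists_lift_isometry_odd m Q N hN hh A I hI g' hg's
  have hfaith : ∀ b : A ⧸ I, (∀ v : (A ⧸ I) ⊗[R] (Fin (2 * m + 1) → R), b • v = 0) → b = 0 := by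
    intro b hb
    have h1 := hb (((Pi.basisFun R (Fin (2 * m + 1))).baseChange (A ⧸ I)) 0)
    have h2 := congrArg (fun v => ((Pi.basisFun R (Fin (2 * m + 1))).baseChange (A ⧸ I)).repr v 0) h1
    simpa using h2
  obtain ⟨t, a, a', haa', hFt, hconj, hconj2, hLH⟩ := exists_lift_conj_odd Q hF1 hF2
    (Ideal.Quotient.mkₐ R I) (Ideal.Quotient.mkₐ_surjective R I) (mkₐ_ker_sq I hI) hfaith
    g hg g' hg' hc t' hconj' e' he' h0' h1'
  refine ⟨t, ⟨?_, hLH⟩, hFt⟩
  refine Helper25.CliffPoly.mem_GPin'_of_forall _ t (fun v => ⟨a' • g v, ?_⟩)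
    (fun v => ⟨a • g.symm v, ?_⟩)
  · rw [hconj v, map_smul]
  · have := hconj2 (g.symm v)
    rw [LinearEquiv.apply_symm_apply] at this
    rw [this, map_smul]

end Odd

end Helper25.GPinLift
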