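import Mathlib

set_option autoImplicit false
universe u v w
open scoped TensorProduct

namespace Groth.Agent.Lib.Helper25.GaloisIdeal

variable {K : Type u} {L : Type v} [Field K] [Field L] [Algebra K L]
  {A : Type w} [Ring A] [Algebra K A]

/-- `γ ⊗ id` -/
noncomputable def Φ (γ : L ≃ₐ[K] L) : L ⊗[K] A →ₐ[K] L ⊗[K] A :=
  Algebra.TensorProduct.map (γ : L →ₐ[K] L) (AlgHom.id K A)

theorem Φ_tmul (γ : L ≃ₐ[K] L) (l : L) (a : A) : Φ γ (l ⊗ₜ[K] a) = γ l ⊗ₜ[K] a := by
  simp [Φ]

theorem Φ_Φ (γ δ : L ≃ₐ[K] L) (x : L ⊗[K] A) : Φ γ (Φ δ x) = Φ (γ * δ) x := by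
  induction x using TensorProduct.induction_on with
  | zero => simp
  | tmul l a => simp [Φ_tmul, AlgEquiv.mul_apply]
  | add x y hx hy => simp [hx, hy]

theorem Φ_one (x : L ⊗[K] A) : Φ (1 : L ≃ₐ[K] L) x = x := by
  induction x using TensorProduct.induction_on with
  | zero => simp
  | tmul l a => simp [Φ_tmul]
  | add x y hx hy => simp [hx, hy]

theorem Φ_inv_Φ (γ : L ≃ₐ[K] L) (x : L ⊗[K] A) : Φ γ⁻¹ (Φ γ x) = x := by
  rw [Φ_Φ, inv_mul_cancel, Φ_one]

theorem Φ_Φ_inv (γ : L ≃ₐ[K] L) (x : L ⊗[K] A) : Φ γ (Φ γ⁻¹ x) = x := by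
  rw [Φ_Φ, mul_inv_cancel, Φ_one]

theorem Φ_injective (γ : L ≃ₐ[K] L) : Function.Injective (Φ (A := A) γ) :=
  Function.LeftInverse.injective (Φ_inv_Φ γ)

/-- semilinearity of coordinates -/
theorem repr_Φ {ι : Type*} (b : Module.Basis ι K A) (γ : L ≃ₐ[K] L) (x : L ⊗[K] A) (i : ι) :
    (Algebra.TensorProduct.basis L b).repr (Φ γ x) i =
      γ ((Algebra.TensorProduct.basis L b).repr x i) := by
  induction x using TensorProduct.induction_on with
  | zero => simp
  | tmul l a =>
    rw [Φ_tmul, Algebra.TensorProduct.basis_repr_tmul, Algebra.TensorProduct.basis_repr_tmul]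
    simp
  | add x y hx hy => simp [hx, hy]

/-- Galois descent for two-sided ideals: a nonzero Galois-stable two-sided ideal of `L ⊗ A`,
`A` simple, is everything. -/
theorem one_mem_of_stable [IsGalois K L] [IsSimpleRing A] (U : TwoSidedIdeal (L ⊗[K] A))
    (hU : ∃ x ∈ U, x ≠ 0)
    (hstab : ∀ (γ : L ≃ₐ[K] L) (x : L ⊗[K] A), x ∈ U → Φ γ x ∈ U) :
    (1 : L ⊗[K] A) ∈ U := by
  classical
  let b := Module.Free.chooseBasis K A
  let B := Algebra.TensorProduct.basis L b
  have key : ∀ n : ℕ, ∀ x : L ⊗[K] A, x ∈ U → x ≠ 0 → (B.repr x).support.card = n →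
      (1 : L ⊗[K] A) ∈ U := by
    intro n
    induction n using Nat.strong_induction_on with
    | _ n ih =>
      intro x hxU hx0 hcard
      have hne : (B.repr x).support.Nonempty := by
        rw [Finsupp.support_nonempty_iff]
        intro h
        exact hx0 (B.repr.map_eq_zero_iff.mp h)
      obtain ⟨i₀, hi₀⟩ := hne
      have hc : B.repr x i₀ ≠ 0 := Finsupp.mem_support_iff.mp hi₀
      set c := B.repr x i₀ with hcdef
      let x' : L ⊗[K] A := c⁻¹ • x
      have hx'U : x' ∈ U := by
        have : x' = algebraMap L (L ⊗[K] A) c⁻¹ * x := by rw [← Algebra.smul_def]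
        rw [this]
        exact U.mul_mem_left _ _ hxU
      have hx'0 : x' ≠ 0 := smul_ne_zero (inv_ne_zero hc) hx0
      have hrepr : ∀ i, B.repr x' i = c⁻¹ * B.repr x i := by
        intro i
        simp [x']
      have hi₀' : B.repr x' i₀ = 1 := by rw [hrepr, ← hcdef, inv_mul_cancel₀ hc]
      have hsupp : (B.repr x').support = (B.repr x).support := by
        ext i
        simp only [Finsupp.mem_support_iff, hrepr, ne_eq, mul_eq_zero, inv_eq_zero, not_or]
        exact ⟨fun h => h.2, fun h => ⟨hc, h⟩⟩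
      by_cases hfix : ∀ γ : L ≃ₐ[K] L, Φ γ x' = x'
      · -- all coordinates lie in `K`
        have hκ : ∀ i, ∃ κ : K, algebraMap K L κ = B.repr x' i := by
          intro i
          have h1 : B.repr x' i ∈ Set.range (algebraMap K L) := by
            rw [InfiniteGalois.mem_range_algebraMap_iff_fixed]
            intro γ
            rw [← repr_Φ b γ x' i, hfix γ]
          exact h1
        choose κ hκ using hκ
        let a : A := ∑ i ∈ (B.repr x').support, κ i • b i
        have hx'a : x' = (1 : L) ⊗ₜ[K] a := by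
          conv_lhs => rw [← B.linearCombination_repr x', Finsupp.linearCombination_apply,
            Finsupp.sum]
          simp only [a, TensorProduct.tmul_sum]
          refine Finset.sum_congr rfl fun i _ => ?_
          rw [← hκ i, algebraMap_smul, Algebra.TensorProduct.basis_apply,
            TensorProduct.tmul_smul]
        let I₀ : TwoSidedIdeal A :=
          TwoSidedIdeal.comap (Algebra.TensorProduct.includeRight : A →ₐ[K] L ⊗[K] A) U
        have haI : a ∈ I₀ := by
          rw [TwoSidedIdeal.mem_comap]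
          change (1 : L) ⊗ₜ[K] a ∈ U
          rw [← hx'a]
          exact hx'U
        have ha0 : a ≠ 0 := by
          intro h
          apply hx'0
          rw [hx'a, h, TensorProduct.tmul_zero]
        have h1 : (1 : A) ∈ I₀ := IsSimpleRing.one_mem_of_ne_zero_mem I₀ ha0 haI
        rw [TwoSidedIdeal.mem_comap] at h1
        exact h1
      · push Not at hfix
        obtain ⟨γ, hγ⟩ := hfix
        let z := Φ γ x' - x'
        have hzU : z ∈ U := U.sub_mem (hstab γ x' hx'U) hx'U
        have hz0 : z ≠ 0 := sub_ne_zero.mpr hγ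
        have hzrepr : ∀ i, B.repr z i = γ (B.repr x' i) - B.repr x' i := by
          intro i
          simp only [z, map_sub, Finsupp.sub_apply]
          rw [show B.repr (Φ γ x') i = γ (B.repr x' i) from repr_Φ b γ x' i]
        have hlt : (B.repr z).support.card < n := by
          rw [← hcard, ← hsupp]
          apply Finset.card_lt_card
          rw [Finset.ssubset_iff_of_subset]
          · refine ⟨i₀, ?_, ?_⟩
            · rw [Finsupp.mem_support_iff, hi₀']
              exact one_ne_zero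
            · rw [Finsupp.mem_support_iff, hzrepr, hi₀', map_one, sub_self]
              simp
          · intro i hi
            rw [Finsupp.mem_support_iff] at hi ⊢
            intro h
            apply hi
            rw [hzrepr, h, map_zero, sub_zero]
        exact ih _ hlt z hzU hz0 rfl
  obtain ⟨x, hxU, hx0⟩ := hU
  exact key _ x hxU hx0 rfl

/-- the ideal of elements all of whose Galois conjugates are killed by `J` on the left -/
noncomputable def ann (J : TwoSidedIdeal (L ⊗[K] A)) : TwoSidedIdeal (L ⊗[K] A) :=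
  TwoSidedIdeal.mk' {x | ∀ (γ : L ≃ₐ[K] L), ∀ j ∈ J, j * Φ γ x = 0}
    (by intro γ j _; simp)
    (by intro x y hx hy γ j hj; rw [map_add, mul_add, hx γ j hj, hy γ j hj, add_zero])
    (by intro x hx γ j hj; rw [map_neg, mul_neg, hx γ j hj, neg_zero])
    (by
      intro x y hy γ j hj
      rw [map_mul, ← mul_assoc]
      exact hy γ _ (J.mul_mem_right _ _ hj))
    (by
      intro x y hx γ j hj
      rw [map_mul, ← mul_assoc, hx γ j hj, zero_mul])

theorem mem_ann (J : TwoSidedIdeal (L ⊗[K] A)) (x : L ⊗[K] A) :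
    x ∈ ann J ↔ ∀ (γ : L ≃ₐ[K] L), ∀ j ∈ J, j * Φ γ x = 0 := by
  rw [ann, TwoSidedIdeal.mem_mk']
  rfl

/-- The Galois group permutes the minimal two-sided ideals of `L ⊗[K] A` transitively. -/
theorem exists_map_eq [IsGalois K L] [IsSimpleRing A]
    (I J : TwoSidedIdeal (L ⊗[K] A)) (hI : IsAtom I) (hJ : IsAtom J) :
    ∃ γ : L ≃ₐ[K] L, (J : Set (L ⊗[K] A)) = Φ γ '' (I : Set (L ⊗[K] A)) := by
  classical
  -- a nonzero element of `I`
  obtain ⟨x, hxI, hx0⟩ : ∃ x ∈ I, x ≠ 0 := by
    by_contra h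
    push Not at h
    apply hI.1
    ext y
    rw [TwoSidedIdeal.mem_bot]
    exact ⟨h y, fun hy => hy ▸ I.zero_mem⟩
  obtain ⟨j₀, hj₀J, hj₀0⟩ : ∃ x ∈ J, x ≠ 0 := by
    by_contra h
    push Not at h
    apply hJ.1
    ext y
    rw [TwoSidedIdeal.mem_bot]
    exact ⟨h y, fun hy => hy ▸ J.zero_mem⟩
  -- `x ∉ ann J`
  have hxann : x ∉ ann J := by
    intro hx
    have h1 : (1 : L ⊗[K] A) ∈ ann J := by
      refine one_mem_of_stable (ann J) ⟨x, hx, hx0⟩ ?_
      intro δ y hy
      rw [mem_ann] at hy ⊢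
      intro γ j hj
      rw [Φ_Φ]
      exact hy _ j hj
    rw [mem_ann] at h1
    have := h1 1 j₀ hj₀J
    rw [map_one, mul_one] at this
    exact hj₀0 this
  rw [mem_ann] at hxann
  push Not at hxann
  obtain ⟨γ, j, hjJ, hne⟩ := hxann
  refine ⟨γ, ?_⟩
  -- `I' = γ(I)`
  let I' : TwoSidedIdeal (L ⊗[K] A) := TwoSidedIdeal.comap (Φ γ⁻¹) I
  have hJI' : J ≤ I' := by
    have h1 : J ⊓ I' ≤ J := inf_le_left
    rcases hJ.le_iff.mp h1 with h | h
    · exfalso
      have : j * Φ γ x ∈ J ⊓ I' := by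
        rw [TwoSidedIdeal.mem_inf]
        refine ⟨J.mul_mem_right _ _ hjJ, ?_⟩
        apply I'.mul_mem_left
        rw [TwoSidedIdeal.mem_comap, Φ_inv_Φ]
        exact hxI
      rw [h, TwoSidedIdeal.mem_bot] at this
      exact hne this
    · rw [← h]
      exact inf_le_right
  let X : TwoSidedIdeal (L ⊗[K] A) := TwoSidedIdeal.comap (Φ γ) J
  have hXI : X ≤ I := by
    intro y hy
    rw [TwoSidedIdeal.mem_comap] at hy
    have := hJI' hy
    rw [TwoSidedIdeal.mem_comap, Φ_inv_Φ] at this
    exact this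
  have hX : X = I := by
    rcases hI.le_iff.mp hXI with h | h
    · exfalso
      have : Φ γ⁻¹ j₀ ∈ X := by
        rw [TwoSidedIdeal.mem_comap, Φ_Φ_inv]
        exact hj₀J
      rw [h, TwoSidedIdeal.mem_bot] at this
      apply hj₀0
      apply Φ_injective γ⁻¹
      rw [this, map_zero]
    · exact h
  ext y
  constructor
  · intro hy
    have h1 := hJI' hy
    rw [TwoSidedIdeal.mem_comap] at h1
    exact ⟨Φ γ⁻¹ y, h1, Φ_Φ_inv γ y⟩
  · rintro ⟨w, hw, rfl⟩
    have hw' : w ∈ X := by rw [hX]; exact hw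
    rw [TwoSidedIdeal.mem_comap] at hw'
    exact hw'

end Groth.Agent.Lib.Helper25.GaloisIdeal
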