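import Groth.Agent.Lib.Helper25.PiTensorAlg

/-!
# Tensor powers of geometrically reduced algebras over a field are reduced (helper25)
-/

namespace Groth.Agent.Lib.Helper25.GeomRed
open scoped TensorProduct
universe u

theorem repr_rTensor {K : Type u} [CommRing K] {R : Type u} [CommRing R] [Algebra K R]
    {ι : Type*} (b : Module.Basis ι K R)
    {S S' : Type u} [CommRing S] [Algebra K S] [CommRing S'] [Algebra K S']
    (φ : S →ₐ[K] S') (z : S ⊗[K] R) (i : ι) :
    (Algebra.TensorProduct.basis S' b).repr (φ.toLinearMap.rTensor R z) i =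
      φ ((Algebra.TensorProduct.basis S b).repr z i) := by
  induction z using TensorProduct.induction_on with
  | zero => simp
  | tmul t m =>
      simp [LinearMap.rTensor_tmul, Algebra.TensorProduct.basis_repr_tmul, Finsupp.smul_apply,
        Finsupp.mapRange_apply]
  | add z z' hz hz' => simp only [map_add, Finsupp.add_apply, hz, hz']

theorem rTensor_eq_map' {K : Type u} [CommRing K] {R : Type u} [CommRing R] [Algebra K R]
    {S S' : Type u} [CommRing S] [Algebra K S] [CommRing S'] [Algebra K S']
    (φ : S →ₐ[K] S') (z : S ⊗[K] R) :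
    φ.toLinearMap.rTensor R z = Algebra.TensorProduct.map φ (AlgHom.id K R) z := by
  induction z using TensorProduct.induction_on with
  | zero => simp
  | tmul t m => rfl
  | add z z' hz hz' => simp only [map_add, hz, hz']

/-- a reduced algebra tensored with a geometrically reduced algebra over a field is reduced -/
theorem isReduced_tensor_of_geomReduced (K : Type u) [Field K] (R' R : Type u) [CommRing R']
    [Algebra K R'] [CommRing R] [Algebra K R] [IsReduced R']
    (h : ∀ (L : Type u) [Field L] [Algebra K L], IsReduced (L ⊗[K] R)) :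
    IsReduced (R' ⊗[K] R) := by
  classical
  let b := Module.Free.chooseBasis K R
  constructor
  intro x hx
  have hcoord : ∀ j, (Algebra.TensorProduct.basis R' b).repr x j = 0 := by
    intro j
    have hmem : (Algebra.TensorProduct.basis R' b).repr x j ∈ nilradical R' := by
      rw [nilradical_eq_sInf, Ideal.mem_sInf]
      intro p hp
      have : p.IsPrime := hp
      let φ : R' →ₐ[K] p.ResidueField := IsScalarTower.toAlgHom K R' p.ResidueField
      have hΦ : IsNilpotent (φ.toLinearMap.rTensor R x) := by
        rw [rTensor_eq_map']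
        exact hx.map _
      have h0 : φ.toLinearMap.rTensor R x = 0 := (h p.ResidueField).eq_zero _ hΦ
      have h1 := repr_rTensor b φ x j
      rw [h0, map_zero, Finsupp.zero_apply] at h1
      exact Ideal.algebraMap_residueField_eq_zero.1 h1.symm
    rw [nilradical_eq_zero] at hmem
    exact hmem
  exact (Algebra.TensorProduct.basis R' b).repr.map_eq_zero_iff.1 (Finsupp.ext hcoord)


/-- tensor powers of a geometrically reduced algebra over a field are reduced -/
theorem isReduced_piTensor (K : Type u) [Field K] (R : Type u) [CommRing R] [Algebra K R]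
    (h : ∀ (L : Type u) [Field L] [Algebra K L], IsReduced (L ⊗[K] R)) :
    ∀ (n : ℕ) (ι : Type) [Fintype ι] [DecidableEq ι], Fintype.card ι = n →
      IsReduced (⨂[K] _ : ι, R) := by
  intro n
  induction n with
  | zero =>
    intro ι _ _ hι
    have : IsEmpty ι := Fintype.card_eq_zero_iff.1 hι
    exact isReduced_of_injective (PiTensorAlg.algEmpty (k := K) (fun _ : ι => R))
      (PiTensorAlg.algEmpty (k := K) (fun _ : ι => R)).injective
  | succ n ih =>
    intro ι _ _ hι
    have hne : Nonempty ι := by
      rw [← Fintype.card_pos_iff, hι]; exact Nat.succ_pos n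
    obtain ⟨i₀⟩ := hne
    have hcard : Fintype.card {j // ¬ j = i₀} = n := by
      rw [Fintype.card_subtype_compl, Fintype.card_subtype_eq, hι]
      rfl
    have hT : IsReduced (⨂[K] _ : {j // ¬ j = i₀}, R) := ih _ hcard
    have h1 : IsReduced ((⨂[K] _ : {j // ¬ j = i₀}, R) ⊗[K] R) :=
      isReduced_tensor_of_geomReduced K _ R h
    have h2 : IsReduced (R ⊗[K] (⨂[K] _ : {j // ¬ j = i₀}, R)) :=
      isReduced_of_injective (Algebra.TensorProduct.comm K R (⨂[K] _ : {j // ¬ j = i₀}, R))
        (Algebra.TensorProduct.comm K R (⨂[K] _ : {j // ¬ j = i₀}, R)).injective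
    exact isReduced_of_injective (PiTensorAlg.splitOff (k := K) (fun _ : ι => R) i₀)
      (PiTensorAlg.splitOff (k := K) (fun _ : ι => R) i₀).injective

end Groth.Agent.Lib.Helper25.GeomRed
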