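import Mathlib
import Groth.Prelude
import Groth.Agent.Lib.Helper84.LG

/-!
# Local-global isomorphisms inside a finitely generated submodule of `Hom` (helper25)

Over an LG-ring `R`, let `M`, `N` be finite projective modules and `H₁ ≤ Hom(M, N)`,
`H₂ ≤ Hom(N, M)` finitely generated submodules. If modulo every maximal ideal there are mutually
inverse maps coming from `H₁`, `H₂`, then `H₁` contains a bijective map.
-/

set_option autoImplicit false
universe u v₁ v₂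
open scoped TensorProduct

namespace Groth.Agent.Lib.Helper25.LGIso

open LGRing MvPolynomial Groth.Agent.Lib.Helper84.LG

section Aux

variable {R : Type u} [CommRing R]

theorem map_mem_smul_top {M N : Type*} [AddCommGroup M] [Module R M] [AddCommGroup N] [Module R N]
    (f : M →ₗ[R] N) (I : Ideal R) {x : M} (hx : x ∈ I • (⊤ : Submodule R M)) :
    f x ∈ I • (⊤ : Submodule R N) := by
  refine Submodule.smul_induction_on hx (fun r hr n _ => ?_) (fun x y hx hy => ?_)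
  · rw [map_smul]; exact Submodule.smul_mem_smul hr Submodule.mem_top
  · rw [map_add]; exact add_mem hx hy

theorem apply_mem_of_mem_smul_top {n : ℕ} (I : Ideal R) {w : Fin n → R}
    (hw : w ∈ I • (⊤ : Submodule R (Fin n → R))) (c : Fin n) : w c ∈ I := by
  have h := map_mem_smul_top (LinearMap.proj (R := R) (φ := fun _ : Fin n => R) c) I hw
  rwa [Ideal.smul_top_eq_map, Algebra.algebraMap_self, Ideal.map_id] at h

/-- an endomorphism of `Rⁿ` congruent to the identity modulo `I` has determinant `≡ 1` -/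
theorem det_toMatrix_congr_one {n : ℕ} (I : Ideal R) (T : (Fin n → R) →ₗ[R] (Fin n → R))
    (hT : ∀ w, T w - w ∈ I • (⊤ : Submodule R (Fin n → R))) :
    Ideal.Quotient.mk I (LinearMap.toMatrix (Pi.basisFun R (Fin n)) (Pi.basisFun R (Fin n)) T).det
      = 1 := by
  classical
  rw [RingHom.map_det]
  have : (Ideal.Quotient.mk I).mapMatrix
      (LinearMap.toMatrix (Pi.basisFun R (Fin n)) (Pi.basisFun R (Fin n)) T) = 1 := by
    ext a b
    rw [RingHom.mapMatrix_apply, Matrix.map_apply, LinearMap.toMatrix_apply, Pi.basisFun_repr,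
      Pi.basisFun_apply, Matrix.one_apply]
    have h := apply_mem_of_mem_smul_top I (hT (Pi.single b 1)) a
    rw [Pi.sub_apply] at h
    have h2 : Ideal.Quotient.mk I (T (Pi.single b 1) a) =
        Ideal.Quotient.mk I ((Pi.single b 1 : Fin n → R) a) :=
      Ideal.Quotient.eq.mpr h
    rw [h2, Pi.single_apply]
    by_cases hab : a = b
    · simp [hab]
    · simp [hab]
  rw [this, Matrix.det_one]

end Aux

section Main

variable {R : Type u} [CommRing R]

theorem comp_sum_smul_comp {M N V₁ V₂ : Type*} [AddCommGroup M] [Module R M] [AddCommGroup N]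
    [Module R N] [AddCommGroup V₁] [Module R V₁] [AddCommGroup V₂] [Module R V₂]
    {a : ℕ} (x : Fin a → (M →ₗ[R] N)) (r : Fin a → R) (p : V₁ →ₗ[R] M) (i : N →ₗ[R] V₂) :
    i ∘ₗ (∑ k, r k • x k) ∘ₗ p = ∑ k, r k • (i ∘ₗ x k ∘ₗ p) := by
  ext v
  simp [LinearMap.sum_apply]

open Module in
/-- **Local-global principle for isomorphisms inside a finitely generated submodule of `Hom`.** -/
theorem exists_bijective_mem_of_local (hR : IsLGRing R)
    (M : Type v₁) (N : Type v₂) [AddCommGroup M] [Module R M] [Module.Finite R M]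
    [Module.Projective R M] [AddCommGroup N] [Module R N] [Module.Finite R N]
    [Module.Projective R N]
    (H₁ : Submodule R (M →ₗ[R] N)) (H₂ : Submodule R (N →ₗ[R] M)) (hH₁ : H₁.FG) (hH₂ : H₂.FG)
    (hloc : ∀ (m : Ideal R) [m.IsMaximal], ∃ ψ ∈ H₁, ∃ ψ' ∈ H₂,
      (∀ x, ψ' (ψ x) - x ∈ m • (⊤ : Submodule R M)) ∧
      (∀ y, ψ (ψ' y) - y ∈ m • (⊤ : Submodule R N))) :
    ∃ u ∈ H₁, Function.Bijective u := by
  classical
  obtain ⟨n₁, p₁, i₁, -, -, hpi₁⟩ := Module.Finite.exists_comp_eq_id_of_projective R M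
  obtain ⟨n₂, p₂, i₂, -, -, hpi₂⟩ := Module.Finite.exists_comp_eq_id_of_projective R N
  have h₁ : ∀ z, p₁ (i₁ z) = z := fun z => LinearMap.congr_fun hpi₁ z
  have h₂ : ∀ z, p₂ (i₂ z) = z := fun z => LinearMap.congr_fun hpi₂ z
  obtain ⟨a, x, hx⟩ := Submodule.fg_iff_exists_fin_generating_family.mp hH₁
  obtain ⟨b, y, hy⟩ := Submodule.fg_iff_exists_fin_generating_family.mp hH₂
  let b₁ := Pi.basisFun R (Fin n₁)
  let b₂ := Pi.basisFun R (Fin n₂)
  let P₁ := LinearMap.toMatrix b₁ b₁ (i₁ ∘ₗ p₁)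
  let P₂ := LinearMap.toMatrix b₂ b₂ (i₂ ∘ₗ p₂)
  -- the maps attached to a parameter `s`
  let U : (Fin a ⊕ Fin b → R) → (M →ₗ[R] N) := fun s => ∑ k, s (Sum.inl k) • x k
  let V : (Fin a ⊕ Fin b → R) → (N →ₗ[R] M) := fun s => ∑ k, s (Sum.inr k) • y k
  have hU : ∀ s, U s ∈ H₁ := by
    intro s
    rw [← hx]
    exact Submodule.sum_mem _ fun k _ => Submodule.smul_mem _ _ (Submodule.subset_span ⟨k, rfl⟩)
  let σ : (Fin n₂ × Fin n₁) ⊕ (Fin n₁ × Fin n₂) → MvPolynomial (Fin a ⊕ Fin b) R :=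
    Sum.elim
      (fun cd => ∑ k, X (Sum.inl k) * C (LinearMap.toMatrix b₁ b₂ (i₂ ∘ₗ x k ∘ₗ p₁) cd.1 cd.2))
      (fun cd => ∑ k, X (Sum.inr k) * C (LinearMap.toMatrix b₂ b₁ (i₁ ∘ₗ y k ∘ₗ p₂) cd.1 cd.2))
  let G : MvPolynomial (Fin a ⊕ Fin b) R := aeval σ (FF P₁ P₂)
  have hG : ∀ s : Fin a ⊕ Fin b → R, aeval s G =
      (LinearMap.toMatrix b₂ b₂ (TT p₁ i₁ p₂ i₂ (i₂ ∘ₗ U s ∘ₗ p₁) (i₁ ∘ₗ V s ∘ₗ p₂))).det *
      (LinearMap.toMatrix b₁ b₁ (TT p₂ i₂ p₁ i₁ (i₁ ∘ₗ V s ∘ₗ p₂) (i₂ ∘ₗ U s ∘ₗ p₁))).det := by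
    intro s
    have h1 : aeval s G = aeval (fun v => aeval s (σ v)) (FF P₁ P₂) := by
      simp only [G]
      rw [← AlgHom.comp_apply, MvPolynomial.comp_aeval]
    rw [h1, aeval_FF, toMatrix_TT b₁ b₂, toMatrix_TT b₂ b₁]
    have hid : ∀ {n : ℕ} (P : Matrix (Fin n) (Fin n) R), P.map (algebraMap R R) = P := by
      intro n P; ext a b; simp
    rw [hid, hid]
    have hX : (Matrix.of fun c d => aeval s (σ (Sum.inl (c, d)))) =
        LinearMap.toMatrix b₁ b₂ (i₂ ∘ₗ U s ∘ₗ p₁) := by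
      ext c d
      simp only [U, comp_sum_smul_comp, map_sum, map_smul, Matrix.of_apply, σ, Sum.elim_inl,
        map_mul, aeval_X, aeval_C, Algebra.algebraMap_self, RingHom.id_apply, Matrix.sum_apply,
        Matrix.smul_apply, smul_eq_mul]
    have hY : (Matrix.of fun c d => aeval s (σ (Sum.inr (c, d)))) =
        LinearMap.toMatrix b₂ b₁ (i₁ ∘ₗ V s ∘ₗ p₂) := by
      ext c d
      simp only [V, comp_sum_smul_comp, map_sum, map_smul, Matrix.of_apply, σ, Sum.elim_inr,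
        map_mul, aeval_X, aeval_C, Algebra.algebraMap_self, RingHom.id_apply, Matrix.sum_apply,
        Matrix.smul_apply, smul_eq_mul]
    rw [hX, hY]
  have key := representsUnit_of_finite hR G ?_
  · obtain ⟨s, hs⟩ := key
    rw [hG] at hs
    obtain ⟨hs2, hs1⟩ := IsUnit.mul_iff.mp hs
    have hsurj2 : Function.Surjective
        (TT p₁ i₁ p₂ i₂ (i₂ ∘ₗ U s ∘ₗ p₁) (i₁ ∘ₗ V s ∘ₗ p₂)) :=
      (LinearEquiv.ofIsUnitDet hs2).surjective
    have hsurj1 : Function.Surjective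
        (TT p₂ i₂ p₁ i₁ (i₁ ∘ₗ V s ∘ₗ p₂) (i₂ ∘ₗ U s ∘ₗ p₁)) :=
      (LinearEquiv.ofIsUnitDet hs1).surjective
    have hbij := bijective_of_TT_surjective p₁ i₁ p₂ i₂ h₁ h₂ _ _ hsurj2 hsurj1
    have heq : p₂ ∘ₗ (i₂ ∘ₗ U s ∘ₗ p₁) ∘ₗ i₁ = U s := by
      ext z
      simp only [LinearMap.comp_apply, h₁, h₂]
    rw [heq] at hbij
    exact ⟨U s, hU s, hbij⟩
  · intro m hm
    obtain ⟨ψ, hψ, ψ', hψ', hl, hr⟩ := hloc m
    rw [← hx] at hψ
    rw [← hy] at hψ'
    obtain ⟨r, rfl⟩ := (Submodule.mem_span_range_iff_exists_fun R).mp hψ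
    obtain ⟨r', rfl⟩ := (Submodule.mem_span_range_iff_exists_fun R).mp hψ'
    let s : Fin a ⊕ Fin b → R := Sum.elim r r'
    refine ⟨algebraMap R (R ⧸ m) ∘ s, ?_⟩
    rw [MvPolynomial.aeval_algebraMap_apply, hG, map_mul]
    have hUs : U s = ∑ k, r k • x k := rfl
    have hVs : V s = ∑ k, r' k • y k := rfl
    have e2 : Ideal.Quotient.mk m (LinearMap.toMatrix b₂ b₂
        (TT p₁ i₁ p₂ i₂ (i₂ ∘ₗ U s ∘ₗ p₁) (i₁ ∘ₗ V s ∘ₗ p₂))).det = 1 := by
      apply det_toMatrix_congr_one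
      intro w
      rw [TT_apply]
      simp only [LinearMap.comp_apply, h₁, h₂]
      have : w - i₂ (p₂ w) + i₂ (U s (V s (p₂ w))) - w = i₂ (U s (V s (p₂ w)) - p₂ w) := by
        rw [map_sub]; abel
      rw [this]
      apply map_mem_smul_top
      rw [hUs, hVs]
      exact hr (p₂ w)
    have e1 : Ideal.Quotient.mk m (LinearMap.toMatrix b₁ b₁
        (TT p₂ i₂ p₁ i₁ (i₁ ∘ₗ V s ∘ₗ p₂) (i₂ ∘ₗ U s ∘ₗ p₁))).det = 1 := by
      apply det_toMatrix_congr_one
      intro w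
      rw [TT_apply]
      simp only [LinearMap.comp_apply, h₁, h₂]
      have : w - i₁ (p₁ w) + i₁ (V s (U s (p₁ w))) - w = i₁ (V s (U s (p₁ w)) - p₁ w) := by
        rw [map_sub]; abel
      rw [this]
      apply map_mem_smul_top
      rw [hUs, hVs]
      exact hl (p₁ w)
    rw [Ideal.Quotient.algebraMap_eq, e2, e1, one_mul]
    exact isUnit_one

end Main

end Groth.Agent.Lib.Helper25.LGIso
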