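import Mathlib
import Groth.Prelude
import Groth.Agent.Lib.Helper25.LGIso

/-!
# Intertwiners between cyclic projective modules, and modules over simple algebras (helper25)
-/

set_option autoImplicit false
universe u v w
open scoped TensorProduct

namespace Groth.Agent.Lib.Helper25.LGCyclic

section Inter

variable {R : Type u} [CommRing R] {Λ : Type v} [Ring Λ] [Algebra R Λ]
  {M : Type*} {N : Type*} [AddCommGroup M] [Module R M] [AddCommGroup N] [Module R N]

/-- the `R`-module of intertwiners between two representations of `Λ` -/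
def inter (ρM : Λ →ₐ[R] Module.End R M) (ρN : Λ →ₐ[R] Module.End R N) :
    Submodule R (M →ₗ[R] N) where
  carrier := {u | ∀ (l : Λ) (x : M), u (ρM l x) = ρN l (u x)}
  add_mem' := by
    intro u v hu hv l x
    simp only [LinearMap.add_apply, map_add, hu l x, hv l x]
  zero_mem' := by
    intro l x
    simp
  smul_mem' := by
    intro c u hu l x
    simp only [LinearMap.smul_apply, map_smul, hu l x]

theorem mem_inter {ρM : Λ →ₐ[R] Module.End R M} {ρN : Λ →ₐ[R] Module.End R N}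
    {u : M →ₗ[R] N} : u ∈ inter ρM ρN ↔ ∀ (l : Λ) (x : M), u (ρM l x) = ρN l (u x) := Iff.rfl

/-- data exhibiting `M` as a cyclic projective `Λ`-module: `M ≃ Λ ε` -/
structure Cyc (ρM : Λ →ₐ[R] Module.End R M) where
  /-- generator -/
  x₀ : M
  /-- the section -/
  i : M →ₗ[R] Λ
  hi : ∀ (l : Λ) (x : M), i (ρM l x) = l * i x
  hx : ∀ x : M, ρM (i x) x₀ = x

variable {ρM : Λ →ₐ[R] Module.End R M}

/-- the intertwiner sending the generator to (the projection of) `n` -/
def Cyc.hom (c : Cyc ρM) (ρN : Λ →ₐ[R] Module.End R N) : N →ₗ[R] (M →ₗ[R] N) :=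
  (ρN.toLinearMap ∘ₗ c.i).flip

theorem Cyc.hom_apply (c : Cyc ρM) (ρN : Λ →ₐ[R] Module.End R N) (n : N) (x : M) :
    c.hom ρN n x = ρN (c.i x) n := rfl

theorem Cyc.hom_mem (c : Cyc ρM) (ρN : Λ →ₐ[R] Module.End R N) (n : N) :
    c.hom ρN n ∈ inter ρM ρN := by
  intro l x
  rw [c.hom_apply, c.hom_apply, c.hi, map_mul]
  rfl

theorem Cyc.range_hom (c : Cyc ρM) (ρN : Λ →ₐ[R] Module.End R N) :
    LinearMap.range (c.hom ρN) = inter ρM ρN := by
  apply le_antisymm
  · rintro _ ⟨n, rfl⟩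
    exact c.hom_mem ρN n
  · intro u hu
    refine ⟨u c.x₀, ?_⟩
    ext x
    rw [c.hom_apply, ← mem_inter.mp hu, c.hx]

theorem Cyc.inter_fg (c : Cyc ρM) (ρN : Λ →ₐ[R] Module.End R N) [Module.Finite R N] :
    (inter ρM ρN).FG := by
  rw [← c.range_hom ρN, LinearMap.range_eq_map]
  exact Module.Finite.fg_top.map _

/-- transport of cyclic data along an algebra isomorphism -/
def Cyc.comp {Λ' : Type w} [Ring Λ'] [Algebra R Λ'] {ρN' : Λ' →ₐ[R] Module.End R N}
    (c : Cyc ρN') (e : Λ ≃ₐ[R] Λ') : Cyc (ρN'.comp e.toAlgHom) where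
  x₀ := c.x₀
  i := e.symm.toLinearMap ∘ₗ c.i
  hi := by
    intro l x
    change e.symm (c.i (ρN' (e l) x)) = l * e.symm (c.i x)
    rw [c.hi, map_mul, e.symm_apply_apply]
  hx := by
    intro x
    change ρN' (e (e.symm (c.i x))) c.x₀ = x
    rw [e.apply_symm_apply, c.hx]

end Inter

section Simple

variable (κ : Type u) [Field κ] (L : Type v) [Ring L] [Algebra κ L] [IsSimpleRing L]
  [FiniteDimensional κ L]

/-- two simple modules over a simple artinian ring are isomorphic -/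
theorem nonempty_linearEquiv_of_simple [IsArtinianRing L]
    (S T : Type*) [AddCommGroup S] [Module L S] [AddCommGroup T] [Module L T]
    [IsSimpleModule L S] [IsSimpleModule L T] : Nonempty (S ≃ₗ[L] T) := by
  let S' : Submodule L (S × T) := LinearMap.range (LinearMap.inl L S T)
  let T' : Submodule L (S × T) := LinearMap.range (LinearMap.inr L S T)
  let eS : S ≃ₗ[L] S' := LinearEquiv.ofInjective (LinearMap.inl L S T) LinearMap.inl_injective
  let eT : T ≃ₗ[L] T' := LinearEquiv.ofInjective (LinearMap.inr L S T) LinearMap.inr_injective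
  have hS' : IsSimpleModule L S' := IsSimpleModule.congr eS.symm
  have hT' : IsSimpleModule L T' := IsSimpleModule.congr eT.symm
  obtain ⟨f⟩ := IsSimpleRing.isIsotypic L (S × T) T' S'
  exact ⟨eS.trans (f.trans eT.symm)⟩

/-- Finite-dimensional representations of a finite-dimensional simple algebra of the same
dimension are isomorphic. -/
theorem exists_intertwining_equiv
    (V : Type*) (W : Type*) [AddCommGroup V] [Module κ V] [FiniteDimensional κ V]
    [AddCommGroup W] [Module κ W] [FiniteDimensional κ W]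
    (τV : L →ₐ[κ] Module.End κ V) (τW : L →ₐ[κ] Module.End κ W)
    (hdim : Module.finrank κ V = Module.finrank κ W) :
    ∃ φ : V ≃ₗ[κ] W, ∀ (l : L) (v : V), φ (τV l v) = τW l (φ v) := by
  let _ : Module L V := Module.compHom V τV.toRingHom
  let _ : Module L W := Module.compHom W τW.toRingHom
  have hsV : ∀ (l : L) (v : V), l • v = τV l v := fun _ _ => rfl
  have hsW : ∀ (l : L) (w : W), l • w = τW l w := fun _ _ => rfl
  have : IsScalarTower κ L V := ⟨fun c l v => by
    rw [hsV, hsV, map_smul]; rfl⟩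
  have : IsScalarTower κ L W := ⟨fun c l w => by
    rw [hsW, hsW, map_smul]; rfl⟩
  have : IsArtinianRing L := IsArtinianRing.of_finite κ L
  have : Module.Finite L V := Module.Finite.of_restrictScalars_finite κ L V
  have : Module.Finite L W := Module.Finite.of_restrictScalars_finite κ L W
  suffices h : Nonempty (V ≃ₗ[L] W) by
    obtain ⟨φ⟩ := h
    exact ⟨φ.restrictScalars κ, fun l v => φ.map_smul l v⟩
  rcases subsingleton_or_nontrivial V with hV | hV
  · have hW : Subsingleton W := by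
      rw [← Module.finrank_zero_iff (R := κ), ← hdim, Module.finrank_zero_iff]
      exact hV
    exact ⟨LinearEquiv.ofSubsingleton V W⟩
  have hW : Nontrivial W := by
    rw [← Module.finrank_pos_iff (R := κ), ← hdim, Module.finrank_pos_iff]
    exact hV
  obtain ⟨a, _, S, hS, ⟨eV⟩⟩ := (IsSimpleRing.isIsotypic L V).linearEquiv_fun
  obtain ⟨b, _, T, hT, ⟨eW⟩⟩ := (IsSimpleRing.isIsotypic L W).linearEquiv_fun
  obtain ⟨eST⟩ := nonempty_linearEquiv_of_simple L S T
  have : Module.Finite κ S :=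
    Module.Finite.of_injective (S.subtype.restrictScalars κ) S.injective_subtype
  have : Module.Finite κ T :=
    Module.Finite.of_injective (T.subtype.restrictScalars κ) T.injective_subtype
  have hdS : Module.finrank κ S = Module.finrank κ T := (eST.restrictScalars κ).finrank_eq
  have hV' : Module.finrank κ V = a * Module.finrank κ S := by
    rw [(eV.restrictScalars κ).finrank_eq, Module.finrank_pi_fintype]
    simp
  have hW' : Module.finrank κ W = b * Module.finrank κ T := by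
    rw [(eW.restrictScalars κ).finrank_eq, Module.finrank_pi_fintype]
    simp
  have hSpos : 0 < Module.finrank κ S := by
    have : Nontrivial S := IsSimpleModule.nontrivial L S
    exact Module.finrank_pos
  have hab : a = b := by
    rw [hV', hW', ← hdS] at hdim
    exact Nat.eq_of_mul_eq_mul_right hSpos hdim
  subst hab
  exact ⟨eV.trans ((LinearEquiv.piCongrRight fun _ => eST).trans eW.symm)⟩

end Simple

section BaseChange

variable {R : Type u} [CommRing R] {Λ : Type v} [Ring Λ] [Algebra R Λ]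
  {M : Type*} [AddCommGroup M] [Module R M]

/-- base change of a representation -/
noncomputable def bc (S : Type*) [CommRing S] [Algebra R S] (ρM : Λ →ₐ[R] Module.End R M) :
    S ⊗[R] Λ →ₐ[S] Module.End S (S ⊗[R] M) :=
  Algebra.TensorProduct.lift (Algebra.ofId S (Module.End S (S ⊗[R] M)))
    ((Module.End.baseChangeHom R S M).comp ρM)
    (fun s l => show Commute (Algebra.ofId S (Module.End S (S ⊗[R] M)) s)
      (((Module.End.baseChangeHom R S M).comp ρM) l) from Algebra.commute_algebraMap_left s _)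

theorem bc_tmul (S : Type*) [CommRing S] [Algebra R S] (ρM : Λ →ₐ[R] Module.End R M)
    (s t : S) (l : Λ) (x : M) : bc S ρM (s ⊗ₜ l) (t ⊗ₜ x) = (s * t) ⊗ₜ ρM l x := by
  rw [bc, Algebra.TensorProduct.lift_tmul, Module.End.mul_apply]
  change (algebraMap S (Module.End S (S ⊗[R] M)) s) ((ρM l).baseChange S (t ⊗ₜ x)) = _
  rw [LinearMap.baseChange_tmul, Module.algebraMap_end_apply, TensorProduct.smul_tmul',
    smul_eq_mul]

theorem tmul_one_eq_zero (I : Ideal R) (z : M) (h : (1 : R ⧸ I) ⊗ₜ[R] z = 0) :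
    z ∈ I • (⊤ : Submodule R M) := by
  have h1 := congrArg (TensorProduct.quotTensorEquivQuotSMul M I) h
  rw [TensorProduct.quotTensorEquivQuotSMul_mk_one_tmul, map_zero,
    Submodule.Quotient.mk_eq_zero] at h1
  exact h1

end BaseChange

section Local

variable {R : Type u} [CommRing R] {Λ : Type v} [Ring Λ] [Algebra R Λ] [Module.Finite R Λ]
  {M : Type*} {N : Type*} [AddCommGroup M] [Module R M] [AddCommGroup N] [Module R N]
  [Module.Finite R M] [Module.Finite R N]
  {ρM : Λ →ₐ[R] Module.End R M} {ρN : Λ →ₐ[R] Module.End R N}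

/-- Modulo a maximal ideal with simple fibre algebra, two cyclic projective representations of the
same fibre dimension have mutually inverse intertwiners. -/
theorem exists_local_inverse (m : Ideal R) [hm : m.IsMaximal]
    (hsimple : IsSimpleRing ((R ⧸ m) ⊗[R] Λ)) (cM : Cyc ρM) (cN : Cyc ρN)
    (hdim : letI := Ideal.Quotient.field m
      Module.finrank (R ⧸ m) ((R ⧸ m) ⊗[R] M) = Module.finrank (R ⧸ m) ((R ⧸ m) ⊗[R] N)) :
    ∃ ψ ∈ inter ρM ρN, ∃ ψ' ∈ inter ρN ρM,
      (∀ x, ψ' (ψ x) - x ∈ m • (⊤ : Submodule R M)) ∧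
      (∀ y, ψ (ψ' y) - y ∈ m • (⊤ : Submodule R N)) := by
  let _ : Field (R ⧸ m) := Ideal.Quotient.field m
  obtain ⟨φ, hφ⟩ := exists_intertwining_equiv (R ⧸ m) ((R ⧸ m) ⊗[R] Λ) ((R ⧸ m) ⊗[R] M)
    ((R ⧸ m) ⊗[R] N) (bc (R ⧸ m) ρM) (bc (R ⧸ m) ρN) hdim
  have hφ' : ∀ (l : (R ⧸ m) ⊗[R] Λ) (w : (R ⧸ m) ⊗[R] N),
      φ.symm (bc (R ⧸ m) ρN l w) = bc (R ⧸ m) ρM l (φ.symm w) := by
    intro l w
    apply φ.injective
    rw [hφ, φ.apply_symm_apply, φ.apply_symm_apply]
  have hsurj : Function.Surjective (algebraMap R (R ⧸ m)) := Ideal.Quotient.mk_surjective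
  obtain ⟨n₀, hn₀⟩ := TensorProduct.mk_surjective R N (R ⧸ m) hsurj (φ (1 ⊗ₜ cM.x₀))
  obtain ⟨m₀, hm₀⟩ := TensorProduct.mk_surjective R M (R ⧸ m) hsurj (φ.symm (1 ⊗ₜ cN.x₀))
  rw [TensorProduct.mk_apply] at hn₀ hm₀
  have key1 : ∀ x : M, (1 : R ⧸ m) ⊗ₜ[R] (cM.hom ρN n₀ x) = φ (1 ⊗ₜ x) := by
    intro x
    rw [cM.hom_apply]
    have h1 : (1 : R ⧸ m) ⊗ₜ[R] (ρN (cM.i x) n₀) =
        bc (R ⧸ m) ρN (1 ⊗ₜ cM.i x) (1 ⊗ₜ n₀) := by
      rw [bc_tmul, one_mul]
    have h2 : (1 : R ⧸ m) ⊗ₜ[R] x = bc (R ⧸ m) ρM (1 ⊗ₜ cM.i x) (1 ⊗ₜ cM.x₀) := by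
      rw [bc_tmul, one_mul, cM.hx]
    rw [h1, hn₀, ← hφ, ← h2]
  have key2 : ∀ y : N, (1 : R ⧸ m) ⊗ₜ[R] (cN.hom ρM m₀ y) = φ.symm (1 ⊗ₜ y) := by
    intro y
    rw [cN.hom_apply]
    have h1 : (1 : R ⧸ m) ⊗ₜ[R] (ρM (cN.i y) m₀) =
        bc (R ⧸ m) ρM (1 ⊗ₜ cN.i y) (1 ⊗ₜ m₀) := by
      rw [bc_tmul, one_mul]
    have h2 : (1 : R ⧸ m) ⊗ₜ[R] y = bc (R ⧸ m) ρN (1 ⊗ₜ cN.i y) (1 ⊗ₜ cN.x₀) := by
      rw [bc_tmul, one_mul, cN.hx]
    rw [h1, hm₀, ← hφ', ← h2]
  refine ⟨cM.hom ρN n₀, cM.hom_mem ρN n₀, cN.hom ρM m₀, cN.hom_mem ρM m₀, ?_, ?_⟩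
  · intro x
    apply tmul_one_eq_zero
    rw [TensorProduct.tmul_sub, key2, key1, φ.symm_apply_apply, sub_self]
  · intro y
    apply tmul_one_eq_zero
    rw [TensorProduct.tmul_sub, key1, key2, φ.apply_symm_apply, sub_self]

end Local

end Groth.Agent.Lib.Helper25.LGCyclic
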