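import Mathlib
import Groth.Prelude
import Groth.Agent.Lib.Helper25.LGCyclic
import Groth.Agent.Lib.Helper85.Azumaya
import Groth.Agent.Lib.Helper85.AzumayaEnd
import Groth.Agent.Lib.Helper85.AzumayaBaseChange
import Groth.Agent.Lib.Helper85.CSAField

/-!
# Cancellation of Azumaya algebras over LG-rings (helper25)

If `A ⊗ End P ≃ B ⊗ End Q` and `A ⊗ P`, `B ⊗ Q` have the same rank, then `A ≃ B`.
-/

set_option autoImplicit false
universe u v w
open scoped TensorProduct

namespace Groth.Agent.Lib.Helper25.LGAzumaya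

open Groth.Agent.Lib.Helper25.LGCyclic Groth.Agent.Lib.Helper25.LGIso

section Rep

variable {R : Type u} [CommRing R] (A : Type v) [Ring A] [Algebra R A]
  (P : Type w) [AddCommGroup P] [Module R P]

/-- the representation of `A ⊗ End P` on `A ⊗ P` -/
noncomputable def rep : A ⊗[R] Module.End R P →ₐ[R] Module.End R (A ⊗[R] P) :=
  (Module.endTensorEndAlgHom (R := R) (S := R) (A := R) (M := A) (N := P)).comp
    (Algebra.TensorProduct.map (Algebra.lmul R A) (AlgHom.id R (Module.End R P)))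

theorem rep_tmul (a a' : A) (f : Module.End R P) (p : P) :
    rep A P (a ⊗ₜ f) (a' ⊗ₜ p) = (a * a') ⊗ₜ f p := by
  simp [rep, Module.endTensorEndAlgHom_apply]

/-- right multiplication on `A` -/
noncomputable def rmulA : Aᵐᵒᵖ →ₐ[R] Module.End R A :=
  (AlgHom.mulLeftRight R A).comp Algebra.TensorProduct.includeRight

theorem rmulA_apply (b : Aᵐᵒᵖ) (x : A) : rmulA (R := R) A b x = x * b.unop := by
  simp [rmulA, AlgHom.mulLeftRight_apply]

/-- right multiplication on `A ⊗ P` -/
noncomputable def rmul : Aᵐᵒᵖ →ₐ[R] Module.End R (A ⊗[R] P) :=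
  (Module.endTensorEndAlgHom (R := R) (S := R) (A := R) (M := A) (N := P)).comp
    (Algebra.TensorProduct.includeLeft.comp (rmulA A))

theorem rmul_tmul (b : Aᵐᵒᵖ) (a : A) (p : P) :
    rmul (R := R) A P b (a ⊗ₜ p) = (a * b.unop) ⊗ₜ p := by
  simp [rmul, Module.endTensorEndAlgHom_apply, rmulA_apply]

theorem rmul_comm (b : Aᵐᵒᵖ) (l : A ⊗[R] Module.End R P) (x : A ⊗[R] P) :
    rmul A P b (rep A P l x) = rep A P l (rmul A P b x) := by
  induction l using TensorProduct.induction_on with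
  | zero => simp
  | tmul a f =>
    induction x using TensorProduct.induction_on with
    | zero => simp
    | tmul a' p => rw [rep_tmul, rmul_tmul, rmul_tmul, rep_tmul, mul_assoc]
    | add x y hx hy => simp only [map_add, hx, hy]
  | add l l' hl hl' => simp only [map_add, LinearMap.add_apply, hl, hl']

variable {P}

/-- cyclic data for `A ⊗ P` from a unimodular element of `P` -/
noncomputable def cyc (p₀ : P) (f₀ : Module.Dual R P) (h₀ : f₀ p₀ = 1) :
    Cyc (R := R) (Λ := A ⊗[R] Module.End R P) (rep A P) where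
  x₀ := 1 ⊗ₜ p₀
  i := TensorProduct.map LinearMap.id (LinearMap.smulRightₗ f₀)
  hi := by
    intro l x
    induction l using TensorProduct.induction_on with
    | zero => simp
    | tmul a h =>
      induction x using TensorProduct.induction_on with
      | zero => simp
      | tmul a' p =>
        rw [rep_tmul, TensorProduct.map_tmul, TensorProduct.map_tmul,
          Algebra.TensorProduct.tmul_mul_tmul]
        congr 1
        ext c
        simp [LinearMap.smulRightₗ_apply_apply]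
      | add x y hx hy => simp only [map_add, hx, hy, mul_add]
    | add l l' hl hl' => simp only [map_add, LinearMap.add_apply, hl, hl', add_mul]
  hx := by
    intro x
    induction x using TensorProduct.induction_on with
    | zero => simp
    | tmul a p =>
      rw [TensorProduct.map_tmul, rep_tmul, LinearMap.id_apply, mul_one,
        LinearMap.smulRightₗ_apply_apply, h₀, one_smul]
    | add x y hx hy => simp only [map_add, LinearMap.add_apply, hx, hy]

/-- the projection `A ⊗ P → A` given by a linear form -/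
noncomputable def pr (f₀ : Module.Dual R P) : A ⊗[R] P →ₗ[R] A :=
  (TensorProduct.rid R A).toLinearMap ∘ₗ TensorProduct.map LinearMap.id f₀

theorem pr_tmul (f₀ : Module.Dual R P) (a : A) (p : P) : pr A f₀ (a ⊗ₜ p) = f₀ p • a := by
  simp [pr]

theorem rep_idem (p₀ : P) (f₀ : Module.Dual R P) (w : A ⊗[R] P) :
    rep A P (1 ⊗ₜ f₀.smulRight p₀) w = pr A f₀ w ⊗ₜ p₀ := by
  induction w using TensorProduct.induction_on with
  | zero => simp
  | tmul a p =>
    rw [rep_tmul, pr_tmul, one_mul, LinearMap.smulRight_apply, TensorProduct.smul_tmul]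
  | add x y hx hy => simp only [map_add, hx, hy, TensorProduct.add_tmul]

theorem rmul_injective (p₀ : P) (f₀ : Module.Dual R P) (h₀ : f₀ p₀ = 1) :
    Function.Injective (rmul (R := R) A P) := by
  intro b b' h
  have h1 := congrArg (pr A f₀) (LinearMap.congr_fun h (1 ⊗ₜ p₀))
  rw [rmul_tmul, rmul_tmul, pr_tmul, pr_tmul, h₀, one_smul, one_smul, one_mul, one_mul] at h1
  exact MulOpposite.unop_injective h1

/-- the commutant of `A ⊗ End P` acting on `A ⊗ P` consists of the right multiplications -/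
theorem exists_rmul_eq_of_commute (p₀ : P) (f₀ : Module.Dual R P) (h₀ : f₀ p₀ = 1)
    (φ : Module.End R (A ⊗[R] P))
    (hφ : ∀ (l : A ⊗[R] Module.End R P) (x : A ⊗[R] P), φ (rep A P l x) = rep A P l (φ x)) :
    ∃ b : Aᵐᵒᵖ, rmul A P b = φ := by
  have hz : φ (1 ⊗ₜ p₀) = pr A f₀ (φ (1 ⊗ₜ p₀)) ⊗ₜ p₀ := by
    rw [← rep_idem, ← hφ, rep_tmul, one_mul, LinearMap.smulRight_apply, h₀, one_smul]
  refine ⟨MulOpposite.op (pr A f₀ (φ (1 ⊗ₜ p₀))), ?_⟩
  apply TensorProduct.ext'
  intro a p
  have h1 : a ⊗ₜ[R] p = rep A P (a ⊗ₜ LinearMap.smulRightₗ f₀ p) (1 ⊗ₜ p₀) := by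
    rw [rep_tmul, mul_one, LinearMap.smulRightₗ_apply_apply, h₀, one_smul]
  rw [rmul_tmul, MulOpposite.unop_op]
  conv_rhs => rw [h1, hφ, hz, rep_tmul, LinearMap.smulRightₗ_apply_apply, h₀, one_smul]

end Rep

section Master

open Groth.Agent.Lib.Helper85 Groth.Agent.Lib.Helper84.LG

variable {R : Type u} [CommRing R]

/-- **Master cancellation theorem.** Over an LG-ring, if `A ⊗ End P ≃ B ⊗ End Q` for Azumaya
algebras `A`, `B` and faithfully projective `P`, `Q`, and `A ⊗ P`, `B ⊗ Q` have the same rank,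
then `A ≃ B`. -/
theorem nonempty_algEquiv_of_tensor_end (hR : LGRing.IsLGRing R)
    (A : Type v) (B : Type v) [Ring A] [Algebra R A] [IsAzumaya R A] [Ring B] [Algebra R B]
    [IsAzumaya R B]
    (P : Type w) (Q : Type w) [AddCommGroup P] [Module R P] [Module.Finite R P]
    [Module.Projective R P] [FaithfulSMul R P] [AddCommGroup Q] [Module R Q] [Module.Finite R Q]
    [Module.Projective R Q] [FaithfulSMul R Q]
    (e : A ⊗[R] Module.End R P ≃ₐ[R] B ⊗[R] Module.End R Q)
    (hrank : ∀ p : PrimeSpectrum R,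
      Module.rankAtStalk (A ⊗[R] P) p = Module.rankAtStalk (B ⊗[R] Q) p) :
    Nonempty (A ≃ₐ[R] B) := by
  obtain ⟨p₀, f₀, h₀⟩ := exists_unimodular hR P
  obtain ⟨q₀, g₀, k₀⟩ := exists_unimodular hR Q
  have hEndP : IsAzumaya R (Module.End R P) := isAzumaya_end R P
  have hΛ : IsAzumaya R (A ⊗[R] Module.End R P) := isAzumaya_tensorProduct R A (Module.End R P)
  let ρM : A ⊗[R] Module.End R P →ₐ[R] Module.End R (A ⊗[R] P) := rep A P
  let ρN : A ⊗[R] Module.End R P →ₐ[R] Module.End R (B ⊗[R] Q) := (rep B Q).comp e.toAlgHom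
  have hρN : ∀ l y, ρN l y = rep B Q (e l) y := fun _ _ => rfl
  let cM : Cyc ρM := cyc A p₀ f₀ h₀
  let cN : Cyc ρN := (cyc B q₀ g₀ k₀).comp e
  have hloc : ∀ (m : Ideal R) [m.IsMaximal], ∃ ψ ∈ inter ρM ρN, ∃ ψ' ∈ inter ρN ρM,
      (∀ x, ψ' (ψ x) - x ∈ m • (⊤ : Submodule R (A ⊗[R] P))) ∧
      (∀ y, ψ (ψ' y) - y ∈ m • (⊤ : Submodule R (B ⊗[R] Q))) := by
    intro m hm
    let _ : Field (R ⧸ m) := Ideal.Quotient.field m
    have hAz : IsAzumaya (R ⧸ m) ((R ⧸ m) ⊗[R] (A ⊗[R] Module.End R P)) :=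
      isAzumaya_baseChange R (R ⧸ m) (A ⊗[R] Module.End R P)
    have hsimple : IsSimpleRing ((R ⧸ m) ⊗[R] (A ⊗[R] Module.End R P)) :=
      isSimpleRing_of_isAzumaya (R ⧸ m) ((R ⧸ m) ⊗[R] (A ⊗[R] Module.End R P))
    refine exists_local_inverse m hsimple cM cN ?_
    rw [finrank_quotient_tensor, finrank_quotient_tensor, hrank]
  obtain ⟨u, hu, hbij⟩ := exists_bijective_mem_of_local hR (A ⊗[R] P) (B ⊗[R] Q)
    (inter ρM ρN) (inter ρN ρM) (cM.inter_fg ρN) (cN.inter_fg ρM) hloc
  let ue : (A ⊗[R] P) ≃ₗ[R] (B ⊗[R] Q) := LinearEquiv.ofBijective u hbij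
  have hue : ∀ l x, ue (rep A P l x) = rep B Q (e l) (ue x) := fun l x => mem_inter.mp hu l x
  have hue' : ∀ l y, ue.symm (rep B Q (e l) y) = rep A P l (ue.symm y) := by
    intro l y
    apply ue.injective
    rw [hue, ue.apply_symm_apply, ue.apply_symm_apply]
  let conj : Module.End R (A ⊗[R] P) ≃ₐ[R] Module.End R (B ⊗[R] Q) := ue.conjAlgEquiv R
  have hconj : ∀ φ y, conj φ y = ue (φ (ue.symm y)) := fun _ _ => rfl
  have hconj' : ∀ φ x, conj.symm φ x = ue.symm (φ (ue x)) := fun _ _ => rfl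
  let g : Aᵐᵒᵖ →ₐ[R] Module.End R (B ⊗[R] Q) := conj.toAlgHom.comp (rmul A P)
  let f : Bᵐᵒᵖ →ₐ[R] Module.End R (B ⊗[R] Q) := rmul B Q
  have hf : Function.Injective f := rmul_injective B q₀ g₀ k₀
  have hg : Function.Injective g := conj.injective.comp (rmul_injective A p₀ f₀ h₀)
  have hrange : ∀ a, g a ∈ f.range := by
    intro a
    obtain ⟨b, hb⟩ := exists_rmul_eq_of_commute B q₀ g₀ k₀ (g a) (by
      intro l' y
      obtain ⟨l, rfl⟩ := e.surjective l'
      change conj (rmul A P a) _ = rep B Q (e l) (conj (rmul A P a) y)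
      rw [hconj, hconj, hue', rmul_comm, hue])
    exact ⟨b, hb⟩
  let θ : Aᵐᵒᵖ →ₐ[R] Bᵐᵒᵖ :=
    (AlgEquiv.ofInjective f hf).symm.toAlgHom.comp (g.codRestrict f.range hrange)
  have hθ : ∀ a, f (θ a) = g a := by
    intro a
    have h1 : AlgEquiv.ofInjective f hf (θ a) = g.codRestrict f.range hrange a :=
      (AlgEquiv.ofInjective f hf).apply_symm_apply _
    exact congrArg Subtype.val h1
  have hθbij : Function.Bijective θ := by
    constructor
    · intro a a' h
      apply hg
      rw [← hθ, ← hθ, h]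
    · intro b
      obtain ⟨a, ha⟩ := exists_rmul_eq_of_commute A p₀ f₀ h₀ (conj.symm (f b)) (by
        intro l x
        rw [hconj', hconj', hue, rmul_comm, hue'])
      refine ⟨a, hf ?_⟩
      rw [hθ]
      change conj (rmul A P a) = f b
      rw [ha, conj.apply_symm_apply]
  exact ⟨AlgEquiv.unop (AlgEquiv.ofBijective θ hθbij)⟩

end Master

end Groth.Agent.Lib.Helper25.LGAzumaya
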