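import Mathlib
import Groth.Prelude
import Groth.Agent.Lib.Helper25.LGAzumaya

/-!
# Corollaries of the master cancellation theorem over LG-rings (helper25)
-/

set_option autoImplicit false
universe u v w
open scoped TensorProduct

namespace Groth.Agent.Lib.Helper25.LGCancel

open Groth.Agent.Lib.Helper25.LGAzumaya Groth.Agent.Lib.Helper85

section Rank

variable {R : Type u} [CommRing R]

/-- a faithful finite projective module has positive rank everywhere -/
theorem rankAtStalk_pos_of_faithful (M : Type*) [AddCommGroup M] [Module R M] [Module.Finite R M]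
    [Module.Projective R M] [FaithfulSMul R M] (p : PrimeSpectrum R) :
    0 < Module.rankAtStalk M p := by
  rw [Module.rankAtStalk_pos_iff_mem_support, Module.support_eq_zeroLocus,
    Module.annihilator_eq_bot.mpr inferInstance]
  simp

end Rank

section Same

variable {R : Type u} [CommRing R]

/-- cancellation of `End P` -/
theorem nonempty_algEquiv_of_tensor_end_same (hR : LGRing.IsLGRing R)
    (A : Type v) (B : Type v) [Ring A] [Algebra R A] [IsAzumaya R A] [Ring B] [Algebra R B]
    [IsAzumaya R B]
    (P : Type w) [AddCommGroup P] [Module R P] [Module.Finite R P]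
    [Module.Projective R P] [FaithfulSMul R P]
    (e : A ⊗[R] Module.End R P ≃ₐ[R] B ⊗[R] Module.End R P) : Nonempty (A ≃ₐ[R] B) := by
  have hEndP : IsAzumaya R (Module.End R P) := isAzumaya_end R P
  refine nonempty_algEquiv_of_tensor_end hR A B P P e ?_
  intro p
  have h1 := congrFun (Module.rankAtStalk_eq_of_equiv e.toLinearEquiv) p
  rw [Module.rankAtStalk_tensorProduct, Module.rankAtStalk_tensorProduct, Pi.mul_apply,
    Pi.mul_apply] at h1
  have h2 : Module.rankAtStalk A p = Module.rankAtStalk B p :=
    Nat.eq_of_mul_eq_mul_right (rankAtStalk_pos_of_faithful (Module.End R P) p) h1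
  rw [Module.rankAtStalk_tensorProduct, Module.rankAtStalk_tensorProduct, Pi.mul_apply,
    Pi.mul_apply, h2]

/-- cancellation of matrix algebras -/
theorem nonempty_algEquiv_of_matrix (hR : LGRing.IsLGRing R)
    (A : Type v) (B : Type v) [Ring A] [Algebra R A] [IsAzumaya R A] [Ring B] [Algebra R B]
    [IsAzumaya R B] (n : ℕ) (hn : 0 < n)
    (e : Matrix (Fin n) (Fin n) A ≃ₐ[R] Matrix (Fin n) (Fin n) B) : Nonempty (A ≃ₐ[R] B) := by
  have : NeZero n := ⟨hn.ne'⟩
  have eA : ∀ (X : Type v) [Ring X] [Algebra R X],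
      X ⊗[R] Module.End R (Fin n → R) ≃ₐ[R] Matrix (Fin n) (Fin n) X := fun X _ _ =>
    (Algebra.TensorProduct.congr AlgEquiv.refl LinearMap.toMatrixAlgEquiv').trans
      (matrixEquivTensor (Fin n) R X).symm
  exact nonempty_algEquiv_of_tensor_end_same hR A B (Fin n → R)
    ((eA A).trans (e.trans (eA B).symm))

/-- cancellation of an Azumaya tensor factor -/
theorem nonempty_algEquiv_of_tensor_azumaya (hR : LGRing.IsLGRing R)
    (A : Type v) (B : Type v) (C : Type v) [Ring A] [Algebra R A] [IsAzumaya R A] [Ring B]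
    [Algebra R B] [IsAzumaya R B] [Ring C] [Algebra R C] [IsAzumaya R C]
    (e : A ⊗[R] C ≃ₐ[R] B ⊗[R] C) : Nonempty (A ≃ₐ[R] B) := by
  let eC : C ⊗[R] Cᵐᵒᵖ ≃ₐ[R] Module.End R C :=
    AlgEquiv.ofBijective (AlgHom.mulLeftRight R C) IsAzumaya.bij
  have eA : ∀ (X : Type v) [Ring X] [Algebra R X],
      X ⊗[R] Module.End R C ≃ₐ[R] (X ⊗[R] C) ⊗[R] Cᵐᵒᵖ := fun X _ _ =>
    (Algebra.TensorProduct.congr AlgEquiv.refl eC.symm).trans
      (Algebra.TensorProduct.assoc R R R X C Cᵐᵒᵖ).symm
  exact nonempty_algEquiv_of_tensor_end_same hR A B C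
    ((eA A).trans ((Algebra.TensorProduct.congr e AlgEquiv.refl).trans (eA B).symm))

end Same

section Brauer

variable {R : Type u} [CommRing R]

open LocalizedModule in
/-- the rank of `End P` is the square of the rank of `P` -/
theorem rankAtStalk_end (P : Type v) [AddCommGroup P] [Module R P] [Module.Finite R P]
    [Module.Projective R P] (p : PrimeSpectrum R) :
    Module.rankAtStalk (Module.End R P) p = (Module.rankAtStalk P p) ^ 2 := by
  have : Module.FinitePresentation R P := Module.finitePresentation_of_projective R P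
  let e : LocalizedModule p.asIdeal.primeCompl (P →ₗ[R] P) ≃ₗ[Localization.AtPrime p.asIdeal]
      (LocalizedModule p.asIdeal.primeCompl P →ₗ[Localization.AtPrime p.asIdeal]
        LocalizedModule p.asIdeal.primeCompl P) :=
    (IsLocalizedModule.linearEquiv p.asIdeal.primeCompl
      (mkLinearMap p.asIdeal.primeCompl (P →ₗ[R] P))
      (LocalizedModule.map p.asIdeal.primeCompl (M := P) (N := P))).extendScalarsOfIsLocalization
        p.asIdeal.primeCompl _
  have : Module.Free (Localization.AtPrime p.asIdeal)
      (LocalizedModule p.asIdeal.primeCompl P) := Module.free_of_flat_of_isLocalRing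
  rw [Module.rankAtStalk, Module.rankAtStalk]
  change Module.finrank _ (LocalizedModule p.asIdeal.primeCompl (P →ₗ[R] P)) = _
  rw [e.finrank_eq, Module.finrank_linearMap, sq]

/-- Brauer-equivalent Azumaya algebras of the same degree over an LG-ring are isomorphic. -/
theorem nonempty_algEquiv_of_brauerEquivalent (hR : LGRing.IsLGRing R)
    (A : Type v) (B : Type v) [Ring A] [Algebra R A] [IsAzumaya R A] [Ring B] [Algebra R B]
    [IsAzumaya R B]
    (hdeg : ∀ p : PrimeSpectrum R, Module.rankAtStalk A p = Module.rankAtStalk B p)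
    (P : Type w) (Q : Type w) [AddCommGroup P] [Module R P] [Module.Finite R P]
    [Module.Projective R P] [FaithfulSMul R P] [AddCommGroup Q] [Module R Q] [Module.Finite R Q]
    [Module.Projective R Q] [FaithfulSMul R Q]
    (e : A ⊗[R] Module.End R P ≃ₐ[R] B ⊗[R] Module.End R Q) : Nonempty (A ≃ₐ[R] B) := by
  have hEndP : IsAzumaya R (Module.End R P) := isAzumaya_end R P
  have hEndQ : IsAzumaya R (Module.End R Q) := isAzumaya_end R Q
  refine nonempty_algEquiv_of_tensor_end hR A B P Q e ?_
  intro p
  have h1 := congrFun (Module.rankAtStalk_eq_of_equiv e.toLinearEquiv) p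
  rw [Module.rankAtStalk_tensorProduct, Module.rankAtStalk_tensorProduct, Pi.mul_apply,
    Pi.mul_apply, ← hdeg p, rankAtStalk_end, rankAtStalk_end] at h1
  have h2 : Module.rankAtStalk P p ^ 2 = Module.rankAtStalk Q p ^ 2 :=
    Nat.eq_of_mul_eq_mul_left (rankAtStalk_pos_of_faithful A p) h1
  have h3 : Module.rankAtStalk P p = Module.rankAtStalk Q p :=
    Nat.pow_left_injective (n := 2) (by norm_num) h2
  rw [Module.rankAtStalk_tensorProduct, Module.rankAtStalk_tensorProduct, Pi.mul_apply,
    Pi.mul_apply, hdeg p, h3]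

end Brauer

end Groth.Agent.Lib.Helper25.LGCancel
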