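import Mathlib
import Groth.Prelude
import Groth.Agent.Lib.Helper25.LGCyclic
import Groth.Agent.Lib.Helper85.AzumayaBaseChange
import Groth.Agent.Lib.Helper85.CSAField

/-!
# Surjections between projective modules over Azumaya algebras over LG-rings (helper25)
-/

set_option autoImplicit false
universe u v w
open scoped TensorProduct

namespace Groth.Agent.Lib.Helper25.LGProj

open LGRing MvPolynomial Groth.Agent.Lib.Helper84.LG Groth.Agent.Lib.Helper25.LGIso
  Groth.Agent.Lib.Helper25.LGCyclic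

section Proj

variable {R : Type u} [CommRing R] {Λ : Type v} [Ring Λ] [Algebra R Λ]
  {M : Type*} {N : Type*} [AddCommGroup M] [Module R M] [AddCommGroup N] [Module R N]

/-- data exhibiting `M` as a finite projective `Λ`-module -/
structure Proj (ρM : Λ →ₐ[R] Module.End R M) where
  /-- number of generators -/
  n : ℕ
  /-- generators -/
  x : Fin n → M
  /-- coordinates -/
  i : Fin n → (M →ₗ[R] Λ)
  hi : ∀ (k : Fin n) (l : Λ) (y : M), i k (ρM l y) = l * i k y
  hx : ∀ y : M, ∑ k, ρM (i k y) (x k) = y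

variable {ρM : Λ →ₐ[R] Module.End R M}

/-- the intertwiner sending the generators to (the projections of) `z` -/
def Proj.hom (c : Proj ρM) (ρN : Λ →ₐ[R] Module.End R N) : (Fin c.n → N) →ₗ[R] (M →ₗ[R] N) :=
  ∑ k, ((ρN.toLinearMap ∘ₗ c.i k).flip) ∘ₗ (LinearMap.proj k)

theorem Proj.hom_apply (c : Proj ρM) (ρN : Λ →ₐ[R] Module.End R N) (z : Fin c.n → N) (y : M) :
    c.hom ρN z y = ∑ k, ρN (c.i k y) (z k) := by
  simp [Proj.hom, LinearMap.sum_apply]

theorem Proj.hom_mem (c : Proj ρM) (ρN : Λ →ₐ[R] Module.End R N) (z : Fin c.n → N) :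
    c.hom ρN z ∈ inter ρM ρN := by
  intro l y
  rw [c.hom_apply, c.hom_apply, map_sum]
  refine Finset.sum_congr rfl fun k _ => ?_
  rw [c.hi, map_mul]
  rfl

theorem Proj.range_hom (c : Proj ρM) (ρN : Λ →ₐ[R] Module.End R N) :
    LinearMap.range (c.hom ρN) = inter ρM ρN := by
  apply le_antisymm
  · rintro _ ⟨z, rfl⟩
    exact c.hom_mem ρN z
  · intro u hu
    refine ⟨fun k => u (c.x k), ?_⟩
    ext y
    rw [c.hom_apply]
    conv_rhs => rw [← c.hx y, map_sum]
    refine Finset.sum_congr rfl fun k _ => ?_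
    rw [mem_inter.mp hu]

theorem Proj.inter_fg (c : Proj ρM) (ρN : Λ →ₐ[R] Module.End R N) [Module.Finite R N] :
    (inter ρM ρN).FG := by
  rw [← c.range_hom ρN, LinearMap.range_eq_map]
  exact Module.Finite.fg_top.map _

end Proj

section Surj

variable {R : Type u} [CommRing R]

/-- the single-determinant polynomial -/
noncomputable def F₂ {n₁ n₂ : ℕ} (P₁ : Matrix (Fin n₁) (Fin n₁) R)
    (P₂ : Matrix (Fin n₂) (Fin n₂) R) :
    MvPolynomial ((Fin n₂ × Fin n₁) ⊕ (Fin n₁ × Fin n₂)) R :=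
  (TM (P₁.map C) (P₂.map C) (Matrix.of fun a b => X (Sum.inl (a, b)))
      (Matrix.of fun a b => X (Sum.inr (a, b)))).det

theorem aeval_F₂ {S : Type*} [CommRing S] [Algebra R S] {n₁ n₂ : ℕ}
    (P₁ : Matrix (Fin n₁) (Fin n₁) R) (P₂ : Matrix (Fin n₂) (Fin n₂) R)
    (s : (Fin n₂ × Fin n₁) ⊕ (Fin n₁ × Fin n₂) → S) :
    aeval s (F₂ P₁ P₂) =
      (TM (P₁.map (algebraMap R S)) (P₂.map (algebraMap R S))
        (Matrix.of fun a b => s (Sum.inl (a, b)))
        (Matrix.of fun a b => s (Sum.inr (a, b)))).det := by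
  have hC : ∀ {n : ℕ} (P : Matrix (Fin n) (Fin n) R),
      (P.map C).map (aeval s : MvPolynomial _ R →ₐ[R] S).toRingHom = P.map (algebraMap R S) := by
    intro n P
    ext a b
    simp
  have hX : (Matrix.of fun (a : Fin n₂) (b : Fin n₁) =>
      (X (Sum.inl (a, b)) : MvPolynomial ((Fin n₂ × Fin n₁) ⊕ (Fin n₁ × Fin n₂)) R)).map
        (aeval s : MvPolynomial _ R →ₐ[R] S).toRingHom =
          Matrix.of fun a b => s (Sum.inl (a, b)) := by
    ext a b
    simp
  have hY : (Matrix.of fun (a : Fin n₁) (b : Fin n₂) =>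
      (X (Sum.inr (a, b)) : MvPolynomial ((Fin n₂ × Fin n₁) ⊕ (Fin n₁ × Fin n₂)) R)).map
        (aeval s : MvPolynomial _ R →ₐ[R] S).toRingHom =
          Matrix.of fun a b => s (Sum.inr (a, b)) := by
    ext a b
    simp
  unfold F₂
  have hdet : ∀ {n : ℕ} (A : Matrix (Fin n) (Fin n)
      (MvPolynomial ((Fin n₂ × Fin n₁) ⊕ (Fin n₁ × Fin n₂)) R)),
      aeval s A.det = (A.map (aeval s : MvPolynomial _ R →ₐ[R] S).toRingHom).det := by
    intro n A
    exact (RingHom.map_det (aeval s : MvPolynomial _ R →ₐ[R] S).toRingHom A)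
  rw [hdet, TM_map, hC, hC, hX, hY]

open Module in
/-- **Local-global principle for surjections inside a finitely generated submodule of `Hom`.** -/
theorem exists_surjective_mem_of_local (hR : IsLGRing R)
    (M : Type*) (N : Type*) [AddCommGroup M] [Module R M] [Module.Finite R M]
    [Module.Projective R M] [AddCommGroup N] [Module R N] [Module.Finite R N]
    [Module.Projective R N]
    (H₁ : Submodule R (M →ₗ[R] N)) (H₂ : Submodule R (N →ₗ[R] M)) (hH₁ : H₁.FG) (hH₂ : H₂.FG)
    (hloc : ∀ (m : Ideal R) [m.IsMaximal], ∃ ψ ∈ H₁, ∃ ψ' ∈ H₂,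
      ∀ y, ψ (ψ' y) - y ∈ m • (⊤ : Submodule R N)) :
    ∃ u ∈ H₁, Function.Surjective u := by
  classical
  obtain ⟨n₁, p₁, i₁, -, -, hpi₁⟩ := Module.Finite.exists_comp_eq_id_of_projective R M
  obtain ⟨n₂, p₂, i₂, -, -, hpi₂⟩ := Module.Finite.exists_comp_eq_id_of_projective R N
  have h₁ : ∀ z, p₁ (i₁ z) = z := fun z => LinearMap.congr_fun hpi₁ z
  have h₂ : ∀ z, p₂ (i₂ z) = z := fun z => LinearMap.congr_fun hpi₂ z
  obtain ⟨a, x, hx⟩ := Submodule.fg_iff_exists_fin_generating_family.mp hH₁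
  obtain ⟨b, y, hy⟩ := Submodule.fg_iff_exists_fin_generating_family.mp hH₂
  let b₁ := Pi.basisFun R (Fin n₁)
  let b₂ := Pi.basisFun R (Fin n₂)
  let P₁ := LinearMap.toMatrix b₁ b₁ (i₁ ∘ₗ p₁)
  let P₂ := LinearMap.toMatrix b₂ b₂ (i₂ ∘ₗ p₂)
  let U : (Fin a ⊕ Fin b → R) → (M →ₗ[R] N) := fun s => ∑ k, s (Sum.inl k) • x k
  let V : (Fin a ⊕ Fin b → R) → (N →ₗ[R] M) := fun s => ∑ k, s (Sum.inr k) • y k
  have hU : ∀ s, U s ∈ H₁ := by
    intro s
    rw [← hx]
    exact Submodule.sum_mem _ fun k _ => Submodule.smul_mem _ _ (Submodule.subset_span ⟨k, rfl⟩)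
  let σ : (Fin n₂ × Fin n₁) ⊕ (Fin n₁ × Fin n₂) → MvPolynomial (Fin a ⊕ Fin b) R :=
    Sum.elim
      (fun cd => ∑ k, X (Sum.inl k) * C (LinearMap.toMatrix b₁ b₂ (i₂ ∘ₗ x k ∘ₗ p₁) cd.1 cd.2))
      (fun cd => ∑ k, X (Sum.inr k) * C (LinearMap.toMatrix b₂ b₁ (i₁ ∘ₗ y k ∘ₗ p₂) cd.1 cd.2))
  let G : MvPolynomial (Fin a ⊕ Fin b) R := aeval σ (F₂ P₁ P₂)
  have hG : ∀ s : Fin a ⊕ Fin b → R, aeval s G =
      (LinearMap.toMatrix b₂ b₂
        (TT p₁ i₁ p₂ i₂ (i₂ ∘ₗ U s ∘ₗ p₁) (i₁ ∘ₗ V s ∘ₗ p₂))).det := by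
    intro s
    have h1 : aeval s G = aeval (fun v => aeval s (σ v)) (F₂ P₁ P₂) := by
      simp only [G]
      rw [← AlgHom.comp_apply, MvPolynomial.comp_aeval]
    rw [h1, aeval_F₂, toMatrix_TT b₁ b₂]
    have hid : ∀ {n : ℕ} (P : Matrix (Fin n) (Fin n) R), P.map (algebraMap R R) = P := by
      intro n P; ext a b; simp
    rw [hid, hid]
    have hX : (Matrix.of fun c d => aeval s (σ (Sum.inl (c, d)))) =
        LinearMap.toMatrix b₁ b₂ (i₂ ∘ₗ U s ∘ₗ p₁) := by
      ext c d
      simp only [U, comp_sum_smul_comp, map_sum, map_smul, Matrix.of_apply, σ, Sum.elim_inl,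
        map_mul, aeval_X, aeval_C, Algebra.algebraMap_self, RingHom.id_apply, Matrix.sum_apply,
        Matrix.smul_apply, smul_eq_mul]
    have hY : (Matrix.of fun c d => aeval s (σ (Sum.inr (c, d)))) =
        LinearMap.toMatrix b₂ b₁ (i₁ ∘ₗ V s ∘ₗ p₂) := by
      ext c d
      simp only [V, comp_sum_smul_comp, map_sum, map_smul, Matrix.of_apply, σ, Sum.elim_inr,
        map_mul, aeval_X, aeval_C, Algebra.algebraMap_self, RingHom.id_apply, Matrix.sum_apply,
        Matrix.smul_apply, smul_eq_mul]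
    rw [hX, hY]
  have key := representsUnit_of_finite hR G ?_
  · obtain ⟨s, hs⟩ := key
    rw [hG] at hs
    have hsurj2 : Function.Surjective
        (TT p₁ i₁ p₂ i₂ (i₂ ∘ₗ U s ∘ₗ p₁) (i₁ ∘ₗ V s ∘ₗ p₂)) :=
      (LinearEquiv.ofIsUnitDet hs).surjective
    have hsurj := surjective_of_TT_surjective p₁ i₁ p₂ i₂ h₂ _ _ hsurj2
    have heq : p₂ ∘ₗ (i₂ ∘ₗ U s ∘ₗ p₁) ∘ₗ i₁ = U s := by
      ext z
      simp only [LinearMap.comp_apply, h₁, h₂]
    rw [heq] at hsurj
    exact ⟨U s, hU s, hsurj⟩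
  · intro m hm
    obtain ⟨ψ, hψ, ψ', hψ', hr⟩ := hloc m
    rw [← hx] at hψ
    rw [← hy] at hψ'
    obtain ⟨r, rfl⟩ := (Submodule.mem_span_range_iff_exists_fun R).mp hψ
    obtain ⟨r', rfl⟩ := (Submodule.mem_span_range_iff_exists_fun R).mp hψ'
    let s : Fin a ⊕ Fin b → R := Sum.elim r r'
    refine ⟨algebraMap R (R ⧸ m) ∘ s, ?_⟩
    rw [MvPolynomial.aeval_algebraMap_apply, hG]
    have hUs : U s = ∑ k, r k • x k := rfl
    have hVs : V s = ∑ k, r' k • y k := rfl
    have e2 : Ideal.Quotient.mk m (LinearMap.toMatrix b₂ b₂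
        (TT p₁ i₁ p₂ i₂ (i₂ ∘ₗ U s ∘ₗ p₁) (i₁ ∘ₗ V s ∘ₗ p₂))).det = 1 := by
      apply det_toMatrix_congr_one
      intro w
      rw [TT_apply]
      simp only [LinearMap.comp_apply, h₁, h₂]
      have : w - i₂ (p₂ w) + i₂ (U s (V s (p₂ w))) - w = i₂ (U s (V s (p₂ w)) - p₂ w) := by
        rw [map_sub]; abel
      rw [this]
      apply map_mem_smul_top
      rw [hUs, hVs]
      exact hr (p₂ w)
    rw [Ideal.Quotient.algebraMap_eq, e2]
    exact isUnit_one

end Surj

section Simple

variable (κ : Type u) [Field κ] (L : Type v) [Ring L] [Algebra κ L] [IsSimpleRing L]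
  [FiniteDimensional κ L]

/-- Over a finite-dimensional simple algebra, a representation of smaller dimension is a direct
summand (equivariantly) of one of larger dimension. -/
theorem exists_split_surjection
    (V : Type*) (W : Type*) [AddCommGroup V] [Module κ V] [FiniteDimensional κ V]
    [AddCommGroup W] [Module κ W] [FiniteDimensional κ W]
    (τV : L →ₐ[κ] Module.End κ V) (τW : L →ₐ[κ] Module.End κ W)
    (hdim : Module.finrank κ W ≤ Module.finrank κ V) :
    ∃ (φ : V →ₗ[κ] W) (φ' : W →ₗ[κ] V), (∀ (l : L) (v : V), φ (τV l v) = τW l (φ v)) ∧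
      (∀ (l : L) (w : W), φ' (τW l w) = τV l (φ' w)) ∧ ∀ w, φ (φ' w) = w := by
  let _ : Module L V := Module.compHom V τV.toRingHom
  let _ : Module L W := Module.compHom W τW.toRingHom
  have hsV : ∀ (l : L) (v : V), l • v = τV l v := fun _ _ => rfl
  have hsW : ∀ (l : L) (w : W), l • w = τW l w := fun _ _ => rfl
  have : IsScalarTower κ L V := ⟨fun c l v => by
    rw [hsV, hsV, map_smul]; rfl⟩
  have : IsScalarTower κ L W := ⟨fun c l w => by
    rw [hsW, hsW, map_smul]; rfl⟩
  have : IsArtinianRing L := IsArtinianRing.of_finite κ L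
  have : Module.Finite L V := Module.Finite.of_restrictScalars_finite κ L V
  have : Module.Finite L W := Module.Finite.of_restrictScalars_finite κ L W
  suffices h : ∃ (φ : V →ₗ[L] W) (φ' : W →ₗ[L] V), ∀ w, φ (φ' w) = w by
    obtain ⟨φ, φ', h⟩ := h
    exact ⟨φ.restrictScalars κ, φ'.restrictScalars κ, fun l v => φ.map_smul l v,
      fun l w => φ'.map_smul l w, h⟩
  rcases subsingleton_or_nontrivial W with hW | hW
  · exact ⟨0, 0, fun w => Subsingleton.elim _ _⟩
  have hV : Nontrivial V := by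
    rw [← Module.finrank_pos_iff (R := κ)]
    exact lt_of_lt_of_le (Module.finrank_pos_iff.mpr hW) hdim
  obtain ⟨a, _, S, hS, ⟨eV⟩⟩ := (IsSimpleRing.isIsotypic L V).linearEquiv_fun
  obtain ⟨b, _, T, hT, ⟨eW⟩⟩ := (IsSimpleRing.isIsotypic L W).linearEquiv_fun
  obtain ⟨eST⟩ := nonempty_linearEquiv_of_simple L S T
  have : Module.Finite κ S :=
    Module.Finite.of_injective (S.subtype.restrictScalars κ) S.injective_subtype
  have : Module.Finite κ T :=
    Module.Finite.of_injective (T.subtype.restrictScalars κ) T.injective_subtype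
  have hdS : Module.finrank κ S = Module.finrank κ T := (eST.restrictScalars κ).finrank_eq
  have hV' : Module.finrank κ V = a * Module.finrank κ S := by
    rw [(eV.restrictScalars κ).finrank_eq, Module.finrank_pi_fintype]
    simp
  have hW' : Module.finrank κ W = b * Module.finrank κ T := by
    rw [(eW.restrictScalars κ).finrank_eq, Module.finrank_pi_fintype]
    simp
  have hSpos : 0 < Module.finrank κ S := by
    have : Nontrivial S := IsSimpleModule.nontrivial L S
    exact Module.finrank_pos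
  have hab : b ≤ a := by
    rw [hV', hW', ← hdS] at hdim
    exact Nat.le_of_mul_le_mul_right hdim hSpos
  -- the projection `S^a → S^b` and its section
  let π : (Fin a → S) →ₗ[L] (Fin b → S) := LinearMap.funLeft L S (Fin.castLE hab)
  let ι : (Fin b → S) →ₗ[L] (Fin a → S) :=
    LinearMap.pi fun k : Fin a =>
      if h : (k : ℕ) < b then LinearMap.proj (⟨k, h⟩ : Fin b) else 0
  have hπι : ∀ z, π (ι z) = z := by
    intro z
    ext k
    simp [π, ι, LinearMap.funLeft_apply]
  let eW' : W ≃ₗ[L] (Fin b → S) := eW.trans (LinearEquiv.piCongrRight fun _ => eST.symm)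
  refine ⟨eW'.symm.toLinearMap ∘ₗ π ∘ₗ eV.toLinearMap,
    eV.symm.toLinearMap ∘ₗ ι ∘ₗ eW'.toLinearMap, fun w => ?_⟩
  simp only [LinearMap.comp_apply, LinearEquiv.coe_coe, LinearEquiv.apply_symm_apply, hπι,
    LinearEquiv.symm_apply_apply]

end Simple

section Local

variable {R : Type u} [CommRing R] {Λ : Type v} [Ring Λ] [Algebra R Λ] [Module.Finite R Λ]
  {M : Type*} {N : Type*} [AddCommGroup M] [Module R M] [AddCommGroup N] [Module R N]
  [Module.Finite R M] [Module.Finite R N]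
  {ρM : Λ →ₐ[R] Module.End R M} {ρN : Λ →ₐ[R] Module.End R N}

/-- Modulo a maximal ideal with simple fibre algebra, a projective representation of larger
fibre dimension surjects (with an equivariant section) onto one of smaller fibre dimension. -/
theorem exists_local_section (m : Ideal R) [hm : m.IsMaximal]
    (hsimple : IsSimpleRing ((R ⧸ m) ⊗[R] Λ)) (cM : Proj ρM) (cN : Proj ρN)
    (hdim : letI := Ideal.Quotient.field m
      Module.finrank (R ⧸ m) ((R ⧸ m) ⊗[R] N) ≤ Module.finrank (R ⧸ m) ((R ⧸ m) ⊗[R] M)) :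
    ∃ ψ ∈ inter ρM ρN, ∃ ψ' ∈ inter ρN ρM,
      ∀ y, ψ (ψ' y) - y ∈ m • (⊤ : Submodule R N) := by
  let _ : Field (R ⧸ m) := Ideal.Quotient.field m
  obtain ⟨φ, φ', hφ, hφ', hsec⟩ := exists_split_surjection (R ⧸ m) ((R ⧸ m) ⊗[R] Λ)
    ((R ⧸ m) ⊗[R] M) ((R ⧸ m) ⊗[R] N) (bc (R ⧸ m) ρM) (bc (R ⧸ m) ρN) hdim
  have hsurj : Function.Surjective (algebraMap R (R ⧸ m)) := Ideal.Quotient.mk_surjective
  have hN : ∀ k, ∃ z : N, (1 : R ⧸ m) ⊗ₜ[R] z = φ (1 ⊗ₜ cM.x k) := fun k =>
    TensorProduct.mk_surjective R N (R ⧸ m) hsurj (φ (1 ⊗ₜ cM.x k))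
  have hM : ∀ k, ∃ z : M, (1 : R ⧸ m) ⊗ₜ[R] z = φ' (1 ⊗ₜ cN.x k) := fun k =>
    TensorProduct.mk_surjective R M (R ⧸ m) hsurj (φ' (1 ⊗ₜ cN.x k))
  choose z hz using hN
  choose z' hz' using hM
  have key1 : ∀ x : M, (1 : R ⧸ m) ⊗ₜ[R] (cM.hom ρN z x) = φ (1 ⊗ₜ x) := by
    intro x
    rw [cM.hom_apply, TensorProduct.tmul_sum]
    have h2 : (1 : R ⧸ m) ⊗ₜ[R] x =
        ∑ k, bc (R ⧸ m) ρM (1 ⊗ₜ cM.i k x) (1 ⊗ₜ cM.x k) := by
      conv_lhs => rw [← cM.hx x, TensorProduct.tmul_sum]
      refine Finset.sum_congr rfl fun k _ => ?_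
      rw [bc_tmul, one_mul]
    rw [h2, map_sum]
    refine Finset.sum_congr rfl fun k _ => ?_
    rw [hφ, ← hz, bc_tmul, one_mul]
  have key2 : ∀ y : N, (1 : R ⧸ m) ⊗ₜ[R] (cN.hom ρM z' y) = φ' (1 ⊗ₜ y) := by
    intro y
    rw [cN.hom_apply, TensorProduct.tmul_sum]
    have h2 : (1 : R ⧸ m) ⊗ₜ[R] y =
        ∑ k, bc (R ⧸ m) ρN (1 ⊗ₜ cN.i k y) (1 ⊗ₜ cN.x k) := by
      conv_lhs => rw [← cN.hx y, TensorProduct.tmul_sum]
      refine Finset.sum_congr rfl fun k _ => ?_
      rw [bc_tmul, one_mul]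
    rw [h2, map_sum]
    refine Finset.sum_congr rfl fun k _ => ?_
    rw [hφ', ← hz', bc_tmul, one_mul]
  refine ⟨cM.hom ρN z, cM.hom_mem ρN z, cN.hom ρM z', cN.hom_mem ρM z', ?_⟩
  intro y
  apply tmul_one_eq_zero
  rw [TensorProduct.tmul_sub, key1, key2, hsec, sub_self]

end Local

section Modules

open Groth.Agent.Lib.Helper85

variable {R : Type u} [CommRing R] {A : Type v} [Ring A] [Algebra R A]

/-- a finite projective module over an algebra which is finite projective over `R` is finite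
projective over `R` -/
theorem finite_projective_of_tower [Module.Finite R A] [Module.Projective R A]
    (M : Type w) [AddCommGroup M] [Module A M] [Module R M] [IsScalarTower R A M]
    [Module.Finite A M] [Module.Projective A M] :
    Module.Finite R M ∧ Module.Projective R M := by
  refine ⟨Module.Finite.trans A M, ?_⟩
  classical
  obtain ⟨n, f, g, -, -, hfg⟩ := Module.Finite.exists_comp_eq_id_of_projective A M
  have : Module.Projective R (Fin n → A) :=
    Module.Projective.of_equiv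
      (DFinsupp.linearEquivFunOnFintype (R := R) (ι := Fin n) (M := fun _ => A))
  exact Module.Projective.of_split (g.restrictScalars R) (f.restrictScalars R)
    (LinearMap.ext fun y => LinearMap.congr_fun hfg y)

/-- the projective data of a finite projective module -/
theorem nonempty_proj (M : Type w) [AddCommGroup M] [Module A M] [Module R M]
    [IsScalarTower R A M] [Module.Finite A M] [Module.Projective A M] :
    Nonempty (Proj (Algebra.lsmul R R M : A →ₐ[R] Module.End R M)) := by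
  classical
  obtain ⟨n, f, g, -, -, hfg⟩ := Module.Finite.exists_comp_eq_id_of_projective A M
  have hfg' : ∀ y, f (g y) = y := fun y => LinearMap.congr_fun hfg y
  refine ⟨⟨n, fun k => f (fun j => if k = j then 1 else 0),
    fun k => (LinearMap.proj k ∘ₗ g).restrictScalars R, ?_, ?_⟩⟩
  · intro k l y
    change g (l • y) k = l * g y k
    rw [map_smul]
    rfl
  · intro y
    change ∑ k, (g y k) • f (fun j => if k = j then 1 else 0) = y
    rw [← LinearMap.pi_apply_eq_sum_univ f (g y), hfg']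

/-- **Surjections between projective modules over an Azumaya algebra over an LG-ring.** -/
theorem exists_surjective_of_rankAtStalk_le (hR : IsLGRing R) [IsAzumaya R A]
    (M : Type w) (N : Type w) [AddCommGroup M] [Module A M] [Module R M] [IsScalarTower R A M]
    [Module.Finite A M] [Module.Projective A M] [AddCommGroup N] [Module A N] [Module R N]
    [IsScalarTower R A N] [Module.Finite A N] [Module.Projective A N]
    (h : ∀ p : PrimeSpectrum R, Module.rankAtStalk N p ≤ Module.rankAtStalk M p) :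
    ∃ f : M →ₗ[A] N, Function.Surjective f := by
  obtain ⟨hfM, hpM⟩ := finite_projective_of_tower (R := R) (A := A) M
  obtain ⟨hfN, hpN⟩ := finite_projective_of_tower (R := R) (A := A) N
  let ρM : A →ₐ[R] Module.End R M := Algebra.lsmul R R M
  let ρN : A →ₐ[R] Module.End R N := Algebra.lsmul R R N
  obtain ⟨cM⟩ := nonempty_proj (R := R) (A := A) M
  obtain ⟨cN⟩ := nonempty_proj (R := R) (A := A) N
  have hloc : ∀ (m : Ideal R) [m.IsMaximal], ∃ ψ ∈ inter ρM ρN, ∃ ψ' ∈ inter ρN ρM,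
      ∀ y, ψ (ψ' y) - y ∈ m • (⊤ : Submodule R N) := by
    intro m hm
    let _ : Field (R ⧸ m) := Ideal.Quotient.field m
    have hAz : IsAzumaya (R ⧸ m) ((R ⧸ m) ⊗[R] A) := isAzumaya_baseChange R (R ⧸ m) A
    have hsimple : IsSimpleRing ((R ⧸ m) ⊗[R] A) :=
      isSimpleRing_of_isAzumaya (R ⧸ m) ((R ⧸ m) ⊗[R] A)
    refine exists_local_section m hsimple cM cN ?_
    rw [finrank_quotient_tensor, finrank_quotient_tensor]
    exact h _
  obtain ⟨u, hu, hsurj⟩ := exists_surjective_mem_of_local hR M N (inter ρM ρN) (inter ρN ρM)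
    (cM.inter_fg ρN) (cN.inter_fg ρM) hloc
  exact ⟨{ toFun := u, map_add' := u.map_add, map_smul' := fun a x => mem_inter.mp hu a x }, hsurj⟩

end Modules

section Indecomposable

open Groth.Agent.Lib.Helper85

variable {R : Type u} [CommRing R] {A : Type v} [Ring A] [Algebra R A]

/-- a surjection from an indecomposable module onto a non-zero projective module is bijective -/
theorem bijective_of_surjective_of_indecomposable
    (P : Type w) (Q : Type w) [AddCommGroup P] [Module A P] [AddCommGroup Q] [Module A Q]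
    [Module.Projective A Q] [Nontrivial Q]
    (hP : ∀ e : Module.End A P, IsIdempotentElem e → e = 0 ∨ e = 1)
    (f : P →ₗ[A] Q) (hf : Function.Surjective f) : Function.Bijective f := by
  obtain ⟨g, hg⟩ := f.exists_rightInverse_of_surjective (LinearMap.range_eq_top.mpr hf)
  have hg' : ∀ y, f (g y) = y := fun y => LinearMap.congr_fun hg y
  have hidem : IsIdempotentElem (g ∘ₗ f : Module.End A P) := by
    change (g ∘ₗ f) * (g ∘ₗ f) = g ∘ₗ f
    ext x
    simp only [Module.End.mul_apply, LinearMap.comp_apply, hg']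
  rcases hP _ hidem with h0 | h1
  · exfalso
    obtain ⟨y, hy⟩ := exists_ne (0 : Q)
    apply hy
    obtain ⟨x, rfl⟩ := hf y
    have h2 := hg' (f x)
    have h3 : g (f x) = 0 := LinearMap.congr_fun h0 x
    rw [h3, map_zero] at h2
    exact h2.symm
  · refine ⟨?_, hf⟩
    intro x x' hxx'
    have h2 : g (f x) = x := LinearMap.congr_fun h1 x
    have h3 : g (f x') = x' := LinearMap.congr_fun h1 x'
    rw [← h2, ← h3, hxx']

/-- **Indecomposable projective modules over an Azumaya algebra over a connected LG-ring are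
isomorphic.** -/
theorem nonempty_linearEquiv_of_indecomposable (hR : IsLGRing R)
    [ConnectedSpace (PrimeSpectrum R)] [IsAzumaya R A]
    (P : Type w) (Q : Type w) [AddCommGroup P] [Module A P] [Module.Finite A P]
    [Module.Projective A P] [Nontrivial P] [AddCommGroup Q] [Module A Q] [Module.Finite A Q]
    [Module.Projective A Q] [Nontrivial Q]
    (hP : ∀ e : Module.End A P, IsIdempotentElem e → e = 0 ∨ e = 1)
    (hQ : ∀ e : Module.End A Q, IsIdempotentElem e → e = 0 ∨ e = 1) : Nonempty (P ≃ₗ[A] Q) := by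
  let _ : Module R P := Module.compHom P (algebraMap R A)
  let _ : Module R Q := Module.compHom Q (algebraMap R A)
  have hsP : ∀ (r : R) (x : P), r • x = algebraMap R A r • x := fun _ _ => rfl
  have hsQ : ∀ (r : R) (x : Q), r • x = algebraMap R A r • x := fun _ _ => rfl
  have : IsScalarTower R A P := ⟨fun r a x => by
    rw [hsP, Algebra.smul_def, mul_smul]⟩
  have : IsScalarTower R A Q := ⟨fun r a x => by
    rw [hsQ, Algebra.smul_def, mul_smul]⟩
  obtain ⟨hfP, hpP⟩ := finite_projective_of_tower (R := R) (A := A) P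
  obtain ⟨hfQ, hpQ⟩ := finite_projective_of_tower (R := R) (A := A) Q
  have : Module.FinitePresentation R P := Module.finitePresentation_of_projective R P
  have : Module.FinitePresentation R Q := Module.finitePresentation_of_projective R Q
  have hcP : ∀ p q : PrimeSpectrum R, Module.rankAtStalk P p = Module.rankAtStalk P q :=
    fun p q => (Module.isLocallyConstant_rankAtStalk (R := R) (M := P)).apply_eq_of_preconnectedSpace p q
  have hcQ : ∀ p q : PrimeSpectrum R, Module.rankAtStalk Q p = Module.rankAtStalk Q q :=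
    fun p q => (Module.isLocallyConstant_rankAtStalk (R := R) (M := Q)).apply_eq_of_preconnectedSpace p q
  obtain ⟨p₀⟩ := (inferInstance : Nonempty (PrimeSpectrum R))
  rcases le_total (Module.rankAtStalk Q p₀) (Module.rankAtStalk P p₀) with hle | hle
  · obtain ⟨f, hf⟩ := exists_surjective_of_rankAtStalk_le (A := A) hR P Q (fun p => by
      rw [hcP p p₀, hcQ p p₀]; exact hle)
    exact ⟨LinearEquiv.ofBijective f
      (bijective_of_surjective_of_indecomposable (A := A) P Q hP f hf)⟩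
  · obtain ⟨f, hf⟩ := exists_surjective_of_rankAtStalk_le (A := A) hR Q P (fun p => by
      rw [hcP p p₀, hcQ p p₀]; exact hle)
    exact ⟨(LinearEquiv.ofBijective f
      (bijective_of_surjective_of_indecomposable (A := A) Q P hQ f hf)).symm⟩

end Indecomposable

end Groth.Agent.Lib.Helper25.LGProj
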