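import Mathlib

/-!
# Quadratic forms given by (not necessarily symmetric) matrices, characteristic free

`qf N x = xᵀ N x`.  Two matrices give the same quadratic form (universally) iff they have the same
diagonal and the same symmetrisation: `QEq N N'`.  Congruence `N ↦ gᵀ N g`, base change, blocks.
-/

set_option autoImplicit false
set_option linter.unusedSectionVars false
set_option linter.unusedVariables false

namespace Helper25.QuadMat

open Matrix

variable {R : Type*} [CommRing R] {ι κ : Type*} [Fintype ι] [Fintype κ]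

/-- The quadratic form of a matrix: `x ↦ xᵀ N x`. -/
def qf (N : Matrix ι ι R) (x : ι → R) : R := ∑ i, ∑ j, x i * N i j * x j

/-- Same diagonal and same symmetrisation: the two matrices define the same quadratic form. -/
structure QEq (N N' : Matrix ι ι R) : Prop where
  diag : ∀ i, N i i = N' i i
  polar : ∀ i j, N i j + N j i = N' i j + N' j i

theorem QEq.refl (N : Matrix ι ι R) : QEq N N := ⟨fun _ => rfl, fun _ _ => rfl⟩

theorem QEq.symm {N N' : Matrix ι ι R} (h : QEq N N') : QEq N' N :=
  ⟨fun i => (h.diag i).symm, fun i j => (h.polar i j).symm⟩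

theorem QEq.trans {N N' N'' : Matrix ι ι R} (h : QEq N N') (h' : QEq N' N'') : QEq N N'' :=
  ⟨fun i => (h.diag i).trans (h'.diag i), fun i j => (h.polar i j).trans (h'.polar i j)⟩

theorem QEq.of_eq {N N' : Matrix ι ι R} (h : N = N') : QEq N N' := h ▸ QEq.refl N

theorem QEq.map {S : Type*} [CommRing S] (φ : R →+* S) {N N' : Matrix ι ι R} (h : QEq N N') :
    QEq (N.map φ) (N'.map φ) := by
  refine ⟨fun i => ?_, fun i j => ?_⟩
  · simp only [Matrix.map_apply, h.diag i]
  · simp only [Matrix.map_apply, ← map_add, h.polar i j]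

theorem QEq.submatrix {N N' : Matrix ι ι R} (h : QEq N N') (e : κ → ι) :
    QEq (N.submatrix e e) (N'.submatrix e e) :=
  ⟨fun i => h.diag (e i), fun i j => h.polar (e i) (e j)⟩

/-- An alternating matrix gives the zero quadratic form. -/
theorem alt_sum (M : Matrix ι ι R) (hd : ∀ i, M i i = 0) (hs : ∀ i j, M i j + M j i = 0)
    (x : ι → R) : ∑ k, ∑ l, x k * M k l * x l = 0 := by
  classical
  rw [← Finset.sum_product']
  refine Finset.sum_involution (fun a _ => Prod.swap a) ?_ ?_ (fun a _ => Finset.mem_univ _)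
    (fun a _ => Prod.swap_swap a)
  · rintro ⟨k, l⟩ -
    simp only [Prod.fst_swap, Prod.snd_swap]
    have := hs k l
    linear_combination (x k * x l) * this
  · rintro ⟨k, l⟩ - hne hsw
    simp only [Prod.swap_prod_mk, Prod.mk.injEq] at hsw
    obtain ⟨rfl, -⟩ := hsw
    exact hne (by simp [hd])

theorem conj_apply (N : Matrix ι ι R) (g : Matrix ι κ R) (a b : κ) :
    (gᵀ * N * g) a b = ∑ k, ∑ l, g k a * N k l * g l b := by
  simp only [Matrix.mul_apply, Matrix.transpose_apply, Finset.sum_mul]
  rw [Finset.sum_comm]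

theorem QEq.conj {N N' : Matrix ι ι R} (h : QEq N N') (g : Matrix ι κ R) :
    QEq (gᵀ * N * g) (gᵀ * N' * g) := by
  refine ⟨fun a => ?_, fun a b => ?_⟩
  · rw [conj_apply, conj_apply, ← sub_eq_zero, ← Finset.sum_sub_distrib]
    have := alt_sum (N - N') (fun i => by simp [h.diag i])
      (fun i j => by
        have := h.polar i j
        simp only [Matrix.sub_apply]; linear_combination this) (fun k => g k a)
    rw [← this]
    refine Finset.sum_congr rfl fun k _ => ?_
    rw [← Finset.sum_sub_distrib]
    refine Finset.sum_congr rfl fun l _ => ?_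
    simp only [Matrix.sub_apply]; ring
  · simp only [conj_apply]
    have key : ∀ M : Matrix ι ι R, (∑ k, ∑ l, g k a * M k l * g l b) + ∑ k, ∑ l, g k b * M k l * g l a
        = ∑ k, ∑ l, g k a * g l b * (M k l + M l k) := by
      intro M
      rw [Finset.sum_comm (f := fun k l => g k b * M k l * g l a), ← Finset.sum_add_distrib]
      refine Finset.sum_congr rfl fun k _ => ?_
      rw [← Finset.sum_add_distrib]
      refine Finset.sum_congr rfl fun l _ => ?_
      ring
    rw [key N, key N']
    refine Finset.sum_congr rfl fun k _ => Finset.sum_congr rfl fun l _ => ?_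
    rw [h.polar k l]

theorem qf_eq_of_QEq {N N' : Matrix ι ι R} (h : QEq N N') (x : ι → R) : qf N x = qf N' x := by
  unfold qf
  rw [← sub_eq_zero, ← Finset.sum_sub_distrib]
  have := alt_sum (N - N') (fun i => by simp [h.diag i])
    (fun i j => by
      have := h.polar i j
      simp only [Matrix.sub_apply]; linear_combination this) x
  rw [← this]
  refine Finset.sum_congr rfl fun k _ => ?_
  rw [← Finset.sum_sub_distrib]
  refine Finset.sum_congr rfl fun l _ => ?_
  simp only [Matrix.sub_apply]; ring

theorem qf_conj (N : Matrix ι ι R) (g : Matrix ι κ R) (x : κ → R) :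
    qf (gᵀ * N * g) x = qf N (g *ᵥ x) := by
  unfold qf
  simp only [conj_apply, Matrix.mulVec, dotProduct]
  -- LHS: ∑ a b, x a * (∑ k l, g k a * N k l * g l b) * x b
  -- RHS: ∑ k l, (∑ a, g k a * x a) * N k l * (∑ b, g l b * x b)
  have hR : ∀ k l, (∑ a, g k a * x a) * N k l * (∑ b, g l b * x b)
      = ∑ a, ∑ b, x a * (g k a * N k l * g l b) * x b := by
    intro k l
    rw [Finset.sum_mul, Finset.sum_mul]
    refine Finset.sum_congr rfl fun a _ => ?_
    rw [Finset.mul_sum]
    refine Finset.sum_congr rfl fun b _ => ?_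
    ring
  simp only [hR]
  have hL : ∀ a b, x a * (∑ k, ∑ l, g k a * N k l * g l b) * x b
      = ∑ k, ∑ l, x a * (g k a * N k l * g l b) * x b := by
    intro a b
    rw [Finset.mul_sum, Finset.sum_mul]
    refine Finset.sum_congr rfl fun k _ => ?_
    rw [Finset.mul_sum, Finset.sum_mul]
  simp only [hL]
  -- reorder sums: ∑ a b k l = ∑ k l a b
  calc ∑ a, ∑ b, ∑ k, ∑ l, x a * (g k a * N k l * g l b) * x b
      = ∑ a, ∑ k, ∑ b, ∑ l, x a * (g k a * N k l * g l b) * x b := by
        refine Finset.sum_congr rfl fun a _ => Finset.sum_comm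
    _ = ∑ k, ∑ a, ∑ b, ∑ l, x a * (g k a * N k l * g l b) * x b := Finset.sum_comm
    _ = ∑ k, ∑ a, ∑ l, ∑ b, x a * (g k a * N k l * g l b) * x b := by
        refine Finset.sum_congr rfl fun k _ => Finset.sum_congr rfl fun a _ => Finset.sum_comm
    _ = ∑ k, ∑ l, ∑ a, ∑ b, x a * (g k a * N k l * g l b) * x b := by
        refine Finset.sum_congr rfl fun k _ => Finset.sum_comm

/-- Entries of `gᵀ N g`: diagonal = value of the form on the column. -/
theorem conj_diag (N : Matrix ι ι R) (g : Matrix ι κ R) (a : κ) :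
    (gᵀ * N * g) a a = qf N (fun k => g k a) := by
  rw [conj_apply]; rfl

variable {α β : Type*} [Fintype α] [Fintype β]

theorem QEq.fromBlocks {A A' : Matrix α α R} {B B' : Matrix α β R} {C C' : Matrix β α R}
    {D D' : Matrix β β R} (hA : QEq A A') (hD : QEq D D')
    (hBC : ∀ a k, B a k + C k a = B' a k + C' k a) :
    QEq (Matrix.fromBlocks A B C D) (Matrix.fromBlocks A' B' C' D') := by
  refine ⟨?_, ?_⟩
  · rintro (a | k)
    · simpa using hA.diag a
    · simpa using hD.diag k
  · rintro (a | k) (b | l)
    · simpa using hA.polar a b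
    · simpa using hBC a l
    · simpa [add_comm] using hBC b k
    · simpa using hD.polar k l

end Helper25.QuadMat

namespace Helper25.QuadMat

open Matrix

variable {R : Type*} [CommRing R] {ι κ : Type*} [Fintype ι] [Fintype κ]

/-- The bilinear form of a matrix. -/
def bl (N : Matrix ι ι R) (x y : ι → R) : R := ∑ i, ∑ j, x i * N i j * y j

theorem qf_eq_bl (N : Matrix ι ι R) (x : ι → R) : qf N x = bl N x x := rfl

theorem bl_add_left (N : Matrix ι ι R) (x x' y : ι → R) :
    bl N (x + x') y = bl N x y + bl N x' y := by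
  unfold bl
  rw [← Finset.sum_add_distrib]
  refine Finset.sum_congr rfl fun i _ => ?_
  rw [← Finset.sum_add_distrib]
  refine Finset.sum_congr rfl fun j _ => ?_
  simp only [Pi.add_apply]; ring

theorem bl_add_right (N : Matrix ι ι R) (x y y' : ι → R) :
    bl N x (y + y') = bl N x y + bl N x y' := by
  unfold bl
  rw [← Finset.sum_add_distrib]
  refine Finset.sum_congr rfl fun i _ => ?_
  rw [← Finset.sum_add_distrib]
  refine Finset.sum_congr rfl fun j _ => ?_
  simp only [Pi.add_apply]; ring

theorem bl_single_single [DecidableEq ι] (N : Matrix ι ι R) (a b : ι) :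
    bl N (Pi.single a 1) (Pi.single b 1) = N a b := by
  unfold bl
  rw [Finset.sum_eq_single a, Finset.sum_eq_single b]
  · simp
  · intro j _ hj; simp [Pi.single_apply, hj]
  · simp
  · intro i _ hi; simp [Pi.single_apply, hi]
  · simp

theorem conj_apply_bl (N : Matrix ι ι R) (g : Matrix ι κ R) (a b : κ) :
    (gᵀ * N * g) a b = bl N (fun k => g k a) (fun k => g k b) := conj_apply N g a b

theorem det_mem_of_row_mem [DecidableEq ι] (b : Matrix ι ι R) (p : Ideal R) (i : ι)
    (h : ∀ j, b i j ∈ p) : b.det ∈ p := by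
  rw [Matrix.det_eq_sum_mul_adjugate_row b i]
  exact Ideal.sum_mem _ fun j _ => Ideal.mul_mem_right _ _ (h j)

/-- Columns of a column-permuted identity matrix. -/
theorem one_submatrix_col [DecidableEq ι] (σ : ι ≃ ι) (c : ι) :
    (fun k => ((1 : Matrix ι ι R).submatrix id σ) k c) = Pi.single (σ c) 1 := by
  ext k
  simp [Matrix.one_apply, Pi.single_apply]

theorem transvection_col_same [DecidableEq ι] (j c : ι) :
    (fun k => (Matrix.transvection j c (1 : R)) k c) = Pi.single c 1 + Pi.single j 1 := by
  ext k
  simp only [Matrix.transvection, Matrix.add_apply, Matrix.one_apply, Matrix.single_apply,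
    Pi.add_apply, Pi.single_apply, and_true]
  by_cases h2 : j = k
  · subst h2; simp
  · simp [h2, Ne.symm h2]

theorem transvection_col_ne [DecidableEq ι] (j c c' : ι) (h : c' ≠ c) :
    (fun k => (Matrix.transvection j c (1 : R)) k c') = Pi.single c' 1 := by
  ext k
  simp only [Matrix.transvection, Matrix.add_apply, Matrix.one_apply, Matrix.single_apply,
    Pi.single_apply]
  by_cases h1 : k = c'
  · subst h1; simp [h, Ne.symm h]
  · simp [h1, Ne.symm h, h]

theorem isUnit_det_one_submatrix [DecidableEq ι] (σ : ι ≃ ι) :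
    IsUnit ((1 : Matrix ι ι R).submatrix id σ).det := by
  rw [Matrix.det_permute', Matrix.det_one, mul_one]
  have h : IsUnit ((Equiv.Perm.sign σ : ℤˣ) : ℤ) := (Equiv.Perm.sign σ).isUnit
  exact h.map (Int.castRingHom R)

end Helper25.QuadMat
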