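import Mathlib
import Groth.Agent.Lib.Helper25.QuadMat
import Groth.Agent.Lib.Helper25.OrthRels

/-!
# Dimension of the Lie algebra of the orthogonal group of a form `W ⊕ (c)`
-/

set_option autoImplicit false
set_option linter.style.haveILetI false
set_option linter.unusedSectionVars false
universe u

namespace Helper25.LieDim

open Matrix Helper25.QuadMat

variable {K : Type*} [Field K]

section Defs

variable {ι : Type*} [Fintype ι]

theorem qeq_zero_add {M M' : Matrix ι ι K} (h : QEq M 0) (h' : QEq M' 0) : QEq (M + M') 0 := by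
  have := QEq.add h h'
  rwa [add_zero] at this

theorem qeq_zero_smul {M : Matrix ι ι K} (c : K) (h : QEq M 0) : QEq (c • M) 0 :=
  ⟨fun i => by simp [h.diag i], fun i j => by
    have := h.polar i j
    simp only [Matrix.smul_apply, smul_eq_mul, Matrix.zero_apply, add_zero] at this ⊢
    rw [← mul_add, this, mul_zero]⟩

/-- The alternating matrices. -/
def Alt (ι : Type*) [Fintype ι] : Submodule K (Matrix ι ι K) where
  carrier := {M | QEq M 0}
  add_mem' := fun h h' => qeq_zero_add h h'
  zero_mem' := QEq.refl 0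
  smul_mem' := fun c _ h => qeq_zero_smul c h

theorem mem_Alt {M : Matrix ι ι K} : M ∈ Alt (K := K) ι ↔ QEq M 0 := Iff.rfl

/-- The Lie algebra of the special orthogonal group of a form with polar matrix `P`. -/
def Lie (P : Matrix ι ι K) : Submodule K (Matrix ι ι K) where
  carrier := {X | QEq (P * X) 0 ∧ trace X = 0}
  add_mem' := fun {X Y} h h' => ⟨by rw [Matrix.mul_add]; exact qeq_zero_add h.1 h'.1,
    by rw [trace_add, h.2, h'.2, add_zero]⟩
  zero_mem' := ⟨by rw [Matrix.mul_zero]; exact QEq.refl 0, trace_zero _ _⟩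
  smul_mem' := fun c X h => ⟨by rw [Matrix.mul_smul]; exact qeq_zero_smul c h.1,
    by rw [trace_smul, h.2, smul_zero]⟩

theorem mem_Lie {P X : Matrix ι ι K} : X ∈ Lie P ↔ QEq (P * X) 0 ∧ trace X = 0 := Iff.rfl

/-- The trace of a symmetric matrix times an alternating matrix vanishes. -/
theorem trace_mul_eq_zero_of_symm_alt [DecidableEq ι] {S M : Matrix ι ι K} (hS : Sᵀ = S)
    (hM : QEq M 0) : trace (S * M) = 0 := by
  simp only [trace, diag_apply, Matrix.mul_apply]
  rw [← Finset.sum_product']
  refine Finset.sum_involution (fun a _ => Prod.swap a) ?_ ?_ (fun a _ => Finset.mem_univ _)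
    (fun a _ => Prod.swap_swap a)
  · rintro ⟨k, l⟩ -
    simp only [Prod.fst_swap, Prod.snd_swap]
    have h1 := hM.polar k l
    have h2 : S l k = S k l := by
      have := congrFun (congrFun hS k) l
      simpa using this
    simp only [Matrix.zero_apply, add_zero] at h1
    rw [h2]
    linear_combination (S k l) * h1
  · rintro ⟨k, l⟩ - hne hsw
    simp only [Prod.swap_prod_mk, Prod.mk.injEq] at hsw
    have h0 : M l k = 0 := by
      rw [hsw.1]
      simpa using hM.diag k
    exact hne (by simp [h0])

theorem trace_fromBlocks' {α β : Type*} [Fintype α] [Fintype β] (A : Matrix α α K)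
    (B : Matrix α β K) (C : Matrix β α K) (D : Matrix β β K) :
    trace (fromBlocks A B C D) = trace A + trace D := by
  simp [trace, Fintype.sum_sum_type]

end Defs

section Blocks

variable {κ : Type*} [Fintype κ] [DecidableEq κ]

theorem qeq_zero_fromBlocks_iff (A : Matrix κ κ K) (B : Matrix κ (Fin 1) K)
    (C : Matrix (Fin 1) κ K) (D : Matrix (Fin 1) (Fin 1) K) :
    QEq (fromBlocks A B C D) 0 ↔ QEq A 0 ∧ D 0 0 = 0 ∧ B + Cᵀ = 0 := by
  constructor
  · intro h
    refine ⟨⟨fun i => ?_, fun i j => ?_⟩, ?_, ?_⟩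
    · simpa using h.diag (Sum.inl i)
    · simpa using h.polar (Sum.inl i) (Sum.inl j)
    · simpa using h.diag (Sum.inr 0)
    · ext i j
      have := h.polar (Sum.inl i) (Sum.inr j)
      simpa using this
  · rintro ⟨hA, hD, hBC⟩
    have h0 : (0 : Matrix (κ ⊕ Fin 1) (κ ⊕ Fin 1) K) = fromBlocks 0 0 0 0 := by
      rw [fromBlocks_zero]
    rw [h0]
    refine QEq.fromBlocks hA ⟨fun i => ?_, fun i j => ?_⟩ fun a k => ?_
    · rw [Subsingleton.elim i 0]; simpa using hD
    · rw [Subsingleton.elim i 0, Subsingleton.elim j 0]; simp [hD]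
    · have := congrFun (congrFun hBC a) k
      simpa using this

/-- The parametrisation of the block matrices in question. -/
noncomputable def Ψ (W' : Matrix κ κ K) (c : K) :
    (↥(Alt (K := K) κ) × Matrix (Fin 1) κ K) →ₗ[K] Matrix (κ ⊕ Fin 1) (κ ⊕ Fin 1) K where
  toFun p := fromBlocks (W' * p.1.1) (-(c • (W' * p.2ᵀ))) p.2 0
  map_add' p q := by
    rw [fromBlocks_add]
    congr 1
    · simp [Matrix.mul_add]
    · simp [Matrix.mul_add, Matrix.transpose_add]
      abel
    · simp
  map_smul' a p := by
    rw [RingHom.id_apply, fromBlocks_smul]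
    congr 1
    · simp
    · simp [Matrix.transpose_smul, smul_comm a c]
    · simp

theorem Ψ_injective (W W' : Matrix κ κ K) (hW : W * W' = 1) (c : K) :
    Function.Injective (Ψ (K := K) W' c) := by
  intro p q h
  simp only [Ψ, LinearMap.coe_mk, AddHom.coe_mk] at h
  rw [fromBlocks_inj] at h
  obtain ⟨h1, -, h3, -⟩ := h
  have h1' : p.1.1 = q.1.1 := by
    have := congrArg (fun M => W * M) h1
    simpa [← Matrix.mul_assoc, hW] using this
  exact Prod.ext (Subtype.ext h1') h3

theorem finrank_range_Ψ (W W' : Matrix κ κ K) (hW : W * W' = 1) (c : K) :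
    Module.finrank K (LinearMap.range (Ψ (K := K) W' c)) =
      Module.finrank K (Alt (K := K) κ) + Fintype.card κ := by
  rw [LinearMap.finrank_range_of_inj (Ψ_injective W W' hW c), Module.finrank_prod,
    Module.finrank_matrix]
  simp

theorem range_Ψ_one : LinearMap.range (Ψ (K := K) (1 : Matrix κ κ K) 1) = Alt (κ ⊕ Fin 1) := by
  ext X
  constructor
  · rintro ⟨p, rfl⟩
    simp only [Ψ, LinearMap.coe_mk, AddHom.coe_mk, mem_Alt, Matrix.one_mul, one_smul]
    rw [qeq_zero_fromBlocks_iff]
    exact ⟨p.1.2, rfl, by simp⟩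
  · intro hX
    rw [mem_Alt, ← fromBlocks_toBlocks X, qeq_zero_fromBlocks_iff] at hX
    obtain ⟨hA, hD, hBC⟩ := hX
    refine ⟨(⟨X.toBlocks₁₁, hA⟩, X.toBlocks₂₁), ?_⟩
    simp only [Ψ, LinearMap.coe_mk, AddHom.coe_mk, Matrix.one_mul, one_smul]
    conv_rhs => rw [← fromBlocks_toBlocks X]
    congr 1
    · exact (eq_neg_of_add_eq_zero_left hBC).symm
    · ext i j
      rw [Subsingleton.elim i 0, Subsingleton.elim j 0]
      exact hD.symm

theorem finrank_Alt_sum :
    Module.finrank K (Alt (K := K) (κ ⊕ Fin 1)) =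
      Module.finrank K (Alt (K := K) κ) + Fintype.card κ := by
  rw [← range_Ψ_one, finrank_range_Ψ 1 1 (Matrix.one_mul 1)]

theorem range_Ψ_Lie (W W' : Matrix κ κ K) (hW : W * W' = 1) (hW' : W' * W = 1) (hWs : W'ᵀ = W')
    (c : K) :
    LinearMap.range (Ψ (K := K) W' c) = Lie (fromBlocks W 0 0 (Matrix.of fun _ _ => c)) := by
  ext X
  constructor
  · rintro ⟨p, rfl⟩
    simp only [Ψ, LinearMap.coe_mk, AddHom.coe_mk, mem_Lie]
    rw [fromBlocks_multiply]
    simp only [Matrix.zero_mul, add_zero, zero_add, Matrix.mul_zero, Matrix.mul_neg,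
      Matrix.mul_smul, ← Matrix.mul_assoc, hW, Matrix.one_mul]
    refine ⟨?_, ?_⟩
    · rw [qeq_zero_fromBlocks_iff]
      refine ⟨p.1.2, by simp, ?_⟩
      ext i j
      have hj : j = 0 := Subsingleton.elim _ _
      subst hj
      simp [Matrix.mul_apply]
      ring
    · rw [trace_fromBlocks', trace_zero, add_zero]
      exact trace_mul_eq_zero_of_symm_alt hWs p.1.2
  · intro hX
    rw [mem_Lie] at hX
    obtain ⟨hq, htr⟩ := hX
    rw [← fromBlocks_toBlocks X, fromBlocks_multiply] at hq
    simp only [Matrix.zero_mul, add_zero, zero_add] at hq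
    rw [qeq_zero_fromBlocks_iff] at hq
    obtain ⟨hA, hD, hBC⟩ := hq
    have hA' : X.toBlocks₁₁ = W' * (W * X.toBlocks₁₁) := by
      rw [← Matrix.mul_assoc, hW', Matrix.one_mul]
    have htrA : trace X.toBlocks₁₁ = 0 := by
      rw [hA']; exact trace_mul_eq_zero_of_symm_alt hWs hA
    have hD0 : X.toBlocks₂₂ = 0 := by
      rw [← fromBlocks_toBlocks X, trace_fromBlocks', htrA, zero_add] at htr
      ext i j
      rw [Subsingleton.elim i 0, Subsingleton.elim j 0]
      simpa [trace] using htr
    refine ⟨(⟨W * X.toBlocks₁₁, hA⟩, X.toBlocks₂₁), ?_⟩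
    simp only [Ψ, LinearMap.coe_mk, AddHom.coe_mk]
    conv_rhs => rw [← fromBlocks_toBlocks X]
    congr 1
    · exact hA'.symm
    · have h1 : W * X.toBlocks₁₂ = -(c • X.toBlocks₂₁ᵀ) := by
        rw [eq_neg_iff_add_eq_zero, ← hBC]
        congr 1
        ext i j
        have hj : j = 0 := Subsingleton.elim _ _
        subst hj
        simp [Matrix.mul_apply]
      have h2 : X.toBlocks₁₂ = W' * (W * X.toBlocks₁₂) := by
        rw [← Matrix.mul_assoc, hW', Matrix.one_mul]
      rw [h2, h1, Matrix.mul_neg, Matrix.mul_smul]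
    · exact hD0.symm

theorem finrank_Lie_block (W W' : Matrix κ κ K) (hW : W * W' = 1) (hW' : W' * W = 1)
    (hWs : W'ᵀ = W') (c : K) :
    Module.finrank K (Lie (fromBlocks W 0 0 (Matrix.of fun _ _ => c) :
        Matrix (κ ⊕ Fin 1) (κ ⊕ Fin 1) K)) =
      Module.finrank K (Alt (K := K) κ) + Fintype.card κ := by
  rw [← range_Ψ_Lie W W' hW hW' hWs c, finrank_range_Ψ W W' hW c]

end Blocks

section Transport

theorem finrank_eq_of_equiv {V W : Type*} [AddCommGroup V] [Module K V] [AddCommGroup W]
    [Module K W] (Φ : V ≃ₗ[K] W) (p : Submodule K V) (q : Submodule K W)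
    (h : ∀ x, x ∈ p ↔ Φ x ∈ q) : Module.finrank K p = Module.finrank K q := by
  have : q = p.map (Φ : V →ₗ[K] W) := by
    ext y
    rw [Submodule.mem_map]
    constructor
    · intro hy
      exact ⟨Φ.symm y, (h _).mpr (by simpa using hy), by simp⟩
    · rintro ⟨x, hx, rfl⟩
      exact (h x).mp hx
  rw [this, LinearEquiv.finrank_map_eq]

variable {ι κ : Type*} [Fintype ι] [Fintype κ] [DecidableEq ι] [DecidableEq κ]

theorem finrank_Alt_reindex (e : κ ≃ ι) :
    Module.finrank K (Alt (K := K) κ) = Module.finrank K (Alt (K := K) ι) := by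
  refine finrank_eq_of_equiv (Matrix.reindexLinearEquiv K K e e) _ _ fun X => ?_
  simp only [mem_Alt, Matrix.coe_reindexLinearEquiv, Matrix.reindex_apply]
  constructor
  · intro h
    have := h.submatrix e.symm
    simpa using this
  · intro h
    have := h.submatrix e
    simpa [Matrix.submatrix_submatrix] using this

theorem finrank_Alt_of_card : ∀ (n : ℕ) (κ : Type u) [Fintype κ] [DecidableEq κ],
    Fintype.card κ = n → Module.finrank K (Alt (K := K) κ) = n * (n - 1) / 2 := by
  intro n
  induction n with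
  | zero =>
    intro κ _ _ h
    haveI : IsEmpty κ := Fintype.card_eq_zero_iff.mp h
    haveI : Subsingleton (Matrix κ κ K) := inferInstance
    have : Module.finrank K (Alt (K := K) κ) = 0 := Module.finrank_zero_of_subsingleton
    rw [this]
  | succ n ih =>
    intro κ _ _ h
    have hc : Fintype.card κ = Fintype.card (ULift.{u} (Fin n) ⊕ Fin 1) := by
      simp [h]
    obtain ⟨e⟩ := Fintype.card_eq.mp hc
    rw [finrank_Alt_reindex e, finrank_Alt_sum, ih (ULift.{u} (Fin n)) (by simp)]
    simp only [Fintype.card_ulift, Fintype.card_fin, Nat.add_sub_cancel]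
    have h2 : 2 ∣ n * (n - 1) := by
      rcases Nat.even_or_odd n with he | ho
      · exact Dvd.dvd.mul_right he.two_dvd _
      · rcases n with _ | n
        · simp
        · simp only [Nat.add_sub_cancel]
          have : Even n := by
            rcases ho with ⟨k, hk⟩
            exact ⟨k, by omega⟩
          exact Dvd.dvd.mul_left this.two_dvd _
    obtain ⟨q, hq⟩ := h2
    rw [hq, Nat.mul_div_cancel_left _ (by norm_num : 0 < 2)]
    have : (n + 1) * n = 2 * (q + n) := by
      rcases n with _ | n
      · simp at hq; simp [hq]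
      · simp only [Nat.add_sub_cancel] at hq
        nlinarith
    rw [this, Nat.mul_div_cancel_left _ (by norm_num : 0 < 2)]

theorem finrank_Lie_reindex (e : κ ≃ ι) (P : Matrix ι ι K) :
    Module.finrank K (Lie (P.submatrix e e)) = Module.finrank K (Lie P) := by
  refine finrank_eq_of_equiv (Matrix.reindexLinearEquiv K K e e) _ _ fun X => ?_
  simp only [mem_Lie, Matrix.coe_reindexLinearEquiv, Matrix.reindex_apply]
  have h1 : P * X.submatrix e.symm e.symm = ((P.submatrix e e) * X).submatrix e.symm e.symm := by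
    have := Matrix.submatrix_mul_equiv (P.submatrix e e) X e.symm e.symm e.symm
    rw [← this]
    congr 1
    ext i j
    simp
  have h2 : trace (X.submatrix e.symm e.symm) = trace X := by
    simp only [trace, diag_apply, submatrix_apply]
    exact Equiv.sum_comp e.symm (fun i => X i i)
  rw [h1, h2]
  refine and_congr ?_ Iff.rfl
  constructor
  · intro h
    have := h.submatrix e.symm
    simpa using this
  · intro h
    have := h.submatrix e
    simpa [Matrix.submatrix_submatrix] using this

theorem finrank_Lie_conj (P T T' : Matrix ι ι K) (h1 : T * T' = 1) (h2 : T' * T = 1) :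
    Module.finrank K (Lie (Tᵀ * P * T)) = Module.finrank K (Lie P) := by
  let Φ : Matrix ι ι K ≃ₗ[K] Matrix ι ι K :=
    { toFun := fun X => T * X * T'
      invFun := fun X => T' * X * T
      map_add' := fun X Y => by simp [Matrix.mul_add, Matrix.add_mul]
      map_smul' := fun c X => by simp
      left_inv := fun X => by
        simp only [Matrix.mul_assoc, h2, Matrix.mul_one]
        rw [← Matrix.mul_assoc, h2, Matrix.one_mul]
      right_inv := fun X => by
        simp only [Matrix.mul_assoc, h1, Matrix.mul_one]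
        rw [← Matrix.mul_assoc, h1, Matrix.one_mul] }
  refine finrank_eq_of_equiv Φ _ _ fun X => ?_
  simp only [mem_Lie]
  have htr : trace (Φ X) = trace X := by
    show trace (T * X * T') = trace X
    rw [Matrix.trace_mul_cycle, h2, Matrix.one_mul]
  rw [htr]
  refine and_congr ?_ Iff.rfl
  have hΦ : Φ X = T * X * T' := rfl
  constructor
  · intro h
    have := h.conj T'
    have e1 : T'ᵀ * (Tᵀ * P * T * X) * T' = P * Φ X := by
      rw [hΦ]
      have : T'ᵀ * Tᵀ = 1 := by rw [← Matrix.transpose_mul, h1, Matrix.transpose_one]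
      simp only [← Matrix.mul_assoc, this, Matrix.one_mul]
    rw [e1] at this
    simpa using this
  · intro h
    have := h.conj T
    have e1 : Tᵀ * (P * Φ X) * T = Tᵀ * P * T * X := by
      rw [hΦ]
      simp only [Matrix.mul_assoc, h2, Matrix.mul_one]
    rw [e1] at this
    simpa using this

end Transport

end Helper25.LieDim
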