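import Mathlib
import Groth.Agent.Lib.Helper25.LieDim
import Groth.Agent.Lib.Helper25.QuadOdd
import Groth.Agent.Lib.Helper25.QuadOddForm

/-!
# Dimension of the Lie algebra of the special orthogonal group in odd rank
-/

set_option autoImplicit false
set_option linter.style.haveILetI false
set_option linter.unusedSectionVars false
universe u

namespace Helper25.LieDim

open Matrix Helper25.QuadMat TensorProduct

/-- A nonzero algebra of finite type over an algebraically closed field has a rational point. -/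
theorem exists_algHom_of_finiteType {K S : Type*} [Field K] [IsAlgClosed K] [CommRing S]
    [Algebra K S] [Algebra.FiniteType K S] [Nontrivial S] : Nonempty (S →ₐ[K] K) := by
  obtain ⟨m, hm⟩ := Ideal.exists_maximal S
  letI : Field (S ⧸ m) := Ideal.Quotient.field m
  haveI : Algebra.FiniteType K (S ⧸ m) :=
    Algebra.FiniteType.of_surjective (Ideal.Quotient.mkₐ K m) (Ideal.Quotient.mkₐ_surjective K m)
  haveI : Module.Finite K (S ⧸ m) := finite_of_finite_type_of_isJacobsonRing K _
  haveI : Algebra.IsIntegral K (S ⧸ m) := inferInstance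
  have hbij : Function.Bijective (algebraMap K (S ⧸ m)) :=
    IsAlgClosed.algebraMap_bijective_of_isIntegral
  let ε : K ≃ₐ[K] (S ⧸ m) := AlgEquiv.ofBijective (Algebra.ofId K _) hbij
  exact ⟨(ε.symm : (S ⧸ m) →ₐ[K] K).comp (Ideal.Quotient.mkₐ K m)⟩

theorem symm_eq_of_QEq {R : Type*} [CommRing R] {ι : Type*} [Fintype ι] {A B : Matrix ι ι R}
    (h : QEq A B) : A + Aᵀ = B + Bᵀ := by
  ext i j
  simp only [Matrix.add_apply, Matrix.transpose_apply]
  exact h.polar i j

variable {K : Type u} [Field K] [IsAlgClosed K]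

/-- The Lie algebra of the special orthogonal group of a semiregular form of rank `2m+1` has
dimension `m(2m+1)`. -/
theorem finrank_Lie_odd (m : ℕ) (NK : Matrix (Fin (2 * m + 1)) (Fin (2 * m + 1)) K)
    (h : hdetE (Equiv.refl (Fin (2 * m + 1))) NK ≠ 0) :
    Module.finrank K (Lie (NK + NKᵀ)) = m * (2 * m + 1) := by
  classical
  let e := oddEquiv m
  let N' : Matrix ((Fin m ⊕ Fin m) ⊕ Fin 1) ((Fin m ⊕ Fin m) ⊕ Fin 1) K := NK.submatrix e e
  have hh' : IsUnit (hdetE e N') := by
    have : hdetE e N' = hdetE (Equiv.refl (Fin (2 * m + 1))) NK := by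
      unfold hdetE
      congr 1
      ext i j
      simp [N']
    rw [this]
    exact isUnit_iff_ne_zero.mpr h
  obtain ⟨S, _, _, hff, hfp, T₀, hT₀, hQ₀⟩ :=
    exists_fppf_cover_split_odd K m N' e ⟨m, rfl⟩ hh' 1
  haveI := hff
  haveI := hfp
  haveI : Nontrivial S := (TensorProduct.lid K S).symm.toEquiv.nontrivial
  haveI : Algebra.FiniteType K S := inferInstance
  obtain ⟨φ⟩ := exists_algHom_of_finiteType (K := K) (S := S)
  -- specialise to `K`
  let T : Matrix ((Fin m ⊕ Fin m) ⊕ Fin 1) ((Fin m ⊕ Fin m) ⊕ Fin 1) K := T₀.map φ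
  have hTdet : IsUnit T.det := by
    have : T.det = φ T₀.det := by
      rw [AlgHom.map_det]; rfl
    rw [this]; exact hT₀.map φ
  have hQ : QEq (Tᵀ * N' * T) (JOdd m K 1) := by
    have := hQ₀.map (φ : S →+* K)
    rw [Matrix.map_mul, Matrix.map_mul, Matrix.transpose_map, JOdd_map, Matrix.map_map] at this
    have e1 : N'.map (⇑(φ : S →+* K) ∘ ⇑(algebraMap K S)) = N' := by
      ext i j
      simp
    rw [e1] at this
    simpa using this
  -- the polar matrices
  have hP : Tᵀ * (N' + N'ᵀ) * T = JOdd m K 1 + (JOdd m K 1)ᵀ := by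
    rw [← symm_eq_of_QEq hQ]
    simp only [Matrix.transpose_mul, Matrix.transpose_transpose, Matrix.mul_add, Matrix.add_mul,
      Matrix.mul_assoc]
  have hPsub : N' + N'ᵀ = (NK + NKᵀ).submatrix e e := by
    ext i j; simp [N']
  have hJ : JOdd m K 1 + (JOdd m K 1)ᵀ =
      fromBlocks (fromBlocks 0 1 1 0 : Matrix (Fin m ⊕ Fin m) (Fin m ⊕ Fin m) K) 0 0
        (Matrix.of fun _ _ => (1 + 1 : K)) := by
    unfold JOdd QuadMat.J
    rw [fromBlocks_transpose, fromBlocks_transpose, fromBlocks_add, fromBlocks_add]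
    congr 1
    · simp
    · simp
    · simp
  set W : Matrix (Fin m ⊕ Fin m) (Fin m ⊕ Fin m) K := fromBlocks 0 1 1 0 with hWdef
  have hWW : W * W = 1 := by
    rw [hWdef, fromBlocks_multiply]
    simp [fromBlocks_one]
  have hWs : Wᵀ = W := by
    rw [hWdef, fromBlocks_transpose]
    simp
  have hT1 : T * T⁻¹ = 1 := Matrix.mul_nonsing_inv T hTdet
  have hT2 : T⁻¹ * T = 1 := Matrix.nonsing_inv_mul T hTdet
  rw [← finrank_Lie_reindex e (NK + NKᵀ), ← hPsub, ← finrank_Lie_conj (N' + N'ᵀ) T T⁻¹ hT1 hT2,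
    hP, hJ, finrank_Lie_block W W hWW hWW hWs,
    finrank_Alt_of_card (2 * m) (Fin m ⊕ Fin m) (by simp; ring)]
  simp only [Fintype.card_sum, Fintype.card_fin]
  rcases m with _ | m
  · simp
  · have : 2 * (m + 1) * (2 * (m + 1) - 1) = 2 * ((m + 1) * (2 * m + 1)) := by
      have : 2 * (m + 1) - 1 = 2 * m + 1 := by omega
      rw [this]; ring
    rw [this, Nat.mul_div_cancel_left _ (by norm_num : 0 < 2)]
    ring

end Helper25.LieDim
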