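import Groth.Agent.Lib.Helper25.Morita

/-!
# The line bundle of liftings of an automorphism of a matrix algebra (helper25)
-/

set_option autoImplicit false

namespace Groth.Agent.Lib.Helper25.MatrixLiftings

open TensorProduct Groth.Agent.Lib.Helper25.Morita

universe u v

section PiTensor

variable {A : Type u} [CommRing A]

theorem invertible_piTensor (L : Type v) [AddCommGroup L] [Module A L] [Module.Invertible A L]
    (n : ℕ) : Module.Invertible A (⨂[A] _ : Fin n, L) := by
  induction n with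
  | zero => exact Module.Invertible.congr (PiTensorProduct.isEmptyEquiv (R := A)
      (s := fun _ : Fin 0 => L) (Fin 0)).symm
  | succ n ih =>
    have e1 : (⨂[A] _ : Fin n, L) ⊗[A] (⨂[A] _ : Fin 1, L) ≃ₗ[A] ⨂[A] _ : Fin n ⊕ Fin 1, L :=
      PiTensorProduct.tmulEquiv A L
    have e2 : (⨂[A] _ : Fin n ⊕ Fin 1, L) ≃ₗ[A] ⨂[A] _ : Fin (n + 1), L :=
      PiTensorProduct.reindex A (fun _ => L) finSumFinEquiv
    have h1 : Module.Invertible A (⨂[A] _ : Fin 1, L) :=
      Module.Invertible.congr (PiTensorProduct.subsingletonEquiv (R := A)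
        (s := fun _ : Fin 1 => L) (0 : Fin 1)).symm
    exact Module.Invertible.congr (e1.trans e2)

end PiTensor

section Liftings

variable {A : Type u} [CommRing A] {n : ℕ}

/-- the module of matrices `M` with `M N = α(N) M` for all `N` -/
def liftings (α : Matrix (Fin n) (Fin n) A ≃ₐ[A] Matrix (Fin n) (Fin n) A) :
    Submodule A (Matrix (Fin n) (Fin n) A) :=
  LinearMap.ker (LinearMap.mul A (Matrix (Fin n) (Fin n) A) -
    (LinearMap.lcomp A (Matrix (Fin n) (Fin n) A) α.toLinearMap).comp
      (LinearMap.mul A (Matrix (Fin n) (Fin n) A)).flip)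

theorem mem_liftings {α : Matrix (Fin n) (Fin n) A ≃ₐ[A] Matrix (Fin n) (Fin n) A}
    {M : Matrix (Fin n) (Fin n) A} : M ∈ liftings α ↔ ∀ N, M * N = α N * M := by
  rw [liftings, LinearMap.mem_ker, LinearMap.sub_apply, sub_eq_zero, LinearMap.ext_iff]
  rfl

/-- the transported automorphism of `End (Fin n → A)` -/
noncomputable def endAut (α : Matrix (Fin n) (Fin n) A ≃ₐ[A] Matrix (Fin n) (Fin n) A) :
    Module.End A (Fin n → A) ≃ₐ[A] Module.End A (Fin n → A) :=
  (Matrix.toLinAlgEquiv' (R := A) (n := Fin n)).symm.trans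
    (α.trans (Matrix.toLinAlgEquiv' (R := A) (n := Fin n)))

theorem endAut_apply (α : Matrix (Fin n) (Fin n) A ≃ₐ[A] Matrix (Fin n) (Fin n) A)
    (N : Matrix (Fin n) (Fin n) A) :
    endAut α (Matrix.toLinAlgEquiv' N) = Matrix.toLinAlgEquiv' (α N) := by
  simp [endAut]

theorem endAut_symm (α : Matrix (Fin n) (Fin n) A ≃ₐ[A] Matrix (Fin n) (Fin n) A) :
    (endAut α).symm = endAut α.symm := by
  ext f : 1
  rw [AlgEquiv.symm_apply_eq]
  obtain ⟨N, rfl⟩ := (Matrix.toLinAlgEquiv' (R := A) (n := Fin n)).surjective f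
  rw [endAut_apply, endAut_apply, AlgEquiv.apply_symm_apply]

theorem toLin_mem_inter_iff (α : Matrix (Fin n) (Fin n) A ≃ₐ[A] Matrix (Fin n) (Fin n) A)
    (M : Matrix (Fin n) (Fin n) A) :
    (Matrix.toLinAlgEquiv' M : Module.End A (Fin n → A)) ∈
      inter (endAut α : Module.End A (Fin n → A) → Module.End A (Fin n → A)) ↔
      M ∈ liftings α := by
  rw [mem_inter, mem_liftings]
  constructor
  · intro h N
    have := h (Matrix.toLinAlgEquiv' N)
    rw [endAut_apply] at this
    apply (Matrix.toLinAlgEquiv' (R := A) (n := Fin n)).injective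
    rw [map_mul, map_mul]
    exact this
  · intro h f
    obtain ⟨N, rfl⟩ := (Matrix.toLinAlgEquiv' (R := A) (n := Fin n)).surjective f
    rw [endAut_apply]
    have := congrArg (Matrix.toLinAlgEquiv' (R := A) (n := Fin n)) (h N)
    rw [map_mul, map_mul] at this
    exact this

theorem faithfullyFlat_fin (A : Type u) [CommRing A] (n : ℕ) (hn : 0 < n) :
    Module.FaithfullyFlat A (Fin n → A) := by
  have : Nonempty (Fin n) := ⟨⟨0, hn⟩⟩
  exact Module.FaithfullyFlat.of_linearEquiv A (Fin n →₀ A)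
    (Finsupp.linearEquivFunOnFinite A A (Fin n)).symm

/-- `liftings α` is isomorphic to the intertwiner module -/
noncomputable def liftingsEquiv (α : Matrix (Fin n) (Fin n) A ≃ₐ[A] Matrix (Fin n) (Fin n) A) :
    liftings α ≃ₗ[A] inter (endAut α : Module.End A (Fin n → A) → Module.End A (Fin n → A)) :=
  LinearEquiv.ofSubmodules (Matrix.toLinAlgEquiv' (R := A) (n := Fin n)).toLinearEquiv
    (liftings α) (inter (endAut α : Module.End A (Fin n → A) → Module.End A (Fin n → A))) (by
      ext ξ
      constructor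
      · rintro ⟨M, hM, rfl⟩
        exact (toLin_mem_inter_iff α M).2 hM
      · intro hξ
        obtain ⟨M, rfl⟩ := (Matrix.toLinAlgEquiv' (R := A) (n := Fin n)).surjective ξ
        exact ⟨M, (toLin_mem_inter_iff α M).1 hξ, rfl⟩)

theorem invertible_liftings (hn : 0 < n)
    (α : Matrix (Fin n) (Fin n) A ≃ₐ[A] Matrix (Fin n) (Fin n) A) :
    Module.Invertible A (liftings α) := by
  have := faithfullyFlat_fin A n hn
  have := invertible_inter (endAut α)
  exact Module.Invertible.congr (liftingsEquiv α).symm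

/-- partition of unity in matrix form -/
theorem exists_matrix_partition (hn : 0 < n)
    (α : Matrix (Fin n) (Fin n) A ≃ₐ[A] Matrix (Fin n) (Fin n) A) :
    ∃ (m : ℕ) (M M' : Fin m → Matrix (Fin n) (Fin n) A) (c : Fin m → A),
      (∀ i, M i ∈ liftings α) ∧ (∀ i, M' i * M i = c i • (1 : Matrix (Fin n) (Fin n) A)) ∧
      ∑ i, c i = 1 := by
  have := faithfullyFlat_fin A n hn
  obtain ⟨m, ξ, η, hξ, hη, hsum⟩ := exists_partition (endAut α)
  have hc : ∀ i, ∃ c : A, η i ∘ₗ ξ i = c • (1 : Module.End A (Fin n → A)) :=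
    fun i => exists_comp_eq_smul (endAut α) (hξ i) (hη i)
  choose c hc using hc
  let T := Matrix.toLinAlgEquiv' (R := A) (n := Fin n)
  refine ⟨m, fun i => T.symm (ξ i), fun i => T.symm (η i), c, fun i => ?_, fun i => ?_, ?_⟩
  · rw [← toLin_mem_inter_iff, AlgEquiv.apply_symm_apply]
    exact hξ i
  · apply T.injective
    rw [map_mul, AlgEquiv.apply_symm_apply, AlgEquiv.apply_symm_apply, map_smul, map_one]
    exact hc i
  · have h1 : (∑ i, c i) • (1 : Module.End A (Fin n → A)) = 1 := by
      rw [Finset.sum_smul]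
      simp only [← hc]
      rw [hsum]
      rfl
    have h3 : ((∑ i, c i) - 1) • (1 : Module.End A (Fin n → A)) = 0 := by
      have := sub_smul (∑ i, c i) 1 (1 : Module.End A (Fin n → A))
      rw [this, h1, one_smul, sub_self]
    have h2 := smul_one_injective (A := A) (F := Fin n → A) ((∑ i, c i) - 1) h3
    exact sub_eq_zero.1 h2

/-- the `i`-th row of a matrix in `liftings α`, as a linear map -/
def rowMap (α : Matrix (Fin n) (Fin n) A ≃ₐ[A] Matrix (Fin n) (Fin n) A) (i : Fin n) :
    liftings α →ₗ[A] (Fin n → A) where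
  toFun M := (M : Matrix (Fin n) (Fin n) A) i
  map_add' _ _ := rfl
  map_smul' _ _ := rfl

/-- the "mixed determinant" `L^{⊗ n} → A` -/
noncomputable def mixedDet (α : Matrix (Fin n) (Fin n) A ≃ₐ[A] Matrix (Fin n) (Fin n) A) :
    (⨂[A] _ : Fin n, liftings α) →ₗ[A] A :=
  PiTensorProduct.lift
    ((Matrix.detRowAlternating (R := A) (n := Fin n)).toMultilinearMap.compLinearMap
      (fun i => rowMap α i))

theorem mixedDet_tprod_const (α : Matrix (Fin n) (Fin n) A ≃ₐ[A] Matrix (Fin n) (Fin n) A)
    (M : liftings α) :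
    mixedDet α (PiTensorProduct.tprod A fun _ => M) = (M : Matrix (Fin n) (Fin n) A).det := by
  rw [mixedDet, PiTensorProduct.lift.tprod]
  rfl

theorem mixedDet_surjective (hn : 0 < n)
    (α : Matrix (Fin n) (Fin n) A ≃ₐ[A] Matrix (Fin n) (Fin n) A) :
    Function.Surjective (mixedDet α) := by
  rw [← LinearMap.range_eq_top]
  by_contra h
  obtain ⟨m, hm, hle⟩ := Ideal.exists_le_maximal (LinearMap.range (mixedDet α)) h
  obtain ⟨r, M, M', c, hM, hMM', hc⟩ := exists_matrix_partition hn α
  have h1 : ∀ i, c i ∈ m := by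
    intro i
    have h2 : (M i).det ∈ m := by
      apply hle
      exact ⟨PiTensorProduct.tprod A fun _ => ⟨M i, hM i⟩, mixedDet_tprod_const α ⟨M i, hM i⟩⟩
    have h3 : c i ^ n = (M' i).det * (M i).det := by
      rw [← Matrix.det_mul, hMM' i, Matrix.det_smul, Matrix.det_one, mul_one, Fintype.card_fin]
    have h4 : c i ^ n ∈ m := by
      rw [h3]
      exact Ideal.mul_mem_left _ _ h2
    exact hm.isPrime.mem_of_pow_mem n h4
  apply hm.ne_top
  rw [Ideal.eq_top_iff_one, ← hc]
  exact Ideal.sum_mem _ fun i _ => h1 i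

/-- the class of the module of liftings is `n`-torsion -/
theorem nonempty_tensorPower_equiv (hn : 0 < n)
    (α : Matrix (Fin n) (Fin n) A ≃ₐ[A] Matrix (Fin n) (Fin n) A) :
    Nonempty ((⨂[A] _ : Fin n, liftings α) ≃ₗ[A] A) := by
  have := invertible_liftings hn α
  have := invertible_piTensor (A := A) (liftings α) n
  exact ⟨LinearEquiv.ofBijective (mixedDet α)
    (Module.Invertible.bijective_of_surjective (mixedDet_surjective hn α))⟩

end Liftings

end Groth.Agent.Lib.Helper25.MatrixLiftings
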