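import Mathlib.Topology.Sober
import Mathlib.Topology.Irreducible
import Mathlib.Topology.Inseparable
import Mathlib.Topology.DiscreteSubset

/-!
# Maximal points (points without proper generizations) and irreducible components
-/

set_option autoImplicit false
universe u

namespace Groth.Agent.Lib.Helper25

variable {X : Type u} [TopologicalSpace X]

/-- In a quasi-sober T0 space, `closure {x}` is an irreducible component iff `x` has no proper
generization. -/
theorem closure_singleton_mem_irreducibleComponents_iff [QuasiSober X] [T0Space X] (x : X) :
    closure ({x} : Set X) ∈ irreducibleComponents X ↔ ∀ z : X, z ⤳ x → z = x := by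
  constructor
  · intro h z hzx
    have h1 : closure ({x} : Set X) ⊆ closure {z} :=
      (isClosed_closure.closure_subset_iff).mpr
        (Set.singleton_subset_iff.mpr (specializes_iff_mem_closure.mp hzx))
    have h2 : closure ({z} : Set X) ⊆ closure {x} :=
      h.2 isIrreducible_singleton.closure h1
    have hxz : x ⤳ z := specializes_iff_mem_closure.mpr (h2 (subset_closure rfl))
    exact (hzx.antisymm hxz).eq
  · intro h
    refine ⟨isIrreducible_singleton.closure, fun t ht hxt => ?_⟩
    obtain ⟨z, hz⟩ := QuasiSober.sober ht.closure isClosed_closure
    have hx : x ∈ closure t := subset_closure (hxt (subset_closure rfl))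
    have hzx : z ⤳ x := by
      rw [specializes_iff_mem_closure, hz.def]; exact hx
    have := h z hzx
    subst this
    rw [hz.def]
    exact subset_closure

/-- In a discrete subset, a specialization between two of its points is an equality. -/
theorem eq_of_specializes_of_isDiscrete {S : Set X} (hS : IsDiscrete S) {z x : X}
    (hz : z ∈ S) (hx : x ∈ S) (h : z ⤳ x) : z = x := by
  obtain ⟨u, hu, hux⟩ := (isDiscrete_iff_forall_mem_exists_isOpen.mp hS) x hx
  have hxu : x ∈ u := by
    have : x ∈ u ∩ S := by rw [hux]; rfl
    exact this.1
  have hzu : z ∈ u := h.mem_open hu hxu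
  have : z ∈ u ∩ S := ⟨hzu, hz⟩
  rw [hux] at this
  exact this

end Groth.Agent.Lib.Helper25
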