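import Mathlib.RingTheory.Kaehler.Basic
import Mathlib.Algebra.Polynomial.Derivative
import Mathlib.Algebra.Polynomial.AlgebraMap
import Mathlib.RingTheory.Adjoin.Basic
import Mathlib.RingTheory.Adjoin.Polynomial.Basic
import Mathlib.RingTheory.Ideal.Maps

/-!
# Differentials of a monogenic algebra `B = A[u]`

* `span_derivative_le_annihilator`: if `F(u) = 0` then `F'(u)` kills `Ω[B⁄A]`.
* `annihilator_eq_span_derivative`: if moreover `ker (aeval u) = (F)`, the annihilator of `Ω[B⁄A]`
  is generated by `F'(u)`.
-/

set_option autoImplicit false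
universe u v

namespace Groth.Agent.Lib.Helper25

open Polynomial

variable {A : Type u} {B : Type v} [CommRing A] [CommRing B] [Algebra A B]

theorem aeval_derivative_smul_D (u : B) (F : A[X]) (hF : aeval u F = 0) :
    aeval u (derivative F) • KaehlerDifferential.D A B u = 0 := by
  have := (KaehlerDifferential.D A B).map_aeval F u
  rw [hF, map_zero] at this
  exact this.symm

theorem exists_aeval_eq (u : B) (hu : Algebra.adjoin A ({u} : Set B) = ⊤) (b : B) :
    ∃ g : A[X], aeval u g = b := by
  have : b ∈ Algebra.adjoin A ({u} : Set B) := by rw [hu]; trivial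
  rw [Algebra.adjoin_singleton_eq_range_aeval] at this
  exact this

theorem span_derivative_le_annihilator (u : B) (hu : Algebra.adjoin A ({u} : Set B) = ⊤)
    (F : A[X]) (hF : aeval u F = 0) :
    Ideal.span {aeval u (derivative F)} ≤ Module.annihilator B (Ω[B⁄A]) := by
  rw [Ideal.span_le, Set.singleton_subset_iff, SetLike.mem_coe, Module.mem_annihilator]
  intro ω
  have hω : ω ∈ Submodule.span B (Set.range (KaehlerDifferential.D A B)) := by
    rw [KaehlerDifferential.span_range_derivation]; trivial
  induction hω using Submodule.span_induction with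
  | mem x hx =>
    obtain ⟨b, rfl⟩ := hx
    obtain ⟨g, rfl⟩ := exists_aeval_eq u hu b
    rw [Derivation.map_aeval, smul_comm, aeval_derivative_smul_D u F hF, smul_zero]
  | zero => exact smul_zero _
  | add x y _ _ hx hy => rw [smul_add, hx, hy, add_zero]
  | smul a x _ hx => rw [smul_comm, hx, smul_zero]

section Der

variable (u : B) (hu : Algebra.adjoin A ({u} : Set B) = ⊤) (F : A[X])
  (hker : RingHom.ker (aeval u : A[X] →ₐ[A] B) = Ideal.span {F})

include hker in
theorem derivative_congr (g₁ g₂ : A[X]) (h : aeval u g₁ = aeval u g₂) :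
    Ideal.Quotient.mk (Ideal.span {aeval u (derivative F)}) (aeval u (derivative g₁)) =
      Ideal.Quotient.mk (Ideal.span {aeval u (derivative F)}) (aeval u (derivative g₂)) := by
  have hmem : g₁ - g₂ ∈ RingHom.ker (aeval u : A[X] →ₐ[A] B) := by
    rw [RingHom.mem_ker, map_sub, h, sub_self]
  rw [hker, Ideal.mem_span_singleton] at hmem
  obtain ⟨k, hk⟩ := hmem
  have hF0 : aeval u F = 0 := by
    have : F ∈ RingHom.ker (aeval u : A[X] →ₐ[A] B) := by
      rw [hker]; exact Ideal.mem_span_singleton_self F
    exact this
  rw [Ideal.Quotient.eq, ← map_sub, ← derivative_sub, hk, derivative_mul, map_add, map_mul, map_mul,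
    hF0, zero_mul, add_zero]
  exact Ideal.mul_mem_right _ _ (Ideal.mem_span_singleton_self _)

/-- A chosen polynomial representative of an element of `B = A[u]`. -/
noncomputable def rep (b : B) : A[X] := (exists_aeval_eq u hu b).choose

theorem aeval_rep (b : B) : aeval u (rep u hu b) = b := (exists_aeval_eq u hu b).choose_spec

/-- The `A`-derivation `B → B ⧸ (F'(u))`, `g(u) ↦ g'(u)`, for `B = A[X]/(F)`. -/
noncomputable def quotDer :
    Derivation A B (B ⧸ Ideal.span {aeval u (derivative F)}) where
  toFun b := Ideal.Quotient.mk _ (aeval u (derivative (rep u hu b)))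
  map_add' b₁ b₂ := by
    rw [← map_add, ← map_add, ← derivative_add]
    apply derivative_congr u F hker
    rw [aeval_rep, map_add, aeval_rep, aeval_rep]
  map_smul' a b := by
    rw [RingHom.id_apply]
    change _ = Ideal.Quotient.mk _ (a • aeval u (derivative (rep u hu b)))
    have : a • aeval u (derivative (rep u hu b)) =
        aeval u (derivative (C a * rep u hu b)) := by
      rw [derivative_C_mul, map_mul, aeval_C, Algebra.smul_def]
    rw [this]
    apply derivative_congr u F hker
    rw [aeval_rep, map_mul, aeval_C, aeval_rep, Algebra.smul_def]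
  map_one_eq_zero' := by
    change Ideal.Quotient.mk _ (aeval u (derivative (rep u hu 1))) = 0
    have : (0 : B ⧸ Ideal.span {aeval u (derivative F)}) =
        Ideal.Quotient.mk _ (aeval u (derivative (1 : A[X]))) := by
      rw [derivative_one, map_zero, map_zero]
    rw [this]
    apply derivative_congr u F hker
    rw [aeval_rep, map_one]
  leibniz' b₁ b₂ := by
    change Ideal.Quotient.mk _ (aeval u (derivative (rep u hu (b₁ * b₂)))) =
      b₁ • Ideal.Quotient.mk _ (aeval u (derivative (rep u hu b₂))) +
        b₂ • Ideal.Quotient.mk _ (aeval u (derivative (rep u hu b₁)))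
    have h1 : ∀ (b c : B), b • Ideal.Quotient.mk (Ideal.span {aeval u (derivative F)}) c =
        Ideal.Quotient.mk _ (b * c) := fun b c => rfl
    rw [h1, h1, ← map_add]
    have : b₁ * aeval u (derivative (rep u hu b₂)) + b₂ * aeval u (derivative (rep u hu b₁)) =
        aeval u (derivative (rep u hu b₁ * rep u hu b₂)) := by
      rw [derivative_mul, map_add, map_mul, map_mul, aeval_rep, aeval_rep]
      ring
    rw [this]
    apply derivative_congr u F hker
    rw [aeval_rep, map_mul, aeval_rep, aeval_rep]

theorem quotDer_apply_u :
    quotDer u hu F hker u = 1 := by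
  change Ideal.Quotient.mk _ (aeval u (derivative (rep u hu u))) = 1
  have : (1 : B ⧸ Ideal.span {aeval u (derivative F)}) =
      Ideal.Quotient.mk _ (aeval u (derivative (X : A[X]))) := by
    rw [derivative_X, map_one, map_one]
  rw [this]
  apply derivative_congr u F hker
  rw [aeval_rep, aeval_X]

include hu hker in
theorem annihilator_eq_span_derivative :
    Module.annihilator B (Ω[B⁄A]) = Ideal.span {aeval u (derivative F)} := by
  have hF0 : aeval u F = 0 := by
    have : F ∈ RingHom.ker (aeval u : A[X] →ₐ[A] B) := by
      rw [hker]; exact Ideal.mem_span_singleton_self F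
    exact this
  apply le_antisymm
  · intro b hb
    rw [Module.mem_annihilator] at hb
    have h1 := hb (KaehlerDifferential.D A B u)
    have h2 := congrArg (quotDer u hu F hker).liftKaehlerDifferential h1
    rw [map_smul, Derivation.liftKaehlerDifferential_comp_D, quotDer_apply_u, map_zero] at h2
    have h3 : Ideal.Quotient.mk (Ideal.span {aeval u (derivative F)}) b = 0 := by
      rw [← h2]
      change _ = Ideal.Quotient.mk _ (b * 1)
      rw [mul_one]
    exact Ideal.Quotient.eq_zero_iff_mem.mp h3
  · exact span_derivative_le_annihilator u hu F hF0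

end Der

end Groth.Agent.Lib.Helper25
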