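import Mathlib

/-!
# Morita-type lemmas over a commutative ring (helper25)

For finitely generated projective faithfully flat `A`-modules `F`, `G` and an `A`-algebra
isomorphism `φ : End F ≃ End G`, the module `inter φ` of intertwiners `ξ : F → G`
(`ξ ∘ f = φ f ∘ ξ`) is invertible and evaluation `F ⊗ inter φ → G` is an isomorphism.
-/

set_option autoImplicit false

namespace Groth.Agent.Lib.Helper25.Morita

open TensorProduct Module

universe u v w

section Basic

variable {A : Type u} [CommRing A] {F : Type v} {G : Type w}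
  [AddCommGroup F] [Module A F] [AddCommGroup G] [Module A G]

/-- Intertwiners for an arbitrary map `φ : End F → End G`. -/
def inter (φ : Module.End A F → Module.End A G) : Submodule A (F →ₗ[A] G) where
  carrier := {ξ | ∀ f : Module.End A F, ξ ∘ₗ f = φ f ∘ₗ ξ}
  add_mem' := by
    intro a b ha hb f
    rw [LinearMap.add_comp, LinearMap.comp_add, ha f, hb f]
  zero_mem' := by
    intro f
    rw [LinearMap.zero_comp, LinearMap.comp_zero]
  smul_mem' := by
    intro c a ha f
    rw [LinearMap.smul_comp, LinearMap.comp_smul, ha f]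

theorem mem_inter {φ : Module.End A F → Module.End A G} {ξ : F →ₗ[A] G} :
    ξ ∈ inter φ ↔ ∀ f : Module.End A F, ξ ∘ₗ f = φ f ∘ₗ ξ := Iff.rfl

theorem inter_apply {φ : Module.End A F → Module.End A G} {ξ : F →ₗ[A] G} (hξ : ξ ∈ inter φ)
    (f : Module.End A F) (y : F) : ξ (f y) = φ f (ξ y) :=
  LinearMap.congr_fun (hξ f) y

/-- dual basis of a finitely generated projective module -/
theorem exists_dualBasis (A : Type u) [CommRing A] (F : Type v) [AddCommGroup F] [Module A F]
    [Module.Finite A F] [Module.Projective A F] :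
    ∃ (n : ℕ) (x : Fin n → F) (l : Fin n → Module.Dual A F), ∀ y : F, y = ∑ k, l k y • x k := by
  classical
  obtain ⟨n, p, q, -, -, hpq⟩ := Module.Finite.exists_comp_eq_id_of_projective A F
  refine ⟨n, fun k => p (fun j => if k = j then 1 else 0),
    fun k => (LinearMap.proj k).comp q, fun y => ?_⟩
  have h1 : p (q y) = y := LinearMap.congr_fun hpq y
  conv_lhs => rw [← h1, LinearMap.pi_apply_eq_sum_univ p (q y)]
  rfl

theorem one_eq_sum_smulRight {n : ℕ} {x : Fin n → F} {l : Fin n → Module.Dual A F}
    (h : ∀ y : F, y = ∑ k, l k y • x k) :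
    (1 : Module.End A F) = ∑ k, (l k).smulRight (x k) := by
  ext y
  rw [Module.End.one_apply, LinearMap.sum_apply]
  exact h y

/-- the trace ideal of a f.g. projective faithfully flat module is the unit ideal -/
theorem trace_eq_top (A : Type u) [CommRing A] (F : Type v) [AddCommGroup F] [Module A F]
    [Module.Finite A F] [Module.Projective A F] [Module.FaithfullyFlat A F] :
    Ideal.span (Set.range fun p : Module.Dual A F × F => p.1 p.2) = ⊤ := by
  by_contra h
  obtain ⟨m, hm, hle⟩ := Ideal.exists_le_maximal _ h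
  obtain ⟨n, x, l, hxl⟩ := exists_dualBasis A F
  apply Module.FaithfullyFlat.submodule_ne_top (M := F) hm
  rw [eq_top_iff]
  intro y _
  rw [hxl y]
  refine Submodule.sum_mem _ fun k _ => ?_
  exact Submodule.smul_mem_smul (hle (Ideal.subset_span ⟨(l k, y), rfl⟩)) Submodule.mem_top

/-- an endomorphism commuting with all endomorphisms is a scalar -/
theorem exists_smul_of_central [Module.Finite A F] [Module.Projective A F]
    [Module.FaithfullyFlat A F] (f : Module.End A F) (hf : ∀ g : Module.End A F, f * g = g * f) :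
    ∃ c : A, f = c • (1 : Module.End A F) := by
  have key : ∀ a ∈ Ideal.span (Set.range fun p : Module.Dual A F × F => p.1 p.2),
      ∃ c : A, a • f = c • (1 : Module.End A F) := by
    intro a ha
    induction ha using Submodule.span_induction with
    | mem a h =>
      obtain ⟨⟨l, x⟩, rfl⟩ := h
      refine ⟨l (f x), ?_⟩
      ext y
      have h1 := LinearMap.congr_fun (hf (l.smulRight y)) x
      simp only [Module.End.mul_apply, LinearMap.smulRight_apply] at h1
      simp only [LinearMap.smul_apply, Module.End.one_apply]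
      rw [← h1, map_smul]
    | zero => exact ⟨0, by simp⟩
    | add a b _ _ ha hb =>
      obtain ⟨c, hc⟩ := ha
      obtain ⟨d, hd⟩ := hb
      exact ⟨c + d, by rw [add_smul, add_smul, hc, hd]⟩
    | smul r a _ ha =>
      obtain ⟨c, hc⟩ := ha
      exact ⟨r * c, by rw [smul_eq_mul, mul_smul, mul_smul, hc]⟩
  obtain ⟨c, hc⟩ := key 1 (by rw [trace_eq_top A F]; exact Submodule.mem_top)
  exact ⟨c, by rw [← hc, one_smul]⟩

/-- faithfulness -/
theorem smul_one_injective [Module.Finite A F] [Module.Projective A F]
    [Module.FaithfullyFlat A F] (c : A) (hc : c • (1 : Module.End A F) = 0) : c = 0 := by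
  have key : ∀ a ∈ Ideal.span (Set.range fun p : Module.Dual A F × F => p.1 p.2), c * a = 0 := by
    intro a ha
    induction ha using Submodule.span_induction with
    | mem a h =>
      obtain ⟨⟨l, x⟩, rfl⟩ := h
      have h1 := LinearMap.congr_fun hc x
      simp only [LinearMap.smul_apply, Module.End.one_apply, LinearMap.zero_apply] at h1
      show c * l x = 0
      rw [← smul_eq_mul, ← map_smul, h1, map_zero]
    | zero => simp
    | add a b _ _ ha hb => rw [mul_add, ha, hb, add_zero]
    | smul r a _ ha => rw [smul_eq_mul, mul_left_comm, ha, mul_zero]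
  have := key 1 (by rw [trace_eq_top A F]; exact Submodule.mem_top)
  rwa [mul_one] at this

end Basic

section Main

variable {A : Type u} [CommRing A] {F : Type v} {G : Type w}
  [AddCommGroup F] [Module A F] [AddCommGroup G] [Module A G]

/-- the intertwiner `y ↦ φ (l(·) y) g` -/
noncomputable def mk (φ : Module.End A F →ₐ[A] Module.End A G) (l : Module.Dual A F) (g : G) :
    F →ₗ[A] G :=
  (LinearMap.applyₗ g) ∘ₗ φ.toLinearMap ∘ₗ (LinearMap.smulRightₗ l)

theorem mk_apply (φ : Module.End A F →ₐ[A] Module.End A G) (l : Module.Dual A F) (g : G)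
    (y : F) : mk φ l g y = φ (l.smulRight y) g := rfl

theorem mk_mem (φ : Module.End A F →ₐ[A] Module.End A G) (l : Module.Dual A F) (g : G) :
    mk φ l g ∈ inter (φ : Module.End A F → Module.End A G) := by
  intro f
  ext y
  simp only [LinearMap.comp_apply, mk_apply]
  have h1 : l.smulRight (f y) = f * l.smulRight y := by
    ext x
    simp only [LinearMap.smulRight_apply, Module.End.mul_apply, map_smul]
  rw [h1, map_mul, Module.End.mul_apply]

/-- every element of `G` is a sum of values of intertwiners -/
theorem mem_span_eval [Module.Finite A F] [Module.Projective A F]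
    (φ : Module.End A F →ₐ[A] Module.End A G) (w : G) :
    w ∈ Submodule.span A {z : G | ∃ ξ ∈ inter (φ : Module.End A F → Module.End A G),
      ∃ y : F, z = ξ y} := by
  obtain ⟨n, x, l, hxl⟩ := exists_dualBasis A F
  have h1 : (1 : Module.End A G) = ∑ k, φ ((l k).smulRight (x k)) := by
    rw [← map_sum, ← one_eq_sum_smulRight hxl, map_one]
  have h2 : w = ∑ k, mk φ (l k) w (x k) := by
    conv_lhs => rw [← Module.End.one_apply (R := A) w, h1, LinearMap.sum_apply]
    rfl
  rw [h2]
  exact Submodule.sum_mem _ fun k _ => Submodule.subset_span ⟨_, mk_mem φ (l k) w, x k, rfl⟩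

variable (φ : Module.End A F ≃ₐ[A] Module.End A G)

theorem comp_central {ξ : F →ₗ[A] G} {η : G →ₗ[A] F}
    (hξ : ξ ∈ inter (φ : Module.End A F → Module.End A G))
    (hη : η ∈ inter (φ.symm : Module.End A G → Module.End A F)) (f : Module.End A F) :
    (η ∘ₗ ξ) * f = f * (η ∘ₗ ξ) := by
  have h1 := hξ f
  have h2 := hη (φ f)
  rw [AlgEquiv.symm_apply_apply] at h2
  show (η ∘ₗ ξ) ∘ₗ f = f ∘ₗ (η ∘ₗ ξ)
  rw [LinearMap.comp_assoc, h1, ← LinearMap.comp_assoc, h2, LinearMap.comp_assoc]

theorem exists_comp_eq_smul [Module.Finite A F] [Module.Projective A F]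
    [Module.FaithfullyFlat A F] {ξ : F →ₗ[A] G} {η : G →ₗ[A] F}
    (hξ : ξ ∈ inter (φ : Module.End A F → Module.End A G))
    (hη : η ∈ inter (φ.symm : Module.End A G → Module.End A F)) :
    ∃ c : A, η ∘ₗ ξ = c • (1 : Module.End A F) :=
  exists_smul_of_central (η ∘ₗ ξ) (comp_central φ hξ hη)

theorem one_mem_span_comp [Module.Finite A F] [Module.Projective A F]
    [Module.FaithfullyFlat A F] [Module.Finite A G] [Module.Projective A G] :
    (1 : Module.End A F) ∈ Submodule.span A {e : Module.End A F |
      ∃ ξ ∈ inter (φ : Module.End A F → Module.End A G),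
      ∃ η ∈ inter (φ.symm : Module.End A G → Module.End A F), e = η ∘ₗ ξ} := by
  set S : Set (Module.End A F) := {e : Module.End A F |
      ∃ ξ ∈ inter (φ : Module.End A F → Module.End A G),
      ∃ η ∈ inter (φ.symm : Module.End A G → Module.End A F), e = η ∘ₗ ξ} with hS
  let T : Ideal A := Submodule.comap (Algebra.linearMap A (Module.End A F)) (Submodule.span A S)
  suffices hT : T = ⊤ by
    have h1 : (1 : A) ∈ T := by rw [hT]; exact Submodule.mem_top
    have h2 : Algebra.linearMap A (Module.End A F) 1 ∈ Submodule.span A S := h1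
    rwa [Algebra.linearMap_apply, map_one] at h2
  by_contra h
  obtain ⟨m, hm, hle⟩ := Ideal.exists_le_maximal _ h
  apply Module.FaithfullyFlat.submodule_ne_top (M := F) hm
  rw [eq_top_iff]
  intro y _
  have hy := mem_span_eval (φ.symm : Module.End A G →ₐ[A] Module.End A F) y
  refine (Submodule.span_le.2 ?_) hy
  rintro _ ⟨η, hη, w, rfl⟩
  have hw := mem_span_eval (φ : Module.End A F →ₐ[A] Module.End A G) w
  have h3 : η w ∈ Submodule.map η (Submodule.span A {z : G |
      ∃ ξ ∈ inter (φ : Module.End A F → Module.End A G), ∃ y : F, z = ξ y}) :=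
    Submodule.mem_map_of_mem hw
  rw [Submodule.map_span] at h3
  refine (Submodule.span_le.2 ?_) h3
  rintro _ ⟨_, ⟨ξ, hξ, y', rfl⟩, rfl⟩
  obtain ⟨c, hc⟩ := exists_comp_eq_smul φ hξ hη
  have h4 : η (ξ y') = c • y' := by
    have := LinearMap.congr_fun hc y'
    simpa using this
  rw [h4]
  refine Submodule.smul_mem_smul (hle ?_) Submodule.mem_top
  show Algebra.linearMap A (Module.End A F) c ∈ Submodule.span A S
  rw [Algebra.linearMap_apply, Algebra.algebraMap_eq_smul_one, ← hc]
  exact Submodule.subset_span ⟨ξ, hξ, η, hη, rfl⟩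

/-- partition of unity on the `F` side -/
theorem exists_partition [Module.Finite A F] [Module.Projective A F]
    [Module.FaithfullyFlat A F] [Module.Finite A G] [Module.Projective A G] :
    ∃ (n : ℕ) (ξ : Fin n → F →ₗ[A] G) (η : Fin n → G →ₗ[A] F),
      (∀ i, ξ i ∈ inter (φ : Module.End A F → Module.End A G)) ∧
      (∀ i, η i ∈ inter (φ.symm : Module.End A G → Module.End A F)) ∧
      ∑ i, η i ∘ₗ ξ i = LinearMap.id := by
  obtain ⟨n, a, g, hg⟩ := (Submodule.mem_span_set').1 (one_mem_span_comp φ)
  have hg' : ∀ i, ∃ ξ ∈ inter (φ : Module.End A F → Module.End A G),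
      ∃ η ∈ inter (φ.symm : Module.End A G → Module.End A F), (g i : Module.End A F) = η ∘ₗ ξ :=
    fun i => (g i).2
  choose ξ hξ η hη hηξ using hg'
  refine ⟨n, fun i => a i • ξ i, η, fun i => Submodule.smul_mem _ _ (hξ i), hη, ?_⟩
  rw [← Module.End.one_eq_id, ← hg]
  refine Finset.sum_congr rfl fun i _ => ?_
  rw [hηξ i, LinearMap.comp_smul]

/-- evaluation `F ⊗ inter φ → G` -/
noncomputable def evalMap :
    F ⊗[A] (inter (φ : Module.End A F → Module.End A G)) →ₗ[A] G :=
  TensorProduct.lift ((LinearMap.applyₗ (R := A) (M := F) (M₂ := G)).compl₂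
    (inter (φ : Module.End A F → Module.End A G)).subtype)

@[simp]
theorem evalMap_tmul (y : F) (ξ : inter (φ : Module.End A F → Module.End A G)) :
    evalMap φ (y ⊗ₜ ξ) = (ξ : F →ₗ[A] G) y := rfl

theorem evalMap_map (f : Module.End A F)
    (t : F ⊗[A] (inter (φ : Module.End A F → Module.End A G))) :
    evalMap φ (TensorProduct.map f LinearMap.id t) = φ f (evalMap φ t) := by
  induction t using TensorProduct.induction_on with
  | zero => simp
  | tmul y ξ =>
    rw [TensorProduct.map_tmul, evalMap_tmul, evalMap_tmul, LinearMap.id_apply]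
    exact inter_apply ξ.2 f y
  | add a b ha hb => rw [map_add, map_add, map_add, ha, hb, map_add]

variable [Module.Finite A F] [Module.Projective A F] [Module.FaithfullyFlat A F]
  [Module.Finite A G] [Module.Projective A G] [Module.FaithfullyFlat A G]

/-- evaluation is an isomorphism -/
theorem exists_evalEquiv :
    ∃ e : F ⊗[A] (inter (φ : Module.End A F → Module.End A G)) ≃ₗ[A] G,
      ∀ t, e t = evalMap φ t := by
  obtain ⟨n, η, ξ, hη, hξ, hsum⟩ := exists_partition φ.symm
  -- `η i : G → F` in `inter φ.symm`, `ξ i : F → G` in `inter φ`, `∑ ξ i ∘ η i = id`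
  have hξ' : ∀ i, ξ i ∈ inter (φ : Module.End A F → Module.End A G) := hξ
  let inv : G →ₗ[A] F ⊗[A] (inter (φ : Module.End A F → Module.End A G)) :=
    ∑ i, ((TensorProduct.mk A F (inter (φ : Module.End A F → Module.End A G))).flip
      ⟨ξ i, hξ' i⟩) ∘ₗ (η i)
  have inv_apply : ∀ w, inv w = ∑ i, (η i w) ⊗ₜ[A]
      (⟨ξ i, hξ' i⟩ : inter (φ : Module.End A F → Module.End A G)) := by
    intro w
    simp only [inv, LinearMap.sum_apply, LinearMap.comp_apply, LinearMap.flip_apply,
      TensorProduct.mk_apply]
  have h1 : evalMap φ ∘ₗ inv = LinearMap.id := by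
    ext w
    rw [LinearMap.comp_apply, inv_apply, map_sum, LinearMap.id_apply]
    simp only [evalMap_tmul]
    have := LinearMap.congr_fun hsum w
    simpa using this
  have h2 : inv ∘ₗ evalMap φ = LinearMap.id := by
    refine TensorProduct.ext' fun y ξ' => ?_
    rw [LinearMap.comp_apply, evalMap_tmul, inv_apply, LinearMap.id_apply]
    have hc : ∀ i, ∃ c : A, η i ∘ₗ (ξ' : F →ₗ[A] G) = c • (1 : Module.End A F) :=
      fun i => exists_comp_eq_smul φ ξ'.2 (hη i)
    choose c hc using hc
    have e1 : ∀ i, η i ((ξ' : F →ₗ[A] G) y) = c i • y := by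
      intro i
      have := LinearMap.congr_fun (hc i) y
      simpa using this
    have e2 : ξ' = ∑ i, c i • (⟨ξ i, hξ' i⟩ : inter (φ : Module.End A F → Module.End A G)) := by
      apply Subtype.ext
      rw [Submodule.coe_sum]
      simp only [Submodule.coe_smul]
      have e3 : ∀ i, c i • ξ i = ξ i ∘ₗ (η i ∘ₗ (ξ' : F →ₗ[A] G)) := by
        intro i
        rw [hc i, LinearMap.comp_smul, Module.End.one_eq_id, LinearMap.comp_id]
      simp only [e3]
      ext z
      rw [LinearMap.sum_apply]
      simp only [LinearMap.comp_apply]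
      have := LinearMap.congr_fun hsum ((ξ' : F →ₗ[A] G) z)
      simpa using this.symm
    simp only [e1]
    conv_rhs => rw [e2, TensorProduct.tmul_sum]
    refine Finset.sum_congr rfl fun i _ => ?_
    rw [TensorProduct.smul_tmul]
  exact ⟨LinearEquiv.ofLinearMap (evalMap φ) inv h1 h2, fun t => rfl⟩

/-- The main Morita statement: `G ≅ F ⊗ L` compatibly with `φ`. -/
theorem exists_equiv_conj :
    ∃ e : F ⊗[A] (inter (φ : Module.End A F → Module.End A G)) ≃ₗ[A] G,
      ∀ f : Module.End A F, φ f = e.conj (TensorProduct.map f LinearMap.id) := by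
  obtain ⟨e, he⟩ := exists_evalEquiv φ
  refine ⟨e, fun f => ?_⟩
  apply LinearMap.ext
  intro w
  obtain ⟨t, rfl⟩ := e.surjective w
  rw [LinearEquiv.conj_apply, LinearMap.comp_apply, LinearMap.comp_apply]
  simp only [LinearEquiv.coe_coe, LinearEquiv.symm_apply_apply]
  rw [he, he, evalMap_map]

/-- composition pairing `L ⊗ L' → End G` -/
noncomputable def compMap :
    (inter (φ : Module.End A F → Module.End A G)) ⊗[A]
      (inter (φ.symm : Module.End A G → Module.End A F)) →ₗ[A] Module.End A G :=
  TensorProduct.lift ((LinearMap.llcomp A G F G).compl₁₂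
    (inter (φ : Module.End A F → Module.End A G)).subtype
    (inter (φ.symm : Module.End A G → Module.End A F)).subtype)

omit [Module.Finite A F] [Module.Projective A F] [Module.FaithfullyFlat A F]
  [Module.Finite A G] [Module.Projective A G] [Module.FaithfullyFlat A G] in
@[simp]
theorem compMap_tmul (ξ : inter (φ : Module.End A F → Module.End A G))
    (η : inter (φ.symm : Module.End A G → Module.End A F)) :
    compMap φ (ξ ⊗ₜ η) = (ξ : F →ₗ[A] G) ∘ₗ (η : G →ₗ[A] F) := rfl

/-- `L ⊗ L' ≃ A` -/
theorem exists_tensor_equiv :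
    Nonempty ((inter (φ : Module.End A F → Module.End A G)) ⊗[A]
      (inter (φ.symm : Module.End A G → Module.End A F)) ≃ₗ[A] A) := by
  obtain ⟨n, η, ξ, hη, hξ, hsum⟩ := exists_partition φ.symm
  have hξ' : ∀ i, ξ i ∈ inter (φ : Module.End A F → Module.End A G) := hξ
  set t₀ : (inter (φ : Module.End A F → Module.End A G)) ⊗[A]
      (inter (φ.symm : Module.End A G → Module.End A F)) :=
    ∑ i, (⟨ξ i, hξ' i⟩ : inter (φ : Module.End A F → Module.End A G)) ⊗ₜ[A]
      (⟨η i, hη i⟩ : inter (φ.symm : Module.End A G → Module.End A F)) with ht₀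
  have hcomp : compMap φ t₀ = 1 := by
    rw [ht₀, map_sum]
    simp only [compMap_tmul]
    rw [Module.End.one_eq_id, ← hsum]
  let ν : A →ₗ[A] (inter (φ : Module.End A F → Module.End A G)) ⊗[A]
      (inter (φ.symm : Module.End A G → Module.End A F)) := LinearMap.toSpanSingleton A _ t₀
  have hν : ∀ a, ν a = a • t₀ := fun a => rfl
  have hinj : Function.Injective ν := by
    rw [injective_iff_map_eq_zero]
    intro a ha
    apply smul_one_injective (A := A) (F := G)
    rw [← hcomp, ← map_smul, ← hν, ha, map_zero]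
  have hsurj : Function.Surjective ν := by
    intro t
    show t ∈ LinearMap.range ν
    induction t using TensorProduct.induction_on with
    | zero => exact Submodule.zero_mem _
    | add a b ha hb => exact Submodule.add_mem _ ha hb
    | tmul ξ' η' =>
      obtain ⟨d, hd⟩ := exists_comp_eq_smul φ.symm η'.2 (show (ξ' : F →ₗ[A] G) ∈
        inter (φ.symm.symm : Module.End A F → Module.End A G) from ξ'.2)
      have hc : ∀ i, ∃ c : A, (η' : G →ₗ[A] F) ∘ₗ ξ i = c • (1 : Module.End A F) :=
        fun i => exists_comp_eq_smul φ (hξ' i) η'.2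
      choose c hc using hc
      have e1 : η' = ∑ i, c i • (⟨η i, hη i⟩ : inter (φ.symm : Module.End A G → Module.End A F)) := by
        apply Subtype.ext
        rw [Submodule.coe_sum]
        simp only [Submodule.coe_smul]
        have e3 : ∀ i, c i • η i = ((η' : G →ₗ[A] F) ∘ₗ ξ i) ∘ₗ η i := by
          intro i
          rw [hc i, LinearMap.smul_comp, Module.End.one_eq_id, LinearMap.id_comp]
        simp only [e3]
        ext z
        rw [LinearMap.sum_apply]
        simp only [LinearMap.comp_apply]
        rw [← map_sum]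
        have := LinearMap.congr_fun hsum z
        simp only [LinearMap.sum_apply, LinearMap.comp_apply, LinearMap.id_apply] at this
        rw [this]
      have e2 : ∀ i, c i • ξ' = d • (⟨ξ i, hξ' i⟩ : inter (φ : Module.End A F → Module.End A G)) := by
        intro i
        apply Subtype.ext
        simp only [Submodule.coe_smul]
        have : c i • (ξ' : F →ₗ[A] G) = ((ξ' : F →ₗ[A] G) ∘ₗ (η' : G →ₗ[A] F)) ∘ₗ ξ i := by
          rw [LinearMap.comp_assoc, hc i, LinearMap.comp_smul, Module.End.one_eq_id,
            LinearMap.comp_id]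
        rw [this, hd, LinearMap.smul_comp, Module.End.one_eq_id, LinearMap.id_comp]
      refine ⟨d, ?_⟩
      rw [hν, ht₀, Finset.smul_sum]
      conv_rhs => rw [e1, TensorProduct.tmul_sum]
      refine Finset.sum_congr rfl fun i _ => ?_
      rw [← TensorProduct.smul_tmul, e2 i, TensorProduct.smul_tmul']
  exact ⟨(LinearEquiv.ofBijective ν ⟨hinj, hsurj⟩).symm⟩

theorem invertible_inter :
    Module.Invertible A (inter (φ : Module.End A F → Module.End A G)) := by
  obtain ⟨e⟩ := exists_tensor_equiv φ
  exact Module.Invertible.left e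

end Main

end Groth.Agent.Lib.Helper25.Morita
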