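import Groth.Agent.Lib.Helper25.GPinOddMain

/-!
# Infinitesimal lifting for the Pin group in odd rank at least three
-/

set_option autoImplicit false
set_option linter.unusedSectionVars false
set_option linter.unusedVariables false
set_option linter.unusedSimpArgs false
set_option linter.style.haveILetI false
set_option linter.unreachableTactic false
set_option linter.unusedTactic false

universe u

namespace Helper25.GPinLift

open CliffordAlgebra QuadGrp Helper25.Cliff Helper25.CliffBCF Helper25.GLsub Helper25.QuadMat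
open scoped TensorProduct

section Norm

variable {A : Type*} [CommRing A] {V : Type*} [AddCommGroup V] [Module A V]
  (Q' : QuadraticForm A V)

theorem star_mem_evenOdd (i : ZMod 2) (x : CliffordAlgebra Q') (hx : x ∈ evenOdd Q' i) :
    star x ∈ evenOdd Q' i := by
  rw [CliffordAlgebra.star_def, reverse_mem_evenOdd_iff, involute_mem_evenOdd_iff]
  exact hx

/-- The Clifford norm of a point of the naive Clifford group is central. -/
theorem star_mul_self_mem_center (t : (CliffordAlgebra Q')ˣ) (ht : t ∈ QuadGrp.GPin' Q') :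
    star (t : CliffordAlgebra Q') * (t : CliffordAlgebra Q') ∈
      Subalgebra.center A (CliffordAlgebra Q') := by
  apply mem_center_of_commute_ι
  intro v
  obtain ⟨w, hw⟩ := conj_mem_range_of_mem_GPin' Q' t ht v
  have h1 : star (↑t⁻¹ : CliffordAlgebra Q') * star (t : CliffordAlgebra Q') = 1 := by
    rw [← star_mul, Units.mul_inv, star_one]
  have h2 := congrArg star hw
  rw [star_mul, star_mul, star_ι, star_ι, neg_mul, mul_neg, neg_inj, ← mul_assoc] at h2
  -- h2 : star t⁻¹ * ι v * star t = ι w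
  have h3 : ι Q' v * star (t : CliffordAlgebra Q') = star (t : CliffordAlgebra Q') * ι Q' w := by
    calc ι Q' v * star (t : CliffordAlgebra Q')
        = (star (t : CliffordAlgebra Q') * star (↑t⁻¹ : CliffordAlgebra Q')) * ι Q' v *
            star (t : CliffordAlgebra Q') := by
          rw [← star_mul, Units.inv_mul, star_one, one_mul]
      _ = star (t : CliffordAlgebra Q') * (star (↑t⁻¹ : CliffordAlgebra Q') * ι Q' v *
            star (t : CliffordAlgebra Q')) := by simp only [mul_assoc]
      _ = star (t : CliffordAlgebra Q') * ι Q' w := by rw [h2]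
  have h4 : ι Q' w * (t : CliffordAlgebra Q') = (t : CliffordAlgebra Q') * ι Q' v := by
    rw [← hw, mul_assoc, Units.inv_mul, mul_one]
  calc star (t : CliffordAlgebra Q') * (t : CliffordAlgebra Q') * ι Q' v
      = star (t : CliffordAlgebra Q') * (ι Q' w * (t : CliffordAlgebra Q')) := by
        rw [h4, mul_assoc]
    _ = ι Q' v * (star (t : CliffordAlgebra Q') * (t : CliffordAlgebra Q')) := by
        rw [← mul_assoc, ← h3, mul_assoc]

/-- The Clifford norm of a locally homogeneous element is even. -/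
theorem star_mul_self_mem_even (t : CliffordAlgebra Q') (ht : QuadGrp.IsLocHomog Q' t) :
    star t * t ∈ evenOdd Q' 0 := by
  obtain ⟨e, he, h0, h1⟩ := ht
  have hee : e * e = e := he
  have hff : (1 - e) * (1 - e) = 1 - e := by linear_combination hee
  have hsplit : star t * t = star (e • t) * (e • t) + star ((1 - e) • t) * ((1 - e) • t) := by
    rw [CliffordAlgebra.star_smul, CliffordAlgebra.star_smul, smul_mul_smul_comm,
      smul_mul_smul_comm, hee, hff, ← add_smul]
    simp
  rw [hsplit]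
  refine Submodule.add_mem _ ?_ ?_
  · have := SetLike.mul_mem_graded (star_mem_evenOdd Q' 0 _ h0) h0
    rwa [zero_add] at this
  · exact odd_mul_odd_mem_even Q' (star_mem_evenOdd Q' 1 _ h1) h1

/-- A point of the Clifford group congruent to `1` with prescribed Clifford norm `1 - ε`, from a
hyperbolic pair. -/
theorem exists_corr (v₁ w₁ : V) (hpol : QuadraticMap.polar Q' v₁ w₁ = 1) (ε : A)
    (hε : ε * ε = 0) :
    ∃ s : (CliffordAlgebra Q')ˣ, s ∈ QuadGrp.GPin Q' ∧
      (s : CliffordAlgebra Q') = 1 - ε • (ι Q' v₁ * ι Q' w₁) ∧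
      star (s : CliffordAlgebra Q') * (s : CliffordAlgebra Q') =
        algebraMap A (CliffordAlgebra Q') (1 - ε) := by
  set x : CliffordAlgebra Q' := ι Q' v₁ * ι Q' w₁ with hx
  have hstar : star x = ι Q' w₁ * ι Q' v₁ := by
    rw [hx, star_mul, star_ι, star_ι, neg_mul_neg]
  have hsum : x + star x = 1 := by
    rw [hstar, hx, ι_mul_ι_add_swap, hpol, map_one]
  have hεε : ∀ y z : CliffordAlgebra Q', (ε • y) * (ε • z) = 0 := fun y z => by
    rw [smul_mul_smul_comm, hε, zero_smul]
  obtain ⟨z, hz⟩ : ∃ z : CliffordAlgebra Q', z = ε • x := ⟨_, rfl⟩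
  have hzz : z * z = 0 := by rw [hz]; exact hεε x x
  have hzyz : ∀ y, z * y * z = 0 := fun y => by
    have : z * y * z = (ε * ε) • (x * y * x) := by
      rw [hz, smul_mul_assoc, smul_mul_assoc, mul_smul_comm, smul_smul]
    rw [this, hε, zero_smul]
  have h1 : (1 - z) * (1 + z) = 1 := by
    have : (1 - z) * (1 + z) = 1 - z * z := by noncomm_ring
    rw [this, hzz, sub_zero]
  have h2 : (1 + z) * (1 - z) = 1 := by
    have : (1 + z) * (1 - z) = 1 - z * z := by noncomm_ring
    rw [this, hzz, sub_zero]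
  let d : V → V := fun u => QuadraticMap.polar Q' w₁ u • v₁ - QuadraticMap.polar Q' v₁ u • w₁
  have hcomm : ∀ u, x * ι Q' u - ι Q' u * x = ι Q' (d u) := by
    intro u
    have e1 : ι Q' w₁ * ι Q' u = algebraMap A _ (QuadraticMap.polar Q' w₁ u) - ι Q' u * ι Q' w₁ :=
      ι_mul_ι_comm w₁ u
    have e2 : ι Q' v₁ * ι Q' u = algebraMap A _ (QuadraticMap.polar Q' v₁ u) - ι Q' u * ι Q' v₁ :=
      ι_mul_ι_comm v₁ u
    have e3 : x * ι Q' u = ι Q' v₁ * (ι Q' w₁ * ι Q' u) := by rw [hx, mul_assoc]
    rw [e3, e1, mul_sub, ← mul_assoc, e2, sub_mul, hx]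
    simp only [d, map_sub, map_smul, Algebra.smul_def]
    rw [← Algebra.commutes (QuadraticMap.polar Q' w₁ u)]
    noncomm_ring
  have hzcomm : ∀ u, z * ι Q' u - ι Q' u * z = ι Q' (ε • d u) := fun u => by
    rw [hz, smul_mul_assoc, mul_smul_comm, ← smul_sub, hcomm, map_smul]
  let s : (CliffordAlgebra Q')ˣ := ⟨1 - z, 1 + z, h1, h2⟩
  have hsval : (s : CliffordAlgebra Q') = 1 - z := rfl
  have hsinv : (↑s⁻¹ : CliffordAlgebra Q') = 1 + z := rfl
  have hxe : x ∈ evenOdd Q' 0 := ι_mul_ι_mem_evenOdd_zero Q' v₁ w₁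
  refine ⟨s, ⟨?_, ?_⟩, by rw [hsval, hz], ?_⟩
  · refine Helper25.CliffPoly.mem_GPin'_of_forall _ s (fun u => ⟨u - ε • d u, ?_⟩)
      (fun u => ⟨u + ε • d u, ?_⟩)
    · rw [hsval, hsinv, map_sub, ← hzcomm u]
      have : (1 - z) * ι Q' u * (1 + z) =
          ι Q' u - (z * ι Q' u - ι Q' u * z) - z * ι Q' u * z := by noncomm_ring
      rw [this, hzyz, sub_zero]
    · rw [hsval, hsinv, map_add, ← hzcomm u]
      have : (1 + z) * ι Q' u * (1 - z) =
          ι Q' u + (z * ι Q' u - ι Q' u * z) - z * ι Q' u * z := by noncomm_ring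
      rw [this, hzyz, sub_zero]
  · refine ⟨1, IsIdempotentElem.one, ?_, ?_⟩
    · rw [one_smul, hsval, hz]
      exact Submodule.sub_mem _ (SetLike.one_mem_graded _) (Submodule.smul_mem _ _ hxe)
    · rw [sub_self, zero_smul]; exact Submodule.zero_mem _
  · have hsz : star z = ε • star x := by rw [hz, CliffordAlgebra.star_smul]
    rw [hsval, star_sub, star_one]
    have : (1 - star z) * (1 - z) = 1 - (z + star z) + star z * z := by noncomm_ring
    rw [this, hsz, hz, hεε, add_zero, ← smul_add, hsum, map_sub, map_one,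
      Algebra.algebraMap_eq_smul_one]

end Norm

section BC

variable {R : Type u} [CommRing R] {M : Type u} [AddCommGroup M] [Module R M]
  [Module.Free R M] [Module.Finite R M] (Q : QuadraticForm R M)
  {A A' : Type u} [CommRing A] [Algebra R A] [CommRing A'] [Algebra R A']

theorem baseChangeForm_rTensor (φ : A →ₐ[R] A') (v : A ⊗[R] M) :
    baseChangeForm A' Q (LinearMap.rTensor M φ.toLinearMap v) = φ (baseChangeForm A Q v) := by
  apply Helper25.Cliff.algebraMap_injective (baseChangeForm A' Q)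
  rw [← ι_sq_scalar, ← Fcan_ι, ← map_mul, ι_sq_scalar, Fcan_algebraMap]

theorem polar_baseChangeForm_rTensor (φ : A →ₐ[R] A') (v w : A ⊗[R] M) :
    QuadraticMap.polar (baseChangeForm A' Q) (LinearMap.rTensor M φ.toLinearMap v)
      (LinearMap.rTensor M φ.toLinearMap w) = φ (QuadraticMap.polar (baseChangeForm A Q) v w) := by
  simp only [QuadraticMap.polar, ← map_add, baseChangeForm_rTensor, map_sub]

end BC

section Pin

variable {R : Type u} [CommRing R]

/-- The Pin functor of a semiregular form of odd rank has the infinitesimal lifting property over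
algebras over which the form has a hyperbolic pair. -/
theorem lifting_pin_odd (m : ℕ) (Q : QuadraticForm R (Fin (2 * m + 1) → R))
    (hQ : QuadGrp.IsSemiregular (Pi.basisFun R (Fin (2 * m + 1))) (LinearEquiv.refl R R) Q)
    (A : Type u) [CommRing A] [Algebra R A]
    (v₁ w₁ : A ⊗[R] (Fin (2 * m + 1) → R))
    (hpol : QuadraticMap.polar (baseChangeForm A Q) v₁ w₁ = 1)
    (I : Ideal A) (hI : I ^ 2 = ⊥)
    (t' : (CliffordAlgebra (baseChangeForm (A ⧸ I) Q))ˣ) (ht' : t' ∈ pin Q (A ⧸ I)) :
    ∃ t ∈ pin Q A, Fcan Q (Ideal.Quotient.mkₐ R I)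
      ((t : (CliffordAlgebra (baseChangeForm A Q))ˣ) : CliffordAlgebra (baseChangeForm A Q)) =
      (t' : CliffordAlgebra (baseChangeForm (A ⧸ I) Q)) := by
  obtain ⟨ht'G, ht'N⟩ := ht'
  have ht'N : star (t' : CliffordAlgebra (baseChangeForm (A ⧸ I) Q)) * t' = 1 := ht'N
  obtain ⟨t₁, ht₁, hFt₁⟩ := lifting_gpin_odd m Q hQ A I hI t' ht'G
  obtain ⟨hF1, -, -⟩ := odd_structure m Q hQ A
  obtain ⟨a₀, ha₀⟩ := hF1 _ (star_mul_self_mem_center _ t₁ ht₁.1)
    (star_mul_self_mem_even _ _ ht₁.2)
  have hπa₀ : Ideal.Quotient.mkₐ R I a₀ = 1 := by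
    apply Helper25.Cliff.algebraMap_injective (baseChangeForm (A ⧸ I) Q)
    rw [← Fcan_algebraMap, ha₀, map_mul, Fcan_star, hFt₁, ht'N, map_one]
  have hεε : (a₀ - 1) * (a₀ - 1) = 0 := mkₐ_ker_sq I hI _ _
    (by rw [map_sub, hπa₀, map_one, sub_self]) (by rw [map_sub, hπa₀, map_one, sub_self])
  obtain ⟨s, hsG, hsval, hsN⟩ := exists_corr (baseChangeForm A Q) v₁ w₁ hpol (a₀ - 1) hεε
  refine ⟨t₁ * s, ⟨mul_mem ht₁ hsG, ?_⟩, ?_⟩
  · show star ((t₁ * s : (CliffordAlgebra (baseChangeForm A Q))ˣ) :
      CliffordAlgebra (baseChangeForm A Q)) * ((t₁ * s : (CliffordAlgebra (baseChangeForm A Q))ˣ) :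
      CliffordAlgebra (baseChangeForm A Q)) = 1
    rw [Units.val_mul, star_mul]
    calc star (s : CliffordAlgebra (baseChangeForm A Q)) * star (t₁ : CliffordAlgebra _) *
          ((t₁ : CliffordAlgebra _) * (s : CliffordAlgebra _))
        = star (s : CliffordAlgebra (baseChangeForm A Q)) *
          (star (t₁ : CliffordAlgebra _) * (t₁ : CliffordAlgebra _)) * (s : CliffordAlgebra _) := by
          simp only [mul_assoc]
      _ = algebraMap A _ a₀ * (star (s : CliffordAlgebra (baseChangeForm A Q)) *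
          (s : CliffordAlgebra _)) := by
          rw [← ha₀, ← Algebra.commutes, mul_assoc]
      _ = 1 := by
          rw [hsN, ← map_mul]
          have : a₀ * (1 - (a₀ - 1)) = 1 := by linear_combination -hεε
          rw [this, map_one]
  · rw [Units.val_mul, map_mul, hFt₁, hsval, map_sub, map_one, Fcan_smul, map_sub, hπa₀, map_one,
      sub_self, zero_smul, sub_zero, mul_one]

end Pin

end Helper25.GPinLift
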