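import Groth.Agent.Lib.Helper25.PinOdd
import Groth.Agent.S17003

/-!
# Fppf-locally a semiregular form of odd rank at least three has a hyperbolic pair
-/

set_option autoImplicit false
set_option linter.unusedSectionVars false
set_option linter.unusedVariables false
set_option linter.unusedSimpArgs false
set_option linter.style.haveILetI false

universe u

namespace Helper25.GPinLift

open CliffordAlgebra QuadGrp Helper25.Cliff Helper25.CliffBCF Helper25.GLsub Helper25.QuadMat
open scoped TensorProduct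
open Groth.Agent.Lib.Helper41.HalfDisc (polar_baseChangeForm_one_tmul)

theorem splitForm_odd_eq (R : Type*) [CommRing R] (m : ℕ) (v : Fin (2 * m + 1) → R) :
    QuadGrp.splitForm R (2 * m + 1) v = qf (JOdd m R 1) (v ∘ oddEquiv m) := by
  rw [splitForm_eq_qfForm, qfForm_apply]
  have := qf_submatrix (JOdd m R 1) (oddEquiv m).symm (v ∘ oddEquiv m)
  rw [← this]
  congr 1
  ext k
  simp

theorem exists_polar_splitForm_odd (R : Type*) [CommRing R] (m : ℕ) (hm : 1 ≤ m) :
    ∃ x y : Fin (2 * m + 1) → R, QuadraticMap.polar (QuadGrp.splitForm R (2 * m + 1)) x y = 1 := by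
  classical
  let i₀ : Fin m := ⟨0, hm⟩
  refine ⟨Pi.single (oddEquiv m (Sum.inl (Sum.inl i₀))) 1,
    Pi.single (oddEquiv m (Sum.inl (Sum.inr i₀))) 1, ?_⟩
  simp only [QuadraticMap.polar, splitForm_odd_eq, qf_JOdd]
  simp [Pi.single_apply, Function.comp]

theorem exists_fppf_hyperbolic_pair {R : Type u} [CommRing R] (m : ℕ) (hm : 1 ≤ m)
    (Q : QuadraticForm R (Fin (2 * m + 1) → R))
    (hQ : QuadGrp.IsSemiregular (Pi.basisFun R (Fin (2 * m + 1))) (LinearEquiv.refl R R) Q) :
    ∃ (S : Type u) (_ : CommRing S) (_ : Algebra R S), Module.FaithfullyFlat R S ∧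
      ∃ v₁ w₁ : S ⊗[R] (Fin (2 * m + 1) → R),
        QuadraticMap.polar (baseChangeForm S Q) v₁ w₁ = 1 := by
  obtain ⟨S, i1, i2, hff, -, ⟨E⟩⟩ := Groth.Agent.S17003.result R m Q hQ
  obtain ⟨x, y, hxy⟩ := exists_polar_splitForm_odd R m hm
  refine ⟨S, i1, i2, hff, E.symm ((1 : S) ⊗ₜ[R] x), E.symm ((1 : S) ⊗ₜ[R] y), ?_⟩
  have hE : ∀ v, baseChangeForm S Q (E.symm v) =
      baseChangeForm S (QuadGrp.splitForm R (2 * m + 1)) v := fun v => E.symm.map_app v
  simp only [QuadraticMap.polar, ← map_add, hE]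
  have := polar_baseChangeForm_one_tmul S (QuadGrp.splitForm R (2 * m + 1)) x y
  rw [hxy, map_one] at this
  exact this

theorem mem_pin_iff {R : Type u} [CommRing R] {M : Type u} [AddCommGroup M] [Module R M]
    [Module.Free R M] (Q : QuadraticForm R M) (A : Type u) [CommRing A] [Algebra R A]
    (t : (CliffordAlgebra (baseChangeForm A Q))ˣ) :
    t ∈ pin Q A ↔ t ∈ gpin Q A ∧
      (1 : R) • (star (t : CliffordAlgebra (baseChangeForm A Q)) * t - 1) = 0 := by
  rw [one_smul, sub_eq_zero]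
  exact Iff.rfl

end Helper25.GPinLift
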