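import Groth.Agent.Lib.Helper25.PolLawKer

/-!
# Base change of polynomial laws with values in the base ring
-/

namespace Groth.Agent.Lib.Helper25.PolLawCoeff
open scoped TensorProduct
universe u

section BC
variable (A : Type u) [CommRing A] {B : Type u} [CommRing B] [Algebra A B]
  (A' : Type u) [CommRing A'] [Algebra A A']

/-- the `A`-algebra structure on an `A'`-algebra -/
@[reducible] noncomputable def algA (S' : Type u) [CommSemiring S'] [Algebra A' S'] : Algebra A S' :=
  Algebra.compHom S' (algebraMap A A')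

theorem towerA (S' : Type u) [CommSemiring S'] [Algebra A' S'] :
    letI := algA A A' S'
    IsScalarTower A A' S' := by
  let := algA A A' S'
  exact IsScalarTower.of_algebraMap_eq' rfl

variable {A}

/-- the members of the base change of a law `B → A` along `A → A'` -/
noncomputable def bcFun (F : B →ₚₗ[A] A) (S' : Type u) [CommSemiring S'] [Algebra A' S']
    (z : S' ⊗[A'] (A' ⊗[A] B)) : S' ⊗[A'] A' :=
  letI := algA A A' S'
  haveI := towerA A A' S'
  (Algebra.TensorProduct.rid A' S' S').symm
    (Algebra.TensorProduct.rid A S' S'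
      (F.toFun' S' (Algebra.TensorProduct.cancelBaseChange A A' S' S' B z)))

/-- the formula for `bcFun` in terms of arbitrary compatible instances -/
theorem bcFun_eq (F : B →ₚₗ[A] A) (R : Type u) [CommSemiring R] [iA : Algebra A R]
    [Algebra A' R] [tw : IsScalarTower A A' R] (z : R ⊗[A'] (A' ⊗[A] B)) :
    bcFun A' F R z = (Algebra.TensorProduct.rid A' R R).symm
      (Algebra.TensorProduct.rid A R R
        (F.toFun' R (Algebra.TensorProduct.cancelBaseChange A A' R R B z))) := by
  have h : iA = algA A A' R := by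
    apply Algebra.algebra_ext
    intro a
    rw [IsScalarTower.algebraMap_apply A A' R]
    rfl
  subst h
  rfl

theorem cancel_natural {R R' : Type u} [CommSemiring R] [Algebra A R] [Algebra A' R]
    [IsScalarTower A A' R] [CommSemiring R'] [Algebra A R'] [Algebra A' R']
    [IsScalarTower A A' R'] (φ : R →ₐ[A'] R') (z : R ⊗[A'] (A' ⊗[A] B)) :
    Algebra.TensorProduct.cancelBaseChange A A' R' R' B
      (φ.toLinearMap.rTensor (A' ⊗[A] B) z) =
    Algebra.TensorProduct.map (φ.restrictScalars A) (AlgHom.id A B)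
      (Algebra.TensorProduct.cancelBaseChange A A' R R B z) := by
  induction z using TensorProduct.induction_on with
  | zero => simp
  | tmul r t =>
    induction t using TensorProduct.induction_on with
    | zero => simp
    | tmul a' b =>
      rw [LinearMap.rTensor_tmul, Algebra.TensorProduct.cancelBaseChange_tmul,
        Algebra.TensorProduct.cancelBaseChange_tmul, Algebra.TensorProduct.map_tmul]
      simp
    | add x y hx hy =>
      rw [TensorProduct.tmul_add, map_add, map_add, map_add, map_add, hx, hy]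
  | add x y hx hy => rw [map_add, map_add, map_add, map_add, hx, hy]

theorem algRid_map {S S' : Type u} [CommSemiring S] [Algebra A S] [CommSemiring S']
    [Algebra A S'] (ψ : S →ₐ[A] S') (z : S ⊗[A] A) :
    Algebra.TensorProduct.rid A S' S' (Algebra.TensorProduct.map ψ (AlgHom.id A A) z) =
      ψ (Algebra.TensorProduct.rid A S S z) := by
  induction z using TensorProduct.induction_on with
  | zero => simp
  | tmul r c =>
    rw [Algebra.TensorProduct.map_tmul, Algebra.TensorProduct.rid_tmul,
      Algebra.TensorProduct.rid_tmul, AlgHom.id_apply, map_smul]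
  | add x y hx hy => simp only [map_add, hx, hy]

theorem bc_natural (F : B →ₚₗ[A] A) {R R' : Type u} [CommSemiring R] [Algebra A R] [Algebra A' R]
    [IsScalarTower A A' R] [CommSemiring R'] [Algebra A R'] [Algebra A' R']
    [IsScalarTower A A' R'] (φ : R →ₐ[A'] R') (z : R ⊗[A'] (A' ⊗[A] B)) :
    φ.toLinearMap.rTensor A' ((Algebra.TensorProduct.rid A' R R).symm
      (Algebra.TensorProduct.rid A R R
        (F.toFun' R (Algebra.TensorProduct.cancelBaseChange A A' R R B z)))) =
    (Algebra.TensorProduct.rid A' R' R').symm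
      (Algebra.TensorProduct.rid A R' R'
        (F.toFun' R' (Algebra.TensorProduct.cancelBaseChange A A' R' R' B
          (φ.toLinearMap.rTensor (A' ⊗[A] B) z)))) := by
  rw [cancel_natural, law_compat_map', algRid_map, Algebra.TensorProduct.rid_symm_apply,
    Algebra.TensorProduct.rid_symm_apply, LinearMap.rTensor_tmul]
  rfl

/-- the base change of a law `B → A` along `A → A'` -/
noncomputable def bcLaw (F : B →ₚₗ[A] A) : (A' ⊗[A] B) →ₚₗ[A'] A' where
  toFun' S' _ _ := bcFun A' F S'
  isCompat' {S'} _ _ {S''} _ _ φ := by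
    funext z
    let := algA A A' S'
    have := towerA A A' S'
    let := algA A A' S''
    have := towerA A A' S''
    exact bc_natural A' F φ z

theorem bcLaw_toFun' (F : B →ₚₗ[A] A) (R : Type u) [CommSemiring R] [Algebra A R]
    [Algebra A' R] [IsScalarTower A A' R] (z : R ⊗[A'] (A' ⊗[A] B)) :
    (bcLaw A' F).toFun' R z = (Algebra.TensorProduct.rid A' R R).symm
      (Algebra.TensorProduct.rid A R R
        (F.toFun' R (Algebra.TensorProduct.cancelBaseChange A A' R R B z))) :=
  bcFun_eq A' F R z

/-- the base change of a multiplicative law -/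
noncomputable def bcMulLaw {d : ℕ} (F : PolLaw.MulLaw A B A d) :
    PolLaw.MulLaw A' (A' ⊗[A] B) A' d where
  law := bcLaw A' F.law
  homog := by
    intro S' _ _ s z
    let := algA A A' S'
    have := towerA A A' S'
    rw [bcLaw_toFun', bcLaw_toFun', map_smul, F.homog, map_smul, map_smul]
  mult := by
    intro S' _ _
    let := algA A A' S'
    have := towerA A A' S'
    refine ⟨?_, fun x y => ?_⟩
    · rw [bcLaw_toFun', map_one, (F.mult S').1, map_one, map_one]
    · rw [bcLaw_toFun', bcLaw_toFun', bcLaw_toFun', map_mul, (F.mult S').2, map_mul, map_mul]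

theorem cancel_one_tmul (R : Type u) [CommSemiring R] [Algebra A R]
    [Algebra A' R] [IsScalarTower A A' R] (b' : A' ⊗[A] B) :
    Algebra.TensorProduct.cancelBaseChange A A' R R B ((1 : R) ⊗ₜ[A'] b') =
      Algebra.TensorProduct.map (IsScalarTower.toAlgHom A A' R) (AlgHom.id A B) b' := by
  induction b' using TensorProduct.induction_on with
  | zero => simp
  | tmul a' b =>
    rw [Algebra.TensorProduct.cancelBaseChange_tmul, Algebra.TensorProduct.map_tmul,
      IsScalarTower.coe_toAlgHom', Algebra.algebraMap_eq_smul_one]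
    rfl
  | add x y hx hy => rw [TensorProduct.tmul_add, map_add, map_add, hx, hy]

/-- the kernel of the base-changed law is `kerBC` -/
theorem ker_bcLaw (F : B →ₚₗ[A] A) : PolLaw.ker (bcLaw A' F) = PolLaw.kerBC F A' := by
  ext b'
  constructor
  · intro h R _ _ _ _ x w
    have h1 := h R ((Algebra.TensorProduct.cancelBaseChange A A' R R B).symm x)
      ((Algebra.TensorProduct.cancelBaseChange A A' R R B).symm w)
    rw [bcLaw_toFun', bcLaw_toFun', map_add, map_mul, AlgEquiv.apply_symm_apply,
      AlgEquiv.apply_symm_apply, cancel_one_tmul] at h1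
    exact (Algebra.TensorProduct.rid A R R).injective
      ((Algebra.TensorProduct.rid A' R R).symm.injective h1)
  · intro h S' _ _ x' w'
    let := algA A A' S'
    have := towerA A A' S'
    have h1 := h S' (Algebra.TensorProduct.cancelBaseChange A A' S' S' B x')
      (Algebra.TensorProduct.cancelBaseChange A A' S' S' B w')
    rw [bcLaw_toFun', bcLaw_toFun', map_add, map_mul, cancel_one_tmul, h1]

/-- the characteristic polynomial of `y ∈ R ⊗ B` with respect to `F`, with coefficients in `R` -/
noncomputable def charPolyRel (F : B →ₚₗ[A] A) (R : Type u) [CommRing R] [Algebra A R]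
    (y : R ⊗[A] B) : Polynomial R :=
  Algebra.TensorProduct.rid A (Polynomial R) (Polynomial R)
    (F.toFun' (Polynomial R)
      (Algebra.TensorProduct.map (Polynomial.CAlgHom : R →ₐ[A] Polynomial R) (AlgHom.id A B) y -
        Polynomial.X ⊗ₜ[A] (1 : B)))

theorem chVal_bcLaw {d : ℕ} (F : PolLaw.MulLaw A B A d) (y : A' ⊗[A] B) :
    chVal (bcLaw A' F.law) y = Polynomial.aeval y (charPolyRel F.law A' y) := by
  have h0 := aeval_charPoly (bcMulLaw A' F) y
  change _ = chVal (bcLaw A' F.law) y at h0
  rw [← h0]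
  congr 1
  show TensorProduct.rid A' (Polynomial A')
    ((bcLaw A' F.law).toFun' (Polynomial A') _) = _
  rw [bcLaw_toFun', map_sub, cancel_one_tmul]
  have h1 : Algebra.TensorProduct.cancelBaseChange A A' (Polynomial A') (Polynomial A') B
      ((Polynomial.X : Polynomial A') ⊗ₜ[A'] (1 : A' ⊗[A] B)) = Polynomial.X ⊗ₜ[A] (1 : B) := by
    rw [Algebra.TensorProduct.one_def, Algebra.TensorProduct.cancelBaseChange_tmul, one_smul]
  rw [h1, Algebra.TensorProduct.rid_symm_apply, TensorProduct.rid_tmul, one_smul]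
  rfl

theorem charPolyRel_map (F : B →ₚₗ[A] A) {R₁ R₂ : Type u} [CommRing R₁] [Algebra A R₁]
    [CommRing R₂] [Algebra A R₂] (ψ : R₁ →ₐ[A] R₂) (y : R₁ ⊗[A] B) :
    charPolyRel F R₂ (Algebra.TensorProduct.map ψ (AlgHom.id A B) y) =
      (charPolyRel F R₁ y).map (ψ : R₁ →+* R₂) := by
  have h1 : Algebra.TensorProduct.map (Polynomial.CAlgHom : R₂ →ₐ[A] Polynomial R₂)
      (AlgHom.id A B) (Algebra.TensorProduct.map ψ (AlgHom.id A B) y) -
        Polynomial.X ⊗ₜ[A] (1 : B) =
      Algebra.TensorProduct.map (Polynomial.mapAlgHom ψ) (AlgHom.id A B)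
        (Algebra.TensorProduct.map (Polynomial.CAlgHom : R₁ →ₐ[A] Polynomial R₁)
          (AlgHom.id A B) y - Polynomial.X ⊗ₜ[A] (1 : B)) := by
    rw [map_sub, Algebra.TensorProduct.map_tmul, ← AlgHom.comp_apply, ← AlgHom.comp_apply,
      ← Algebra.TensorProduct.map_comp, ← Algebra.TensorProduct.map_comp, AlgHom.comp_id]
    congr 2
    · congr 1
      ext r
      simp
    · simp
  rw [charPolyRel, h1, law_compat_map', algRid_map]
  rfl

theorem aeval_map_tensor {R₁ R₂ : Type u} [CommRing R₁] [Algebra A R₁]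
    [CommRing R₂] [Algebra A R₂] (ψ : R₁ →ₐ[A] R₂) (y : R₁ ⊗[A] B) (p : Polynomial R₁) :
    Polynomial.aeval (Algebra.TensorProduct.map ψ (AlgHom.id A B) y) (p.map (ψ : R₁ →+* R₂)) =
      Algebra.TensorProduct.map ψ (AlgHom.id A B) (Polynomial.aeval y p) := by
  induction p using Polynomial.induction_on' with
  | add p q hp hq => rw [Polynomial.map_add, map_add, map_add, map_add, hp, hq]
  | monomial n a =>
    rw [Polynomial.map_monomial, Polynomial.aeval_monomial, Polynomial.aeval_monomial, map_mul,
      map_pow]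
    congr 1

/-- relative Cayley–Hamilton: the value at `y` of its characteristic polynomial lies in the
extension of `ker F`. -/
theorem aeval_charPolyRel_mem_extKer {d : ℕ} (F : PolLaw.MulLaw A B A d) (y : A' ⊗[A] B) :
    Polynomial.aeval y (charPolyRel F.law A' y) ∈ extKer F.law A' := by
  obtain ⟨A₀, _, _, ψ, y₀, hPi, rfl⟩ := exists_generic F.law A' y
  rw [charPolyRel_map, aeval_map_tensor]
  apply extKer_map
  apply hPi
  rw [← ker_bcLaw, ← chVal_bcLaw]
  exact chVal_mem_ker (bcMulLaw A₀ F) y₀

end BC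

section FG1
variable {A : Type u} [CommRing A] {B : Type u} [CommRing B] [Algebra A B]

/-- elements of the extension of an ideal to a polynomial ring have coefficients in the ideal -/
theorem tc_mem_of_mem_map {σ : Type*} (I : Ideal B) (z : MvPolynomial σ A ⊗[A] B)
    (hz : z ∈ I.map (Algebra.TensorProduct.includeRight : B →ₐ[A] MvPolynomial σ A ⊗[A] B))
    (α : σ →₀ ℕ) : tc σ B z α ∈ I := by
  classical
  rw [Ideal.map] at hz
  revert α
  induction hz using Submodule.span_induction with
  | mem z hz =>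
    obtain ⟨k, hk, rfl⟩ := hz
    intro α
    show tc σ B ((1 : MvPolynomial σ A) ⊗ₜ[A] k) α ∈ I
    rw [tc_tmul]
    exact I.smul_of_tower_mem _ hk
  | zero => intro α; simp
  | add x y _ _ hx hy =>
    intro α
    rw [map_add, Finsupp.add_apply]
    exact I.add_mem (hx α) (hy α)
  | smul r z _ hz =>
    intro α
    rw [smul_eq_mul]
    induction r using TensorProduct.induction_on with
    | zero => simp
    | tmul p b =>
      have hz' := eq_sum_tc σ B z
      rw [hz', Finset.mul_sum, map_sum, Finsupp.finsetSum_apply]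
      refine I.sum_mem fun β _ => ?_
      rw [Algebra.TensorProduct.tmul_mul_tmul, tc_tmul]
      exact I.smul_of_tower_mem _ (I.mul_mem_left _ (hz β))
    | add x y hx hy =>
      rw [add_mul, map_add, Finsupp.add_apply]
      exact I.add_mem hx hy

end FG1

section FG2
variable {A : Type u} [CommRing A] {B : Type u} [CommRing B] [Algebra A B] {d : ℕ}

/-- for a finite type algebra, modulo a finitely generated ideal inside `ker F` the algebra is
spanned by finitely many elements -/
theorem exists_finite_span_mod [Algebra.FiniteType A B] (F : PolLaw.MulLaw A B A d) :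
    ∃ (J₁ : Ideal B) (N : ℕ) (m : Fin N → B), J₁.FG ∧ J₁ ≤ PolLaw.ker F.law ∧
      ∀ b : B, ∃ a : Fin N → A, b - ∑ j, a j • m j ∈ J₁ := by
  classical
  obtain ⟨s, hs⟩ := (Algebra.FiniteType.out : (⊤ : Subalgebra A B).FG)
  set J₁ : Ideal B := Ideal.span ((s.image (chVal F.law) : Finset B) : Set B) with hJ₁
  have hJ₁le : J₁ ≤ PolLaw.ker F.law := by
    rw [hJ₁, Ideal.span_le]
    intro x hx
    rw [Finset.mem_coe, Finset.mem_image] at hx
    obtain ⟨b, _, rfl⟩ := hx
    exact chVal_mem_ker F b
  have hint : ∀ b ∈ s, IsIntegral A (Ideal.Quotient.mkₐ A J₁ b) := by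
    intro b hb
    obtain ⟨q, hq, hch⟩ := chVal_eq_aeval F b
    have h0 : Polynomial.aeval (-(Ideal.Quotient.mkₐ A J₁ b)) (Polynomial.X ^ d + q) = 0 := by
      rw [← map_neg, Polynomial.aeval_algHom_apply, ← hch]
      exact Ideal.Quotient.eq_zero_iff_mem.2
        (Ideal.subset_span (Finset.mem_coe.2 (Finset.mem_image_of_mem _ hb)))
    have h1 : IsIntegral A (-(Ideal.Quotient.mkₐ A J₁ b)) :=
      ⟨Polynomial.X ^ d + q, Polynomial.monic_X_pow_add hq, h0⟩
    simpa using h1.neg
  have hfin : Module.Finite A (B ⧸ J₁) := by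
    have h1 : Algebra.adjoin A ((Ideal.Quotient.mkₐ A J₁) '' (s : Set B)) = ⊤ := by
      rw [Algebra.adjoin_image, hs, Algebra.map_top, AlgHom.range_eq_top]
      exact Ideal.Quotient.mkₐ_surjective A J₁
    have h2 := fg_adjoin_of_finite (R := A) ((s.finite_toSet).image (Ideal.Quotient.mkₐ A J₁))
      (by
        rintro _ ⟨b, hb, rfl⟩
        exact hint b hb)
    rw [h1, Algebra.top_toSubmodule] at h2
    exact ⟨h2⟩
  obtain ⟨N, v, hv⟩ := Module.Finite.exists_fin (R := A) (M := B ⧸ J₁)
  choose m hm using fun j => Ideal.Quotient.mk_surjective (v j)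
  refine ⟨J₁, N, m, ⟨_, rfl⟩, hJ₁le, fun b => ?_⟩
  have hb : Ideal.Quotient.mk J₁ b ∈ Submodule.span A (Set.range v) := by rw [hv]; trivial
  obtain ⟨a, ha⟩ := (Submodule.mem_span_range_iff_exists_fun A).1 hb
  refine ⟨a, ?_⟩
  rw [← Ideal.Quotient.eq_zero_iff_mem, map_sub, ← ha, map_sum, sub_eq_zero]
  refine Finset.sum_congr rfl fun j _ => ?_
  rw [← hm j]
  exact (map_smul (Ideal.Quotient.mkₐ A J₁) (a j) (m j)).symm

end FG2

section Loc1
variable {A : Type u} [CommRing A] {B : Type u} [CommRing B] [Algebra A B]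

theorem eval_eq_zero_of_smul_eq_zero {S : Type*} [CommRing S] (Q : Polynomial S) (r : S)
    (h0 : Q.coeff 0 = 0) (hr : Polynomial.C r * Q = 0) : Q.eval r = 0 := by
  obtain ⟨Q₁, rfl⟩ := Polynomial.X_dvd_iff.2 h0
  have h1 : Polynomial.C r * Q₁ = 0 := by
    have h2 : Polynomial.X * (Polynomial.C r * Q₁) = 0 := by
      rw [← hr]; ring
    exact (mul_left_mem_nonZeroDivisors_eq_zero_iff Polynomial.X_mem_nonzeroDivisors).1 h2
  rw [Polynomial.eval_mul, Polynomial.eval_X]
  have := congrArg (Polynomial.eval r) h1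
  rw [Polynomial.eval_mul, Polynomial.eval_C, Polynomial.eval_zero] at this
  exact this

/-- if `e` spans `B` then every element of `S ⊗ B` is a combination of the `1 ⊗ e i` -/
theorem exists_sum_tmul_of_span {n : ℕ} (e : Fin n → B)
    (he : Submodule.span A (Set.range e) = ⊤) (S : Type u) [CommSemiring S] [Algebra A S]
    (x : S ⊗[A] B) : ∃ s : Fin n → S, x = ∑ i, s i ⊗ₜ[A] e i := by
  induction x using TensorProduct.induction_on with
  | zero => exact ⟨fun _ => 0, by simp⟩
  | tmul s b =>
    have hb : b ∈ Submodule.span A (Set.range e) := by rw [he]; trivial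
    obtain ⟨a, rfl⟩ := (Submodule.mem_span_range_iff_exists_fun A).1 hb
    refine ⟨fun i => a i • s, ?_⟩
    rw [TensorProduct.tmul_sum]
    refine Finset.sum_congr rfl fun i _ => ?_
    rw [TensorProduct.tmul_smul, TensorProduct.smul_tmul']
  | add x y hx hy =>
    obtain ⟨s, rfl⟩ := hx
    obtain ⟨s', rfl⟩ := hy
    refine ⟨fun i => s i + s' i, ?_⟩
    rw [← Finset.sum_add_distrib]
    exact Finset.sum_congr rfl fun i _ => (TensorProduct.add_tmul _ _ _).symm

end Loc1

section Loc2
variable {A : Type u} [CommRing A] {B : Type u} [CommRing B] [Algebra A B]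

theorem exists_smul_mem_ker_of_one_tmul_mem_kerBC [Module.Finite A B] (F : B →ₚₗ[A] A)
    (M : Submonoid A) (A' : Type u) [CommRing A'] [Algebra A A'] [IsLocalization M A'] (b : B)
    (h : (1 : A') ⊗ₜ[A] b ∈ PolLaw.kerBC F A') : ∃ m' ∈ M, m' • b ∈ PolLaw.ker F := by
  classical
  obtain ⟨n, e, he⟩ := Module.Finite.exists_fin (R := A) (M := B)
  set σ := Fin n ⊕ Fin n with hσ
  set S₀ := MvPolynomial σ A with hS₀
  set x₀ : S₀ ⊗[A] B := ∑ i, (MvPolynomial.X (Sum.inl i) : S₀) ⊗ₜ[A] e i with hx₀
  set w₀ : S₀ ⊗[A] B := ∑ i, (MvPolynomial.X (Sum.inr i) : S₀) ⊗ₜ[A] e i with hw₀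
  set D : S₀ := Algebra.TensorProduct.rid A S₀ S₀ (F.toFun' S₀ (x₀ + w₀ * (1 ⊗ₜ[A] b))) -
    Algebra.TensorProduct.rid A S₀ S₀ (F.toFun' S₀ x₀) with hD
  -- `D` dies over `A'`
  have hDmap : MvPolynomial.map (algebraMap A A') D = 0 := by
    set R := MvPolynomial σ A' with hR
    set μ : S₀ →ₐ[A] R := MvPolynomial.mapAlgHom (Algebra.ofId A A') with hμ
    rw [mem_kerBC_iff] at h
    have h1 := h R (mvC A A' σ) (Algebra.TensorProduct.map μ (AlgHom.id A B) x₀)
      (Algebra.TensorProduct.map μ (AlgHom.id A B) w₀)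
    have h2 : Algebra.TensorProduct.map (mvC A A' σ) (AlgHom.id A B) ((1 : A') ⊗ₜ[A] b) =
        Algebra.TensorProduct.map μ (AlgHom.id A B) ((1 : S₀) ⊗ₜ[A] b) := by
      rw [Algebra.TensorProduct.map_tmul, Algebra.TensorProduct.map_tmul, map_one, map_one]
    rw [h2, ← map_mul, ← map_add, law_compat_map', law_compat_map'] at h1
    have h3 := congrArg (Algebra.TensorProduct.rid A R R) h1
    rw [algRid_map, algRid_map] at h3
    have h4 : μ D = 0 := by rw [hD, map_sub, h3, sub_self]
    exact h4
  have hcoef : ∀ α, ∃ m : M, (m : A) * MvPolynomial.coeff α D = 0 := by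
    intro α
    have h1 : algebraMap A A' (MvPolynomial.coeff α D) = 0 := by
      have := congrArg (MvPolynomial.coeff α) hDmap
      rwa [MvPolynomial.coeff_map, MvPolynomial.coeff_zero] at this
    exact (IsLocalization.map_eq_zero_iff M A' _).1 h1
  choose mα hmα using hcoef
  set m' : M := ∏ α ∈ D.support, mα α with hm'
  have hm'D : (m' : A) • D = 0 := by
    ext α
    rw [MvPolynomial.coeff_smul, MvPolynomial.coeff_zero, smul_eq_mul]
    by_cases hα : α ∈ D.support
    · rw [hm', ← Finset.mul_prod_erase _ _ hα, Submonoid.coe_mul, mul_right_comm, hmα, zero_mul]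
    · rw [MvPolynomial.notMem_support_iff.1 hα, mul_zero]
  refine ⟨m', m'.2, ?_⟩
  apply mem_ker_of_forall_mvPolynomial
  intro k x w
  set S := MvPolynomial (Fin k) A with hS
  obtain ⟨s, rfl⟩ := exists_sum_tmul_of_span e he S x
  obtain ⟨s', rfl⟩ := exists_sum_tmul_of_span e he S w
  set T := Polynomial S with hT
  set ι : S →ₐ[A] T := Polynomial.CAlgHom with hι
  set θ : S₀ →ₐ[A] T := MvPolynomial.aeval
    (Sum.elim (fun i => Polynomial.C (s i)) (fun i => Polynomial.X * Polynomial.C (s' i))) with hθ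
  set x : S ⊗[A] B := ∑ i, s i ⊗ₜ[A] e i with hx
  set w : S ⊗[A] B := ∑ i, s' i ⊗ₜ[A] e i with hw
  have hθx : Algebra.TensorProduct.map θ (AlgHom.id A B) x₀ =
      Algebra.TensorProduct.map ι (AlgHom.id A B) x := by
    rw [hx₀, hx, map_sum, map_sum]
    refine Finset.sum_congr rfl fun i _ => ?_
    rw [Algebra.TensorProduct.map_tmul, Algebra.TensorProduct.map_tmul, hθ, MvPolynomial.aeval_X]
    rfl
  have hθw : Algebra.TensorProduct.map θ (AlgHom.id A B) w₀ =
      (Polynomial.X : T) • Algebra.TensorProduct.map ι (AlgHom.id A B) w := by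
    rw [hw₀, hw, map_sum, map_sum, Finset.smul_sum]
    refine Finset.sum_congr rfl fun i _ => ?_
    rw [Algebra.TensorProduct.map_tmul, Algebra.TensorProduct.map_tmul, hθ, MvPolynomial.aeval_X,
      TensorProduct.smul_tmul', smul_eq_mul]
    rfl
  set Q : T := θ D with hQ
  have hQ' : Q = Algebra.TensorProduct.rid A T T (F.toFun' T
      (Algebra.TensorProduct.map ι (AlgHom.id A B) x +
        ((Polynomial.X : T) • Algebra.TensorProduct.map ι (AlgHom.id A B) w) * (1 ⊗ₜ[A] b))) -
      Algebra.TensorProduct.rid A T T (F.toFun' T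
        (Algebra.TensorProduct.map ι (AlgHom.id A B) x)) := by
    rw [hQ, hD, map_sub, ← algRid_map, ← algRid_map, ← law_compat_map', ← law_compat_map',
      map_add, map_mul, hθx, hθw, Algebra.TensorProduct.map_tmul, map_one, AlgHom.id_apply]
  -- evaluation of `Q` at a point `r`
  have heval : ∀ r : S, Q.eval r = Algebra.TensorProduct.rid A S S (F.toFun' S
      (x + (r • w) * (1 ⊗ₜ[A] b))) - Algebra.TensorProduct.rid A S S (F.toFun' S x) := by
    intro r
    set ev : T →ₐ[A] S := (Polynomial.aeval r).restrictScalars A with hev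
    have hevι : ev.comp ι = AlgHom.id A S := by
      refine AlgHom.ext fun t => ?_
      show Polynomial.aeval r (Polynomial.C t) = t
      rw [Polynomial.aeval_C]
      rfl
    have hevX : ev Polynomial.X = r := by
      show Polynomial.aeval r Polynomial.X = r
      exact Polynomial.aeval_X r
    have hmapι : ∀ z : S ⊗[A] B, Algebra.TensorProduct.map ev (AlgHom.id A B)
        (Algebra.TensorProduct.map ι (AlgHom.id A B) z) = z := by
      intro z
      rw [← AlgHom.comp_apply, ← Algebra.TensorProduct.map_comp, AlgHom.comp_id, hevι,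
        Algebra.TensorProduct.map_id, AlgHom.id_apply]
    have h1 : Q.eval r = ev Q := by
      show Q.eval r = Polynomial.aeval r Q
      rw [Polynomial.coe_aeval_eq_eval]
    rw [h1, hQ', map_sub, ← algRid_map, ← algRid_map, ← law_compat_map', ← law_compat_map',
      map_add, map_mul, map_smul_tensor, hmapι, hmapι, hevX, Algebra.TensorProduct.map_tmul,
      map_one, AlgHom.id_apply]
  have hQ0 : Q.coeff 0 = 0 := by
    rw [Polynomial.coeff_zero_eq_eval_zero, heval, zero_smul, zero_mul, add_zero, sub_self]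
  have hCQ : Polynomial.C (algebraMap A S (m' : A)) * Q = 0 := by
    have h1 : θ ((m' : A) • D) = Polynomial.C (algebraMap A S (m' : A)) * Q := by
      rw [map_smul, Algebra.smul_def]
      rfl
    rw [← h1, hm'D, map_zero]
  have hfin := eval_eq_zero_of_smul_eq_zero Q (algebraMap A S (m' : A)) hQ0 hCQ
  rw [heval, sub_eq_zero] at hfin
  have h5 : (algebraMap A S (m' : A) • w) * ((1 : S) ⊗ₜ[A] b) =
      w * ((1 : S) ⊗ₜ[A] ((m' : A) • b)) := by
    rw [algebraMap_smul, smul_mul_assoc, TensorProduct.tmul_smul, mul_smul_comm]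
  rw [h5] at hfin
  exact (Algebra.TensorProduct.rid A S S).injective hfin

theorem smul_eq_tmul_one_mul {S : Type*} [CommSemiring S] [Algebra A S] (s : S) (z : S ⊗[A] B) :
    s • z = (s ⊗ₜ[A] (1 : B)) * z := by
  induction z using TensorProduct.induction_on with
  | zero => simp
  | tmul r b => rw [TensorProduct.smul_tmul', Algebra.TensorProduct.tmul_mul_tmul, smul_eq_mul,
      one_mul]
  | add x y hx hy => rw [smul_add, mul_add, hx, hy]

theorem exists_smul_eq_one_tmul (M : Submonoid A) (A' : Type u) [CommRing A'] [Algebra A A']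
    [IsLocalization M A'] (z : A' ⊗[A] B) :
    ∃ (m : M) (b : B), algebraMap A A' (m : A) • z = (1 : A') ⊗ₜ[A] b := by
  induction z using TensorProduct.induction_on with
  | zero => exact ⟨1, 0, by simp⟩
  | tmul a' b =>
    obtain ⟨⟨a, m⟩, ha⟩ := IsLocalization.surj M a'
    refine ⟨m, a • b, ?_⟩
    simp only at ha
    rw [TensorProduct.smul_tmul', smul_eq_mul, mul_comm, ha, TensorProduct.tmul_smul,
      TensorProduct.smul_tmul', Algebra.algebraMap_eq_smul_one]
  | add x y hx hy =>
    obtain ⟨m₁, b₁, h₁⟩ := hx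
    obtain ⟨m₂, b₂, h₂⟩ := hy
    refine ⟨m₁ * m₂, (m₂ : A) • b₁ + (m₁ : A) • b₂, ?_⟩
    rw [smul_add, Submonoid.coe_mul, map_mul]
    conv_lhs => rw [mul_comm, mul_smul, h₁, mul_comm, mul_smul, h₂]
    rw [TensorProduct.tmul_add, TensorProduct.tmul_smul, TensorProduct.tmul_smul,
      algebraMap_smul, algebraMap_smul]

end Loc2

end Groth.Agent.Lib.Helper25.PolLawCoeff
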