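import Groth.Agent.Lib.Helper25.PolLawBC

/-!
# General base change of polynomial laws between algebras, restriction of scalars, and base change
of the universal property `IsGammaD`
-/

namespace Groth.Agent.Lib.Helper25.PolLawCoeff
open scoped TensorProduct
universe u

section BCG
variable {A : Type u} [CommRing A] {B : Type u} [CommRing B] [Algebra A B]
  {C : Type u} [CommRing C] [Algebra A C]
  (A' : Type u) [CommRing A'] [Algebra A A']

/-- the members of the base change of a law `B → C` along `A → A'` -/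
noncomputable def bcgFun (F : B →ₚₗ[A] C) (S' : Type u) [CommSemiring S'] [Algebra A' S']
    (z : S' ⊗[A'] (A' ⊗[A] B)) : S' ⊗[A'] (A' ⊗[A] C) :=
  letI := algA A A' S'
  haveI := towerA A A' S'
  (Algebra.TensorProduct.cancelBaseChange A A' S' S' C).symm
    (F.toFun' S' (Algebra.TensorProduct.cancelBaseChange A A' S' S' B z))

theorem bcgFun_eq (F : B →ₚₗ[A] C) (R : Type u) [CommSemiring R] [iA : Algebra A R]
    [Algebra A' R] [tw : IsScalarTower A A' R] (z : R ⊗[A'] (A' ⊗[A] B)) :
    bcgFun A' F R z = (Algebra.TensorProduct.cancelBaseChange A A' R R C).symm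
      (F.toFun' R (Algebra.TensorProduct.cancelBaseChange A A' R R B z)) := by
  have h : iA = algA A A' R := by
    apply Algebra.algebra_ext
    intro a
    rw [IsScalarTower.algebraMap_apply A A' R]
    rfl
  subst h
  rfl

theorem bcg_natural (F : B →ₚₗ[A] C) {R R' : Type u} [CommSemiring R] [Algebra A R] [Algebra A' R]
    [IsScalarTower A A' R] [CommSemiring R'] [Algebra A R'] [Algebra A' R']
    [IsScalarTower A A' R'] (φ : R →ₐ[A'] R') (z : R ⊗[A'] (A' ⊗[A] B)) :
    φ.toLinearMap.rTensor (A' ⊗[A] C) ((Algebra.TensorProduct.cancelBaseChange A A' R R C).symm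
      (F.toFun' R (Algebra.TensorProduct.cancelBaseChange A A' R R B z))) =
    (Algebra.TensorProduct.cancelBaseChange A A' R' R' C).symm
      (F.toFun' R' (Algebra.TensorProduct.cancelBaseChange A A' R' R' B
          (φ.toLinearMap.rTensor (A' ⊗[A] B) z))) := by
  rw [cancel_natural, law_compat_map']
  apply (Algebra.TensorProduct.cancelBaseChange A A' R' R' C).injective
  rw [AlgEquiv.apply_symm_apply, cancel_natural, AlgEquiv.apply_symm_apply]

/-- the base change of a law `B → C` along `A → A'` -/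
noncomputable def bcgLaw (F : B →ₚₗ[A] C) : (A' ⊗[A] B) →ₚₗ[A'] (A' ⊗[A] C) where
  toFun' S' _ _ := bcgFun A' F S'
  isCompat' {S'} _ _ {S''} _ _ φ := by
    funext z
    let := algA A A' S'
    have := towerA A A' S'
    let := algA A A' S''
    have := towerA A A' S''
    exact bcg_natural A' F φ z

theorem bcgLaw_toFun' (F : B →ₚₗ[A] C) (R : Type u) [CommSemiring R] [Algebra A R]
    [Algebra A' R] [IsScalarTower A A' R] (z : R ⊗[A'] (A' ⊗[A] B)) :
    (bcgLaw A' F).toFun' R z = (Algebra.TensorProduct.cancelBaseChange A A' R R C).symm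
      (F.toFun' R (Algebra.TensorProduct.cancelBaseChange A A' R R B z)) :=
  bcgFun_eq A' F R z

/-- the base change of a multiplicative law -/
noncomputable def bcgMulLaw {d : ℕ} (F : PolLaw.MulLaw A B C d) :
    PolLaw.MulLaw A' (A' ⊗[A] B) (A' ⊗[A] C) d where
  law := bcgLaw A' F.law
  homog := by
    intro S' _ _ s z
    let := algA A A' S'
    have := towerA A A' S'
    rw [bcgLaw_toFun', bcgLaw_toFun', map_smul, F.homog, map_smul]
  mult := by
    intro S' _ _
    let := algA A A' S'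
    have := towerA A A' S'
    refine ⟨?_, fun x y => ?_⟩
    · rw [bcgLaw_toFun', map_one, (F.mult S').1, map_one]
    · rw [bcgLaw_toFun', bcgLaw_toFun', bcgLaw_toFun', map_mul, (F.mult S').2, map_mul]

end BCG

section Res
variable {A : Type u} [CommRing A] {B : Type u} [CommRing B] [Algebra A B]
  (A' : Type u) [CommRing A'] [Algebra A A']
  {C'' : Type u} [CommRing C''] [Algebra A C''] [Algebra A' C''] [IsScalarTower A A' C'']

/-- `S ⊗[A] B → (A' ⊗[A] S) ⊗[A'] (A' ⊗[A] B)` -/
noncomputable def resIn (S : Type u) [CommSemiring S] [Algebra A S] :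
    S ⊗[A] B →+* (A' ⊗[A] S) ⊗[A'] (A' ⊗[A] B) :=
  ((Algebra.TensorProduct.cancelBaseChange A A' (A' ⊗[A] S) (A' ⊗[A] S) B).symm :
      (A' ⊗[A] S) ⊗[A] B →+* (A' ⊗[A] S) ⊗[A'] (A' ⊗[A] B)).comp
    ((Algebra.TensorProduct.map (Algebra.TensorProduct.includeRight : S →ₐ[A] A' ⊗[A] S)
      (AlgHom.id A B) : S ⊗[A] B →ₐ[A] (A' ⊗[A] S) ⊗[A] B) : S ⊗[A] B →+* (A' ⊗[A] S) ⊗[A] B)

/-- `(A' ⊗[A] S) ⊗[A'] C'' → S ⊗[A] C''` -/
noncomputable def resOut (S : Type u) [CommSemiring S] [Algebra A S] :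
    (A' ⊗[A] S) ⊗[A'] C'' →+* S ⊗[A] C'' :=
  ((Algebra.TensorProduct.comm A C'' S : C'' ⊗[A] S →+* S ⊗[A] C'')).comp
    (((Algebra.TensorProduct.cancelBaseChange A A' A' C'' S :
        C'' ⊗[A'] (A' ⊗[A] S) →+* C'' ⊗[A] S)).comp
      (Algebra.TensorProduct.comm A' (A' ⊗[A] S) C'' :
        (A' ⊗[A] S) ⊗[A'] C'' →+* C'' ⊗[A'] (A' ⊗[A] S)))

theorem resIn_tmul (S : Type u) [CommSemiring S] [Algebra A S] (s : S) (b : B) :
    resIn A' S (s ⊗ₜ[A] b) = ((1 : A') ⊗ₜ[A] s) ⊗ₜ[A'] ((1 : A') ⊗ₜ[A] b) := by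
  simp [resIn]

theorem resOut_tmul (S : Type u) [CommSemiring S] [Algebra A S] (a' : A') (s : S) (c : C'') :
    resOut A' S ((a' ⊗ₜ[A] s) ⊗ₜ[A'] c) = s ⊗ₜ[A] (a' • c) := by
  simp [resOut]

/-- induction principle for `(A' ⊗[A] S) ⊗[A'] M` -/
theorem induction_two {S : Type u} [CommSemiring S] [Algebra A S] {M : Type u} [AddCommMonoid M]
    [Module A' M] {p : (A' ⊗[A] S) ⊗[A'] M → Prop} (h0 : p 0)
    (ht : ∀ (a' : A') (s : S) (m : M), p ((a' ⊗ₜ[A] s) ⊗ₜ[A'] m))
    (ha : ∀ x y, p x → p y → p (x + y)) (y : (A' ⊗[A] S) ⊗[A'] M) : p y := by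
  induction y using TensorProduct.induction_on with
  | zero => exact h0
  | tmul r m =>
    induction r using TensorProduct.induction_on with
    | zero => rw [TensorProduct.zero_tmul]; exact h0
    | tmul a' s => exact ht a' s m
    | add x y hx hy => rw [TensorProduct.add_tmul]; exact ha _ _ hx hy
  | add x y hx hy => exact ha _ _ hx hy

theorem resOut_smul (S : Type u) [CommSemiring S] [Algebra A S] (s : S)
    (y : (A' ⊗[A] S) ⊗[A'] C'') :
    resOut A' S (((1 : A') ⊗ₜ[A] s) • y) = s • resOut A' S y := by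
  induction y using induction_two A' with
  | h0 => simp
  | ht a' t c =>
    rw [TensorProduct.smul_tmul', smul_eq_mul, Algebra.TensorProduct.tmul_mul_tmul, one_mul,
      resOut_tmul, resOut_tmul, TensorProduct.smul_tmul', smul_eq_mul]
  | ha x y hx hy => rw [smul_add, map_add, map_add, hx, hy, smul_add]

theorem resIn_smul (S : Type u) [CommSemiring S] [Algebra A S] (s : S) (x : S ⊗[A] B) :
    resIn A' S (s • x) = ((1 : A') ⊗ₜ[A] s) • resIn A' S x := by
  induction x using TensorProduct.induction_on with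
  | zero => simp
  | tmul t b =>
    rw [TensorProduct.smul_tmul', smul_eq_mul, resIn_tmul, resIn_tmul, TensorProduct.smul_tmul',
      smul_eq_mul, Algebra.TensorProduct.tmul_mul_tmul, one_mul]
  | add x y hx hy => rw [smul_add, map_add, map_add, hx, hy, smul_add]

theorem resIn_natural {S S' : Type u} [CommSemiring S] [Algebra A S] [CommSemiring S']
    [Algebra A S'] (φ : S →ₐ[A] S') (x : S ⊗[A] B) :
    resIn A' S' (φ.toLinearMap.rTensor B x) =
      (Algebra.TensorProduct.map (AlgHom.id A' A') φ).toLinearMap.rTensor (A' ⊗[A] B)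
        (resIn A' S x) := by
  induction x using TensorProduct.induction_on with
  | zero => simp
  | tmul t b =>
    rw [LinearMap.rTensor_tmul, resIn_tmul, resIn_tmul, LinearMap.rTensor_tmul]
    rfl
  | add x y hx hy => rw [map_add, map_add, map_add, map_add, hx, hy]

theorem resOut_natural {S S' : Type u} [CommSemiring S] [Algebra A S] [CommSemiring S']
    [Algebra A S'] (φ : S →ₐ[A] S') (y : (A' ⊗[A] S) ⊗[A'] C'') :
    resOut A' S' ((Algebra.TensorProduct.map (AlgHom.id A' A') φ).toLinearMap.rTensor C'' y) =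
      φ.toLinearMap.rTensor C'' (resOut A' S y) := by
  induction y using induction_two A' with
  | h0 => simp
  | ht a' t c =>
    rw [LinearMap.rTensor_tmul, resOut_tmul, LinearMap.rTensor_tmul]
    erw [Algebra.TensorProduct.map_tmul]
    rw [resOut_tmul]
    rfl
  | ha x y hx hy => rw [map_add, map_add, map_add, map_add, hx, hy]

/-- members of the restriction of scalars of a law on `A' ⊗ B` over `A'` -/
noncomputable def resFun (G : (A' ⊗[A] B) →ₚₗ[A'] C'') (S : Type u) [CommSemiring S]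
    [Algebra A S] (x : S ⊗[A] B) : S ⊗[A] C'' :=
  resOut A' S (G.toFun' (A' ⊗[A] S) (resIn A' S x))

/-- restriction of scalars of a law on `A' ⊗ B` over `A'` to a law on `B` over `A` -/
noncomputable def resLaw (G : (A' ⊗[A] B) →ₚₗ[A'] C'') : B →ₚₗ[A] C'' where
  toFun' S _ _ := resFun A' G S
  isCompat' {S} _ _ {S'} _ _ φ := by
    funext x
    simp only [Function.comp_apply, resFun]
    rw [resIn_natural, ← PolynomialLaw.isCompat_apply' (f := G), resOut_natural]

theorem resLaw_toFun' (G : (A' ⊗[A] B) →ₚₗ[A'] C'') (S : Type u) [CommSemiring S]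
    [Algebra A S] (x : S ⊗[A] B) :
    (resLaw A' G).toFun' S x = resOut A' S (G.toFun' (A' ⊗[A] S) (resIn A' S x)) := rfl

/-- restriction of scalars of a multiplicative law -/
noncomputable def resMulLaw {d : ℕ} (G : PolLaw.MulLaw A' (A' ⊗[A] B) C'' d) :
    PolLaw.MulLaw A B C'' d where
  law := resLaw A' G.law
  homog := by
    intro S _ _ s x
    rw [resLaw_toFun', resLaw_toFun', resIn_smul, G.homog, Algebra.TensorProduct.tmul_pow,
      one_pow, resOut_smul]
  mult := by
    intro S _ _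
    refine ⟨?_, fun x y => ?_⟩
    · rw [resLaw_toFun', map_one, (G.mult _).1, map_one]
    · rw [resLaw_toFun', resLaw_toFun', resLaw_toFun', map_mul, (G.mult _).2, map_mul]


section Compat
variable {C : Type u} [CommRing C] [Algebra A C]

/-- multiplication `A' ⊗[A] R → R` -/
noncomputable def mulL (R : Type u) [CommSemiring R] [Algebra A R] [Algebra A' R]
    [IsScalarTower A A' R] : A' ⊗[A] R →ₐ[A'] R :=
  Algebra.TensorProduct.lift (Algebra.ofId A' R) (AlgHom.id A R) (fun _ _ => Commute.all _ _)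

theorem mulL_tmul (R : Type u) [CommSemiring R] [Algebra A R] [Algebra A' R]
    [IsScalarTower A A' R] (a' : A') (r : R) : mulL A' R (a' ⊗ₜ[A] r) = a' • r := by
  rw [mulL, Algebra.TensorProduct.lift_tmul, Algebra.smul_def]
  rfl

theorem mulL_resIn (R : Type u) [CommSemiring R] [Algebra A R] [Algebra A' R]
    [IsScalarTower A A' R] (x : R ⊗[A] B) :
    (mulL A' R).toLinearMap.rTensor (A' ⊗[A] B) (resIn A' R x) =
      (Algebra.TensorProduct.cancelBaseChange A A' R R B).symm x := by
  induction x using TensorProduct.induction_on with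
  | zero => simp
  | tmul r b =>
    rw [resIn_tmul, LinearMap.rTensor_tmul, AlgHom.toLinearMap_apply, mulL_tmul, one_smul,
      Algebra.TensorProduct.cancelBaseChange_symm_tmul]
  | add x y hx hy => rw [map_add, map_add, map_add, hx, hy]

theorem mulL_resOut (R : Type u) [CommSemiring R] [Algebra A R] [Algebra A' R]
    [IsScalarTower A A' R] (y : (A' ⊗[A] R) ⊗[A'] C'') :
    TensorProduct.mapOfCompatibleSMul A' A A R C'' (resOut A' R y) =
      (mulL A' R).toLinearMap.rTensor C'' y := by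
  induction y using induction_two A' with
  | h0 => simp
  | ht a' r c =>
    rw [resOut_tmul, TensorProduct.mapOfCompatibleSMul_tmul, LinearMap.rTensor_tmul,
      AlgHom.toLinearMap_apply, mulL_tmul, TensorProduct.smul_tmul]
  | ha x y hx hy => rw [map_add, map_add, map_add, hx, hy]

theorem lTensor_cancel_symm (R : Type u) [CommSemiring R] [Algebra A R] [Algebra A' R]
    [IsScalarTower A A' R] (φ : C →ₐ[A] C'') (φ' : A' ⊗[A] C →ₐ[A'] C'')
    (hφ : ∀ c, φ' ((1 : A') ⊗ₜ[A] c) = φ c) (w : R ⊗[A] C) :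
    φ'.toLinearMap.lTensor R ((Algebra.TensorProduct.cancelBaseChange A A' R R C).symm w) =
      TensorProduct.mapOfCompatibleSMul A' A A R C'' (φ.toLinearMap.lTensor R w) := by
  induction w using TensorProduct.induction_on with
  | zero => simp
  | tmul r c =>
    rw [Algebra.TensorProduct.cancelBaseChange_symm_tmul, LinearMap.lTensor_tmul,
      LinearMap.lTensor_tmul, TensorProduct.mapOfCompatibleSMul_tmul, AlgHom.toLinearMap_apply,
      AlgHom.toLinearMap_apply, hφ]
  | add x y hx hy => rw [map_add, map_add, map_add, map_add, hx, hy]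

/-- If `φ ∘ F` is the restriction of `G`, then `φ' ∘ (F base changed)` is `G`. -/
theorem postcomp_bcgLaw_eq (F : B →ₚₗ[A] C) (G : (A' ⊗[A] B) →ₚₗ[A'] C'') (φ : C →ₐ[A] C'')
    (φ' : A' ⊗[A] C →ₐ[A'] C'') (hφ : ∀ c, φ' ((1 : A') ⊗ₜ[A] c) = φ c)
    (h : PolLaw.postcomp φ.toLinearMap F = resLaw A' G) :
    PolLaw.postcomp φ'.toLinearMap (bcgLaw A' F) = G := by
  ext R _ _ z
  let := algA A A' R
  have := towerA A A' R
  show φ'.toLinearMap.lTensor R ((bcgLaw A' F).toFun' R z) = G.toFun' R z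
  rw [bcgLaw_toFun', lTensor_cancel_symm A' R φ φ' hφ]
  have h1 : φ.toLinearMap.lTensor R
      (F.toFun' R (Algebra.TensorProduct.cancelBaseChange A A' R R B z)) =
      (resLaw A' G).toFun' R (Algebra.TensorProduct.cancelBaseChange A A' R R B z) := by
    rw [← h]; rfl
  rw [h1, resLaw_toFun', mulL_resOut, PolynomialLaw.isCompat_apply' (f := G), mulL_resIn,
    AlgEquiv.symm_apply_apply]

theorem resOut_lTensor_cancel (S : Type u) [CommSemiring S] [Algebra A S]
    (φ' : A' ⊗[A] C →ₐ[A'] C'') (y : S ⊗[A] C) :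
    resOut A' S (φ'.toLinearMap.lTensor (A' ⊗[A] S)
      ((Algebra.TensorProduct.cancelBaseChange A A' (A' ⊗[A] S) (A' ⊗[A] S) C).symm
        (Algebra.TensorProduct.map (Algebra.TensorProduct.includeRight : S →ₐ[A] A' ⊗[A] S)
          (AlgHom.id A C) y))) =
      ((φ'.restrictScalars A).comp
        (Algebra.TensorProduct.includeRight : C →ₐ[A] A' ⊗[A] C)).toLinearMap.lTensor S y := by
  induction y using TensorProduct.induction_on with
  | zero => simp
  | tmul s c =>
    rw [Algebra.TensorProduct.map_tmul, Algebra.TensorProduct.cancelBaseChange_symm_tmul,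
      LinearMap.lTensor_tmul, LinearMap.lTensor_tmul]
    erw [resOut_tmul]
    rw [one_smul]
    rfl
  | add x y hx hy => simp only [map_add, hx, hy]

/-- the restriction of `φ' ∘ (F base changed)` is `(φ' ∘ incl) ∘ F` -/
theorem resLaw_postcomp_bcgLaw (F : B →ₚₗ[A] C) (φ' : A' ⊗[A] C →ₐ[A'] C'') :
    resLaw A' (PolLaw.postcomp φ'.toLinearMap (bcgLaw A' F)) =
      PolLaw.postcomp ((φ'.restrictScalars A).comp
        (Algebra.TensorProduct.includeRight : C →ₐ[A] A' ⊗[A] C)).toLinearMap F := by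
  ext S _ _ x
  show resOut A' S (φ'.toLinearMap.lTensor (A' ⊗[A] S)
    ((bcgLaw A' F).toFun' (A' ⊗[A] S) (resIn A' S x))) = _
  rw [bcgLaw_toFun']
  have h1 : Algebra.TensorProduct.cancelBaseChange A A' (A' ⊗[A] S) (A' ⊗[A] S) B
      (resIn A' S x) =
      Algebra.TensorProduct.map (Algebra.TensorProduct.includeRight : S →ₐ[A] A' ⊗[A] S)
        (AlgHom.id A B) x := by
    simp [resIn]
  rw [h1, law_compat_map', resOut_lTensor_cancel]
  rfl

/-- **Base change of the universal property.** -/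
theorem isGammaD_bcgMulLaw {d : ℕ} (γ : PolLaw.MulLaw A B C d) (hγ : PolLaw.IsGammaD γ) :
    PolLaw.IsGammaD (bcgMulLaw A' γ) := by
  intro C'' _ _ G
  let := algA A A' C''
  have := towerA A A' C''
  obtain ⟨φ, hφ, huniq⟩ := hγ C'' (resMulLaw A' G)
  let φ' : A' ⊗[A] C →ₐ[A'] C'' :=
    Algebra.TensorProduct.lift (Algebra.ofId A' C'') φ (fun _ _ => Commute.all _ _)
  have hφ' : ∀ c, φ' ((1 : A') ⊗ₜ[A] c) = φ c := by
    intro c
    rw [Algebra.TensorProduct.lift_tmul, map_one, one_mul]
  refine ⟨φ', postcomp_bcgLaw_eq A' γ.law G.law φ φ' hφ' hφ, ?_⟩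
  intro f' hf'
  have h1 : PolLaw.postcomp ((f'.restrictScalars A).comp
      (Algebra.TensorProduct.includeRight : C →ₐ[A] A' ⊗[A] C)).toLinearMap γ.law =
      (resMulLaw A' G).law := by
    rw [← resLaw_postcomp_bcgLaw]
    show resLaw A' (PolLaw.postcomp f'.toLinearMap (bcgMulLaw A' γ).law) = resLaw A' G.law
    rw [hf']
  have h2 := huniq _ h1
  apply Algebra.TensorProduct.ext'
  intro a' c
  have h3 : f' ((1 : A') ⊗ₜ[A] c) = φ c := by
    rw [← h2]; rfl
  have h4 : (a' ⊗ₜ[A] c : A' ⊗[A] C) = a' • ((1 : A') ⊗ₜ[A] c) := by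
    rw [TensorProduct.smul_tmul', smul_eq_mul, mul_one]
  rw [h4, map_smul, map_smul, h3, hφ']

end Compat

end Res

end Groth.Agent.Lib.Helper25.PolLawCoeff
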