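import Groth.Agent.Lib.Helper25.PolLawTS

/-!
# Cayley–Hamilton for multiplicative polynomial laws
-/

namespace Groth.Agent.Lib.Helper25.PolLawCoeff

open scoped TensorProduct
open MvPolynomial

universe u

section MulCoeff

variable {A : Type u} [CommRing A] {B C : Type u} [CommRing B] [Algebra A B] [CommRing C]
  [Algebra A C] {d : ℕ}

/-- the universal scalars expressing a product of two coefficients of a multiplicative law as a
combination of coefficients at the product family -/
noncomputable def mulScalar {σ σ' : Type u} (ν₀ : σ →₀ ℕ) (ν₀' : σ' →₀ ℕ) (μ : σ × σ' →₀ ℕ) : A :=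
  MvPolynomial.coeff (ν₀.mapDomain Sum.inl + ν₀'.mapDomain Sum.inr)
    (μ.prod fun p k => ((MvPolynomial.X (Sum.inl p.1) : MvPolynomial (σ ⊕ σ') A) *
      MvPolynomial.X (Sum.inr p.2)) ^ k)

theorem coeff_mul_coeff (γ : PolLaw.MulLaw A B C d) {σ σ' : Type u} (m : σ → B)
    (I : Finset σ) (ν₀ : σ →₀ ℕ) (m' : σ' → B) (I' : Finset σ') (ν₀' : σ' →₀ ℕ)
    (U : Finset (σ × σ' →₀ ℕ))
    (hU : (coeff γ.law (fun p : σ × σ' => m p.1 * m' p.2) (I ×ˢ I')).support ⊆ U) :
    coeff γ.law m I ν₀ * coeff γ.law m' I' ν₀' =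
      ∑ μ ∈ U, (mulScalar ν₀ ν₀' μ : A) •
        coeff γ.law (fun p : σ × σ' => m p.1 * m' p.2) (I ×ˢ I') μ := by
  classical
  set S := MvPolynomial (σ ⊕ σ') A
  set x : S ⊗[A] B := ∑ i ∈ I, (MvPolynomial.X (Sum.inl i) : S) ⊗ₜ[A] m i with hx
  set y : S ⊗[A] B := ∑ j ∈ I', (MvPolynomial.X (Sum.inr j) : S) ⊗ₜ[A] m' j with hy
  have hxy : x * y = ∑ p ∈ I ×ˢ I',
      ((MvPolynomial.X (Sum.inl p.1) : S) * MvPolynomial.X (Sum.inr p.2)) ⊗ₜ[A]
        (m p.1 * m' p.2) := by
    rw [hx, hy, Finset.sum_mul_sum, Finset.sum_product]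
    exact Finset.sum_congr rfl fun i _ => Finset.sum_congr rfl fun j _ =>
      Algebra.TensorProduct.tmul_mul_tmul _ _ _ _
  have hmul := (γ.mult S).2 x y
  rw [hxy, toFun'_sum γ.law (fun p : σ × σ' => m p.1 * m' p.2) (I ×ˢ I') S
      (fun p => MvPolynomial.X (Sum.inl p.1) * MvPolynomial.X (Sum.inr p.2)),
    hx, hy, toFun'_sum γ.law m I S (fun i => MvPolynomial.X (Sum.inl i)),
    toFun'_sum γ.law m' I' S (fun j => MvPolynomial.X (Sum.inr j)),
    Finset.sum_mul_sum, ← Finset.sum_product'] at hmul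
  set e : (σ →₀ ℕ) × (σ' →₀ ℕ) → (σ ⊕ σ' →₀ ℕ) :=
    fun q => q.1.mapDomain Sum.inl + q.2.mapDomain Sum.inr with he
  have hterm : ∀ q : (σ →₀ ℕ) × (σ' →₀ ℕ),
      ((q.1.prod fun i k => (MvPolynomial.X (Sum.inl i) : S) ^ k) ⊗ₜ[A] coeff γ.law m I q.1) *
        ((q.2.prod fun j k => (MvPolynomial.X (Sum.inr j) : S) ^ k) ⊗ₜ[A] coeff γ.law m' I' q.2) =
      MvPolynomial.monomial (e q) (1 : A) ⊗ₜ[A] (coeff γ.law m I q.1 * coeff γ.law m' I' q.2) := by
    intro q
    rw [Algebra.TensorProduct.tmul_mul_tmul, prod_X_comp_eq_monomial _ Sum.inl_injective,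
      prod_X_comp_eq_monomial _ Sum.inr_injective, MvPolynomial.monomial_mul, one_mul]
  rw [Finset.sum_congr rfl (fun q _ => hterm q)] at hmul
  have hinj : Function.Injective e := by
    rintro ⟨a, a'⟩ ⟨b, b'⟩ hab
    simp only [he] at hab
    have h1 : a = b := by
      ext i
      have := DFunLike.congr_fun hab (Sum.inl i)
      simpa [Finsupp.mapDomain_apply Sum.inl_injective,
        Finsupp.mapDomain_of_notMem_range] using this
    have h2 : a' = b' := by
      ext j
      have := DFunLike.congr_fun hab (Sum.inr j)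
      simpa [Finsupp.mapDomain_apply Sum.inr_injective,
        Finsupp.mapDomain_of_notMem_range] using this
    rw [h1, h2]
  have h2 := DFunLike.congr_fun (congrArg (tc (σ ⊕ σ') C) hmul) (e (ν₀, ν₀'))
  have hR : tc (σ ⊕ σ') C (∑ q ∈ (coeff γ.law m I).support ×ˢ (coeff γ.law m' I').support,
      MvPolynomial.monomial (e q) (1 : A) ⊗ₜ[A] (coeff γ.law m I q.1 * coeff γ.law m' I' q.2))
      (e (ν₀, ν₀')) = coeff γ.law m I ν₀ * coeff γ.law m' I' ν₀' := by
    by_cases hmem : (ν₀, ν₀') ∈ (coeff γ.law m I).support ×ˢ (coeff γ.law m' I').support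
    · exact tc_injective_sum (σ ⊕ σ') C _ e (hinj.injOn) _ hmem
    · rw [tc_sum_monomial, Finset.sum_eq_zero]
      · rw [Finset.mem_product, not_and_or] at hmem
        rcases hmem with h | h
        · rw [Finsupp.notMem_support_iff.1 h, zero_mul]
        · rw [Finsupp.notMem_support_iff.1 h, mul_zero]
      · intro q hq
        rw [Finset.mem_filter] at hq
        exact absurd (hinj hq.2 ▸ hq.1) hmem
  rw [hR, map_sum, Finsupp.finsetSum_apply] at h2
  rw [← h2]
  rw [← Finset.sum_subset hU]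
  · refine Finset.sum_congr rfl fun μ _ => ?_
    rw [tc_tmul]
    rfl
  · intro μ _ hμ
    rw [Finsupp.notMem_support_iff.1 hμ, smul_zero]

end MulCoeff

section FreeUniv
variable {A : Type u} [CommRing A] {B C : Type u} [CommRing B] [Algebra A B] [CommRing C]
  [Algebra A C] {d : ℕ} {J : Type u} (bas : Module.Basis J A B) (F : PolLaw.MulLaw A B C d)

theorem linFactor_law_eq :
    F.law = PolLaw.postcomp (linFactor bas F.law d) (SymTen.tpowLaw A B d).law := by
  refine PolynomialLaw.ext ?_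
  funext S _ _ y
  exact (linFactor_spec bas F.law F.homog S y).symm

theorem linFactor_coeff_general {σ : Type u} (m : σ → B) (I : Finset σ) (ν : σ →₀ ℕ) :
    linFactor bas F.law d (coeff (SymTen.tpowLaw A B d).law m I ν) = coeff F.law m I ν := by
  conv_rhs => rw [linFactor_law_eq bas F]
  exact (coeff_postcomp _ _ _ _ _).symm

theorem linFactor_one : linFactor bas F.law d 1 = 1 := by
  rw [← coeff_one (SymTen.tpowLaw A B d), linFactor_coeff_general, coeff_one]

theorem linFactor_mul {x y : ⨂[A] _ : Fin d, B}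
    (hx : x ∈ coeffSpan (SymTen.tpowLaw A B d).law)
    (hy : y ∈ coeffSpan (SymTen.tpowLaw A B d).law) :
    linFactor bas F.law d (x * y) = linFactor bas F.law d x * linFactor bas F.law d y := by
  classical
  induction hx using Submodule.span_induction with
  | mem x hx =>
    obtain ⟨σ, m, I, ν, rfl⟩ := hx
    induction hy using Submodule.span_induction with
    | mem y hy =>
      obtain ⟨σ', m', I', ν', rfl⟩ := hy
      set U := (coeff (SymTen.tpowLaw A B d).law (fun p : σ × σ' => m p.1 * m' p.2)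
        (I ×ˢ I')).support ∪ (coeff F.law (fun p : σ × σ' => m p.1 * m' p.2) (I ×ˢ I')).support
      rw [coeff_mul_coeff (SymTen.tpowLaw A B d) m I ν m' I' ν' U Finset.subset_union_left,
        map_sum, linFactor_coeff_general, linFactor_coeff_general,
        coeff_mul_coeff F m I ν m' I' ν' U Finset.subset_union_right]
      refine Finset.sum_congr rfl fun μ _ => ?_
      rw [map_smul, linFactor_coeff_general]
    | zero => simp
    | add y y' _ _ hy hy' => rw [mul_add, map_add, map_add, hy, hy', mul_add]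
    | smul a y _ hy => rw [mul_smul_comm, map_smul, map_smul, hy, mul_smul_comm]
  | zero => simp
  | add x x' _ _ hx hx' => rw [add_mul, map_add, map_add, hx, hx', add_mul]
  | smul a x _ hx => rw [smul_mul_assoc, map_smul, map_smul, hx, smul_mul_assoc]

/-- On a free algebra, every multiplicative law factors through the coefficient algebra of the
tensor power law by an algebra homomorphism. -/
noncomputable def freeLift : ↥(coeffSubalgebra (SymTen.tpowLaw A B d)) →ₐ[A] C :=
  AlgHom.ofLinearMap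
    (linFactor bas F.law d ∘ₗ (coeffSubalgebra (SymTen.tpowLaw A B d)).val.toLinearMap)
    (by
      show linFactor bas F.law d (1 : ⨂[A] _ : Fin d, B) = 1
      exact linFactor_one bas F)
    (by
      intro x y
      show linFactor bas F.law d ((x : ⨂[A] _ : Fin d, B) * (y : ⨂[A] _ : Fin d, B)) = _
      exact linFactor_mul bas F x.2 y.2)

theorem freeLift_apply (x : ↥(coeffSubalgebra (SymTen.tpowLaw A B d))) :
    freeLift bas F x = linFactor bas F.law d (x : ⨂[A] _ : Fin d, B) := rfl

theorem freeLift_spec (S : Type u) [CommSemiring S] [Algebra A S] (y : S ⊗[A] B) :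
    (freeLift bas F).toLinearMap.lTensor S ((coMulLaw (SymTen.tpowLaw A B d)).law.toFun' S y) =
      F.law.toFun' S y := by
  have h : (freeLift bas F).toLinearMap =
      linFactor bas F.law d ∘ₗ (coeffSubalgebra (SymTen.tpowLaw A B d)).val.toLinearMap := rfl
  rw [h, LinearMap.lTensor_comp, LinearMap.comp_apply]
  have := incl_coLaw (SymTen.tpowLaw A B d) S y
  rw [incl] at this
  show (linFactor bas F.law d).lTensor S
    (((coeffSubalgebra (SymTen.tpowLaw A B d)).val.toLinearMap.lTensor S)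
      ((coLaw (SymTen.tpowLaw A B d)).toFun' S y)) = _
  rw [this]
  exact linFactor_spec bas F.law F.homog S y

end FreeUniv

section EvalAt
variable {A : Type u} [CommRing A] {R R' : Type u} [CommRing R] [Algebra A R] [CommRing R']
  [Algebra A R'] {C C' : Type u} [CommRing C] [Algebra A C] [CommRing C'] [Algebra A C']

/-- evaluation `R ⊗ C → R` along an algebra map `ε : C → R` -/
noncomputable def evalAt (ε : C →ₐ[A] R) : R ⊗[A] C →ₐ[A] R :=
  Algebra.TensorProduct.productMap (AlgHom.id A R) ε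

@[simp] theorem evalAt_tmul (ε : C →ₐ[A] R) (r : R) (c : C) : evalAt ε (r ⊗ₜ[A] c) = r * ε c := by
  simp [evalAt]

theorem evalAt_comp_map (ψ : R →ₐ[A] R') (ε : C →ₐ[A] R) (z : R ⊗[A] C) :
    ψ (evalAt ε z) = evalAt (ψ.comp ε) (Algebra.TensorProduct.map ψ (AlgHom.id A C) z) := by
  induction z using TensorProduct.induction_on with
  | zero => simp
  | tmul r c => simp
  | add x y hx hy => simp only [map_add, hx, hy]

theorem evalAt_comp_right (g : C →ₐ[A] C') (ε' : C' →ₐ[A] R) (z : R ⊗[A] C) :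
    evalAt (ε'.comp g) z = evalAt ε' (Algebra.TensorProduct.map (AlgHom.id R R) g z) := by
  induction z using TensorProduct.induction_on with
  | zero => simp
  | tmul r c => simp
  | add x y hx hy => simp only [map_add, hx, hy]

theorem law_compat_map {B : Type u} [CommRing B] [Algebra A B] (F : B →ₚₗ[A] C) (ψ : R →ₐ[A] R')
    (y : R ⊗[A] B) :
    F.toFun' R' (Algebra.TensorProduct.map ψ (AlgHom.id A B) y) =
      Algebra.TensorProduct.map ψ (AlgHom.id A C) (F.toFun' R y) := by
  have := PolynomialLaw.isCompat_apply' (f := F) ψ y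
  rw [rTensor_eq_map, rTensor_eq_map] at this
  exact this.symm

end EvalAt

section CH
variable {A : Type u} [CommRing A] {B : Type u} [CommRing B] [Algebra A B] {d : ℕ}
  {R : Type u} [CommRing R] [Algebra A R]

/-- the two-element family `(b, 1)` -/
def fam2 (b : B) : ULift.{u} Bool → B := fun i => if i.down then b else 1

theorem sum_ulift_bool {M : Type*} [AddCommMonoid M] (f : ULift.{u} Bool → M) :
    ∑ i, f i = f ⟨true⟩ + f ⟨false⟩ := by
  rw [← Fintype.sum_equiv Equiv.ulift.symm (fun b => f ⟨b⟩) f (fun _ => rfl), Fintype.sum_bool]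

theorem prod_ulift_bool {M : Type*} [CommMonoid M] (f : ULift.{u} Bool → M) :
    ∏ i, f i = f ⟨true⟩ * f ⟨false⟩ := by
  rw [← Fintype.prod_equiv Equiv.ulift.symm (fun b => f ⟨b⟩) f (fun _ => rfl), Fintype.prod_bool]

theorem prod_fam2 {M : Type*} [CommMonoid M] (s : ULift.{u} Bool → M) (ν : ULift.{u} Bool →₀ ℕ) :
    (ν.prod fun i k => s i ^ k) = s ⟨true⟩ ^ ν ⟨true⟩ * s ⟨false⟩ ^ ν ⟨false⟩ := by
  rw [Finsupp.prod_fintype _ _ (fun i => pow_zero _), prod_ulift_bool]

theorem tpow_eval_prod (ε' : (⨂[A] _ : Fin d, B) →ₐ[A] R) (y : R ⊗[A] B) :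
    evalAt ε' ((SymTen.tpowLaw A B d).law.toFun' R y) =
      ∏ i, evalAt (ε'.comp (PiTensorProduct.singleAlgHom (R := A) (A := fun _ : Fin d => B) i)) y := by
  show evalAt ε' (∏ j, Algebra.TensorProduct.map (AlgHom.id R R)
      (PiTensorProduct.singleAlgHom (R := A) (A := fun _ : Fin d => B) j) y) = _
  rw [map_prod]
  refine Finset.prod_congr rfl fun i _ => ?_
  rw [evalAt_comp_right]

/-- the root identity: `χ_b(ι_i b) = 0` in the tensor power -/
theorem root_identity (b : B) (i : Fin d) :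
    ((coeff (SymTen.tpowLaw A B d).law (fam2 b) Finset.univ).sum fun ν c =>
      c * (-(PiTensorProduct.singleAlgHom (R := A) (A := fun _ : Fin d => B) i b)) ^ ν ⟨false⟩) =
      0 := by
  classical
  set T := ⨂[A] _ : Fin d, B
  set ι := fun j : Fin d => PiTensorProduct.singleAlgHom (R := A) (A := fun _ : Fin d => B) j
  set s : ULift.{u} Bool → T := fun k => if k.down then 1 else -(ι i b) with hs
  have h := toFun'_sum (SymTen.tpowLaw A B d).law (fam2 b) Finset.univ T s
  have h2 := congrArg (evalAt (AlgHom.id A T)) h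
  rw [tpow_eval_prod, map_sum] at h2
  have hzero : ∏ j, evalAt ((AlgHom.id A T).comp (ι j)) (∑ k, s k ⊗ₜ[A] fam2 b k) = 0 := by
    refine Finset.prod_eq_zero (Finset.mem_univ i) ?_
    rw [sum_ulift_bool, map_add, evalAt_tmul, evalAt_tmul]
    simp [hs, fam2]
  rw [hzero] at h2
  rw [Finsupp.sum, h2]
  refine Finset.sum_congr rfl fun ν _ => ?_
  have h1 : s ⟨true⟩ = 1 := by simp [hs]
  have h1' : s ⟨false⟩ = -(ι i b) := by simp [hs]
  rw [evalAt_tmul, prod_fam2, AlgHom.id_apply, h1, h1', one_pow, one_mul, mul_comm]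

/-- Universal Cayley–Hamilton in the tensor power. -/
theorem tpow_eval_add_chElt (ε' : (⨂[A] _ : Fin d, B) →ₐ[A] R) (b : B) (x w : R ⊗[A] B) :
    evalAt ε' ((SymTen.tpowLaw A B d).law.toFun' R
      (x + w * (coeff (SymTen.tpowLaw A B d).law (fam2 b) Finset.univ).sum fun ν c =>
        ε' c ⊗ₜ[A] ((-b) ^ ν ⟨false⟩))) =
      evalAt ε' ((SymTen.tpowLaw A B d).law.toFun' R x) := by
  rw [tpow_eval_prod, tpow_eval_prod]
  refine Finset.prod_congr rfl fun i _ => ?_
  rw [map_add, map_mul]
  suffices h : evalAt (ε'.comp (PiTensorProduct.singleAlgHom (R := A) (A := fun _ : Fin d => B) i))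
      ((coeff (SymTen.tpowLaw A B d).law (fam2 b) Finset.univ).sum fun ν c =>
        ε' c ⊗ₜ[A] ((-b) ^ ν ⟨false⟩)) = 0 by
    rw [h, mul_zero, add_zero]
  rw [Finsupp.sum, map_sum]
  have hterm : ∀ ν : ULift.{u} Bool →₀ ℕ,
      evalAt (ε'.comp (PiTensorProduct.singleAlgHom (R := A) (A := fun _ : Fin d => B) i))
        (ε' (coeff (SymTen.tpowLaw A B d).law (fam2 b) Finset.univ ν) ⊗ₜ[A] ((-b) ^ ν ⟨false⟩)) =
      ε' (coeff (SymTen.tpowLaw A B d).law (fam2 b) Finset.univ ν *
        (-(PiTensorProduct.singleAlgHom (R := A) (A := fun _ : Fin d => B) i b)) ^ ν ⟨false⟩) := by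
    intro ν
    rw [evalAt_tmul, AlgHom.comp_apply, map_mul]
    simp only [map_pow, map_neg]
  rw [Finset.sum_congr rfl (fun ν _ => hterm ν), ← map_sum]
  have := root_identity (A := A) (d := d) b i
  rw [Finsupp.sum] at this
  rw [this, map_zero]

end CH

section CH5
variable {A : Type u} [CommRing A] {B : Type u} [CommRing B] [Algebra A B] {d : ℕ}

local notation "τ" => SymTen.tpowLaw A B d
local notation "E" => coeffSubalgebra (SymTen.tpowLaw A B d)
local notation "γ₀" => coMulLaw (SymTen.tpowLaw A B d)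

theorem coLaw_law_eq :
    PolLaw.postcomp (coeffSubalgebra (SymTen.tpowLaw A B d)).val.toLinearMap
      (coMulLaw (SymTen.tpowLaw A B d)).law = (SymTen.tpowLaw A B d).law := by
  refine PolynomialLaw.ext ?_
  funext S _ _ y
  exact incl_coLaw (SymTen.tpowLaw A B d) S y

theorem coeff_coLaw {σ : Type u} (m : σ → B) (I : Finset σ) :
    coeff (SymTen.tpowLaw A B d).law m I =
      (coeff (coMulLaw (SymTen.tpowLaw A B d)).law m I).mapRange
        (coeffSubalgebra (SymTen.tpowLaw A B d)).val (map_zero _) := by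
  ext ν
  rw [Finsupp.mapRange_apply]
  conv_lhs => rw [← coLaw_law_eq]
  exact coeff_postcomp _ _ _ _ _

variable {R R' : Type u} [CommRing R] [Algebra A R] [CommRing R'] [Algebra A R']

/-- the Cayley–Hamilton element with coefficients pushed along `ε` -/
noncomputable def chE (ε : ↥(coeffSubalgebra (SymTen.tpowLaw A B d)) →ₐ[A] R) (b : B) : R ⊗[A] B :=
  (coeff (coMulLaw (SymTen.tpowLaw A B d)).law (fam2 b) Finset.univ).sum fun ν c =>
    ε c ⊗ₜ[A] ((-b) ^ ν ⟨false⟩)

theorem map_chE (ψ : R →ₐ[A] R') (ε : ↥(coeffSubalgebra (SymTen.tpowLaw A B d)) →ₐ[A] R) (b : B) :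
    Algebra.TensorProduct.map ψ (AlgHom.id A B) (chE ε b) = chE (ψ.comp ε) b := by
  rw [chE, chE, Finsupp.sum, map_sum]
  rfl

theorem chE_comp_val (ε' : (⨂[A] _ : Fin d, B) →ₐ[A] R) (b : B) :
    chE (ε'.comp (coeffSubalgebra (SymTen.tpowLaw A B d)).val) b =
      (coeff (SymTen.tpowLaw A B d).law (fam2 b) Finset.univ).sum fun ν c =>
        ε' c ⊗ₜ[A] ((-b) ^ ν ⟨false⟩) := by
  rw [coeff_coLaw, Finsupp.sum_mapRange_index (fun ν => by simp)]
  rfl

theorem evalAt_coLaw (ε' : (⨂[A] _ : Fin d, B) →ₐ[A] R) (y : R ⊗[A] B) :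
    evalAt (ε'.comp (coeffSubalgebra (SymTen.tpowLaw A B d)).val)
      ((coMulLaw (SymTen.tpowLaw A B d)).law.toFun' R y) =
    evalAt ε' ((SymTen.tpowLaw A B d).law.toFun' R y) := by
  rw [evalAt_comp_right, ← incl_eq_map]
  congr 1
  exact incl_coLaw (SymTen.tpowLaw A B d) R y

/-- Universal Cayley–Hamilton for the coefficient algebra, over `P ⊗ E` for flat `P`. -/
theorem evalAt_coLaw_add_chE (P : Type u) [CommRing P] [Algebra A P] [Module.Flat A P] (b : B)
    (x w : (P ⊗[A] ↥(coeffSubalgebra (SymTen.tpowLaw A B d))) ⊗[A] B) :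
    evalAt (Algebra.TensorProduct.includeRight :
        ↥(coeffSubalgebra (SymTen.tpowLaw A B d)) →ₐ[A]
          P ⊗[A] ↥(coeffSubalgebra (SymTen.tpowLaw A B d)))
      ((coMulLaw (SymTen.tpowLaw A B d)).law.toFun' _
        (x + w * chE Algebra.TensorProduct.includeRight b)) =
    evalAt (Algebra.TensorProduct.includeRight :
        ↥(coeffSubalgebra (SymTen.tpowLaw A B d)) →ₐ[A]
          P ⊗[A] ↥(coeffSubalgebra (SymTen.tpowLaw A B d)))
      ((coMulLaw (SymTen.tpowLaw A B d)).law.toFun' _ x) := by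
  set ε₀ : ↥(coeffSubalgebra (SymTen.tpowLaw A B d)) →ₐ[A]
    P ⊗[A] ↥(coeffSubalgebra (SymTen.tpowLaw A B d)) := Algebra.TensorProduct.includeRight
  set ε₁ : (⨂[A] _ : Fin d, B) →ₐ[A] P ⊗[A] (⨂[A] _ : Fin d, B) :=
    Algebra.TensorProduct.includeRight
  set κ : P ⊗[A] ↥(coeffSubalgebra (SymTen.tpowLaw A B d)) →ₐ[A] P ⊗[A] (⨂[A] _ : Fin d, B) :=
    Algebra.TensorProduct.map (AlgHom.id A P) (coeffSubalgebra (SymTen.tpowLaw A B d)).val
  have hκ : Function.Injective κ :=
    Module.Flat.lTensor_preserves_injective_linearMap (M := P)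
      (coeffSubalgebra (SymTen.tpowLaw A B d)).val.toLinearMap Subtype.val_injective
  have hκε : κ.comp ε₀ = ε₁.comp (coeffSubalgebra (SymTen.tpowLaw A B d)).val := by
    ext e
    simp [κ, ε₀, ε₁]
  apply hκ
  rw [evalAt_comp_map κ ε₀, evalAt_comp_map κ ε₀, ← law_compat_map, ← law_compat_map, hκε,
    evalAt_coLaw, evalAt_coLaw, map_add, map_mul, map_chE, hκε, chE_comp_val,
    tpow_eval_add_chElt]

end CH5

section CH6
variable {A : Type u} [CommRing A] {B : Type u} [CommRing B] [Algebra A B] {d : ℕ}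

/-- the value at `b` of the characteristic polynomial of `b` with respect to `F` -/
noncomputable def chVal (F : B →ₚₗ[A] A) (b : B) : B :=
  (coeff F (fam2 b) Finset.univ).sum fun ν a => a • (-b) ^ ν ⟨false⟩

theorem rid_lTensor_eq_evalAt {C : Type u} [CommRing C] [Algebra A C] {P : Type u} [CommRing P]
    [Algebra A P] (f : C →ₐ[A] A) (z : P ⊗[A] C) :
    TensorProduct.rid A P (f.toLinearMap.lTensor P z) = evalAt ((Algebra.ofId A P).comp f) z := by
  induction z using TensorProduct.induction_on with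
  | zero => simp
  | tmul p c =>
    rw [LinearMap.lTensor_tmul, TensorProduct.rid_tmul, evalAt_tmul, AlgHom.toLinearMap_apply,
      AlgHom.comp_apply, Algebra.ofId_apply, Algebra.smul_def, mul_comm]
  | add x y hx hy => simp only [map_add, hx, hy]

/-- Cayley–Hamilton for a multiplicative law on a free algebra, over flat test algebras. -/
theorem cayleyHamilton_free {J : Type u} (bas : Module.Basis J A B) (F : PolLaw.MulLaw A B A d)
    (b : B) (P : Type u) [CommRing P] [Algebra A P] [Module.Flat A P] (x w : P ⊗[A] B) :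
    F.law.toFun' P (x + w * (1 ⊗ₜ[A] chVal F.law b)) = F.law.toFun' P x := by
  classical
  set f := freeLift bas F with hf
  set R₀ := P ⊗[A] ↥(coeffSubalgebra (SymTen.tpowLaw A B d))
  set ε₀ : ↥(coeffSubalgebra (SymTen.tpowLaw A B d)) →ₐ[A] R₀ :=
    Algebra.TensorProduct.includeRight
  set j₁ : P →ₐ[A] R₀ := Algebra.TensorProduct.includeLeft
  set θ : R₀ →ₐ[A] P := evalAt ((Algebra.ofId A P).comp f) with hθ
  have hθj : θ.comp j₁ = AlgHom.id A P := by
    ext p
    show evalAt ((Algebra.ofId A P).comp f) (p ⊗ₜ[A] 1) = p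
    rw [evalAt_tmul, map_one, mul_one]
  have hθε : θ.comp ε₀ = (Algebra.ofId A P).comp f := by
    ext e
    show evalAt ((Algebra.ofId A P).comp f) (1 ⊗ₜ[A] e) = _
    rw [evalAt_tmul, one_mul]
  -- the law `F` through the coefficient algebra
  have hF : ∀ y : P ⊗[A] B, TensorProduct.rid A P (F.law.toFun' P y) =
      evalAt ((Algebra.ofId A P).comp f)
        ((coMulLaw (SymTen.tpowLaw A B d)).law.toFun' P y) := by
    intro y
    rw [← rid_lTensor_eq_evalAt, freeLift_spec bas F P y]
  have hFlaw : F.law = PolLaw.postcomp f.toLinearMap (coMulLaw (SymTen.tpowLaw A B d)).law := by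
    refine PolynomialLaw.ext ?_
    funext S _ _ y
    exact (freeLift_spec bas F S y).symm
  have hcoeff : coeff F.law (fam2 b) Finset.univ =
      (coeff (coMulLaw (SymTen.tpowLaw A B d)).law (fam2 b) Finset.univ).mapRange f
        (map_zero _) := by
    ext ν
    rw [Finsupp.mapRange_apply]
    conv_lhs => rw [hFlaw]
    exact coeff_postcomp _ _ _ _ _
  have hch : chE ((Algebra.ofId A P).comp f) b = (1 : P) ⊗ₜ[A] chVal F.law b := by
    rw [chE, chVal, hcoeff, Finsupp.sum_mapRange_index (fun ν => by simp), Finsupp.sum,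
      Finsupp.sum, TensorProduct.tmul_sum]
    refine Finset.sum_congr rfl fun ν _ => ?_
    rw [AlgHom.comp_apply, Algebra.ofId_apply, Algebra.algebraMap_eq_smul_one,
      TensorProduct.smul_tmul]
  apply (TensorProduct.rid A P).injective
  rw [hF, hF]
  have hx : Algebra.TensorProduct.map θ (AlgHom.id A B)
      (Algebra.TensorProduct.map j₁ (AlgHom.id A B) x) = x := by
    rw [← AlgHom.comp_apply, ← Algebra.TensorProduct.map_comp, hθj, AlgHom.comp_id,
      Algebra.TensorProduct.map_id, AlgHom.id_apply]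
  have hw : Algebra.TensorProduct.map θ (AlgHom.id A B)
      (Algebra.TensorProduct.map j₁ (AlgHom.id A B) w) = w := by
    rw [← AlgHom.comp_apply, ← Algebra.TensorProduct.map_comp, hθj, AlgHom.comp_id,
      Algebra.TensorProduct.map_id, AlgHom.id_apply]
  have key := evalAt_coLaw_add_chE (A := A) (B := B) (d := d) P b
    (Algebra.TensorProduct.map j₁ (AlgHom.id A B) x)
    (Algebra.TensorProduct.map j₁ (AlgHom.id A B) w)
  have key2 := congrArg θ key
  rw [evalAt_comp_map θ ε₀, evalAt_comp_map θ ε₀, ← law_compat_map, ← law_compat_map, hθε,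
    map_add, map_mul, map_chE, hθε, hx, hw, hch] at key2
  exact key2

end CH6

section CH7
variable {A : Type u} [CommRing A] {B : Type u} [CommRing B] [Algebra A B] {d : ℕ}

theorem precomp_toFun' {B' : Type u} [CommRing B'] [Algebra A B'] (F : PolLaw.MulLaw A B A d)
    (π : B' →ₐ[A] B) (S : Type u) [CommSemiring S] [Algebra A S] (y : S ⊗[A] B') :
    (F.precomp π).law.toFun' S y =
      F.law.toFun' S (Algebra.TensorProduct.map (AlgHom.id S S) π y) := by
  show F.law.toFun' S (π.toLinearMap.lTensor S y) = _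
  rw [PolLaw.lTensor_algHom_apply]

theorem chVal_precomp {B' : Type u} [CommRing B'] [Algebra A B'] (F : PolLaw.MulLaw A B A d)
    (π : B' →ₐ[A] B) (b' : B') :
    π (chVal (F.precomp π).law b') = chVal F.law (π b') := by
  have h1 : coeff (F.precomp π).law (fam2 b') Finset.univ =
      coeff F.law (fam2 (π b')) Finset.univ := by
    show coeff (PolLaw.precomp F.law π.toLinearMap) (fam2 b') Finset.univ = _
    rw [coeff_precomp]
    congr 1
    funext i
    simp only [fam2, AlgHom.toLinearMap_apply]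
    split_ifs
    · rfl
    · exact map_one π
  rw [chVal, chVal, h1, Finsupp.sum, Finsupp.sum, map_sum]
  refine Finset.sum_congr rfl fun ν _ => ?_
  rw [map_smul, map_pow, map_neg]

/-- Cayley–Hamilton over flat test algebras, for an arbitrary algebra `B`. -/
theorem cayleyHamilton_flat (F : PolLaw.MulLaw A B A d) (b : B) (P : Type u) [CommRing P]
    [Algebra A P] [Module.Flat A P] (x w : P ⊗[A] B) :
    F.law.toFun' P (x + w * (1 ⊗ₜ[A] chVal F.law b)) = F.law.toFun' P x := by
  classical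
  obtain ⟨σ, I, s, s', m, rfl, rfl⟩ := exists_sum_tmul₂ P x w
  set B' := MvPolynomial (Option σ) A
  set π : B' →ₐ[A] B := MvPolynomial.aeval (fun o : Option σ => o.elim b m) with hπ
  have hπb : π (MvPolynomial.X none) = b := by rw [hπ, MvPolynomial.aeval_X]; rfl
  have hπm : ∀ i, π (MvPolynomial.X (some i)) = m i := fun i => by
    rw [hπ, MvPolynomial.aeval_X]; rfl
  set x' : P ⊗[A] B' := ∑ i ∈ I, s i ⊗ₜ[A] MvPolynomial.X (some i) with hx'
  set w' : P ⊗[A] B' := ∑ i ∈ I, s' i ⊗ₜ[A] MvPolynomial.X (some i) with hw'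
  have hx : Algebra.TensorProduct.map (AlgHom.id P P) π x' = ∑ i ∈ I, s i ⊗ₜ[A] m i := by
    rw [hx', map_sum]
    exact Finset.sum_congr rfl fun i _ => by
      rw [Algebra.TensorProduct.map_tmul, AlgHom.id_apply, hπm]
  have hw : Algebra.TensorProduct.map (AlgHom.id P P) π w' = ∑ i ∈ I, s' i ⊗ₜ[A] m i := by
    rw [hw', map_sum]
    exact Finset.sum_congr rfl fun i _ => by
      rw [Algebra.TensorProduct.map_tmul, AlgHom.id_apply, hπm]
  have key := cayleyHamilton_free (MvPolynomial.basisMonomials (Option σ) A) (F.precomp π)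
    (MvPolynomial.X none) P x' w'
  rw [precomp_toFun', precomp_toFun', map_add, map_mul, Algebra.TensorProduct.map_tmul,
    AlgHom.id_apply, chVal_precomp, hπb, hx, hw] at key
  exact key

/-- Cayley–Hamilton for multiplicative laws. -/
theorem cayleyHamilton (F : PolLaw.MulLaw A B A d) (b : B) (S : Type u) [CommSemiring S]
    [Algebra A S] (x w : S ⊗[A] B) :
    F.law.toFun' S (x + w * (1 ⊗ₜ[A] chVal F.law b)) = F.law.toFun' S x := by
  obtain ⟨n, ψ, p, q, rfl, rfl⟩ := exists_lift₂ x w
  have h1 : ψ.toLinearMap.rTensor B p + ψ.toLinearMap.rTensor B q * (1 ⊗ₜ[A] chVal F.law b) =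
      ψ.toLinearMap.rTensor B (p + q * (1 ⊗ₜ[A] chVal F.law b)) := by
    rw [rTensor_eq_map, rTensor_eq_map, rTensor_eq_map, map_add, map_mul,
      Algebra.TensorProduct.map_tmul, map_one, AlgHom.id_apply]
  rw [h1, ← PolynomialLaw.isCompat_apply', ← PolynomialLaw.isCompat_apply',
    cayleyHamilton_flat F b (MvPolynomial (Fin n) A) p q]

theorem chVal_mem_ker (F : PolLaw.MulLaw A B A d) (b : B) : chVal F.law b ∈ PolLaw.ker F.law :=
  fun S _ _ x w => cayleyHamilton F b S x w

/-- the characteristic polynomial `F (1 ⊗ b - X ⊗ 1)` evaluated at `b` is `chVal` -/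
theorem aeval_charPoly (F : PolLaw.MulLaw A B A d) (b : B) :
    Polynomial.aeval b (TensorProduct.rid A (Polynomial A)
      (F.law.toFun' (Polynomial A) ((1 : Polynomial A) ⊗ₜ[A] b - Polynomial.X ⊗ₜ[A] (1 : B)))) =
      chVal F.law b := by
  classical
  set s : ULift.{u} Bool → Polynomial A := fun k => if k.down then 1 else -Polynomial.X with hs
  have h1 : s ⟨true⟩ = 1 := by simp [hs]
  have h2 : s ⟨false⟩ = -Polynomial.X := by simp [hs]
  have hsum : (1 : Polynomial A) ⊗ₜ[A] b - Polynomial.X ⊗ₜ[A] (1 : B) =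
      ∑ k, s k ⊗ₜ[A] fam2 b k := by
    rw [sum_ulift_bool, h1, h2, TensorProduct.neg_tmul, sub_eq_add_neg]
    rfl
  rw [hsum, toFun'_sum, map_sum, map_sum, chVal, Finsupp.sum]
  refine Finset.sum_congr rfl fun ν _ => ?_
  rw [TensorProduct.rid_tmul, map_smul, prod_fam2, h1, h2, one_pow, one_mul, map_pow, map_neg,
    Polynomial.aeval_X]

end CH7

section CH8
variable {A : Type u} [CommRing A] {B C : Type u} [CommRing B] [Algebra A B] [CommRing C]
  [Algebra A C] {d : ℕ}

theorem coeff_single_of_one (γ : PolLaw.MulLaw A B C d) {σ : Type u} (m : σ → B) (i₀ : σ)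
    (h : m i₀ = 1) : coeff γ.law m {i₀} (Finsupp.single i₀ d) = 1 := by
  classical
  rw [coeff, gen, Finset.sum_singleton, h]
  have h1 : (MvPolynomial.X i₀ : MvPolynomial σ A) ⊗ₜ[A] (1 : B) =
      (MvPolynomial.X i₀ : MvPolynomial σ A) • (1 : MvPolynomial σ A ⊗[A] B) := by
    rw [Algebra.TensorProduct.one_def, TensorProduct.smul_tmul', smul_eq_mul, mul_one]
  rw [h1, γ.homog, (γ.mult _).1, Algebra.TensorProduct.one_def, TensorProduct.smul_tmul',
    smul_eq_mul, mul_one, tc_tmul, MvPolynomial.X_pow_eq_monomial, MvPolynomial.coeff_monomial,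
    if_pos rfl, one_smul]

/-- The Cayley–Hamilton value is a monic polynomial expression of degree `d` in `-b`. -/
theorem chVal_eq_aeval (F : PolLaw.MulLaw A B A d) (b : B) :
    ∃ q : Polynomial A, q.degree < d ∧
      chVal F.law b = Polynomial.aeval (-b) (Polynomial.X ^ d + q) := by
  classical
  set c := coeff F.law (fam2 b) Finset.univ with hc
  set ν₀ : ULift.{u} Bool →₀ ℕ := Finsupp.single ⟨false⟩ d with hν₀
  have hc0 : c ν₀ = 1 := by
    rw [hc, coeff_shrink F.law (fam2 b) (Finset.subset_univ {⟨false⟩}) ν₀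
      (Finsupp.support_single_subset)]
    exact coeff_single_of_one F (fam2 b) ⟨false⟩ (by simp [fam2])
  have hdeg : ∀ ν ∈ c.support, ν ⟨true⟩ + ν ⟨false⟩ = d := by
    intro ν hν
    have := coeff_degree F.law F.homog (fam2 b) Finset.univ ν (Finsupp.mem_support_iff.1 hν)
    rw [Finsupp.degree_eq_sum, sum_ulift_bool] at this
    exact this
  refine ⟨∑ ν ∈ c.support.erase ν₀, Polynomial.C (c ν) * Polynomial.X ^ ν ⟨false⟩, ?_, ?_⟩
  · refine lt_of_le_of_lt (Polynomial.degree_sum_le _ _) ?_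
    refine (Finset.sup_lt_iff (WithBot.bot_lt_coe d)).2 ?_
    intro ν hν
    rw [Finset.mem_erase] at hν
    refine lt_of_le_of_lt (Polynomial.degree_C_mul_X_pow_le _ _) ?_
    have h1 := hdeg ν hν.2
    have h2 : ν ⟨true⟩ ≠ 0 := by
      intro h0
      apply hν.1
      ext ⟨k⟩
      cases k
      · rw [hν₀, Finsupp.single_eq_same]; omega
      · rw [hν₀, Finsupp.single_eq_of_ne (by simp), h0]
    have h3 : ν ⟨false⟩ < d := by omega
    exact WithBot.coe_lt_coe.2 h3
  · rw [map_add, map_pow, Polynomial.aeval_X, map_sum, chVal, Finsupp.sum]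
    by_cases hmem : ν₀ ∈ c.support
    · rw [← Finset.add_sum_erase _ _ hmem, hc0, one_smul]
      congr 1
      · rw [hν₀, Finsupp.single_eq_same]
      · refine Finset.sum_congr rfl fun ν _ => ?_
        rw [map_mul, Polynomial.aeval_C, map_pow, Polynomial.aeval_X, Algebra.smul_def]
    · have h01 : (0 : A) = 1 := by
        rw [← hc0]; exact (Finsupp.notMem_support_iff.1 hmem).symm
      have : Subsingleton A := subsingleton_of_zero_eq_one h01
      have : Subsingleton B := Module.subsingleton A B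
      exact Subsingleton.elim _ _

end CH8

end Groth.Agent.Lib.Helper25.PolLawCoeff
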