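import Mathlib
import Groth.Prelude.Def_PolLaw
import Groth.Agent.Lib.Helper68.PolyLawRestrict

/-!
# Coefficient calculus for polynomial laws

For a polynomial law `F : M →ₚₗ[A] N`, a family `m : σ → M` and a finite set `I` of indices we
define the coefficients `coeff F m I : (σ →₀ ℕ) →₀ N` so that, over every test algebra `S` and
for every `s : σ → S`,
`F_S (∑ i ∈ I, s i ⊗ m i) = ∑ ν, (∏ i, s i ^ ν i) ⊗ coeff F m I ν`.
-/

namespace Groth.Agent.Lib.Helper25.PolLawCoeff

open scoped TensorProduct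
open MvPolynomial

universe u

section TC

variable {A : Type*} [CommRing A] (σ : Type*) (N : Type*) [AddCommGroup N] [Module A N]

open scoped Classical in
/-- coefficient decomposition `A[X_σ] ⊗ N ≃ (σ →₀ ℕ) →₀ N` -/
noncomputable def tc : MvPolynomial σ A ⊗[A] N ≃ₗ[A] ((σ →₀ ℕ) →₀ N) :=
  (TensorProduct.congr (MvPolynomial.basisMonomials σ A).repr (LinearEquiv.refl A N)) ≪≫ₗ
    TensorProduct.finsuppScalarLeft A N (σ →₀ ℕ)

theorem tc_tmul (p : MvPolynomial σ A) (n : N) (ν : σ →₀ ℕ) :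
    tc σ N (p ⊗ₜ[A] n) ν = MvPolynomial.coeff ν p • n := by
  classical
  simp [tc]
  rfl

theorem tc_symm_single (ν : σ →₀ ℕ) (n : N) :
    (tc σ N).symm (Finsupp.single ν n) = MvPolynomial.monomial ν (1 : A) ⊗ₜ[A] n := by
  classical
  rw [LinearEquiv.symm_apply_eq]
  ext μ
  rw [tc_tmul, MvPolynomial.coeff_monomial]
  by_cases h : ν = μ
  · subst h; simp
  · simp [h]

theorem tc_monomial_tmul (ν : σ →₀ ℕ) (n : N) :
    tc σ N (MvPolynomial.monomial ν (1 : A) ⊗ₜ[A] n) = Finsupp.single ν n := by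
  rw [← tc_symm_single, LinearEquiv.apply_symm_apply]

theorem eq_sum_tc (y : MvPolynomial σ A ⊗[A] N) :
    y = ∑ ν ∈ (tc σ N y).support, MvPolynomial.monomial ν (1 : A) ⊗ₜ[A] (tc σ N y ν) := by
  conv_lhs => rw [← (tc σ N).symm_apply_apply y, ← Finsupp.sum_single (tc σ N y)]
  rw [Finsupp.sum, map_sum]
  exact Finset.sum_congr rfl fun ν _ => tc_symm_single σ N ν _

theorem tc_sum_monomial [DecidableEq (σ →₀ ℕ)] {κ : Type*} (T : Finset κ)
    (e : κ → (σ →₀ ℕ)) (n : κ → N) (μ : σ →₀ ℕ) :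
    tc σ N (∑ k ∈ T, MvPolynomial.monomial (e k) (1 : A) ⊗ₜ[A] n k) μ =
      ∑ k ∈ T with e k = μ, n k := by
  rw [map_sum, Finsupp.finsetSum_apply, Finset.sum_filter]
  refine Finset.sum_congr rfl fun k _ => ?_
  rw [tc_monomial_tmul, Finsupp.single_apply]

theorem tc_injective_sum {κ : Type*} (T : Finset κ) (e : κ → (σ →₀ ℕ))
    (he : Set.InjOn e T) (n : κ → N) {k : κ} (hk : k ∈ T) :
    tc σ N (∑ k ∈ T, MvPolynomial.monomial (e k) (1 : A) ⊗ₜ[A] n k) (e k) = n k := by
  classical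
  rw [tc_sum_monomial]
  have : T.filter (fun k' => e k' = e k) = {k} := by
    ext k'
    simp only [Finset.mem_filter, Finset.mem_singleton]
    constructor
    · rintro ⟨hk', h⟩
      exact he hk' hk h
    · rintro rfl
      exact ⟨hk, rfl⟩
  rw [this, Finset.sum_singleton]

variable {σ N}

theorem rTensor_aeval_eq {S : Type*} [CommSemiring S] [Algebra A S] (s : σ → S)
    (y : MvPolynomial σ A ⊗[A] N) :
    (MvPolynomial.aeval s : MvPolynomial σ A →ₐ[A] S).toLinearMap.rTensor N y =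
      ∑ ν ∈ (tc σ N y).support, (ν.prod fun i k => s i ^ k) ⊗ₜ[A] (tc σ N y ν) := by
  conv_lhs => rw [eq_sum_tc σ N y]
  rw [map_sum]
  refine Finset.sum_congr rfl fun ν _ => ?_
  rw [LinearMap.rTensor_tmul, AlgHom.toLinearMap_apply, MvPolynomial.aeval_monomial, map_one,
    one_mul]

/-- naturality of `tc` in the module -/
theorem tc_lTensor {N' : Type*} [AddCommGroup N'] [Module A N'] (g : N →ₗ[A] N')
    (y : MvPolynomial σ A ⊗[A] N) (ν : σ →₀ ℕ) :
    tc σ N' (g.lTensor (MvPolynomial σ A) y) ν = g (tc σ N y ν) := by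
  induction y using TensorProduct.induction_on with
  | zero => simp
  | tmul p n => rw [LinearMap.lTensor_tmul, tc_tmul, tc_tmul, map_smul]
  | add x y hx hy =>
    rw [map_add, map_add, Finsupp.add_apply, hx, hy, map_add, Finsupp.add_apply, map_add]

/-- A monomial substitution which is injective on exponents is injective after tensoring. -/
theorem rTensor_injective_of_monomial {τ : Type*} (L : (σ →₀ ℕ) → (τ →₀ ℕ))
    (hL : Function.Injective L) (θ : MvPolynomial σ A →ₐ[A] MvPolynomial τ A)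
    (hθ : ∀ ν, θ (MvPolynomial.monomial ν 1) = MvPolynomial.monomial (L ν) 1) :
    Function.Injective (θ.toLinearMap.rTensor N) := by
  classical
  have key : ∀ y : MvPolynomial σ A ⊗[A] N,
      tc τ N (θ.toLinearMap.rTensor N y) = (tc σ N y).mapDomain L := by
    intro y
    conv_lhs => rw [eq_sum_tc σ N y]
    rw [map_sum, map_sum, Finsupp.mapDomain, Finsupp.sum]
    refine Finset.sum_congr rfl fun ν _ => ?_
    rw [LinearMap.rTensor_tmul, AlgHom.toLinearMap_apply, hθ, tc_monomial_tmul]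
  intro y y' h
  have h1 := congrArg (tc τ N) h
  rw [key, key] at h1
  exact (tc σ N).injective (Finsupp.mapDomain_injective hL h1)

end TC

section Coeff

variable {A : Type u} [CommRing A] {M N : Type u} [AddCommGroup M] [Module A M]
  [AddCommGroup N] [Module A N]

/-- the generic element `∑ i ∈ I, X i ⊗ m i` -/
noncomputable def gen {σ : Type u} (m : σ → M) (I : Finset σ) : MvPolynomial σ A ⊗[A] M :=
  ∑ i ∈ I, (MvPolynomial.X i : MvPolynomial σ A) ⊗ₜ[A] m i

/-- the coefficients of the law `F` at the family `m` (restricted to `I`) -/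
noncomputable def coeff (F : M →ₚₗ[A] N) {σ : Type u} (m : σ → M) (I : Finset σ) :
    (σ →₀ ℕ) →₀ N :=
  tc σ N (F.toFun' (MvPolynomial σ A) (gen m I))

theorem rTensor_aeval_gen {σ : Type u} (m : σ → M) (I : Finset σ) {S : Type*} [CommSemiring S]
    [Algebra A S] (s : σ → S) :
    (MvPolynomial.aeval s : MvPolynomial σ A →ₐ[A] S).toLinearMap.rTensor M (gen m I) =
      ∑ i ∈ I, s i ⊗ₜ[A] m i := by
  rw [gen, map_sum]
  refine Finset.sum_congr rfl fun i _ => ?_
  rw [LinearMap.rTensor_tmul, AlgHom.toLinearMap_apply, MvPolynomial.aeval_X]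

/-- The fundamental formula. -/
theorem toFun'_sum (F : M →ₚₗ[A] N) {σ : Type u} (m : σ → M) (I : Finset σ) (S : Type u)
    [CommSemiring S] [Algebra A S] (s : σ → S) :
    F.toFun' S (∑ i ∈ I, s i ⊗ₜ[A] m i) =
      ∑ ν ∈ (coeff F m I).support, (ν.prod fun i k => s i ^ k) ⊗ₜ[A] coeff F m I ν := by
  rw [← rTensor_aeval_gen m I s, ← PolynomialLaw.isCompat_apply', rTensor_aeval_eq]
  rfl

/-- every element of `S ⊗ M` is a finite sum of pure tensors (indexed inside `Type u`) -/
theorem exists_sum_tmul (S : Type u) [CommSemiring S] [Algebra A S] (y : S ⊗[A] M) :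
    ∃ (σ : Type u) (I : Finset σ) (s : σ → S) (m : σ → M), y = ∑ i ∈ I, s i ⊗ₜ[A] m i := by
  induction y using TensorProduct.induction_on with
  | zero => exact ⟨PUnit, ∅, fun _ => 0, fun _ => 0, by simp⟩
  | tmul s m => exact ⟨PUnit, {PUnit.unit}, fun _ => s, fun _ => m, by simp⟩
  | add x y hx hy =>
    obtain ⟨σ₁, I₁, s₁, m₁, rfl⟩ := hx
    obtain ⟨σ₂, I₂, s₂, m₂, rfl⟩ := hy
    refine ⟨σ₁ ⊕ σ₂, I₁.disjSum I₂, Sum.elim s₁ s₂, Sum.elim m₁ m₂, ?_⟩
    rw [Finset.sum_disjSum]
    rfl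

/-- two elements at once, with a common index set -/
theorem exists_sum_tmul₂ (S : Type u) [CommSemiring S] [Algebra A S] (x y : S ⊗[A] M) :
    ∃ (σ : Type u) (I : Finset σ) (s s' : σ → S) (m : σ → M),
      x = ∑ i ∈ I, s i ⊗ₜ[A] m i ∧ y = ∑ i ∈ I, s' i ⊗ₜ[A] m i := by
  obtain ⟨σ₁, I₁, s₁, m₁, rfl⟩ := exists_sum_tmul S x
  obtain ⟨σ₂, I₂, s₂, m₂, rfl⟩ := exists_sum_tmul S y
  refine ⟨σ₁ ⊕ σ₂, I₁.disjSum I₂, Sum.elim s₁ (fun _ => 0), Sum.elim (fun _ => 0) s₂,
    Sum.elim m₁ m₂, ?_, ?_⟩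
  · rw [Finset.sum_disjSum]
    simp
  · rw [Finset.sum_disjSum]
    simp

open PolynomialLaw in
/-- Simultaneous lift of two tensors to a polynomial ring. -/
theorem exists_lift₂ {S : Type u} [CommSemiring S] [Algebra A S] (t t' : S ⊗[A] M) :
    ∃ (n : ℕ) (ψ : MvPolynomial (Fin n) A →ₐ[A] S)
      (p p' : MvPolynomial (Fin n) A ⊗[A] M),
      ψ.toLinearMap.rTensor M p = t ∧ ψ.toLinearMap.rTensor M p' = t' := by
  obtain ⟨A₁, hA₁, ht⟩ := TensorProduct.Algebra.exists_of_fg t
  obtain ⟨A₂, hA₂, ht'⟩ := TensorProduct.Algebra.exists_of_fg t'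
  have hB : Subalgebra.FG (A₁ ⊔ A₂) := Subalgebra.FG.sup hA₁ hA₂
  obtain ⟨gen, hgen⟩ := exists_range_φ_eq_of_fg hB
  have h₁ : A₁ ≤ (φ A gen).range := by rw [hgen]; exact le_sup_left
  have h₂ : A₂ ≤ (φ A gen).range := by rw [hgen]; exact le_sup_right
  obtain ⟨p, hp⟩ := exists_lift_of_mem_range_rTensor _ h₁ ht
  obtain ⟨p', hp'⟩ := exists_lift_of_mem_range_rTensor _ h₂ ht'
  exact ⟨gen.card, φ A gen, p, p', hp, hp'⟩

/-- naturality of coefficients: post-composition with a linear map -/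
theorem coeff_postcomp {P : Type u} [AddCommGroup P] [Module A P] (g : N →ₗ[A] P)
    (F : M →ₚₗ[A] N) {σ : Type u} (m : σ → M) (I : Finset σ) (ν : σ →₀ ℕ) :
    coeff (PolLaw.postcomp g F) m I ν = g (coeff F m I ν) := by
  show tc σ P (g.lTensor _ (F.toFun' _ (gen m I))) ν = _
  rw [tc_lTensor]
  rfl

/-- naturality of coefficients: pre-composition with a linear map -/
theorem coeff_precomp {M' : Type u} [AddCommGroup M'] [Module A M'] (g : M' →ₗ[A] M)
    (F : M →ₚₗ[A] N) {σ : Type u} (m : σ → M') (I : Finset σ) :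
    coeff (PolLaw.precomp F g) m I = coeff F (fun i => g (m i)) I := by
  show tc σ N (F.toFun' _ (g.lTensor _ (gen m I))) = _
  congr 2
  rw [gen, map_sum]
  rfl

/-- coefficients of a family of linear combinations -/
theorem coeff_linearCombination (F : M →ₚₗ[A] N) {σ τ : Type u} (g : τ → M) (K : Finset τ)
    (a : σ → τ → A) (I : Finset σ) (ν : σ →₀ ℕ) :
    coeff F (fun i => ∑ k ∈ K, a i k • g k) I ν =
      ∑ μ ∈ (coeff F g K).support,
        MvPolynomial.coeff ν (μ.prod fun k e =>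
          (∑ i ∈ I, MvPolynomial.C (a i k) * MvPolynomial.X i : MvPolynomial σ A) ^ e) •
          coeff F g K μ := by
  have h1 : gen (A := A) (fun i => ∑ k ∈ K, a i k • g k) I =
      ∑ k ∈ K, (∑ i ∈ I, MvPolynomial.C (a i k) * MvPolynomial.X i : MvPolynomial σ A) ⊗ₜ[A]
        g k := by
    rw [gen]
    simp_rw [TensorProduct.tmul_sum, TensorProduct.sum_tmul]
    rw [Finset.sum_comm]
    refine Finset.sum_congr rfl fun k _ => Finset.sum_congr rfl fun i _ => ?_
    rw [TensorProduct.tmul_smul, TensorProduct.smul_tmul', MvPolynomial.smul_eq_C_mul]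
  rw [coeff, h1, toFun'_sum, map_sum, Finsupp.finsetSum_apply]
  refine Finset.sum_congr rfl fun μ _ => ?_
  rw [tc_tmul]

theorem coeff_linearCombination_mem (F : M →ₚₗ[A] N) {σ τ : Type u} (g : τ → M) (K : Finset τ)
    (a : σ → τ → A) (I : Finset σ) (ν : σ →₀ ℕ) :
    coeff F (fun i => ∑ k ∈ K, a i k • g k) I ν ∈
      Submodule.span A (Set.range fun μ : τ →₀ ℕ => coeff F g K μ) := by
  rw [coeff_linearCombination]
  exact Submodule.sum_mem _ fun μ _ =>
    Submodule.smul_mem _ _ (Submodule.subset_span ⟨μ, rfl⟩)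

/-- coefficients only depend on the values of the family on `I` -/
theorem coeff_congr (F : M →ₚₗ[A] N) {σ : Type u} {m m' : σ → M} (I : Finset σ)
    (h : ∀ i ∈ I, m i = m' i) : coeff F m I = coeff F m' I := by
  rw [coeff, coeff, gen, gen]
  congr 2
  exact Finset.sum_congr rfl fun i hi => by rw [h i hi]

end Coeff

section Homog
variable {A : Type u} [CommRing A] {M N : Type u} [AddCommGroup M] [Module A M]
  [AddCommGroup N] [Module A N]

theorem prod_X_pow_eq_monomial {σ : Type*} (ν : σ →₀ ℕ) :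
    (ν.prod fun i k => (MvPolynomial.X i : MvPolynomial σ A) ^ k) = MvPolynomial.monomial ν 1 := by
  rw [MvPolynomial.monomial_eq, map_one, one_mul]

/-- exponent with a fresh variable recording a weight -/
noncomputable def optExp {σ : Type*} (ν : σ →₀ ℕ) (e : ℕ) : Option σ →₀ ℕ :=
  ν.mapDomain some + Finsupp.single none e

theorem optExp_none {σ : Type*} (ν : σ →₀ ℕ) (e : ℕ) : optExp ν e none = e := by
  rw [optExp, Finsupp.add_apply, Finsupp.mapDomain_of_notMem_range _ _ (by simp), zero_add,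
    Finsupp.single_eq_same]

theorem optExp_some {σ : Type*} (ν : σ →₀ ℕ) (e : ℕ) (i : σ) : optExp ν e (some i) = ν i := by
  rw [optExp, Finsupp.add_apply, Finsupp.mapDomain_apply (Option.some_injective σ),
    Finsupp.single_apply, if_neg (by simp), add_zero]

theorem optExp_injective {σ : Type*} {ν ν' : σ →₀ ℕ} {e e' : ℕ} (h : optExp ν e = optExp ν' e') :
    ν = ν' ∧ e = e' := by
  constructor
  · ext i
    have := DFunLike.congr_fun h (some i)
    rwa [optExp_some, optExp_some] at this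
  · have := DFunLike.congr_fun h none
    rwa [optExp_none, optExp_none] at this

theorem prod_opt_eq_monomial {σ : Type*} (ν : σ →₀ ℕ) (e : ℕ) :
    (MvPolynomial.X none : MvPolynomial (Option σ) A) ^ e *
      (ν.prod fun i k => (MvPolynomial.X (some i) : MvPolynomial (Option σ) A) ^ k) =
      MvPolynomial.monomial (optExp ν e) 1 := by
  classical
  rw [optExp, add_comm, ← one_mul (1 : A), ← MvPolynomial.monomial_mul, ← MvPolynomial.X_pow_eq_monomial]
  congr 1
  rw [MvPolynomial.monomial_eq, map_one, one_mul,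
    Finsupp.prod_mapDomain_index_inj (Option.some_injective σ)]

theorem coeff_degree (F : M →ₚₗ[A] N) {d : ℕ} (hF : PolLaw.IsHomog F d) {σ : Type u} (m : σ → M)
    (I : Finset σ) (ν : σ →₀ ℕ) (hν : coeff F m I ν ≠ 0) : ν.degree = d := by
  classical
  by_contra hne
  apply hν
  set S' := MvPolynomial (Option σ) A
  set t : S' := MvPolynomial.X none
  set s : σ → S' := fun i => MvPolynomial.X (some i)
  have h := hF S' t (∑ i ∈ I, s i ⊗ₜ[A] m i)
  have h1 : t • (∑ i ∈ I, s i ⊗ₜ[A] m i) = ∑ i ∈ I, (t * s i) ⊗ₜ[A] m i := by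
    rw [Finset.smul_sum]
    exact Finset.sum_congr rfl fun i _ => by rw [TensorProduct.smul_tmul', smul_eq_mul]
  rw [h1, toFun'_sum, toFun'_sum, Finset.smul_sum] at h
  have hL : ∀ μ : σ →₀ ℕ, (μ.prod fun i k => (t * s i) ^ k) =
      MvPolynomial.monomial (optExp μ μ.degree) 1 := by
    intro μ
    rw [← prod_opt_eq_monomial]
    simp_rw [mul_pow]
    rw [Finsupp.prod_mul]
    congr 1
    rw [Finsupp.prod, Finset.prod_pow_eq_pow_sum]
    rfl
  have hR : ∀ μ : σ →₀ ℕ, t ^ d • ((μ.prod fun i k => s i ^ k) ⊗ₜ[A] coeff F m I μ) =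
      MvPolynomial.monomial (optExp μ d) 1 ⊗ₜ[A] coeff F m I μ := by
    intro μ
    rw [TensorProduct.smul_tmul', smul_eq_mul, prod_opt_eq_monomial]
  simp_rw [hL, hR] at h
  have h2 := DFunLike.congr_fun (congrArg (tc (Option σ) N) h) (optExp ν ν.degree)
  by_cases hmem : ν ∈ (coeff F m I).support
  · rw [tc_injective_sum (Option σ) N _ (fun μ => optExp μ μ.degree)
      (fun a _ b _ hab => (optExp_injective hab).1) _ hmem, tc_sum_monomial] at h2
    rw [h2]
    apply Finset.sum_eq_zero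
    intro μ hμ
    rw [Finset.mem_filter] at hμ
    exact absurd (optExp_injective hμ.2).2.symm hne
  · simpa using hmem

end Homog

section Ext
variable {A : Type u} [CommRing A] {M N : Type u} [AddCommGroup M] [Module A M]
  [AddCommGroup N] [Module A N]

theorem isHomog_of_mvPolynomial (F : M →ₚₗ[A] N) (d : ℕ)
    (h : ∀ (n : ℕ) (s : MvPolynomial (Fin n) A) (x : MvPolynomial (Fin n) A ⊗[A] M),
      F.toFun' (MvPolynomial (Fin n) A) (s • x) = s ^ d • F.toFun' (MvPolynomial (Fin n) A) x) :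
    PolLaw.IsHomog F d := by
  intro S _ _ s x
  obtain ⟨n, ψ, p, q, rfl, rfl⟩ := PolynomialLaw.exists_lift' x s
  have h1 : ψ q • ψ.toLinearMap.rTensor M p = ψ.toLinearMap.rTensor M (q • p) := by
    induction p using TensorProduct.induction_on with
    | zero => simp
    | tmul a m =>
      rw [LinearMap.rTensor_tmul, TensorProduct.smul_tmul', TensorProduct.smul_tmul',
        LinearMap.rTensor_tmul, AlgHom.toLinearMap_apply, AlgHom.toLinearMap_apply, smul_eq_mul,
        smul_eq_mul, map_mul]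
    | add x y hx hy => rw [map_add, smul_add, hx, hy, smul_add, map_add]
  have h2 : ∀ z : MvPolynomial (Fin n) A ⊗[A] N,
      ψ q ^ d • ψ.toLinearMap.rTensor N z = ψ.toLinearMap.rTensor N (q ^ d • z) := by
    intro z
    induction z using TensorProduct.induction_on with
    | zero => simp
    | tmul a m =>
      rw [LinearMap.rTensor_tmul, TensorProduct.smul_tmul', TensorProduct.smul_tmul',
        LinearMap.rTensor_tmul, AlgHom.toLinearMap_apply, AlgHom.toLinearMap_apply, smul_eq_mul,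
        smul_eq_mul, map_mul, map_pow]
    | add x y hx hy => rw [map_add, smul_add, hx, hy, smul_add, map_add]
  rw [h1, ← PolynomialLaw.isCompat_apply', ← PolynomialLaw.isCompat_apply', h, h2]

end Ext

section ExtAlg
variable {A : Type u} [CommRing A] {B C : Type u} [CommRing B] [Algebra A B] [CommRing C]
  [Algebra A C]

theorem rTensor_eq_map {S S' : Type*} [CommSemiring S] [Algebra A S] [CommSemiring S']
    [Algebra A S'] (ψ : S →ₐ[A] S') (z : S ⊗[A] B) :
    ψ.toLinearMap.rTensor B z = Algebra.TensorProduct.map ψ (AlgHom.id A B) z := rfl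

theorem isMult_of_mvPolynomial (F : B →ₚₗ[A] C)
    (h1 : ∀ n : ℕ, F.toFun' (MvPolynomial (Fin n) A) 1 = 1)
    (hmul : ∀ (n : ℕ) (x y : MvPolynomial (Fin n) A ⊗[A] B),
      F.toFun' (MvPolynomial (Fin n) A) (x * y) =
        F.toFun' (MvPolynomial (Fin n) A) x * F.toFun' (MvPolynomial (Fin n) A) y) :
    PolLaw.IsMult F := by
  intro S _ _
  constructor
  · have h := PolynomialLaw.isCompat_apply' (f := F)
      (MvPolynomial.aeval (fun _ : Fin 0 => (0 : S)) : MvPolynomial (Fin 0) A →ₐ[A] S)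
      (1 : MvPolynomial (Fin 0) A ⊗[A] B)
    rw [h1 0, rTensor_eq_map, rTensor_eq_map, map_one, map_one] at h
    exact h.symm
  · intro x y
    obtain ⟨n, ψ, p, q, rfl, rfl⟩ := exists_lift₂ x y
    have hm : ψ.toLinearMap.rTensor B p * ψ.toLinearMap.rTensor B q =
        ψ.toLinearMap.rTensor B (p * q) := by
      rw [rTensor_eq_map, rTensor_eq_map, rTensor_eq_map, map_mul]
    rw [hm, ← PolynomialLaw.isCompat_apply', ← PolynomialLaw.isCompat_apply',
      ← PolynomialLaw.isCompat_apply', hmul n, rTensor_eq_map, rTensor_eq_map, rTensor_eq_map,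
      map_mul]

end ExtAlg

section Span
variable {A : Type u} [CommRing A] {B C : Type u} [CommRing B] [Algebra A B] [CommRing C]
  [Algebra A C] {d : ℕ}

/-- the set of all coefficients of a law -/
def coeffSet (F : B →ₚₗ[A] C) : Set C :=
  {c | ∃ (σ : Type u) (m : σ → B) (I : Finset σ) (ν : σ →₀ ℕ), c = coeff F m I ν}

/-- the span of all coefficients of a law -/
def coeffSpan (F : B →ₚₗ[A] C) : Submodule A C := Submodule.span A (coeffSet F)

theorem coeff_mem_coeffSpan (F : B →ₚₗ[A] C) {σ : Type u} (m : σ → B) (I : Finset σ)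
    (ν : σ →₀ ℕ) : coeff F m I ν ∈ coeffSpan F :=
  Submodule.subset_span ⟨σ, m, I, ν, rfl⟩

theorem prod_X_comp_eq_monomial {σ τ : Type*} (f : σ → τ) (hf : Function.Injective f)
    (ν : σ →₀ ℕ) :
    (ν.prod fun i k => (MvPolynomial.X (f i) : MvPolynomial τ A) ^ k) =
      MvPolynomial.monomial (ν.mapDomain f) 1 := by
  rw [MvPolynomial.monomial_eq, map_one, one_mul, Finsupp.prod_mapDomain_index_inj hf]

theorem one_mem_coeffSpan (γ : PolLaw.MulLaw A B C d) : (1 : C) ∈ coeffSpan γ.law := by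
  have h : coeff γ.law (fun _ : PUnit.{u+1} => (1 : B)) {PUnit.unit}
      (Finsupp.single PUnit.unit d) = 1 := by
    rw [coeff, gen, Finset.sum_singleton]
    have h1 : (MvPolynomial.X PUnit.unit : MvPolynomial PUnit.{u+1} A) ⊗ₜ[A] (1 : B) =
        (MvPolynomial.X PUnit.unit : MvPolynomial PUnit.{u+1} A) •
          (1 : MvPolynomial PUnit.{u+1} A ⊗[A] B) := by
      rw [Algebra.TensorProduct.one_def, TensorProduct.smul_tmul', smul_eq_mul, mul_one]
    rw [h1, γ.homog, (γ.mult _).1, Algebra.TensorProduct.one_def, TensorProduct.smul_tmul',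
      smul_eq_mul, mul_one, tc_tmul, MvPolynomial.X_pow_eq_monomial, MvPolynomial.coeff_monomial,
      if_pos rfl, one_smul]
  rw [← h]
  exact coeff_mem_coeffSpan _ _ _ _

theorem coeff_mul_mem_span (γ : PolLaw.MulLaw A B C d) {σ σ' : Type u} (m : σ → B)
    (I : Finset σ) (ν₀ : σ →₀ ℕ) (m' : σ' → B) (I' : Finset σ') (ν₀' : σ' →₀ ℕ) :
    coeff γ.law m I ν₀ * coeff γ.law m' I' ν₀' ∈
      Submodule.span A (Set.range fun μ : σ × σ' →₀ ℕ =>
        coeff γ.law (fun p : σ × σ' => m p.1 * m' p.2) (I ×ˢ I') μ) := by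
  classical
  by_cases h0 : ν₀ ∈ (coeff γ.law m I).support ∧ ν₀' ∈ (coeff γ.law m' I').support
  swap
  · have : coeff γ.law m I ν₀ = 0 ∨ coeff γ.law m' I' ν₀' = 0 := by
      by_contra hcon
      rw [not_or] at hcon
      exact h0 ⟨Finsupp.mem_support_iff.2 hcon.1, Finsupp.mem_support_iff.2 hcon.2⟩
    rcases this with h | h <;> rw [h] <;> simp
  obtain ⟨hν₀, hν₀'⟩ := h0
  set S := MvPolynomial (σ ⊕ σ') A
  set x : S ⊗[A] B := ∑ i ∈ I, (MvPolynomial.X (Sum.inl i) : S) ⊗ₜ[A] m i with hx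
  set y : S ⊗[A] B := ∑ j ∈ I', (MvPolynomial.X (Sum.inr j) : S) ⊗ₜ[A] m' j with hy
  have hxy : x * y = ∑ p ∈ I ×ˢ I',
      ((MvPolynomial.X (Sum.inl p.1) : S) * MvPolynomial.X (Sum.inr p.2)) ⊗ₜ[A]
        (m p.1 * m' p.2) := by
    rw [hx, hy, Finset.sum_mul_sum, Finset.sum_product]
    exact Finset.sum_congr rfl fun i _ => Finset.sum_congr rfl fun j _ =>
      Algebra.TensorProduct.tmul_mul_tmul _ _ _ _
  have hmul := (γ.mult S).2 x y
  rw [hxy, toFun'_sum γ.law (fun p : σ × σ' => m p.1 * m' p.2) (I ×ˢ I') S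
      (fun p => MvPolynomial.X (Sum.inl p.1) * MvPolynomial.X (Sum.inr p.2)),
    hx, hy, toFun'_sum γ.law m I S (fun i => MvPolynomial.X (Sum.inl i)),
    toFun'_sum γ.law m' I' S (fun j => MvPolynomial.X (Sum.inr j)),
    Finset.sum_mul_sum, ← Finset.sum_product'] at hmul
  set e : (σ →₀ ℕ) × (σ' →₀ ℕ) → (σ ⊕ σ' →₀ ℕ) :=
    fun q => q.1.mapDomain Sum.inl + q.2.mapDomain Sum.inr with he
  have hterm : ∀ q : (σ →₀ ℕ) × (σ' →₀ ℕ),
      ((q.1.prod fun i k => (MvPolynomial.X (Sum.inl i) : S) ^ k) ⊗ₜ[A] coeff γ.law m I q.1) *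
        ((q.2.prod fun j k => (MvPolynomial.X (Sum.inr j) : S) ^ k) ⊗ₜ[A] coeff γ.law m' I' q.2) =
      MvPolynomial.monomial (e q) (1 : A) ⊗ₜ[A] (coeff γ.law m I q.1 * coeff γ.law m' I' q.2) := by
    intro q
    rw [Algebra.TensorProduct.tmul_mul_tmul, prod_X_comp_eq_monomial _ Sum.inl_injective,
      prod_X_comp_eq_monomial _ Sum.inr_injective, MvPolynomial.monomial_mul, one_mul]
  rw [Finset.sum_congr rfl (fun q _ => hterm q)] at hmul
  have hinj : Set.InjOn e ↑((coeff γ.law m I).support ×ˢ (coeff γ.law m' I').support) := by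
    rintro ⟨a, a'⟩ _ ⟨b, b'⟩ _ hab
    simp only [he] at hab
    have h1 : a = b := by
      ext i
      have := DFunLike.congr_fun hab (Sum.inl i)
      simpa [Finsupp.mapDomain_apply Sum.inl_injective,
        Finsupp.mapDomain_of_notMem_range] using this
    have h2 : a' = b' := by
      ext j
      have := DFunLike.congr_fun hab (Sum.inr j)
      simpa [Finsupp.mapDomain_apply Sum.inr_injective,
        Finsupp.mapDomain_of_notMem_range] using this
    rw [h1, h2]
  have hmem : (ν₀, ν₀') ∈ (coeff γ.law m I).support ×ˢ (coeff γ.law m' I').support :=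
    Finset.mem_product.2 ⟨hν₀, hν₀'⟩
  have h2 := DFunLike.congr_fun (congrArg (tc (σ ⊕ σ') C) hmul) (e (ν₀, ν₀'))
  rw [tc_injective_sum (σ ⊕ σ') C _ e hinj _ hmem, map_sum, Finsupp.finsetSum_apply] at h2
  rw [← h2]
  refine Submodule.sum_mem _ fun μ _ => ?_
  rw [tc_tmul]
  exact Submodule.smul_mem _ _ (Submodule.subset_span ⟨μ, rfl⟩)

theorem coeff_mul_mem (γ : PolLaw.MulLaw A B C d) {σ σ' : Type u} (m : σ → B) (I : Finset σ)
    (ν₀ : σ →₀ ℕ) (m' : σ' → B) (I' : Finset σ') (ν₀' : σ' →₀ ℕ) :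
    coeff γ.law m I ν₀ * coeff γ.law m' I' ν₀' ∈ coeffSpan γ.law := by
  refine Submodule.span_le.2 ?_ (coeff_mul_mem_span γ m I ν₀ m' I' ν₀')
  rintro _ ⟨μ, rfl⟩
  exact coeff_mem_coeffSpan _ _ _ _

theorem coeffSpan_mul_mem (γ : PolLaw.MulLaw A B C d) {x y : C} (hx : x ∈ coeffSpan γ.law)
    (hy : y ∈ coeffSpan γ.law) : x * y ∈ coeffSpan γ.law := by
  have : coeffSpan γ.law * coeffSpan γ.law ≤ coeffSpan γ.law := by
    rw [coeffSpan, Submodule.span_mul_span]
    apply Submodule.span_le.2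
    rintro _ ⟨a, ⟨σ, m, I, ν, rfl⟩, b, ⟨σ', m', I', ν', rfl⟩, rfl⟩
    exact coeff_mul_mem γ m I ν m' I' ν'
  exact this (Submodule.mul_mem_mul hx hy)

/-- the subalgebra spanned by the coefficients of a multiplicative law -/
def coeffSubalgebra (γ : PolLaw.MulLaw A B C d) : Subalgebra A C :=
  (coeffSpan γ.law).toSubalgebra (one_mem_coeffSpan γ) fun _ _ hx hy => coeffSpan_mul_mem γ hx hy

theorem mem_coeffSubalgebra (γ : PolLaw.MulLaw A B C d) (c : C) :
    c ∈ coeffSubalgebra γ ↔ c ∈ coeffSpan γ.law := Iff.rfl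

end Span

section Corestrict
variable {A : Type u} [CommRing A] {B C : Type u} [CommRing B] [Algebra A B] [CommRing C]
  [Algebra A C] {d : ℕ} (γ : PolLaw.MulLaw A B C d)

/-- the inclusion `S ⊗ C₀ → S ⊗ C` -/
noncomputable abbrev incl (S : Type*) [CommSemiring S] [Algebra A S] :
    S ⊗[A] ↥(coeffSubalgebra γ) →ₗ[A] S ⊗[A] C :=
  (coeffSubalgebra γ).val.toLinearMap.lTensor S

theorem incl_injective (n : ℕ) : Function.Injective (incl γ (MvPolynomial (Fin n) A)) :=
  Module.Flat.lTensor_preserves_injective_linearMap _ Subtype.val_injective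

theorem exists_preimage (S : Type u) [CommSemiring S] [Algebra A S] (y : S ⊗[A] B) :
    ∃ z : S ⊗[A] ↥(coeffSubalgebra γ), incl γ S z = γ.law.toFun' S y := by
  obtain ⟨σ, I, s, m, rfl⟩ := exists_sum_tmul S y
  rw [toFun'_sum]
  refine ⟨∑ ν ∈ (coeff γ.law m I).support, (ν.prod fun i k => s i ^ k) ⊗ₜ[A]
    (⟨coeff γ.law m I ν, coeff_mem_coeffSpan _ _ _ _⟩ : ↥(coeffSubalgebra γ)), ?_⟩
  rw [map_sum]
  rfl

/-- the family of maps on polynomial rings defining the corestricted law -/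
noncomputable def coT (n : ℕ) (y : MvPolynomial (Fin n) A ⊗[A] B) :
    MvPolynomial (Fin n) A ⊗[A] ↥(coeffSubalgebra γ) :=
  (exists_preimage γ (MvPolynomial (Fin n) A) y).choose

theorem incl_coT (n : ℕ) (y : MvPolynomial (Fin n) A ⊗[A] B) :
    incl γ (MvPolynomial (Fin n) A) (coT γ n y) = γ.law.toFun' (MvPolynomial (Fin n) A) y :=
  (exists_preimage γ (MvPolynomial (Fin n) A) y).choose_spec

theorem incl_rTensor {S S' : Type*} [CommSemiring S] [Algebra A S] [CommSemiring S'] [Algebra A S']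
    (ψ : S →ₐ[A] S') (z : S ⊗[A] ↥(coeffSubalgebra γ)) :
    incl γ S' (ψ.toLinearMap.rTensor _ z) = ψ.toLinearMap.rTensor C (incl γ S z) := by
  show ((coeffSubalgebra γ).val.toLinearMap.lTensor S' ∘ₗ ψ.toLinearMap.rTensor _) z =
    (ψ.toLinearMap.rTensor C ∘ₗ (coeffSubalgebra γ).val.toLinearMap.lTensor S) z
  rw [LinearMap.lTensor_comp_rTensor, LinearMap.rTensor_comp_lTensor]

theorem coT_polyCompat : Groth.Agent.Lib.Helper68.PolyCompat (coT γ) := by
  intro n m φ
  funext y
  apply incl_injective γ m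
  simp only [Function.comp_apply]
  rw [incl_rTensor, incl_coT, incl_coT, PolynomialLaw.isCompat_apply']

/-- the law `γ` corestricted to the subalgebra spanned by its coefficients -/
noncomputable def coLaw : B →ₚₗ[A] ↥(coeffSubalgebra γ) :=
  (coT_polyCompat γ).toPolynomialLaw

theorem incl_coLaw (S : Type u) [CommSemiring S] [Algebra A S] (y : S ⊗[A] B) :
    incl γ S ((coLaw γ).toFun' S y) = γ.law.toFun' S y := by
  obtain ⟨n, ψ, p, rfl⟩ := PolynomialLaw.exists_lift y
  rw [coLaw, Groth.Agent.Lib.Helper68.PolyCompat.toPolynomialLaw_toFun', incl_rTensor, incl_coT,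
    PolynomialLaw.isCompat_apply']

theorem incl_eq_map (S : Type u) [CommSemiring S] [Algebra A S]
    (z : S ⊗[A] ↥(coeffSubalgebra γ)) :
    incl γ S z = Algebra.TensorProduct.map (AlgHom.id S S) (coeffSubalgebra γ).val z :=
  PolLaw.lTensor_algHom_apply _ S z

/-- the corestricted law as a multiplicative law -/
noncomputable def coMulLaw : PolLaw.MulLaw A B ↥(coeffSubalgebra γ) d where
  law := coLaw γ
  homog := by
    apply isHomog_of_mvPolynomial
    intro n s x
    apply incl_injective γ n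
    rw [incl_coLaw, γ.homog, ← incl_coLaw γ, incl_eq_map, incl_eq_map, map_smul]
  mult := by
    apply isMult_of_mvPolynomial
    · intro n
      apply incl_injective γ n
      rw [incl_coLaw, (γ.mult _).1, incl_eq_map, map_one]
    · intro n x y
      apply incl_injective γ n
      rw [incl_coLaw, (γ.mult _).2, ← incl_coLaw γ, ← incl_coLaw γ _ y, incl_eq_map, incl_eq_map,
        incl_eq_map, map_mul]

theorem coeffSpan_eq_top (hγ : PolLaw.IsGammaD γ) : coeffSpan γ.law = ⊤ := by
  obtain ⟨f, hf, -⟩ := hγ ↥(coeffSubalgebra γ) (coMulLaw γ)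
  have h1 : PolLaw.postcomp ((coeffSubalgebra γ).val.comp f).toLinearMap γ.law = γ.law := by
    ext S _ _ y
    show ((coeffSubalgebra γ).val.comp f).toLinearMap.lTensor S (γ.law.toFun' S y) = _
    have := congrArg (fun G : B →ₚₗ[A] ↥(coeffSubalgebra γ) => G.toFun' S y) hf
    rw [AlgHom.comp_toLinearMap, LinearMap.lTensor_comp, LinearMap.comp_apply]
    change incl γ S ((PolLaw.postcomp f.toLinearMap γ.law).toFun' S y) = _
    rw [this]
    exact incl_coLaw γ S y
  have h2 : PolLaw.postcomp (AlgHom.id A C).toLinearMap γ.law = γ.law := by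
    ext S _ _ y
    show (AlgHom.id A C).toLinearMap.lTensor S (γ.law.toFun' S y) = _
    simp
  have h3 : (coeffSubalgebra γ).val.comp f = AlgHom.id A C :=
    (hγ C γ).unique h1 h2
  rw [eq_top_iff]
  intro c _
  have : c = (coeffSubalgebra γ).val (f c) := by
    rw [← AlgHom.comp_apply, h3, AlgHom.id_apply]
  rw [this]
  exact (f c).2

end Corestrict

section Fin
variable {A : Type u} [CommRing A] {B C : Type u} [CommRing B] [Algebra A B] [CommRing C]
  [Algebra A C] {d : ℕ}

/-- If the `m i` (`i ∈ I`) lie in the span of a finite family `g`, the coefficients at `m` are in the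
span of the coefficients at `g`. -/
theorem coeff_mem_span_of_mem_span (F : B →ₚₗ[A] C) {σ τ : Type u} [Fintype τ] (g : τ → B)
    (m : σ → B) (I : Finset σ) (hm : ∀ i ∈ I, m i ∈ Submodule.span A (Set.range g))
    (ν : σ →₀ ℕ) :
    coeff F m I ν ∈ Submodule.span A (Set.range fun μ : τ →₀ ℕ => coeff F g Finset.univ μ) := by
  classical
  have hex : ∀ i : σ, ∃ c : τ → A, i ∈ I → ∑ k, c k • g k = m i := by
    intro i
    by_cases hi : i ∈ I
    · obtain ⟨c, hc⟩ := (Submodule.mem_span_range_iff_exists_fun A).1 (hm i hi)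
      exact ⟨c, fun _ => hc⟩
    · exact ⟨0, fun h => absurd h hi⟩
  choose a ha using hex
  rw [coeff_congr F I (m' := fun i => ∑ k ∈ Finset.univ, a i k • g k)
    (fun i hi => (ha i hi).symm)]
  exact coeff_linearCombination_mem F g Finset.univ a I ν

theorem span_range_finsupp_fg {ι : Type*} (c : ι →₀ C) :
    (Submodule.span A (Set.range fun μ : ι => c μ)).FG := by
  classical
  refine ⟨c.support.image c, le_antisymm (Submodule.span_mono ?_) (Submodule.span_le.2 ?_)⟩
  · intro x hx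
    rw [Finset.coe_image] at hx
    obtain ⟨μ, _, rfl⟩ := hx
    exact ⟨μ, rfl⟩
  · rintro _ ⟨μ, rfl⟩
    by_cases h : μ ∈ c.support
    · exact Submodule.subset_span (Finset.mem_coe.2 (Finset.mem_image_of_mem c h))
    · show c μ ∈ _
      rw [Finsupp.notMem_support_iff.1 h]
      exact Submodule.zero_mem _

end Fin

section More
variable {A : Type u} [CommRing A] {B C : Type u} [CommRing B] [Algebra A B] [CommRing C]
  [Algebra A C] {d : ℕ}

theorem coeff_one (γ : PolLaw.MulLaw A B C d) :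
    coeff γ.law (fun _ : PUnit.{u+1} => (1 : B)) {PUnit.unit}
      (Finsupp.single PUnit.unit d) = 1 := by
  rw [coeff, gen, Finset.sum_singleton]
  have h1 : (MvPolynomial.X PUnit.unit : MvPolynomial PUnit.{u+1} A) ⊗ₜ[A] (1 : B) =
      (MvPolynomial.X PUnit.unit : MvPolynomial PUnit.{u+1} A) •
        (1 : MvPolynomial PUnit.{u+1} A ⊗[A] B) := by
    rw [Algebra.TensorProduct.one_def, TensorProduct.smul_tmul', smul_eq_mul, mul_one]
  rw [h1, γ.homog, (γ.mult _).1, Algebra.TensorProduct.one_def, TensorProduct.smul_tmul',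
    smul_eq_mul, mul_one, tc_tmul, MvPolynomial.X_pow_eq_monomial, MvPolynomial.coeff_monomial,
    if_pos rfl, one_smul]

/-- Coefficients at families inside a module-finite subalgebra are integral. -/
theorem isIntegral_coeff_of_fg (γ : PolLaw.MulLaw A B C d) (B₁ : Subalgebra A B)
    (hB₁ : B₁.toSubmodule.FG) {σ : Type u} (m : σ → B) (I : Finset σ) (hm : ∀ i ∈ I, m i ∈ B₁)
    (ν : σ →₀ ℕ) : IsIntegral A (coeff γ.law m I ν) := by
  classical
  obtain ⟨G, hG⟩ := hB₁
  let g : (↥G) → B := Subtype.val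
  have hg : Submodule.span A (Set.range g) = Subalgebra.toSubmodule B₁ := by
    rw [← hG]
    congr 1
    ext x
    simp [g]
  set C₁ : Submodule A C :=
    Submodule.span A (Set.range fun μ : (↥G) →₀ ℕ => coeff γ.law g Finset.univ μ) with hC₁
  have hone : (1 : C) ∈ C₁ := by
    rw [← coeff_one γ]
    apply coeff_mem_span_of_mem_span γ.law g
    intro i _
    rw [hg]
    exact B₁.one_mem
  have hmul : ∀ x y : C, x ∈ C₁ → y ∈ C₁ → x * y ∈ C₁ := by
    have : C₁ * C₁ ≤ C₁ := by
      rw [hC₁, Submodule.span_mul_span]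
      apply Submodule.span_le.2
      rintro _ ⟨a, ⟨μ, rfl⟩, b, ⟨μ', rfl⟩, rfl⟩
      refine Submodule.span_le.2 ?_ (coeff_mul_mem_span γ g Finset.univ μ g Finset.univ μ')
      rintro _ ⟨μ'', rfl⟩
      apply coeff_mem_span_of_mem_span γ.law g
      intro p _
      rw [hg]
      exact B₁.mul_mem (by rw [← Subalgebra.mem_toSubmodule, ← hg]; exact Submodule.subset_span ⟨p.1, rfl⟩)
        (by rw [← Subalgebra.mem_toSubmodule, ← hg]; exact Submodule.subset_span ⟨p.2, rfl⟩)
    intro x y hx hy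
    exact this (Submodule.mul_mem_mul hx hy)
  have hfg : (Subalgebra.toSubmodule (C₁.toSubalgebra hone hmul)).FG := by
    have : Subalgebra.toSubmodule (C₁.toSubalgebra hone hmul) = C₁ := rfl
    rw [this]
    exact span_range_finsupp_fg _
  refine IsIntegral.of_mem_of_fg (C₁.toSubalgebra hone hmul) hfg _ ?_
  show coeff γ.law m I ν ∈ C₁
  apply coeff_mem_span_of_mem_span γ.law g
  intro i hi
  rw [hg]
  exact hm i hi

end More

end Groth.Agent.Lib.Helper25.PolLawCoeff
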