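import Groth.Agent.Lib.Helper25.PolLawBC

set_option autoImplicit false
universe u
open scoped TensorProduct

namespace Groth.Agent.Lib.Helper25.PolLawCoeff

section DL1
variable {A : Type u} [CommRing A] {B : Type u} [CommRing B] [Algebra A B]

/-- the universal point `∑ X_i ⊗ e_i` over `A''[X, W]` -/
noncomputable def univX {n : ℕ} (e : Fin n → B) (A'' : Type u) [CommRing A''] [Algebra A A''] :
    MvPolynomial (Fin n ⊕ Fin n) A'' ⊗[A] B :=
  ∑ i, (MvPolynomial.X (Sum.inl i) : MvPolynomial (Fin n ⊕ Fin n) A'') ⊗ₜ[A] e i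

/-- the universal point `∑ W_i ⊗ e_i` over `A''[X, W]` -/
noncomputable def univW {n : ℕ} (e : Fin n → B) (A'' : Type u) [CommRing A''] [Algebra A A''] :
    MvPolynomial (Fin n ⊕ Fin n) A'' ⊗[A] B :=
  ∑ i, (MvPolynomial.X (Sum.inr i) : MvPolynomial (Fin n ⊕ Fin n) A'') ⊗ₜ[A] e i

/-- the universal difference `F (x + w z) - F x` over `A''[X, W]` -/
noncomputable def univDiff (F : B →ₚₗ[A] A) {n : ℕ} (e : Fin n → B) (A'' : Type u)
    [CommRing A''] [Algebra A A''] (z : A'' ⊗[A] B) : MvPolynomial (Fin n ⊕ Fin n) A'' :=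
  Algebra.TensorProduct.rid A (MvPolynomial (Fin n ⊕ Fin n) A'') (MvPolynomial (Fin n ⊕ Fin n) A'')
    (F.toFun' (MvPolynomial (Fin n ⊕ Fin n) A'') (univX e A'' + univW e A'' *
      Algebra.TensorProduct.map (mvC A A'' (Fin n ⊕ Fin n)) (AlgHom.id A B) z)) -
  Algebra.TensorProduct.rid A (MvPolynomial (Fin n ⊕ Fin n) A'') (MvPolynomial (Fin n ⊕ Fin n) A'')
    (F.toFun' (MvPolynomial (Fin n ⊕ Fin n) A'') (univX e A''))

theorem univDiff_eq_zero_of_mem_kerBC (F : B →ₚₗ[A] A) {n : ℕ} (e : Fin n → B) (A'' : Type u)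
    [CommRing A''] [Algebra A A''] (z : A'' ⊗[A] B) (hz : z ∈ PolLaw.kerBC F A'') :
    univDiff F e A'' z = 0 := by
  rw [mem_kerBC_iff] at hz
  rw [univDiff, hz, sub_self]

theorem univDiff_map (F : B →ₚₗ[A] A) {n : ℕ} (e : Fin n → B) {A₁ A₂ : Type u}
    [CommRing A₁] [Algebra A A₁] [CommRing A₂] [Algebra A A₂] (g : A₁ →ₐ[A] A₂)
    (z : A₁ ⊗[A] B) :
    univDiff F e A₂ (Algebra.TensorProduct.map g (AlgHom.id A B) z) =
      MvPolynomial.map (g : A₁ →+* A₂) (univDiff F e A₁ z) := by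
  set μ : MvPolynomial (Fin n ⊕ Fin n) A₁ →ₐ[A] MvPolynomial (Fin n ⊕ Fin n) A₂ :=
    MvPolynomial.mapAlgHom g with hμ
  have hμX : Algebra.TensorProduct.map μ (AlgHom.id A B) (univX e A₁) = univX e A₂ := by
    rw [univX, univX, map_sum]
    refine Finset.sum_congr rfl fun i _ => ?_
    rw [Algebra.TensorProduct.map_tmul, AlgHom.id_apply]
    congr 1
    exact MvPolynomial.map_X _ _
  have hμW : Algebra.TensorProduct.map μ (AlgHom.id A B) (univW e A₁) = univW e A₂ := by
    rw [univW, univW, map_sum]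
    refine Finset.sum_congr rfl fun i _ => ?_
    rw [Algebra.TensorProduct.map_tmul, AlgHom.id_apply]
    congr 1
    exact MvPolynomial.map_X _ _
  have hμC : μ.comp (mvC A A₁ (Fin n ⊕ Fin n)) = (mvC A A₂ (Fin n ⊕ Fin n)).comp g := by
    refine AlgHom.ext fun a => ?_
    show MvPolynomial.map (g : A₁ →+* A₂) (MvPolynomial.C a) = MvPolynomial.C (g a)
    exact MvPolynomial.map_C _ _
  have hz : Algebra.TensorProduct.map (mvC A A₂ (Fin n ⊕ Fin n)) (AlgHom.id A B)
      (Algebra.TensorProduct.map g (AlgHom.id A B) z) =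
      Algebra.TensorProduct.map μ (AlgHom.id A B)
        (Algebra.TensorProduct.map (mvC A A₁ (Fin n ⊕ Fin n)) (AlgHom.id A B) z) := by
    rw [← AlgHom.comp_apply, ← AlgHom.comp_apply, ← Algebra.TensorProduct.map_comp,
      ← Algebra.TensorProduct.map_comp, hμC]
  have h1 : (MvPolynomial.map (g : A₁ →+* A₂) (univDiff F e A₁ z)) = μ (univDiff F e A₁ z) := rfl
  rw [h1, univDiff, univDiff, map_sub, ← algRid_map, ← algRid_map, ← law_compat_map',
    ← law_compat_map', map_add, map_mul, hμX, hμW, hz]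

theorem mem_kerBC_of_univDiff_eq_zero (F : B →ₚₗ[A] A) {n : ℕ} (e : Fin n → B)
    (he : Submodule.span A (Set.range e) = ⊤) (A'' : Type u)
    [CommRing A''] [Algebra A A''] (z : A'' ⊗[A] B) (hz : univDiff F e A'' z = 0) :
    z ∈ PolLaw.kerBC F A'' := by
  classical
  rw [mem_kerBC_iff]
  intro R _ _ g x w
  obtain ⟨s, rfl⟩ := exists_sum_tmul_of_span e he R x
  obtain ⟨s', rfl⟩ := exists_sum_tmul_of_span e he R w
  let ψ : MvPolynomial (Fin n ⊕ Fin n) A'' →ₐ[A] R :=
    { MvPolynomial.eval₂Hom (g : A'' →+* R) (Sum.elim s s') with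
      commutes' := fun a => by
        show MvPolynomial.eval₂Hom (g : A'' →+* R) (Sum.elim s s')
          (algebraMap A (MvPolynomial (Fin n ⊕ Fin n) A'') a) = _
        rw [IsScalarTower.algebraMap_apply A A'' (MvPolynomial (Fin n ⊕ Fin n) A''),
          MvPolynomial.algebraMap_eq, MvPolynomial.eval₂Hom_C]
        exact g.commutes a }
  have hψX : ∀ k, ψ (MvPolynomial.X k) = Sum.elim s s' k := fun k =>
    MvPolynomial.eval₂Hom_X' _ _ _
  have hψC : ψ.comp (mvC A A'' (Fin n ⊕ Fin n)) = g := by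
    refine AlgHom.ext fun a => ?_
    show MvPolynomial.eval₂Hom (g : A'' →+* R) (Sum.elim s s') (MvPolynomial.C a) = g a
    exact MvPolynomial.eval₂Hom_C _ _ _
  have hx : Algebra.TensorProduct.map ψ (AlgHom.id A B) (univX e A'') = ∑ i, s i ⊗ₜ[A] e i := by
    rw [univX, map_sum]
    refine Finset.sum_congr rfl fun i _ => ?_
    rw [Algebra.TensorProduct.map_tmul, AlgHom.id_apply, hψX]
    rfl
  have hw : Algebra.TensorProduct.map ψ (AlgHom.id A B) (univW e A'') = ∑ i, s' i ⊗ₜ[A] e i := by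
    rw [univW, map_sum]
    refine Finset.sum_congr rfl fun i _ => ?_
    rw [Algebra.TensorProduct.map_tmul, AlgHom.id_apply, hψX]
    rfl
  rw [univDiff, sub_eq_zero] at hz
  have h1 := (Algebra.TensorProduct.rid A _ _).injective hz
  have h2 := congrArg (Algebra.TensorProduct.map ψ (AlgHom.id A A)) h1
  rw [← law_compat_map', ← law_compat_map', map_add, map_mul, hx, hw, ← AlgHom.comp_apply,
    ← Algebra.TensorProduct.map_comp, hψC, AlgHom.comp_id] at h2
  exact h2

end DL1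

end Groth.Agent.Lib.Helper25.PolLawCoeff
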