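import Groth.Agent.Lib.Helper25.PolLawQuot

/-!
# The divided power algebra of a quotient algebra

If `(C, γ)` is a universal multiplicative law of degree `d` on `P` and `I` is an ideal of `P`, then a
quotient of `C` carries a universal multiplicative law of degree `d` on `P ⧸ I`.
-/

namespace Groth.Agent.Lib.Helper25.PolLawCoeff
open scoped TensorProduct
universe u

section Exist
variable {A : Type u} [CommRing A] {P C : Type u} [CommRing P] [Algebra A P] [CommRing C]
  [Algebra A C] {d : ℕ}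

/-- the ideal of `C` generated by the coefficients of the differences
`F (x + w (1 ⊗ b)) - F x`, `b ∈ I`, over polynomial rings -/
def diffIdeal (F : P →ₚₗ[A] C) (I : Ideal P) : Ideal C :=
  Ideal.span {c | ∃ (n : ℕ) (x w : MvPolynomial (Fin n) A ⊗[A] P) (b : P) (_ : b ∈ I)
    (ν : Fin n →₀ ℕ),
    c = tc (Fin n) C (F.toFun' (MvPolynomial (Fin n) A) (x + w * (1 ⊗ₜ[A] b)) -
      F.toFun' (MvPolynomial (Fin n) A) x) ν}

theorem lTensor_mk_eq_zero {σ : Type*} (K : Ideal C) (y : MvPolynomial σ A ⊗[A] C)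
    (h : ∀ ν, tc σ C y ν ∈ K) :
    (Ideal.Quotient.mkₐ A K).toLinearMap.lTensor (MvPolynomial σ A) y = 0 := by
  rw [eq_sum_tc σ C y, map_sum]
  refine Finset.sum_eq_zero fun ν _ => ?_
  rw [LinearMap.lTensor_tmul, AlgHom.toLinearMap_apply, Ideal.Quotient.mkₐ_eq_mk,
    Ideal.Quotient.eq_zero_iff_mem.2 (h ν), TensorProduct.tmul_zero]

theorem le_ker_postcomp_mk (F : P →ₚₗ[A] C) (I : Ideal P) :
    I ≤ PolLaw.ker (PolLaw.postcomp (Ideal.Quotient.mkₐ A (diffIdeal F I)).toLinearMap F) := by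
  intro b hb
  apply mem_ker_of_forall_mvPolynomial
  intro n p q
  show (Ideal.Quotient.mkₐ A (diffIdeal F I)).toLinearMap.lTensor _ (F.toFun' _ _) =
    (Ideal.Quotient.mkₐ A (diffIdeal F I)).toLinearMap.lTensor _ (F.toFun' _ _)
  rw [← sub_eq_zero, ← map_sub]
  apply lTensor_mk_eq_zero
  intro ν
  exact Ideal.subset_span ⟨n, p, q, b, hb, ν, rfl⟩

/-- the induced multiplicative law on the quotient algebra -/
noncomputable def quotGammaLaw (γ : PolLaw.MulLaw A P C d) (I : Ideal P) :
    PolLaw.MulLaw A (P ⧸ I) (C ⧸ diffIdeal γ.law I) d :=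
  quotMulLaw (γ.postcomp (Ideal.Quotient.mkₐ A (diffIdeal γ.law I))) I
    (le_ker_postcomp_mk γ.law I)

theorem quotGammaLaw_quotT (γ : PolLaw.MulLaw A P C d) (I : Ideal P) (S : Type u)
    [CommSemiring S] [Algebra A S] (x : S ⊗[A] P) :
    (quotGammaLaw γ I).law.toFun' S (quotT I S x) =
      (Ideal.Quotient.mkₐ A (diffIdeal γ.law I)).toLinearMap.lTensor S (γ.law.toFun' S x) := by
  exact quotLaw_quotT (γ.postcomp (Ideal.Quotient.mkₐ A (diffIdeal γ.law I))).law I
    (le_ker_postcomp_mk γ.law I) S x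

theorem quotT_eq_lTensor (I : Ideal P) (S : Type u) [CommSemiring S] [Algebra A S]
    (x : S ⊗[A] P) :
    quotT I S x = (Ideal.Quotient.mkₐ A I).toLinearMap.lTensor S x := by
  rw [PolLaw.lTensor_algHom_apply]

/-- **Existence of divided power algebras of quotients.** -/
theorem isGammaD_quotGammaLaw (γ : PolLaw.MulLaw A P C d) (hγ : PolLaw.IsGammaD γ)
    (I : Ideal P) : PolLaw.IsGammaD (quotGammaLaw γ I) := by
  intro C'' _ _ G
  obtain ⟨f, hf, huniq⟩ := hγ C'' (G.precomp (Ideal.Quotient.mkₐ A I))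
  have hfS : ∀ (S : Type u) [CommSemiring S] [Algebra A S] (x : S ⊗[A] P),
      f.toLinearMap.lTensor S (γ.law.toFun' S x) = G.law.toFun' S (quotT I S x) := by
    intro S _ _ x
    have := congrArg (fun L : P →ₚₗ[A] C'' => L.toFun' S x) hf
    rw [quotT_eq_lTensor]
    exact this
  -- `f` kills the ideal
  have hK : ∀ c ∈ diffIdeal γ.law I, f c = 0 := by
    intro c hc
    have : diffIdeal γ.law I ≤ RingHom.ker f.toRingHom := by
      apply Ideal.span_le.2
      rintro _ ⟨n, x, w, b, hb, ν, rfl⟩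
      show f.toLinearMap _ = 0
      rw [← tc_lTensor, map_sub, hfS, hfS, map_add, map_mul, quotT_one_tmul,
        Ideal.Quotient.eq_zero_iff_mem.2 hb, TensorProduct.tmul_zero, mul_zero, add_zero,
        sub_self]
      rfl
    exact this hc
  let fbar : (C ⧸ diffIdeal γ.law I) →ₐ[A] C'' := Ideal.Quotient.liftₐ _ f hK
  have hfbar : fbar.comp (Ideal.Quotient.mkₐ A (diffIdeal γ.law I)) = f := by
    ext c
    rfl
  refine ⟨fbar, ?_, ?_⟩
  · ext S _ _ y
    obtain ⟨x, rfl⟩ := quotT_surjective (A := A) I S y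
    show fbar.toLinearMap.lTensor S ((quotGammaLaw γ I).law.toFun' S (quotT I S x)) = _
    rw [quotGammaLaw_quotT, ← LinearMap.comp_apply, ← LinearMap.lTensor_comp, ← hfS]
    rfl
  · intro g hg
    have h1 : PolLaw.postcomp
        (g.comp (Ideal.Quotient.mkₐ A (diffIdeal γ.law I))).toLinearMap γ.law =
        (G.precomp (Ideal.Quotient.mkₐ A I)).law := by
      ext S _ _ x
      show (g.comp (Ideal.Quotient.mkₐ A (diffIdeal γ.law I))).toLinearMap.lTensor S
        (γ.law.toFun' S x) = G.law.toFun' S ((Ideal.Quotient.mkₐ A I).toLinearMap.lTensor S x)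
      rw [← quotT_eq_lTensor, ← hg]
      show _ = g.toLinearMap.lTensor S ((quotGammaLaw γ I).law.toFun' S (quotT I S x))
      rw [quotGammaLaw_quotT, ← LinearMap.comp_apply, ← LinearMap.lTensor_comp]
      rfl
    have h2 := huniq _ h1
    apply AlgHom.ext
    intro c
    obtain ⟨c, rfl⟩ := Ideal.Quotient.mk_surjective c
    have h3 : g (Ideal.Quotient.mk _ c) = f c := by
      rw [← h2]; rfl
    rw [h3]
    rfl

end Exist

section Unique
variable {A : Type u} [CommRing A] {B B' C C' : Type u} [CommRing B] [Algebra A B] [CommRing B']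
  [Algebra A B'] [CommRing C] [Algebra A C] [CommRing C'] [Algebra A C'] {d : ℕ}

theorem lTensor_symm_apply (e : B' ≃ₐ[A] B) (S : Type u) [CommSemiring S] [Algebra A S]
    (x : S ⊗[A] B) :
    e.toAlgHom.toLinearMap.lTensor S (e.symm.toAlgHom.toLinearMap.lTensor S x) = x := by
  rw [← LinearMap.comp_apply, ← LinearMap.lTensor_comp]
  have : e.toAlgHom.toLinearMap ∘ₗ e.symm.toAlgHom.toLinearMap = LinearMap.id := by
    ext b
    simp
  rw [this, LinearMap.lTensor_id, LinearMap.id_apply]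

/-- two universal multiplicative laws on isomorphic algebras have isomorphic targets -/
theorem nonempty_algEquiv_of_isGammaD (γ : PolLaw.MulLaw A B C d) (hγ : PolLaw.IsGammaD γ)
    (γ' : PolLaw.MulLaw A B' C' d) (hγ' : PolLaw.IsGammaD γ') (e : B' ≃ₐ[A] B) :
    Nonempty (C' ≃ₐ[A] C) := by
  obtain ⟨φ, hφ, -⟩ := hγ' C (γ.precomp e.toAlgHom)
  obtain ⟨ψ, hψ, -⟩ := hγ C' (γ'.precomp e.symm.toAlgHom)
  have hφS : ∀ (S : Type u) [CommSemiring S] [Algebra A S] (x : S ⊗[A] B'),
      φ.toLinearMap.lTensor S (γ'.law.toFun' S x) =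
        γ.law.toFun' S (e.toAlgHom.toLinearMap.lTensor S x) := by
    intro S _ _ x
    exact congrArg (fun L : B' →ₚₗ[A] C => L.toFun' S x) hφ
  have hψS : ∀ (S : Type u) [CommSemiring S] [Algebra A S] (x : S ⊗[A] B),
      ψ.toLinearMap.lTensor S (γ.law.toFun' S x) =
        γ'.law.toFun' S (e.symm.toAlgHom.toLinearMap.lTensor S x) := by
    intro S _ _ x
    exact congrArg (fun L : B →ₚₗ[A] C' => L.toFun' S x) hψ
  have h1 : φ.comp ψ = AlgHom.id A C := by
    refine (hγ C γ).unique ?_ ?_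
    · ext S _ _ x
      show (φ.comp ψ).toLinearMap.lTensor S (γ.law.toFun' S x) = _
      have : (φ.comp ψ).toLinearMap = φ.toLinearMap ∘ₗ ψ.toLinearMap := rfl
      rw [this, LinearMap.lTensor_comp, LinearMap.comp_apply, hψS, hφS, lTensor_symm_apply]
    · ext S _ _ x
      show (AlgHom.id A C).toLinearMap.lTensor S (γ.law.toFun' S x) = _
      have : (AlgHom.id A C).toLinearMap = LinearMap.id := rfl
      rw [this, LinearMap.lTensor_id, LinearMap.id_apply]
  have h2 : ψ.comp φ = AlgHom.id A C' := by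
    refine (hγ' C' γ').unique ?_ ?_
    · ext S _ _ x
      show (ψ.comp φ).toLinearMap.lTensor S (γ'.law.toFun' S x) = _
      have : (ψ.comp φ).toLinearMap = ψ.toLinearMap ∘ₗ φ.toLinearMap := rfl
      rw [this, LinearMap.lTensor_comp, LinearMap.comp_apply, hφS, hψS]
      have := lTensor_symm_apply e.symm S x
      rw [AlgEquiv.symm_symm] at this
      rw [this]
    · ext S _ _ x
      show (AlgHom.id A C').toLinearMap.lTensor S (γ'.law.toFun' S x) = _
      have : (AlgHom.id A C').toLinearMap = LinearMap.id := rfl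
      rw [this, LinearMap.lTensor_id, LinearMap.id_apply]
  exact ⟨AlgEquiv.ofAlgHom φ ψ h1 h2⟩

end Unique

end Groth.Agent.Lib.Helper25.PolLawCoeff
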