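import Groth.Agent.Lib.Helper25.PolLawBCG
import Groth.Agent.Lib.Helper25.PolLawExist
import Groth.Agent.S13873

/-!
# The determinant law over a normal base
-/

set_option autoImplicit false
set_option linter.style.haveILetI false
universe u
open scoped TensorProduct

namespace Groth.Agent.Lib.Helper25.PolLawCoeff

section GExist
variable {A : Type u} [CommRing A] {B B' C : Type u} [CommRing B] [Algebra A B] [CommRing B']
  [Algebra A B'] [CommRing C] [Algebra A C] {d : ℕ}

/-- transport of the universal property along an isomorphism of the source -/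
theorem isGammaD_precomp_algEquiv (e : B ≃ₐ[A] B') (γ : PolLaw.MulLaw A B' C d)
    (hγ : PolLaw.IsGammaD γ) : PolLaw.IsGammaD (γ.precomp (e : B →ₐ[A] B')) := by
  intro C' _ _ F
  obtain ⟨f, hf, huniq⟩ := hγ C' (F.precomp (e.symm : B' →ₐ[A] B))
  have hinv : ∀ (S : Type u) [CommSemiring S] [Algebra A S] (y : S ⊗[A] B),
      (e.symm : B' →ₐ[A] B).toLinearMap.lTensor S ((e : B →ₐ[A] B').toLinearMap.lTensor S y) = y := by
    intro S _ _ y
    rw [← LinearMap.comp_apply, ← LinearMap.lTensor_comp]
    have : (e.symm : B' →ₐ[A] B).toLinearMap ∘ₗ (e : B →ₐ[A] B').toLinearMap = LinearMap.id := by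
      ext b
      simp
    rw [this, LinearMap.lTensor_id]
    rfl
  have hinv' : ∀ (S : Type u) [CommSemiring S] [Algebra A S] (y : S ⊗[A] B'),
      (e : B →ₐ[A] B').toLinearMap.lTensor S ((e.symm : B' →ₐ[A] B).toLinearMap.lTensor S y) = y := by
    intro S _ _ y
    rw [← LinearMap.comp_apply, ← LinearMap.lTensor_comp]
    have : (e : B →ₐ[A] B').toLinearMap ∘ₗ (e.symm : B' →ₐ[A] B).toLinearMap = LinearMap.id := by
      ext b
      simp
    rw [this, LinearMap.lTensor_id]
    rfl
  refine ⟨f, ?_, ?_⟩
  · ext S _ _ y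
    have := congrArg (fun G : B' →ₚₗ[A] C' =>
      G.toFun' S ((e : B →ₐ[A] B').toLinearMap.lTensor S y)) hf
    show f.toLinearMap.lTensor S (γ.law.toFun' S ((e : B →ₐ[A] B').toLinearMap.lTensor S y)) = _
    refine this.trans ?_
    show F.law.toFun' S ((e.symm : B' →ₐ[A] B).toLinearMap.lTensor S _) = _
    rw [hinv]
  · intro g hg
    apply huniq
    ext S _ _ y'
    have := congrArg (fun G : B →ₚₗ[A] C' =>
      G.toFun' S ((e.symm : B' →ₐ[A] B).toLinearMap.lTensor S y')) hg
    show g.toLinearMap.lTensor S (γ.law.toFun' S y') =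
      F.law.toFun' S ((e.symm : B' →ₐ[A] B).toLinearMap.lTensor S y')
    refine Eq.trans ?_ this
    show _ = g.toLinearMap.lTensor S (γ.law.toFun' S
      ((e : B →ₐ[A] B').toLinearMap.lTensor S ((e.symm : B' →ₐ[A] B).toLinearMap.lTensor S y')))
    rw [hinv']

variable (A B d) in
/-- **Existence of divided power algebras.** -/
theorem exists_isGammaD : ∃ (C : Type u) (_ : CommRing C) (_ : Algebra A C)
    (γ : PolLaw.MulLaw A B C d), PolLaw.IsGammaD γ := by
  obtain ⟨τ, -, hτ⟩ := Groth.Agent.S13873.result (A := A) (B := MvPolynomial B A) d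
    (Or.inl inferInstance)
  let π : MvPolynomial B A →ₐ[A] B := MvPolynomial.aeval id
  have hπ : Function.Surjective π := fun b => ⟨MvPolynomial.X b, by simp [π]⟩
  let e : (MvPolynomial B A ⧸ RingHom.ker (π : MvPolynomial B A →+* B)) ≃ₐ[A] B :=
    Ideal.quotientKerAlgEquivOfSurjective hπ
  have h1 := isGammaD_quotGammaLaw τ hτ (RingHom.ker (π : MvPolynomial B A →+* B))
  exact ⟨_, inferInstance, inferInstance, _, isGammaD_precomp_algEquiv e.symm _ h1⟩

end GExist
section DetInt

/-- the determinant of an endomorphism annihilated by a monic polynomial with integral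
coefficients is integral -/
theorem isIntegralElem_det {R : Type*} [CommRing R] {L : Type*} [Field L] (ρ : R →+* L)
    {V : Type*} [AddCommGroup V] [Module L V] [FiniteDimensional L V] (f : Module.End L V)
    (P : Polynomial R) (hP : P.Monic) (h : Polynomial.aeval f (P.map ρ) = 0) :
    ρ.IsIntegralElem (LinearMap.det f) := by
  classical
  let Ω := AlgebraicClosure L
  let j : L →+* Ω := algebraMap L Ω
  apply RingHom.IsIntegralElem.of_map (g := j) (algebraMap L Ω).injective
  set fΩ : Module.End Ω (Ω ⊗[L] V) := f.baseChange Ω with hfΩ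
  have hdet : j (LinearMap.det f) = LinearMap.det fΩ := (LinearMap.det_baseChange f).symm
  rw [hdet, Module.End.det_eq_prod_roots_charpoly_of_splits (IsAlgClosed.splits _)]
  -- the annihilating polynomial over `Ω`
  have hann : Polynomial.aeval fΩ (P.map (j.comp ρ)) = 0 := by
    have h1 : P.map (j.comp ρ) = (P.map ρ).map (algebraMap L Ω) := by
      rw [Polynomial.map_map]
    rw [h1, Polynomial.aeval_map_algebraMap]
    have h2 : fΩ = Module.End.baseChangeHom L Ω V f := rfl
    rw [h2, Polynomial.aeval_algHom_apply, h, map_zero]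
  -- every root is integral
  suffices hroots : ∀ μ ∈ fΩ.charpoly.roots, (j.comp ρ).IsIntegralElem μ by
    revert hroots
    generalize fΩ.charpoly.roots = s
    induction s using Multiset.induction_on with
    | empty => intro _; rw [Multiset.prod_zero]; exact RingHom.isIntegralElem_one _
    | cons a s ih =>
      intro hs
      rw [Multiset.prod_cons]
      exact RingHom.IsIntegralElem.mul _ (hs a (Multiset.mem_cons_self a s))
        (ih fun μ hμ => hs μ (Multiset.mem_cons_of_mem hμ))
  intro μ hμ
  have hroot : fΩ.charpoly.IsRoot μ := (Polynomial.mem_roots'.1 hμ).2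
  have heig : fΩ.HasEigenvalue μ := (Module.End.hasEigenvalue_iff_isRoot_charpoly fΩ μ).2 hroot
  obtain ⟨v, hv⟩ := heig.exists_hasEigenvector
  refine ⟨P, hP, ?_⟩
  have h3 := Module.End.aeval_apply_of_hasEigenvector (p := P.map (j.comp ρ)) hv
  rw [hann, LinearMap.zero_apply] at h3
  have h4 : (P.map (j.comp ρ)).eval μ = 0 := by
    rcases smul_eq_zero.1 h3.symm with h5 | h5
    · exact h5
    · exact absurd h5 hv.2
  rwa [Polynomial.eval_map] at h4

end DetInt

section Ann
variable {A : Type u} [CommRing A] {B : Type u} [CommRing B] [Algebra A B]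
  (M : Type u) [AddCommGroup M] [Module A M] [Module B M] [IsScalarTower A B M]
  [Module.Finite A M]

/-- a monic polynomial annihilating the action of `x` after any change of the test algebra -/
theorem exists_monic_aeval_actEnd_eq_zero {R L : Type u} [CommRing R] [Algebra A R] [CommRing L]
    [Algebra A L] (ψ : R →ₐ[A] L) (x : R ⊗[A] B) :
    ∃ P : Polynomial R, P.Monic ∧
      Polynomial.aeval (PolLaw.actEnd M L (Algebra.TensorProduct.map ψ (AlgHom.id A B) x))
        (P.map (ψ : R →+* L)) = 0 := by
  have hint : IsIntegral R (PolLaw.actEnd M R x) := Algebra.IsIntegral.isIntegral _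
  obtain ⟨P, hP, hP0⟩ := hint
  refine ⟨P, hP, ?_⟩
  set w : R ⊗[A] B := Polynomial.aeval x P with hw
  have hw0 : PolLaw.actEnd M R w = 0 := by
    rw [hw, ← Polynomial.aeval_algHom_apply]
    exact hP0
  have hmap : Algebra.TensorProduct.map ψ (AlgHom.id A B) w =
      Polynomial.aeval (Algebra.TensorProduct.map ψ (AlgHom.id A B) x) (P.map (ψ : R →+* L)) := by
    rw [hw, Polynomial.aeval_def, Polynomial.aeval_def, Polynomial.eval₂_map]
    have := Polynomial.hom_eval₂ P (algebraMap R (R ⊗[A] B))
      (Algebra.TensorProduct.map ψ (AlgHom.id A B) : R ⊗[A] B →+* L ⊗[A] B) x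
    rw [RingHom.coe_coe] at this
    rw [this]
    congr 1
  have h3 : PolLaw.actEnd M L (Algebra.TensorProduct.map ψ (AlgHom.id A B) w) = 0 := by
    apply LinearMap.ext
    intro v
    induction v using TensorProduct.induction_on with
    | zero => simp
    | tmul l m =>
      have h4 : l ⊗ₜ[A] m = l • ψ.toLinearMap.rTensor M ((1 : R) ⊗ₜ[A] m) := by
        rw [LinearMap.rTensor_tmul, AlgHom.toLinearMap_apply, map_one, TensorProduct.smul_tmul',
          smul_eq_mul, mul_one]
      rw [h4, map_smul, ← PolLaw.rTensor_actEnd, hw0, LinearMap.zero_apply, map_zero, smul_zero,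
        LinearMap.zero_apply]
    | add v v' hv hv' => rw [map_add, hv, hv']; simp
  rw [Polynomial.aeval_algHom_apply, ← hmap, h3]

end Ann

section DetK
variable {A : Type u} [CommRing A] {B : Type u} [CommRing B] [Algebra A B]
  (M : Type u) [AddCommGroup M] [Module A M] [Module B M] [IsScalarTower A B M]
  (K : Type u) [CommRing K] [Algebra A K]

/-- the `K ⊗ B`-module structure on `K ⊗ M` -/
@[reducible] noncomputable def bcModule : Module (K ⊗[A] B) (K ⊗[A] M) :=
  Module.compHom (K ⊗[A] M)
    (PolLaw.actEnd M K : K ⊗[A] B →ₐ[K] Module.End K (K ⊗[A] M)).toRingHom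

theorem bcModule_smul (x : K ⊗[A] B) (v : K ⊗[A] M) :
    letI := bcModule (A := A) (B := B) M K
    x • v = PolLaw.actEnd M K x v := rfl

theorem bcModule_tower :
    letI := bcModule (A := A) (B := B) M K
    IsScalarTower K (K ⊗[A] B) (K ⊗[A] M) := by
  letI := bcModule (A := A) (B := B) M K
  refine ⟨fun c x v => ?_⟩
  show PolLaw.actEnd M K (c • x) v = c • PolLaw.actEnd M K x v
  rw [map_smul]
  rfl

variable (L : Type u) [CommRing L] [Algebra A L] [Algebra K L] [IsScalarTower A K L]

theorem cancel_actEnd (z : L ⊗[K] (K ⊗[A] B)) (v : L ⊗[K] (K ⊗[A] M)) :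
    letI := bcModule (A := A) (B := B) M K
    haveI := bcModule_tower (A := A) (B := B) M K
    TensorProduct.AlgebraTensorModule.cancelBaseChange A K L L M
        (PolLaw.actEnd (K ⊗[A] M) L z v) =
      PolLaw.actEnd M L (Algebra.TensorProduct.cancelBaseChange A K L L B z)
        (TensorProduct.AlgebraTensorModule.cancelBaseChange A K L L M v) := by
  letI := bcModule (A := A) (B := B) M K
  haveI := bcModule_tower (A := A) (B := B) M K
  induction z using TensorProduct.induction_on with
  | zero => simp
  | add z z' hz hz' => simp only [map_add, LinearMap.add_apply, hz, hz']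
  | tmul l t =>
    induction t using TensorProduct.induction_on with
    | zero => simp
    | add t t' ht ht' =>
      simp only [TensorProduct.tmul_add, map_add, LinearMap.add_apply, ht, ht']
    | tmul c b =>
      induction v using TensorProduct.induction_on with
      | zero => simp
      | add v v' hv hv' => simp only [map_add, hv, hv']
      | tmul l' t' =>
        induction t' using TensorProduct.induction_on with
        | zero => simp
        | add t t' ht ht' => simp only [TensorProduct.tmul_add, map_add, ht, ht']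
        | tmul c' m =>
          rw [PolLaw.actEnd_tmul_tmul, bcModule_smul, PolLaw.actEnd_tmul_tmul,
            TensorProduct.AlgebraTensorModule.cancelBaseChange_tmul,
            TensorProduct.AlgebraTensorModule.cancelBaseChange_tmul,
            Algebra.TensorProduct.cancelBaseChange_tmul, PolLaw.actEnd_tmul_tmul,
            smul_mul_smul_comm]

theorem det_actEnd_cancel (z : L ⊗[K] (K ⊗[A] B)) :
    letI := bcModule (A := A) (B := B) M K
    haveI := bcModule_tower (A := A) (B := B) M K
    LinearMap.det (PolLaw.actEnd (K ⊗[A] M) L z) =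
      LinearMap.det (PolLaw.actEnd M L (Algebra.TensorProduct.cancelBaseChange A K L L B z)) := by
  letI := bcModule (A := A) (B := B) M K
  haveI := bcModule_tower (A := A) (B := B) M K
  have h : PolLaw.actEnd M L (Algebra.TensorProduct.cancelBaseChange A K L L B z) =
      (TensorProduct.AlgebraTensorModule.cancelBaseChange A K L L M).toLinearMap ∘ₗ
        (PolLaw.actEnd (K ⊗[A] M) L z) ∘ₗ
        (TensorProduct.AlgebraTensorModule.cancelBaseChange A K L L M).symm.toLinearMap := by
    apply LinearMap.ext
    intro v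
    simp only [LinearMap.comp_apply, LinearEquiv.coe_coe]
    rw [cancel_actEnd, LinearEquiv.apply_symm_apply]
  rw [h, LinearMap.det_conj]

variable [Module.Free K (K ⊗[A] M)] [Module.Finite K (K ⊗[A] M)]

/-- the determinant law over `K` of `K ⊗ B` acting on the free module `K ⊗ M` -/
noncomputable def detLawK (d : ℕ) (hd : Module.finrank K (K ⊗[A] M) = d) :
    PolLaw.MulLaw K (K ⊗[A] B) K d :=
  letI := bcModule (A := A) (B := B) M K
  haveI := bcModule_tower (A := A) (B := B) M K
  PolLaw.detLaw d hd

theorem detLawK_toFun' (d : ℕ) (hd : Module.finrank K (K ⊗[A] M) = d)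
    (z : L ⊗[K] (K ⊗[A] B)) :
    (detLawK (A := A) (B := B) M K d hd).law.toFun' L z =
      LinearMap.det (PolLaw.actEnd M L (Algebra.TensorProduct.cancelBaseChange A K L L B z))
        ⊗ₜ[K] (1 : K) := by
  letI := bcModule (A := A) (B := B) M K
  haveI := bcModule_tower (A := A) (B := B) M K
  show PolLaw.detFun K (K ⊗[A] B) (K ⊗[A] M) L z = _
  rw [PolLaw.detFun_eq_detAct, PolLaw.detAct, det_actEnd_cancel]

end DetK
section EV
variable {A : Type u} [CommRing A] {B : Type u} [CommRing B] [Algebra A B]
  (M : Type u) [AddCommGroup M] [Module A M] [Module B M] [IsScalarTower A B M]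
  (K : Type u) [CommRing K] [Algebra A K]
  [Module.Free K (K ⊗[A] M)] [Module.Finite K (K ⊗[A] M)]
  {C : Type u} [CommRing C] [Algebra A C] {d : ℕ}

/-- the `A`-algebra map `C → K` induced by a `K`-algebra map `K ⊗ C → K` -/
noncomputable def restrictHom (φ : K ⊗[A] C →ₐ[K] K) : C →ₐ[A] K :=
  (φ.restrictScalars A).comp Algebra.TensorProduct.includeRight

theorem restrictHom_apply (φ : K ⊗[A] C →ₐ[K] K) (c : C) :
    restrictHom K φ c = φ ((1 : K) ⊗ₜ[A] c) := rfl

variable (L : Type u) [CommRing L] [Algebra A L] [Algebra K L] [IsScalarTower A K L]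

theorem rid_lTensor_cancel_symm (φ : K ⊗[A] C →ₐ[K] K) (w : L ⊗[A] C) :
    Algebra.TensorProduct.rid K L L (φ.toLinearMap.lTensor L
      ((Algebra.TensorProduct.cancelBaseChange A K L L C).symm w)) =
      evalAt ((IsScalarTower.toAlgHom A K L).comp (restrictHom K φ)) w := by
  induction w using TensorProduct.induction_on with
  | zero => simp
  | add x y hx hy => simp only [map_add, hx, hy]
  | tmul l c =>
    rw [Algebra.TensorProduct.cancelBaseChange_symm_tmul, LinearMap.lTensor_tmul,
      Algebra.TensorProduct.rid_tmul, evalAt_tmul, AlgHom.comp_apply, restrictHom_apply,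
      IsScalarTower.coe_toAlgHom', Algebra.smul_def, mul_comm]
    rfl

/-- **The evaluation formula**: the universal law followed by the restricted classifying map
computes the determinant of the action over every `K`-algebra. -/
theorem evalAt_restrictHom_eq_det (γ : PolLaw.MulLaw A B C d)
    (hd : Module.finrank K (K ⊗[A] M) = d) (φ : K ⊗[A] C →ₐ[K] K)
    (hφ : PolLaw.postcomp φ.toLinearMap (bcgMulLaw K γ).law =
      (detLawK (A := A) (B := B) M K d hd).law) (y : L ⊗[A] B) :
    evalAt ((IsScalarTower.toAlgHom A K L).comp (restrictHom K φ)) (γ.law.toFun' L y) =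
      LinearMap.det (PolLaw.actEnd M L y) := by
  have h := congrArg (fun G : (K ⊗[A] B) →ₚₗ[K] K =>
    G.toFun' L ((Algebra.TensorProduct.cancelBaseChange A K L L B).symm y)) hφ
  rw [detLawK_toFun', AlgEquiv.apply_symm_apply] at h
  have h2 : (PolLaw.postcomp φ.toLinearMap (bcgMulLaw K γ).law).toFun' L
      ((Algebra.TensorProduct.cancelBaseChange A K L L B).symm y) =
      φ.toLinearMap.lTensor L ((Algebra.TensorProduct.cancelBaseChange A K L L C).symm
        (γ.law.toFun' L y)) := by
    show φ.toLinearMap.lTensor L ((bcgLaw K γ.law).toFun' L _) = _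
    rw [bcgLaw_toFun', AlgEquiv.apply_symm_apply]
  rw [h2] at h
  have h3 := congrArg (Algebra.TensorProduct.rid K L L) h
  rw [rid_lTensor_cancel_symm, Algebra.TensorProduct.rid_tmul, one_smul] at h3
  exact h3

end EV

section CoeffInt
variable {A : Type u} [CommRing A] [IsDomain A] [IsIntegrallyClosed A] {B : Type u} [CommRing B]
  [Algebra A B]
  (M : Type u) [AddCommGroup M] [Module A M] [Module B M] [IsScalarTower A B M]
  [Module.Finite A M]
  (K : Type u) [Field K] [Algebra A K] [IsFractionRing A K]
  {C : Type u} [CommRing C] [Algebra A C] {d : ℕ}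

attribute [local instance] MvPolynomial.algebraMvPolynomial in
theorem restrictHom_coeff_mem_range (γ : PolLaw.MulLaw A B C d)
    (hd : Module.finrank K (K ⊗[A] M) = d) (φ : K ⊗[A] C →ₐ[K] K)
    (hφ : PolLaw.postcomp φ.toLinearMap (bcgMulLaw K γ).law =
      (detLawK (A := A) (B := B) M K d hd).law)
    {σ : Type u} (m : σ → B) (I : Finset σ) (ν : σ →₀ ℕ) :
    restrictHom K φ (coeff γ.law m I ν) ∈ (algebraMap A K).range := by
  classical
  let R := MvPolynomial σ A
  let R' := MvPolynomial σ K
  let L' := FractionRing R'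
  let ψ₁ : R →ₐ[A] R' := MvPolynomial.mapAlgHom (Algebra.ofId A K)
  let ψ₂ : R' →ₐ[A] L' := IsScalarTower.toAlgHom A R' L'
  let ψ : R →ₐ[A] L' := ψ₂.comp ψ₁
  set y : R ⊗[A] B := gen m I with hy
  set a := coeff γ.law m I with ha
  set w : R ⊗[A] C := γ.law.toFun' R y with hw
  -- integrality of the determinant
  obtain ⟨P, hP, hann⟩ := exists_monic_aeval_actEnd_eq_zero M ψ y
  have hint := isIntegralElem_det (ψ : R →+* L') _ P hP hann
  -- the evaluation formula
  have hEV := evalAt_restrictHom_eq_det M K L' γ hd φ hφ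
    (Algebra.TensorProduct.map ψ (AlgHom.id A B) y)
  rw [law_compat_map', ← hw] at hEV
  -- the polynomial
  set g : R' := ∑ μ ∈ a.support, MvPolynomial.monomial μ (restrictHom K φ (a μ)) with hg
  have hwsum : w = ∑ μ ∈ a.support, MvPolynomial.monomial μ (1 : A) ⊗ₜ[A] a μ := eq_sum_tc σ C w
  have hgL : evalAt ((IsScalarTower.toAlgHom A K L').comp (restrictHom K φ))
      (Algebra.TensorProduct.map ψ (AlgHom.id A C) w) = algebraMap R' L' g := by
    rw [hwsum, map_sum, map_sum, hg, map_sum]
    refine Finset.sum_congr rfl fun μ _ => ?_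
    rw [Algebra.TensorProduct.map_tmul, evalAt_tmul, AlgHom.id_apply]
    have e1 : ((IsScalarTower.toAlgHom A K L').comp (restrictHom K φ)) (a μ) =
        algebraMap R' L' (MvPolynomial.C (restrictHom K φ (a μ))) := by
      rw [AlgHom.comp_apply, IsScalarTower.coe_toAlgHom', IsScalarTower.algebraMap_apply K R' L',
        MvPolynomial.algebraMap_eq]
    have e2 : ψ₁ (MvPolynomial.monomial μ (1 : A)) = MvPolynomial.monomial μ (1 : K) := by
      show (MvPolynomial.mapAlgHom (Algebra.ofId A K)) (MvPolynomial.monomial μ (1 : A)) = _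
      rw [MvPolynomial.mapAlgHom_apply]
      simp [MvPolynomial.map_monomial]
    have e3 : ψ (MvPolynomial.monomial μ (1 : A)) =
        algebraMap R' L' (ψ₁ (MvPolynomial.monomial μ (1 : A))) := rfl
    rw [e1, e3, e2, ← map_mul]
    congr 1
    rw [MvPolynomial.C_apply, MvPolynomial.monomial_mul, add_zero, one_mul]
  rw [hgL] at hEV
  rw [← hEV] at hint
  have hint2 : (ψ₁ : R →+* R').IsIntegralElem g :=
    RingHom.IsIntegralElem.of_map (f := (ψ₁ : R →+* R')) (g := (ψ₂ : R' →+* L'))
      (IsFractionRing.injective R' L') hint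
  have hint3 : IsIntegral (MvPolynomial σ A) g := hint2
  have hcoef := MvPolynomial.isIntegral_iff_isIntegral_coeff.1 hint3 ν
  have hgν : g.coeff ν = restrictHom K φ (a ν) := by
    rw [hg, MvPolynomial.coeff_sum]
    simp only [MvPolynomial.coeff_monomial]
    rw [Finset.sum_ite_eq' a.support ν]
    split_ifs with h
    · rfl
    · rw [Finsupp.notMem_support_iff.1 h, map_zero]
  rw [hgν] at hcoef
  obtain ⟨r, hr⟩ := IsIntegrallyClosed.isIntegral_iff.1 hcoef
  exact ⟨r, hr⟩

end CoeffInt
section Descend
variable {A : Type u} [CommRing A] (K : Type u) [CommRing K] [Algebra A K]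
  {C : Type u} [CommRing C] [Algebra A C]

/-- an algebra map into `K` with values in the image of `A` descends to `A` -/
noncomputable def descendHom (hinj : Function.Injective (algebraMap A K)) (ε : C →ₐ[A] K)
    (h : ∀ c, ε c ∈ (algebraMap A K).range) : C →ₐ[A] A :=
  ((Algebra.botEquivOfInjective hinj : (⊥ : Subalgebra A K) ≃ₐ[A] A) : _ →ₐ[A] A).comp
    (ε.codRestrict ⊥ (fun c => Algebra.mem_bot.2 (h c)))

theorem algebraMap_descendHom (hinj : Function.Injective (algebraMap A K)) (ε : C →ₐ[A] K)
    (h : ∀ c, ε c ∈ (algebraMap A K).range) (c : C) :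
    algebraMap A K (descendHom K hinj ε h c) = ε c := by
  set x : (⊥ : Subalgebra A K) := ε.codRestrict ⊥ (fun c => Algebra.mem_bot.2 (h c)) c with hx
  have h1 : descendHom K hinj ε h c = Algebra.botEquivOfInjective hinj x := rfl
  have h2 : (Algebra.botEquivOfInjective hinj).symm (Algebra.botEquivOfInjective hinj x) = x :=
    AlgEquiv.symm_apply_apply _ _
  have h3 : ((Algebra.botEquivOfInjective hinj).symm (Algebra.botEquivOfInjective hinj x) : K) =
      algebraMap A K (Algebra.botEquivOfInjective hinj x) := rfl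
  rw [h1, ← h3, h2]
  rfl

end Descend

section Main
variable {A : Type u} [CommRing A] [IsDomain A] [IsIntegrallyClosed A] {B : Type u} [CommRing B]
  [Algebra A B]
  (M : Type u) [AddCommGroup M] [Module A M] [Module B M] [IsScalarTower A B M]
  [Module.Finite A M]
  (K : Type u) [Field K] [Algebra A K] [IsFractionRing A K]
  {C : Type u} [CommRing C] [Algebra A C] {d : ℕ}

theorem restrictHom_mem_range (γ : PolLaw.MulLaw A B C d) (hγ : PolLaw.IsGammaD γ)
    (hd : Module.finrank K (K ⊗[A] M) = d) (φ : K ⊗[A] C →ₐ[K] K)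
    (hφ : PolLaw.postcomp φ.toLinearMap (bcgMulLaw K γ).law =
      (detLawK (A := A) (B := B) M K d hd).law) (c : C) :
    restrictHom K φ c ∈ (algebraMap A K).range := by
  have hc : c ∈ coeffSpan γ.law := by rw [coeffSpan_eq_top γ hγ]; trivial
  refine Submodule.span_induction
    (p := fun c _ => restrictHom K φ c ∈ (algebraMap A K).range) ?_ ?_ ?_ ?_ hc
  · rintro _ ⟨σ, m, I, ν, rfl⟩
    exact restrictHom_coeff_mem_range M K γ hd φ hφ m I ν
  · rw [map_zero]; exact zero_mem _
  · intro x y _ _ hx hy
    rw [map_add]; exact add_mem hx hy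
  · intro a x _ hx
    rw [map_smul, Algebra.smul_def]
    exact mul_mem ⟨a, rfl⟩ hx

/-- **Existence of the determinant law over a normal base.** -/
theorem exists_detLaw_normal (hd : Module.finrank K (K ⊗[A] M) = d) :
    ∃ N : PolLaw.MulLaw A B A d, ∀ (R L : Type u) [CommRing R] [Algebra A R] [CommRing L]
      [Algebra A L] [Algebra K L] [IsScalarTower A K L] (ψ : R →ₐ[A] L) (x : R ⊗[A] B),
      ψ (TensorProduct.rid A R (N.law.toFun' R x)) =
        LinearMap.det (PolLaw.actEnd M L (Algebra.TensorProduct.map ψ (AlgHom.id A B) x)) := by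
  obtain ⟨C, _, _, γ, hγ⟩ := exists_isGammaD A B d
  have hγK := isGammaD_bcgMulLaw K γ hγ
  obtain ⟨φ, hφ, -⟩ := hγK K (detLawK (A := A) (B := B) M K d hd)
  have hrange := restrictHom_mem_range M K γ hγ hd φ hφ
  let φ₀ : C →ₐ[A] A := descendHom K (IsFractionRing.injective A K) (restrictHom K φ) hrange
  refine ⟨γ.postcomp φ₀, ?_⟩
  intro R L _ _ _ _ _ _ ψ x
  show ψ (TensorProduct.rid A R (φ₀.toLinearMap.lTensor R (γ.law.toFun' R x))) = _
  rw [rid_lTensor_eq_evalAt, evalAt_comp_map, ← law_compat_map',
    ← evalAt_restrictHom_eq_det M K L γ hd φ hφ]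
  congr 2
  ext c
  simp only [AlgHom.comp_apply, Algebra.ofId_apply, AlgHom.commutes, IsScalarTower.coe_toAlgHom']
  rw [IsScalarTower.algebraMap_apply A K L]
  congr 1
  exact algebraMap_descendHom K _ _ hrange c

end Main

end Groth.Agent.Lib.Helper25.PolLawCoeff
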