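import Groth.Agent.Lib.Helper25.PolLawBC

set_option autoImplicit false
universe u
open scoped TensorProduct

namespace Groth.Agent.Lib.Helper25.PolLawCoeff

section Desc
variable {A : Type u} [CommRing A] {B : Type u} [CommRing B] [Algebra A B]

/-- faithfully flat descent for the kernel: if `1 ⊗ b` lies in the kernel of the base change to a
faithfully flat algebra, then `b` lies in the kernel. -/
theorem mem_ker_of_one_tmul_mem_kerBC (F : B →ₚₗ[A] A) (T : Type u) [CommRing T] [Algebra A T]
    [Module.FaithfullyFlat A T] (b : B) (h : (1 : T) ⊗ₜ[A] b ∈ PolLaw.kerBC F T) :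
    b ∈ PolLaw.ker F := by
  classical
  apply mem_ker_of_forall_mvPolynomial
  intro k p q
  rw [mem_kerBC_iff] at h
  let S := MvPolynomial (Fin k) A
  let R := T ⊗[A] S
  let gT : T →ₐ[A] R := Algebra.TensorProduct.includeLeft
  let jS : S →ₐ[A] R := Algebra.TensorProduct.includeRight
  have h1 := h R gT (Algebra.TensorProduct.map jS (AlgHom.id A B) p)
    (Algebra.TensorProduct.map jS (AlgHom.id A B) q)
  have h2 : Algebra.TensorProduct.map gT (AlgHom.id A B) ((1 : T) ⊗ₜ[A] b) =
      Algebra.TensorProduct.map jS (AlgHom.id A B) ((1 : S) ⊗ₜ[A] b) := by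
    rw [Algebra.TensorProduct.map_tmul, Algebra.TensorProduct.map_tmul, map_one, map_one]
  rw [h2, ← map_mul, ← map_add, law_compat_map', law_compat_map'] at h1
  have h3 := congrArg (Algebra.TensorProduct.rid A R R) h1
  rw [algRid_map, algRid_map] at h3
  have hinj : Function.Injective jS := by
    have := Module.FaithfullyFlat.tensorProduct_mk_injective (A := A) (B := T) S
    exact this
  exact (Algebra.TensorProduct.rid A S S).injective (hinj h3)

end Desc


section Et1
variable {A : Type u} [CommRing A]
open Polynomial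

/-- over a ring where a separable polynomial splits, the differences of the roots are units -/
theorem isUnit_root_sub_root {T : Type u} [CommRing T] [Algebra A T] (g : Polynomial A)
    (hsep : g.Separable) {n : ℕ} (α : Fin n → T)
    (hα : g.map (algebraMap A T) = ∏ i, (X - C (α i))) (i j : Fin n) (hij : i ≠ j) :
    IsUnit (α i - α j) := by
  classical
  obtain ⟨a, b, hab⟩ := hsep
  set h : Polynomial T := ∏ k ∈ Finset.univ.erase i, (X - C (α k)) with hh
  have hg : g.map (algebraMap A T) = (X - C (α i)) * h := by
    rw [hα, hh, Finset.mul_prod_erase _ (fun k => (X - C (α k) : Polynomial T)) (Finset.mem_univ i)]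
  have hg0 : (g.map (algebraMap A T)).eval (α i) = 0 := by
    rw [hg, eval_mul, eval_sub, eval_X, eval_C, sub_self, zero_mul]
  have hg' : (derivative (g.map (algebraMap A T))).eval (α i) = h.eval (α i) := by
    rw [hg, derivative_mul, eval_add, eval_mul, eval_mul, eval_sub, eval_X, eval_C, sub_self,
      zero_mul, add_zero, derivative_sub, derivative_X, derivative_C, sub_zero, eval_one, one_mul]
  have h1 := congrArg (fun p => (p.map (algebraMap A T)).eval (α i)) hab
  simp only [Polynomial.map_add, Polynomial.map_mul, Polynomial.map_one, eval_add, eval_mul,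
    eval_one, hg0, mul_zero, zero_add] at h1
  rw [← derivative_map, hg'] at h1
  have h2 : IsUnit (h.eval (α i)) := IsUnit.of_mul_eq_one _ (by rw [mul_comm]; exact h1)
  rw [hh, eval_prod] at h2
  have h3 : (X - C (α j) : Polynomial T).eval (α i) ∣
      ∏ k ∈ Finset.univ.erase i, (X - C (α k) : Polynomial T).eval (α i) :=
    Finset.dvd_prod_of_mem _ (Finset.mem_erase.2 ⟨hij.symm, Finset.mem_univ j⟩)
  have h4 := isUnit_of_dvd_unit h3 h2
  rwa [eval_sub, eval_X, eval_C] at h4

theorem isUnit_det_vandermonde {T : Type u} [CommRing T] {n : ℕ} (α : Fin n → T)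
    (hα : ∀ i j, i ≠ j → IsUnit (α i - α j)) : IsUnit (Matrix.vandermonde α).det := by
  rw [Matrix.det_vandermonde]
  refine IsUnit.prod_iff.2 fun i _ => IsUnit.prod_iff.2 fun j hj => ?_
  rw [Finset.mem_Ioi] at hj
  exact hα j i (ne_of_gt hj)

end Et1


section Et2
variable {A : Type u} [CommRing A] {B : Type u} [CommRing B] [Algebra A B]

/-- elements of `A' ⊗ B` in terms of a finite basis of `A'` -/
theorem exists_sum_basis_tmul {A' : Type u} [CommRing A'] [Algebra A A'] {J : Type*} [Fintype J]
    (bas : Module.Basis J A A') (z : A' ⊗[A] B) : ∃ b : J → B, z = ∑ j, bas j ⊗ₜ[A] b j := by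
  classical
  induction z using TensorProduct.induction_on with
  | zero => exact ⟨fun _ => 0, by simp⟩
  | tmul a' b =>
    refine ⟨fun j => bas.repr a' j • b, ?_⟩
    conv_lhs => rw [← bas.sum_repr a']
    rw [TensorProduct.sum_tmul]
    refine Finset.sum_congr rfl fun j _ => ?_
    rw [TensorProduct.smul_tmul]
  | add x y hx hy =>
    obtain ⟨b₁, rfl⟩ := hx
    obtain ⟨b₂, rfl⟩ := hy
    refine ⟨fun j => b₁ j + b₂ j, ?_⟩
    rw [← Finset.sum_add_distrib]
    exact Finset.sum_congr rfl fun j _ => (TensorProduct.tmul_add _ _ _).symm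

end Et2

end Groth.Agent.Lib.Helper25.PolLawCoeff
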