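import Groth.Agent.Lib.Helper25.PolLawOpen

/-!
# Multiplicative laws on finite field extensions: the characteristic polynomial is a power of
the minimal polynomial
-/

set_option autoImplicit false
universe u
open scoped TensorProduct

namespace Groth.Agent.Lib.Helper25.PolLawCoeff

section FieldA
variable {Q : Type u} [Field Q] {E : Type u} [CommRing E] [Algebra Q E] {d : ℕ}

/-- the characteristic polynomial of `-b`: a monic polynomial `p` of degree `d` with
`F (1 ⊗ b + r ⊗ 1) = p r` -/
theorem exists_charPolyNeg (F : PolLaw.MulLaw Q E Q d) (b : E) :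
    ∃ p : Polynomial Q, p.Monic ∧ p.natDegree = d ∧
      Polynomial.aeval (-b) p ∈ PolLaw.ker F.law ∧
      ∀ (R : Type u) [CommRing R] [Algebra Q R] (r : R),
        Algebra.TensorProduct.rid Q R R
          (F.law.toFun' R ((1 : R) ⊗ₜ[Q] b + r ⊗ₜ[Q] (1 : E))) = Polynomial.aeval r p := by
  obtain ⟨q, hq, h⟩ := exists_monic_charPoly F b
  have hmonic : (Polynomial.X ^ d + q).Monic := Polynomial.monic_X_pow_add hq
  have hdeg : (Polynomial.X ^ d + q).natDegree = d := by
    have h1 : (Polynomial.X ^ d + q).degree = (d : WithBot ℕ) := by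
      rw [Polynomial.degree_add_eq_left_of_degree_lt (by rwa [Polynomial.degree_X_pow]),
        Polynomial.degree_X_pow]
    exact Polynomial.natDegree_eq_of_degree_eq_some h1
  refine ⟨Polynomial.X ^ d + q, hmonic, hdeg, ?_, ?_⟩
  · rw [← h E (-b)]
    exact chVal_mem_ker F b
  · intro R _ _ r
    rw [toFun'_fam2, h R r]

theorem nontrivial_tensor_self (R : Type u) [CommRing R] [Algebra Q R] [Nontrivial R] :
    Nontrivial (R ⊗[Q] Q) :=
  (Algebra.TensorProduct.rid Q R R).toEquiv.nontrivial

/-- on a field, a multiplicative law of positive degree has trivial kernel -/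
theorem ker_eq_bot_of_isField [IsDomain E] [Algebra.IsIntegral Q E] (hd : 0 < d)
    (F : PolLaw.MulLaw Q E Q d) : PolLaw.ker F.law = ⊥ := by
  by_contra hne
  obtain ⟨a, ha, ha0⟩ := Submodule.exists_mem_ne_zero_of_ne_bot hne
  have hfield : IsField E := isField_of_isIntegral_of_isField' (Field.toIsField Q)
  obtain ⟨a', ha'⟩ := hfield.mul_inv_cancel ha0
  have h1 : (1 : E) ∈ PolLaw.ker F.law := by
    rw [← ha', mul_comm]
    exact Ideal.mul_mem_left _ _ ha
  have h2 := h1 Q 0 1
  rw [zero_add, one_mul, ← Algebra.TensorProduct.one_def, (F.mult Q).1] at h2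
  have h3 : F.law.toFun' Q (0 : Q ⊗[Q] E) = 0 := by
    have := F.homog Q (0 : Q) (1 : Q ⊗[Q] E)
    rwa [zero_smul, zero_pow hd.ne', zero_smul] at this
  rw [h3] at h2
  have := nontrivial_tensor_self (Q := Q) Q
  exact one_ne_zero h2

/-- a root of the characteristic polynomial of `-b` in the algebraic closure is a root of the
minimal polynomial of `-b` -/
theorem aeval_minpoly_eq_zero_of_root (F : PolLaw.MulLaw Q E Q d) (b : E)
    (p : Polynomial Q)
    (hpF : ∀ (R : Type u) [CommRing R] [Algebra Q R] (r : R),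
        Algebra.TensorProduct.rid Q R R
          (F.law.toFun' R ((1 : R) ⊗ₜ[Q] b + r ⊗ₜ[Q] (1 : E))) = Polynomial.aeval r p)
    (g : Polynomial Q) (hg : Polynomial.aeval (-b) g = 0)
    (β : AlgebraicClosure Q) (hβ : Polynomial.aeval β p = 0) : Polynomial.aeval β g = 0 := by
  by_contra hgβ
  let Ω := AlgebraicClosure Q
  let T := Ω ⊗[Q] E
  set y : T := (1 : Ω) ⊗ₜ[Q] b + β ⊗ₜ[Q] (1 : E) with hy
  have hFy : F.law.toFun' Ω y = 0 := by
    have := hpF Ω β
    rw [hβ] at this
    exact (Algebra.TensorProduct.rid Q Ω Ω).injective (by rw [this, map_zero])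
  -- `y` is a unit
  set gΩ : Polynomial Ω := g.map (algebraMap Q Ω) with hgΩ
  obtain ⟨r, hr⟩ := Polynomial.X_sub_C_dvd_sub_C_eval (a := β) (p := gΩ)
  set t : T := (1 : Ω) ⊗ₜ[Q] (-b) with ht
  have ht0 : Polynomial.aeval t gΩ = 0 := by
    rw [hgΩ, Polynomial.aeval_map_algebraMap]
    have : t = (Algebra.TensorProduct.includeRight : E →ₐ[Q] T) (-b) := rfl
    rw [this, Polynomial.aeval_algHom_apply, hg, map_zero]
  have heval : gΩ.eval β = Polynomial.aeval β g := by
    rw [hgΩ, Polynomial.eval_map_algebraMap]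
  have h1 := congrArg (Polynomial.aeval t) hr
  rw [map_sub, ht0, Polynomial.aeval_C, map_mul, map_sub, Polynomial.aeval_X, Polynomial.aeval_C,
    heval] at h1
  have hty : t - algebraMap Ω T β = -y := by
    rw [ht, hy, TensorProduct.tmul_neg, Algebra.TensorProduct.algebraMap_apply,
      Algebra.algebraMap_self_apply]
    ring
  rw [hty] at h1
  set c : Ω := Polynomial.aeval β g with hc
  have hcu : c * c⁻¹ = 1 := mul_inv_cancel₀ hgβ
  have hyw : y * (Polynomial.aeval t r * algebraMap Ω T c⁻¹) = 1 := by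
    have h2 : y * Polynomial.aeval t r = algebraMap Ω T c := by
      have : -y * Polynomial.aeval t r = -(algebraMap Ω T c) := by rw [← h1]; ring
      rw [neg_mul, neg_inj] at this
      exact this
    rw [← mul_assoc, h2, ← map_mul, hcu, map_one]
  have h3 := (F.mult Ω).2 y (Polynomial.aeval t r * algebraMap Ω T c⁻¹)
  rw [hyw, (F.mult Ω).1, hFy, zero_mul] at h3
  have := nontrivial_tensor_self (Q := Q) Ω
  exact one_ne_zero h3

/-- **Key lemma.** For a multiplicative law of positive degree on a finite field extension, the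
characteristic polynomial of `-b` is a power of the minimal polynomial of `-b`. -/
theorem charPolyNeg_eq_minpoly_pow [IsDomain E] [Algebra.IsIntegral Q E]
    (F : PolLaw.MulLaw Q E Q d) (b : E) (p : Polynomial Q) (hpm : p.Monic)
    (hpF : ∀ (R : Type u) [CommRing R] [Algebra Q R] (r : R),
        Algebra.TensorProduct.rid Q R R
          (F.law.toFun' R ((1 : R) ⊗ₜ[Q] b + r ⊗ₜ[Q] (1 : E))) = Polynomial.aeval r p) :
    ∃ v : ℕ, p = minpoly Q (-b) ^ v := by
  classical
  set g := minpoly Q (-b) with hg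
  have hint : IsIntegral Q (-b) := Algebra.IsIntegral.isIntegral _
  have hirr : Irreducible g := minpoly.irreducible hint
  have hgm : g.Monic := minpoly.monic hint
  obtain ⟨v, h, hndvd, hph⟩ := WfDvdMonoid.max_power_factor hpm.ne_zero hirr
  refine ⟨v, ?_⟩
  have hhm : h.Monic := (hgm.pow v).of_mul_monic_left (by rw [← hph]; exact hpm)
  suffices hh1 : h = 1 by rw [hph, hh1, mul_one]
  by_contra hne
  have hdeg : h.degree ≠ 0 := by
    intro h0
    apply hne
    exact hhm.natDegree_eq_zero.1 (Polynomial.natDegree_eq_of_degree_eq_some h0)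
  obtain ⟨β, hβ⟩ := IsAlgClosed.exists_aeval_eq_zero (AlgebraicClosure Q) h hdeg
  have hβp : Polynomial.aeval β p = 0 := by rw [hph, map_mul, hβ, mul_zero]
  have hβg : Polynomial.aeval β g =  0 :=
    aeval_minpoly_eq_zero_of_root F b p hpF g (minpoly.aeval Q (-b)) β hβp
  have hcop : IsCoprime g h := (hirr.coprime_iff_not_dvd).2 hndvd
  obtain ⟨u, w, huw⟩ := hcop
  have := congrArg (Polynomial.aeval β) huw
  rw [map_add, map_mul, map_mul, hβg, hβ, mul_zero, mul_zero, add_zero, map_one] at this
  exact zero_ne_one this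

/-- the characteristic polynomial does not depend on the law -/
theorem charPolyNeg_unique [IsDomain E] [Algebra.IsIntegral Q E]
    (F F' : PolLaw.MulLaw Q E Q d) (b : E) (p p' : Polynomial Q) (hpm : p.Monic)
    (hpd : p.natDegree = d) (hpm' : p'.Monic) (hpd' : p'.natDegree = d)
    (hpF : ∀ (R : Type u) [CommRing R] [Algebra Q R] (r : R),
        Algebra.TensorProduct.rid Q R R
          (F.law.toFun' R ((1 : R) ⊗ₜ[Q] b + r ⊗ₜ[Q] (1 : E))) = Polynomial.aeval r p)
    (hpF' : ∀ (R : Type u) [CommRing R] [Algebra Q R] (r : R),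
        Algebra.TensorProduct.rid Q R R
          (F'.law.toFun' R ((1 : R) ⊗ₜ[Q] b + r ⊗ₜ[Q] (1 : E))) = Polynomial.aeval r p') :
    p = p' := by
  obtain ⟨v, hv⟩ := charPolyNeg_eq_minpoly_pow F b p hpm hpF
  obtain ⟨v', hv'⟩ := charPolyNeg_eq_minpoly_pow F' b p' hpm' hpF'
  have hint : IsIntegral Q (-b) := Algebra.IsIntegral.isIntegral _
  have hpos : 0 < (minpoly Q (-b)).natDegree := minpoly.natDegree_pos hint
  have h1 : v * (minpoly Q (-b)).natDegree = d := by
    rw [← hpd, hv, Polynomial.natDegree_pow]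
  have h2 : v' * (minpoly Q (-b)).natDegree = d := by
    rw [← hpd', hv', Polynomial.natDegree_pow]
  have h3 : v = v' := Nat.eq_of_mul_eq_mul_right hpos (h1.trans h2.symm)
  rw [hv, hv', h3]

/-- two multiplicative laws of the same degree on a finite field extension have the same value
at every ground point -/
theorem toFun'_ground_eq [IsDomain E] [Algebra.IsIntegral Q E]
    (F F' : PolLaw.MulLaw Q E Q d) (b : E) :
    F.law.toFun' Q ((1 : Q) ⊗ₜ[Q] b) = F'.law.toFun' Q ((1 : Q) ⊗ₜ[Q] b) := by
  obtain ⟨p, hpm, hpd, -, hpF⟩ := exists_charPolyNeg F b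
  obtain ⟨p', hpm', hpd', -, hpF'⟩ := exists_charPolyNeg F' b
  have hpp := charPolyNeg_unique F F' b p p' hpm hpd hpm' hpd' hpF hpF'
  have h1 := hpF Q 0
  have h2 := hpF' Q 0
  rw [TensorProduct.zero_tmul, add_zero] at h1 h2
  apply (Algebra.TensorProduct.rid Q Q Q).injective
  rw [h1, h2, hpp]

/-- the degree of every element divides the degree of a multiplicative law -/
theorem natDegree_minpoly_dvd [IsDomain E] [Algebra.IsIntegral Q E]
    (F : PolLaw.MulLaw Q E Q d) (b : E) : (minpoly Q b).natDegree ∣ d := by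
  obtain ⟨p, hpm, hpd, -, hpF⟩ := exists_charPolyNeg F (-b)
  obtain ⟨v, hv⟩ := charPolyNeg_eq_minpoly_pow F (-b) p hpm hpF
  rw [neg_neg] at hv
  refine ⟨v, ?_⟩
  rw [← hpd, hv, Polynomial.natDegree_pow, mul_comm]

end FieldA

section FieldB
variable {k : Type u} [Field k] {K : Type u} [Field K] [Algebra k K]

/-- `k(t₁, …, tₙ) ⊗ K` is a domain -/
theorem isDomain_fractionRing_tensor (n : ℕ) :
    IsDomain (FractionRing (MvPolynomial (Fin n) k) ⊗[k] K) := by
  set R := MvPolynomial (Fin n) k
  set Q := FractionRing R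
  -- `R ⊗ K` is a domain
  have e1 : R ⊗[k] K ≃ₐ[k] MvPolynomial (Fin n) K :=
    (Algebra.TensorProduct.comm k R K).trans
      ((MvPolynomial.algebraTensorAlgEquiv k K).restrictScalars k)
  have : IsDomain (R ⊗[k] K) := e1.toMulEquiv.isDomain
  -- localization
  have : IsLocalization (Algebra.algebraMapSubmonoid (R ⊗[k] K) (nonZeroDivisors R))
      ((R ⊗[k] K) ⊗[R] Q) := inferInstance
  have hle : Algebra.algebraMapSubmonoid (R ⊗[k] K) (nonZeroDivisors R) ≤
      nonZeroDivisors (R ⊗[k] K) := by
    rintro _ ⟨r, hr, rfl⟩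
    apply mem_nonZeroDivisors_of_ne_zero
    intro h0
    have hinj : Function.Injective (algebraMap R (R ⊗[k] K)) :=
      Algebra.TensorProduct.includeLeft_injective (S := R) (algebraMap k K).injective
    exact (nonZeroDivisors.ne_zero hr) (hinj (by rw [h0, map_zero]))
  have : IsDomain ((R ⊗[k] K) ⊗[R] Q) :=
    IsLocalization.isDomain_of_le_nonZeroDivisors ((R ⊗[k] K) ⊗[R] Q) hle
  have e2 : (R ⊗[k] K) ⊗[R] Q ≃ₐ[k] Q ⊗[k] K :=
    ((Algebra.TensorProduct.comm R (R ⊗[k] K) Q).restrictScalars k).trans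
      ((Algebra.TensorProduct.cancelBaseChange k R Q Q K).restrictScalars k)
  exact e2.symm.toMulEquiv.isDomain

/-- **Uniqueness.** Two multiplicative laws of the same degree from a finite field extension to
the base field coincide. -/
theorem mulLaw_field_unique [FiniteDimensional k K] {d : ℕ} (F F' : PolLaw.MulLaw k K k d) :
    F.law = F'.law := by
  refine PolynomialLaw.ext ?_
  funext S _ _ x
  obtain ⟨n, ψ, p, _, rfl, -⟩ := exists_lift₂ x x
  rw [← PolynomialLaw.isCompat_apply', ← PolynomialLaw.isCompat_apply']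
  congr 1
  have := isDomain_fractionRing_tensor (k := k) (K := K) n
  have hQ : ∀ z' : FractionRing (MvPolynomial (Fin n) k) ⊗[k] K,
      F.law.toFun' (FractionRing (MvPolynomial (Fin n) k)) z' =
        F'.law.toFun' (FractionRing (MvPolynomial (Fin n) k)) z' := by
    intro z'
    have h := toFun'_ground_eq (bcMulLaw (FractionRing (MvPolynomial (Fin n) k)) F)
      (bcMulLaw (FractionRing (MvPolynomial (Fin n) k)) F') z'
    change (bcLaw (FractionRing (MvPolynomial (Fin n) k)) F.law).toFun' _ _ =
      (bcLaw (FractionRing (MvPolynomial (Fin n) k)) F'.law).toFun' _ _ at h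
    rw [bcLaw_toFun', bcLaw_toFun', cancel_one_tmul] at h
    have h2 : Algebra.TensorProduct.map (IsScalarTower.toAlgHom k
        (FractionRing (MvPolynomial (Fin n) k)) (FractionRing (MvPolynomial (Fin n) k)))
        (AlgHom.id k K) z' = z' := by
      have : IsScalarTower.toAlgHom k (FractionRing (MvPolynomial (Fin n) k))
          (FractionRing (MvPolynomial (Fin n) k)) = AlgHom.id k _ := by
        ext a
        rfl
      rw [this, Algebra.TensorProduct.map_id, AlgHom.id_apply]
    rw [h2] at h
    exact (Algebra.TensorProduct.rid k _ _).injective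
      ((Algebra.TensorProduct.rid (FractionRing (MvPolynomial (Fin n) k)) _ _).symm.injective h)
  let j : MvPolynomial (Fin n) k →ₐ[k] FractionRing (MvPolynomial (Fin n) k) :=
    IsScalarTower.toAlgHom k _ _
  have hj : Function.Injective j := IsFractionRing.injective _ _
  have h1 := law_compat_map' F.law j p
  have h2 := law_compat_map' F'.law j p
  rw [hQ] at h1
  have h3 := h1.symm.trans h2
  apply (Algebra.TensorProduct.rid k (MvPolynomial (Fin n) k) (MvPolynomial (Fin n) k)).injective
  apply hj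
  rw [← algRid_map, ← algRid_map, h3]

end FieldB
end Groth.Agent.Lib.Helper25.PolLawCoeff
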