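import Groth.Agent.Lib.Helper25.PolLawField
import Groth.Agent.S13876

/-!
# Existence of multiplicative laws on finite field extensions
-/

set_option autoImplicit false
universe u
open scoped TensorProduct

namespace Groth.Agent.Lib.Helper25.PolLawCoeff

section FieldEx
variable {k : Type u} [Field k] {K : Type u} [Field K] [Algebra k K]

theorem lTensor_val_injective (L : IntermediateField k K) (S : Type u) [CommSemiring S]
    [Algebra k S] : Function.Injective (L.val.toLinearMap.lTensor S) := by
  obtain ⟨r, hr⟩ := LinearMap.exists_leftInverse_of_injective L.val.toLinearMap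
    (LinearMap.ker_eq_bot.2 L.val.injective)
  apply Function.LeftInverse.injective (g := r.lTensor S)
  intro x
  rw [← LinearMap.comp_apply, ← LinearMap.lTensor_comp, hr, LinearMap.lTensor_id]
  rfl

theorem pow_mem_range_lTensor (p : ℕ) [ExpChar k p] (L : IntermediateField k K) (s : ℕ)
    (hs : ∀ x : K, x ^ p ^ s ∈ L) (S : Type u) [CommSemiring S] [Algebra k S] (z : S ⊗[k] K) :
    ∃ w : S ⊗[k] L, L.val.toLinearMap.lTensor S w = z ^ p ^ s := by
  by_cases htriv : Subsingleton (S ⊗[k] K)
  · exact ⟨0, Subsingleton.elim _ _⟩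
  · rw [not_subsingleton_iff_nontrivial] at htriv
    have : ExpChar (S ⊗[k] K) p :=
      expChar_of_injective_ringHom (algebraMap k (S ⊗[k] K)).injective p
    induction z using TensorProduct.induction_on with
    | zero =>
      exact ⟨0, by rw [map_zero, zero_pow (pow_pos (expChar_pos k p) s).ne']⟩
    | tmul a x =>
      exact ⟨(a ^ p ^ s) ⊗ₜ ⟨x ^ p ^ s, hs x⟩, by
        rw [LinearMap.lTensor_tmul, Algebra.TensorProduct.tmul_pow]; rfl⟩
    | add x y hx hy =>
      obtain ⟨wx, hwx⟩ := hx
      obtain ⟨wy, hwy⟩ := hy
      exact ⟨wx + wy, by rw [map_add, hwx, hwy, add_pow_expChar_pow]⟩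

/-- the `p ^ s`-th power law `K → L`, for an intermediate field `L` containing all
`p ^ s`-th powers -/
noncomputable def frobLaw (p : ℕ) [ExpChar k p] (L : IntermediateField k K) (s : ℕ)
    (hs : ∀ x : K, x ^ p ^ s ∈ L) : K →ₚₗ[k] L where
  toFun' S _ _ z := Classical.choose (pow_mem_range_lTensor p L s hs S z)
  isCompat' {S} _ _ {S'} _ _ φ := by
    funext z
    apply lTensor_val_injective L S'
    simp only [Function.comp_apply]
    rw [Classical.choose_spec (pow_mem_range_lTensor p L s hs S' _), ← LinearMap.comp_apply,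
      LinearMap.lTensor_comp_rTensor, ← LinearMap.rTensor_comp_lTensor, LinearMap.comp_apply,
      Classical.choose_spec (pow_mem_range_lTensor p L s hs S z), rTensor_eq_map, rTensor_eq_map,
      map_pow]

theorem frobLaw_spec (p : ℕ) [ExpChar k p] (L : IntermediateField k K) (s : ℕ)
    (hs : ∀ x : K, x ^ p ^ s ∈ L) (S : Type u) [CommSemiring S] [Algebra k S] (z : S ⊗[k] K) :
    Algebra.TensorProduct.map (AlgHom.id S S) L.val ((frobLaw p L s hs).toFun' S z) =
      z ^ p ^ s := by
  rw [← PolLaw.lTensor_algHom_apply]
  exact Classical.choose_spec (pow_mem_range_lTensor p L s hs S z)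

theorem map_val_injective (L : IntermediateField k K) (S : Type u) [CommSemiring S]
    [Algebra k S] : Function.Injective (Algebra.TensorProduct.map (AlgHom.id S S) L.val) := by
  intro x y h
  apply lTensor_val_injective L S
  rw [PolLaw.lTensor_algHom_apply, PolLaw.lTensor_algHom_apply, h]

/-- composing a multiplicative law on `L` with the `p ^ s`-th power law -/
noncomputable def frobMulLaw (p : ℕ) [ExpChar k p] (L : IntermediateField k K) (s : ℕ)
    (hs : ∀ x : K, x ^ p ^ s ∈ L) {n : ℕ} (N : PolLaw.MulLaw k L k n) :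
    PolLaw.MulLaw k K k (n * p ^ s) where
  law := N.law.comp (frobLaw p L s hs)
  homog := by
    intro S _ _ a z
    rw [PolynomialLaw.comp_toFun', Function.comp_apply, Function.comp_apply]
    have h1 : (frobLaw p L s hs).toFun' S (a • z) = (a ^ p ^ s) • (frobLaw p L s hs).toFun' S z := by
      apply map_val_injective L S
      rw [map_smul, frobLaw_spec, frobLaw_spec, smul_pow]
    rw [h1, N.homog, ← pow_mul, mul_comm]
  mult := by
    intro S _ _
    refine ⟨?_, fun x y => ?_⟩
    · rw [PolynomialLaw.comp_toFun', Function.comp_apply]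
      have h1 : (frobLaw p L s hs).toFun' S 1 = 1 := by
        apply map_val_injective L S
        rw [frobLaw_spec, one_pow, map_one]
      rw [h1, (N.mult S).1]
    · rw [PolynomialLaw.comp_toFun', Function.comp_apply, Function.comp_apply, Function.comp_apply]
      have h1 : (frobLaw p L s hs).toFun' S (x * y) =
          (frobLaw p L s hs).toFun' S x * (frobLaw p L s hs).toFun' S y := by
        apply map_val_injective L S
        rw [map_mul, frobLaw_spec, frobLaw_spec, frobLaw_spec, mul_pow]
      rw [h1, (N.mult S).2]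

/-- powers of multiplicative laws -/
noncomputable def powMulLaw {B : Type u} [CommRing B] [Algebra k B] {n : ℕ}
    (N : PolLaw.MulLaw k B k n) (m : ℕ) : PolLaw.MulLaw k B k (n * m) where
  law := (PolLaw.powLaw m).comp N.law
  homog := by
    intro S _ _ a z
    rw [PolynomialLaw.comp_toFun', Function.comp_apply, Function.comp_apply, N.homog]
    show (a ^ n • N.law.toFun' S z) ^ m = a ^ (n * m) • (N.law.toFun' S z) ^ m
    rw [smul_pow, pow_mul]
  mult := by
    intro S _ _
    refine ⟨?_, fun x y => ?_⟩
    · rw [PolynomialLaw.comp_toFun', Function.comp_apply, (N.mult S).1]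
      show (1 : S ⊗[k] k) ^ m = 1
      rw [one_pow]
    · rw [PolynomialLaw.comp_toFun', Function.comp_apply, Function.comp_apply, Function.comp_apply,
        (N.mult S).2]
      show (N.law.toFun' S x * N.law.toFun' S y) ^ m = (N.law.toFun' S x) ^ m * (N.law.toFun' S y) ^ m
      rw [mul_pow]

/-- the norm law of a finite field extension -/
theorem exists_normMulLaw (L : Type u) [Field L] [Algebra k L] [FiniteDimensional k L] :
    Nonempty (PolLaw.MulLaw k L k (Module.finrank k L)) := by
  obtain ⟨N, -, -⟩ := Groth.Agent.S13876.result (A := k) (B := L) (M := L) (Module.finrank k L)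
    (fun p => by rw [Module.rankAtStalk_eq_finrank_of_free]; rfl)
  exact ⟨N⟩

end FieldEx
section Conv
variable {A : Type u} [CommRing A] {B C : Type u} [CommRing B] [Algebra A B] [CommRing C] [Algebra A C]

theorem isMult_of_commRing (F : B →ₚₗ[A] C)
    (hm : ∀ (S : Type u) [CommRing S] [Algebra A S], F.toFun' S 1 = 1 ∧
        ∀ x y : S ⊗[A] B, F.toFun' S (x * y) = F.toFun' S x * F.toFun' S y) :
    PolLaw.IsMult F := by
  intro S _ _
  let _ : CommRing S := RingHom.commSemiringToCommRing (algebraMap A S)
  exact hm S

theorem isHomog_of_commRing (F : B →ₚₗ[A] C) (d : ℕ)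
    (hh : ∀ (S : Type u) [CommRing S] [Algebra A S] (a : S) (z : S ⊗[A] B),
      F.toFun' S (a • z) = a ^ d • F.toFun' S z) :
    PolLaw.IsHomog F d := by
  intro S _ _ a z
  let _ : CommRing S := RingHom.commSemiringToCommRing (algebraMap A S)
  exact hh S a z
end Conv

end Groth.Agent.Lib.Helper25.PolLawCoeff
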