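import Groth.Agent.Lib.Helper25.PolLawCH

/-!
# Kernels of polynomial laws: testing on polynomial rings, saturation
-/

namespace Groth.Agent.Lib.Helper25.PolLawCoeff
open scoped TensorProduct
open MvPolynomial
universe u

section Ker1
variable {A : Type u} [CommRing A] {B C : Type u} [CommRing B] [Algebra A B] [CommRing C]
  [Algebra A C]

theorem map_smul_tensor {S S' : Type u} [CommSemiring S] [Algebra A S] [CommSemiring S']
    [Algebra A S'] (ψ : S →ₐ[A] S') (s : S) (z : S ⊗[A] B) :
    Algebra.TensorProduct.map ψ (AlgHom.id A B) (s • z) =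
      ψ s • Algebra.TensorProduct.map ψ (AlgHom.id A B) z := by
  induction z using TensorProduct.induction_on with
  | zero => simp
  | tmul r c =>
    rw [TensorProduct.smul_tmul', Algebra.TensorProduct.map_tmul, Algebra.TensorProduct.map_tmul,
      TensorProduct.smul_tmul', smul_eq_mul, smul_eq_mul, map_mul]
  | add x y hx hy => simp only [smul_add, map_add, hx, hy]

/-- membership in the kernel can be tested on polynomial rings in finitely many variables -/
theorem mem_ker_of_forall_mvPolynomial (F : B →ₚₗ[A] C) (b : B)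
    (h : ∀ (n : ℕ) (p q : MvPolynomial (Fin n) A ⊗[A] B),
      F.toFun' (MvPolynomial (Fin n) A) (p + q * (1 ⊗ₜ[A] b)) =
        F.toFun' (MvPolynomial (Fin n) A) p) : b ∈ PolLaw.ker F := by
  intro S _ _ x w
  obtain ⟨n, ψ, p, q, rfl, rfl⟩ := exists_lift₂ x w
  have h1 : ψ.toLinearMap.rTensor B p + ψ.toLinearMap.rTensor B q * (1 ⊗ₜ[A] b) =
      ψ.toLinearMap.rTensor B (p + q * (1 ⊗ₜ[A] b)) := by
    rw [rTensor_eq_map, rTensor_eq_map, rTensor_eq_map, map_add, map_mul,
      Algebra.TensorProduct.map_tmul, map_one, AlgHom.id_apply]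
  rw [h1, ← PolynomialLaw.isCompat_apply', ← PolynomialLaw.isCompat_apply', h n p q]

theorem rid_map {S S' : Type u} [CommSemiring S] [Algebra A S] [CommSemiring S']
    [Algebra A S'] (ψ : S →ₐ[A] S') (z : S ⊗[A] A) :
    TensorProduct.rid A S' (Algebra.TensorProduct.map ψ (AlgHom.id A A) z) =
      ψ (TensorProduct.rid A S z) := by
  induction z using TensorProduct.induction_on with
  | zero => simp
  | tmul r c =>
    rw [Algebra.TensorProduct.map_tmul, TensorProduct.rid_tmul, TensorProduct.rid_tmul,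
      AlgHom.id_apply, map_smul]
  | add x y hx hy => simp only [map_add, hx, hy]

/-- the polynomial trick: if `F (y₀ + aV y₁) = F y₀` over `S[V]` with `a` a non-zero-divisor of `S`
then `F (y₀ + y₁) = F y₀`. -/
theorem law_add_eq_of_scaled (F : B →ₚₗ[A] A) {S : Type u} [CommRing S] [Algebra A S] (a : S)
    (ha : a ∈ nonZeroDivisors S) (y₀ y₁ : S ⊗[A] B)
    (h : F.toFun' (Polynomial S)
      (Algebra.TensorProduct.map (Polynomial.CAlgHom : S →ₐ[A] Polynomial S) (AlgHom.id A B) y₀ +
        (Polynomial.C a * Polynomial.X : Polynomial S) •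
          Algebra.TensorProduct.map (Polynomial.CAlgHom : S →ₐ[A] Polynomial S)
            (AlgHom.id A B) y₁) =
      F.toFun' (Polynomial S)
        (Algebra.TensorProduct.map (Polynomial.CAlgHom : S →ₐ[A] Polynomial S)
          (AlgHom.id A B) y₀)) :
    F.toFun' S (y₀ + y₁) = F.toFun' S y₀ := by
  set ι : S →ₐ[A] Polynomial S := Polynomial.CAlgHom with hι
  set φa : Polynomial S →ₐ[A] Polynomial S :=
    (Polynomial.aeval (Polynomial.C a * Polynomial.X : Polynomial S)).restrictScalars A with hφa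
  set ev : Polynomial S →ₐ[A] S := (Polynomial.aeval (1 : S)).restrictScalars A with hev
  have hφι : φa.comp ι = ι := by
    ext s
    simp [hφa, hι]
  have hevι : ev.comp ι = AlgHom.id A S := by
    ext s
    simp [hev, hι]
  have hφX : φa Polynomial.X = Polynomial.C a * Polynomial.X := by simp [hφa]
  have hevX : ev Polynomial.X = 1 := by simp [hev]
  set Y : Polynomial S ⊗[A] B := Algebra.TensorProduct.map ι (AlgHom.id A B) y₀ +
    (Polynomial.X : Polynomial S) • Algebra.TensorProduct.map ι (AlgHom.id A B) y₁ with hY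
  set Q : Polynomial S := TensorProduct.rid A _ (F.toFun' (Polynomial S) Y) with hQ
  set c₀ : S := TensorProduct.rid A S (F.toFun' S y₀) with hc₀
  have hmapι : ∀ (ψ : Polynomial S →ₐ[A] Polynomial S) (z : S ⊗[A] B),
      Algebra.TensorProduct.map ψ (AlgHom.id A B) (Algebra.TensorProduct.map ι (AlgHom.id A B) z) =
        Algebra.TensorProduct.map (ψ.comp ι) (AlgHom.id A B) z := by
    intro ψ z
    rw [← AlgHom.comp_apply, ← Algebra.TensorProduct.map_comp, AlgHom.comp_id]
  have hmapι' : ∀ (z : S ⊗[A] B),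
      Algebra.TensorProduct.map ev (AlgHom.id A B) (Algebra.TensorProduct.map ι (AlgHom.id A B) z) =
        z := by
    intro z
    rw [← AlgHom.comp_apply, ← Algebra.TensorProduct.map_comp, AlgHom.comp_id, hevι,
      Algebra.TensorProduct.map_id, AlgHom.id_apply]
  -- φa Q = C c₀
  have h1 : φa Q = Polynomial.C c₀ := by
    rw [hQ, ← rid_map, ← law_compat_map, hY, map_add, map_smul_tensor, hmapι, hmapι, hφι, hφX, h,
      law_compat_map, rid_map]
    rfl
  have h2 : Q = Polynomial.C c₀ := by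
    have h3 : (Q - Polynomial.C c₀).comp (Polynomial.C a * Polynomial.X) = 0 := by
      rw [Polynomial.sub_comp, Polynomial.C_comp, sub_eq_zero]
      have : φa Q = Q.comp (Polynomial.C a * Polynomial.X) := by
        show Polynomial.aeval _ Q = _
        rw [Polynomial.aeval_def, Polynomial.comp]
        rfl
      rw [← this, h1]
    exact sub_eq_zero.1 ((Polynomial.comp_C_mul_X_eq_zero_iff ha).1 h3)
  have h4 : ev Q = TensorProduct.rid A S (F.toFun' S (y₀ + y₁)) := by
    rw [hQ, ← rid_map, ← law_compat_map, hY, map_add, map_smul_tensor, hmapι', hmapι', hevX,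
      one_smul]
  have h5 : ev (Polynomial.C c₀) = c₀ := by simp [hev]
  apply (TensorProduct.rid A S).injective
  rw [← h4, h2, h5]

theorem C_mem_nonZeroDivisors {σ : Type*} {a : A} (ha : a ∈ nonZeroDivisors A) :
    (MvPolynomial.C a : MvPolynomial σ A) ∈ nonZeroDivisors (MvPolynomial σ A) := by
  rw [mem_nonZeroDivisors_iff_right]
  intro p hp
  ext m
  have := congrArg (MvPolynomial.coeff m) hp
  rw [mul_comm, MvPolynomial.coeff_C_mul, MvPolynomial.coeff_zero] at this
  rw [MvPolynomial.coeff_zero]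
  exact (mem_nonZeroDivisors_iff_right.1 ha) _ (by rw [mul_comm]; exact this)

/-- saturation of the kernel with respect to non-zero-divisors of the base -/
theorem mem_ker_of_smul_mem (F : B →ₚₗ[A] A) {a : A} (ha : a ∈ nonZeroDivisors A) (b : B)
    (hab : a • b ∈ PolLaw.ker F) : b ∈ PolLaw.ker F := by
  apply mem_ker_of_forall_mvPolynomial
  intro n p q
  apply law_add_eq_of_scaled F (MvPolynomial.C a) (C_mem_nonZeroDivisors ha) p (q * (1 ⊗ₜ[A] b))
  have h1 : (Polynomial.C (MvPolynomial.C a) * Polynomial.X :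
      Polynomial (MvPolynomial (Fin n) A)) •
      Algebra.TensorProduct.map (Polynomial.CAlgHom :
        MvPolynomial (Fin n) A →ₐ[A] Polynomial (MvPolynomial (Fin n) A))
        (AlgHom.id A B) (q * (1 ⊗ₜ[A] b)) =
      ((Polynomial.X : Polynomial (MvPolynomial (Fin n) A)) •
        Algebra.TensorProduct.map (Polynomial.CAlgHom :
        MvPolynomial (Fin n) A →ₐ[A] Polynomial (MvPolynomial (Fin n) A))
        (AlgHom.id A B) q) * (1 ⊗ₜ[A] (a • b)) := by
    have h2 : (Polynomial.C (MvPolynomial.C a) : Polynomial (MvPolynomial (Fin n) A)) •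
        ((1 : Polynomial (MvPolynomial (Fin n) A)) ⊗ₜ[A] b) = 1 ⊗ₜ[A] (a • b) := by
      rw [TensorProduct.smul_tmul', smul_eq_mul, mul_one, TensorProduct.tmul_smul,
        TensorProduct.smul_tmul', Algebra.smul_def, mul_one]
      rfl
    rw [map_mul, Algebra.TensorProduct.map_tmul, map_one, AlgHom.id_apply, mul_comm
      (Polynomial.C _) Polynomial.X, mul_smul, ← h2, mul_smul_comm, smul_mul_assoc,
      smul_comm]
  rw [h1]
  exact hab _ _ _

end Ker1

section Ker2
variable {A : Type u} [CommRing A] {B C : Type u} [CommRing B] [Algebra A B] [CommRing C]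
  [Algebra A C]

/-- instance-free form of membership in `kerBC` -/
theorem mem_kerBC_iff (F : B →ₚₗ[A] C) (A' : Type u) [CommRing A'] [Algebra A A']
    (b' : A' ⊗[A] B) :
    b' ∈ PolLaw.kerBC F A' ↔ ∀ (R : Type u) [CommSemiring R] [Algebra A R] (g : A' →ₐ[A] R)
      (x w : R ⊗[A] B),
      F.toFun' R (x + w * Algebra.TensorProduct.map g (AlgHom.id A B) b') = F.toFun' R x := by
  constructor
  · intro h R _ _ g x w
    let : Algebra A' R := g.toRingHom.toAlgebra
    have : IsScalarTower A A' R := IsScalarTower.of_algebraMap_eq (fun a => (g.commutes a).symm)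
    have h1 := h R x w
    have h2 : IsScalarTower.toAlgHom A A' R = g := by ext; rfl
    rw [h2] at h1
    exact h1
  · intro h R _ _ _ _ x w
    exact h R (IsScalarTower.toAlgHom A A' R) x w

theorem kerBC_map (F : B →ₚₗ[A] C) {A₁ A₂ : Type u} [CommRing A₁] [Algebra A A₁] [CommRing A₂]
    [Algebra A A₂] (ψ : A₁ →ₐ[A] A₂) {b' : A₁ ⊗[A] B} (hb' : b' ∈ PolLaw.kerBC F A₁) :
    Algebra.TensorProduct.map ψ (AlgHom.id A B) b' ∈ PolLaw.kerBC F A₂ := by
  rw [mem_kerBC_iff] at hb' ⊢
  intro R _ _ g x w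
  have := hb' R (g.comp ψ) x w
  rw [← this]
  congr 3
  rw [← AlgHom.comp_apply, ← Algebra.TensorProduct.map_comp, AlgHom.comp_id]

theorem map_ker_le_kerBC (F : B →ₚₗ[A] C) (A' : Type u) [CommRing A'] [Algebra A A'] :
    (PolLaw.ker F).map (Algebra.TensorProduct.includeRight : B →ₐ[A] A' ⊗[A] B) ≤
      PolLaw.kerBC F A' := by
  rw [Ideal.map_le_iff_le_comap]
  intro b hb
  rw [Ideal.mem_comap, mem_kerBC_iff]
  intro R _ _ g x w
  have : Algebra.TensorProduct.map g (AlgHom.id A B)
      ((Algebra.TensorProduct.includeRight : B →ₐ[A] A' ⊗[A] B) b) = 1 ⊗ₜ[A] b := by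
    simp
  rw [this]
  exact hb R x w

/-- `kerBC` over the base ring itself is the extension of `ker`. -/
theorem kerBC_self_le (F : B →ₚₗ[A] C) :
    PolLaw.kerBC F A ≤
      (PolLaw.ker F).map (Algebra.TensorProduct.includeRight : B →ₐ[A] A ⊗[A] B) := by
  intro b' hb'
  have hall : ∀ z : A ⊗[A] B, z = 1 ⊗ₜ[A] (TensorProduct.lid A B z) := by
    intro z
    induction z using TensorProduct.induction_on with
    | zero => simp
    | tmul a b => rw [TensorProduct.lid_tmul, TensorProduct.tmul_smul, TensorProduct.smul_tmul',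
        smul_eq_mul, mul_one]
    | add x y hx hy => rw [map_add, TensorProduct.tmul_add, ← hx, ← hy]
  obtain ⟨b, rfl⟩ : ∃ b : B, b' = 1 ⊗ₜ[A] b := ⟨_, hall b'⟩
  apply Ideal.mem_map_of_mem
    (Algebra.TensorProduct.includeRight : B →ₐ[A] A ⊗[A] B)
  rw [mem_kerBC_iff] at hb'
  intro S _ _ x w
  have := hb' S (Algebra.ofId A S) x w
  rw [Algebra.TensorProduct.map_tmul, map_one, AlgHom.id_apply] at this
  exact this

end Ker2

section Ker3
variable {A : Type u} [CommRing A] {B : Type u} [CommRing B] [Algebra A B]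

theorem law_compat_map' {C : Type u} [CommRing C] [Algebra A C] (F : B →ₚₗ[A] C)
    {S S' : Type u} [CommSemiring S] [Algebra A S] [CommSemiring S'] [Algebra A S']
    (ψ : S →ₐ[A] S') (y : S ⊗[A] B) :
    F.toFun' S' (Algebra.TensorProduct.map ψ (AlgHom.id A B) y) =
      Algebra.TensorProduct.map ψ (AlgHom.id A C) (F.toFun' S y) := by
  have := PolynomialLaw.isCompat_apply' (f := F) ψ y
  rw [rTensor_eq_map, rTensor_eq_map] at this
  exact this.symm

/-- the constants, as an `A`-algebra map into a polynomial ring over an `A`-algebra -/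
noncomputable def mvC (A : Type u) [CommRing A] (A' : Type u) [CommRing A'] [Algebra A A']
    (σ : Type*) : A' →ₐ[A] MvPolynomial σ A' :=
  (Algebra.ofId A' (MvPolynomial σ A')).restrictScalars A

@[simp] theorem mvC_apply {A' : Type u} [CommRing A'] [Algebra A A'] {σ : Type*} (a' : A') :
    mvC A A' σ a' = MvPolynomial.C a' := rfl

/-- lifting a pair of elements of `R ⊗ B` to a polynomial ring over `A'` -/
theorem exists_lift₂_over {A' : Type u} [CommRing A'] [Algebra A A'] {R : Type u}
    [CommSemiring R] [Algebra A R] (g : A' →ₐ[A] R) (x w : R ⊗[A] B) :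
    ∃ (n : ℕ) (ψ : MvPolynomial (Fin n) A' →ₐ[A] R) (p q : MvPolynomial (Fin n) A' ⊗[A] B),
      ψ.comp (mvC A A' (Fin n)) = g ∧
      Algebra.TensorProduct.map ψ (AlgHom.id A B) p = x ∧
      Algebra.TensorProduct.map ψ (AlgHom.id A B) q = w := by
  obtain ⟨n, ψ₀, p₀, q₀, rfl, rfl⟩ := exists_lift₂ x w
  let ψ : MvPolynomial (Fin n) A' →ₐ[A] R :=
    { MvPolynomial.eval₂Hom (g : A' →+* R) (fun i => ψ₀ (MvPolynomial.X i)) with
      commutes' := fun a => by
        show MvPolynomial.eval₂Hom (g : A' →+* R) (fun i => ψ₀ (MvPolynomial.X i))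
          (algebraMap A (MvPolynomial (Fin n) A') a) = _
        rw [IsScalarTower.algebraMap_apply A A' (MvPolynomial (Fin n) A'),
          MvPolynomial.algebraMap_eq, MvPolynomial.eval₂Hom_C]
        exact g.commutes a }
  let μ : MvPolynomial (Fin n) A →ₐ[A] MvPolynomial (Fin n) A' :=
    MvPolynomial.mapAlgHom (Algebra.ofId A A')
  have hψμ : ψ.comp μ = ψ₀ := by
    apply MvPolynomial.algHom_ext
    intro i
    show MvPolynomial.eval₂Hom (g : A' →+* R) (fun i => ψ₀ (MvPolynomial.X i))
      (MvPolynomial.map _ (MvPolynomial.X i)) = _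
    rw [MvPolynomial.map_X, MvPolynomial.eval₂Hom_X']
  refine ⟨n, ψ, Algebra.TensorProduct.map μ (AlgHom.id A B) p₀,
    Algebra.TensorProduct.map μ (AlgHom.id A B) q₀, ?_, ?_, ?_⟩
  · ext a'
    show MvPolynomial.eval₂Hom (g : A' →+* R) (fun i => ψ₀ (MvPolynomial.X i))
      (MvPolynomial.C a') = _
    rw [MvPolynomial.eval₂Hom_C]
    rfl
  · rw [← AlgHom.comp_apply, ← Algebra.TensorProduct.map_comp, AlgHom.comp_id, hψμ]
    rfl
  · rw [← AlgHom.comp_apply, ← Algebra.TensorProduct.map_comp, AlgHom.comp_id, hψμ]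
    rfl

/-- saturation of `kerBC` with respect to non-zero-divisors of the new base -/
theorem kerBC_of_smul_mem (F : B →ₚₗ[A] A) {A' : Type u} [CommRing A'] [Algebra A A'] {a : A'}
    (ha : a ∈ nonZeroDivisors A') (c : A' ⊗[A] B) (h : a • c ∈ PolLaw.kerBC F A') :
    c ∈ PolLaw.kerBC F A' := by
  rw [mem_kerBC_iff] at h ⊢
  intro R _ _ g x w
  obtain ⟨n, ψ, p, q, rfl, rfl, rfl⟩ := exists_lift₂_over g x w
  have h1 : Algebra.TensorProduct.map ψ (AlgHom.id A B) p +
      Algebra.TensorProduct.map ψ (AlgHom.id A B) q *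
        Algebra.TensorProduct.map (ψ.comp (mvC A A' (Fin n))) (AlgHom.id A B) c =
      Algebra.TensorProduct.map ψ (AlgHom.id A B)
        (p + q * Algebra.TensorProduct.map (mvC A A' (Fin n)) (AlgHom.id A B) c) := by
    rw [map_add, map_mul, ← AlgHom.comp_apply (Algebra.TensorProduct.map ψ (AlgHom.id A B)),
      ← Algebra.TensorProduct.map_comp, AlgHom.comp_id]
  rw [h1, law_compat_map', law_compat_map']
  congr 1
  set c' := Algebra.TensorProduct.map (mvC A A' (Fin n)) (AlgHom.id A B) c with hc'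
  apply law_add_eq_of_scaled F (MvPolynomial.C a) (C_mem_nonZeroDivisors ha) p (q * c')
  set ι : MvPolynomial (Fin n) A' →ₐ[A] Polynomial (MvPolynomial (Fin n) A') :=
    Polynomial.CAlgHom with hι
  have h2 : (Polynomial.C (MvPolynomial.C a) * Polynomial.X :
      Polynomial (MvPolynomial (Fin n) A')) •
      Algebra.TensorProduct.map ι (AlgHom.id A B) (q * c') =
      ((Polynomial.X : Polynomial (MvPolynomial (Fin n) A')) •
        Algebra.TensorProduct.map ι (AlgHom.id A B) q) *
        Algebra.TensorProduct.map (ι.comp (mvC A A' (Fin n))) (AlgHom.id A B) (a • c) := by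
    have h3 : Algebra.TensorProduct.map (ι.comp (mvC A A' (Fin n))) (AlgHom.id A B) (a • c) =
        (Polynomial.C (MvPolynomial.C a) : Polynomial (MvPolynomial (Fin n) A')) •
          Algebra.TensorProduct.map ι (AlgHom.id A B) c' := by
      rw [map_smul_tensor, hc', ← AlgHom.comp_apply
        (Algebra.TensorProduct.map ι (AlgHom.id A B)), ← Algebra.TensorProduct.map_comp,
        AlgHom.comp_id]
      rfl
    rw [h3, map_mul, mul_comm (Polynomial.C _) Polynomial.X, mul_smul, mul_smul_comm,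
      smul_mul_assoc, smul_comm]
  rw [h2]
  exact h _ _ _ _

end Ker3

section Ker4
variable {A : Type u} [CommRing A] {B : Type u} [CommRing B] [Algebra A B]

/-- the extension of `ker F` to `A' ⊗ B` -/
noncomputable def extKer {C : Type u} [CommRing C] [Algebra A C] (F : B →ₚₗ[A] C) (A' : Type u)
    [CommRing A'] [Algebra A A'] : Ideal (A' ⊗[A] B) :=
  (PolLaw.ker F).map (Algebra.TensorProduct.includeRight : B →ₐ[A] A' ⊗[A] B)

theorem extKer_map {C : Type u} [CommRing C] [Algebra A C] (F : B →ₚₗ[A] C) {A₁ A₂ : Type u}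
    [CommRing A₁] [Algebra A A₁] [CommRing A₂] [Algebra A A₂] (ψ : A₁ →ₐ[A] A₂)
    {z : A₁ ⊗[A] B} (hz : z ∈ extKer F A₁) :
    Algebra.TensorProduct.map ψ (AlgHom.id A B) z ∈ extKer F A₂ := by
  have h1 : extKer F A₁ ≤ (extKer F A₂).comap (Algebra.TensorProduct.map ψ (AlgHom.id A B)) := by
    rw [extKer, Ideal.map_le_iff_le_comap]
    intro b hb
    rw [Ideal.mem_comap, Ideal.mem_comap]
    have : Algebra.TensorProduct.map ψ (AlgHom.id A B)
        ((Algebra.TensorProduct.includeRight : B →ₐ[A] A₁ ⊗[A] B) b) =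
        (Algebra.TensorProduct.includeRight : B →ₐ[A] A₂ ⊗[A] B) b := by simp
    rw [this]
    exact Ideal.mem_map_of_mem _ hb
  exact h1 hz

theorem kerBC_polynomial_coeffs (F : B →ₚₗ[A] A) (A₀ : Type u) [CommRing A₀] [Algebra A A₀]
    (N : ℕ) (β : ℕ → A₀ ⊗[A] B)
    (h : ∑ k ∈ Finset.range N, (Polynomial.X ^ k : Polynomial A₀) •
      Algebra.TensorProduct.map (Polynomial.CAlgHom : A₀ →ₐ[A] Polynomial A₀) (AlgHom.id A B)
        (β k) ∈ PolLaw.kerBC F (Polynomial A₀)) :
    ∀ k < N, β k ∈ PolLaw.kerBC F A₀ := by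
  induction N generalizing β with
  | zero => intro k hk; omega
  | succ N ih =>
    set ι : A₀ →ₐ[A] Polynomial A₀ := Polynomial.CAlgHom with hι
    set ev₀ : Polynomial A₀ →ₐ[A] A₀ := (Polynomial.aeval (0 : A₀)).restrictScalars A with hev₀
    have hevι : ev₀.comp ι = AlgHom.id A A₀ := by
      ext a
      simp [hev₀, hι]
    have hevX : ev₀ Polynomial.X = 0 := by simp [hev₀]
    set c : Polynomial A₀ ⊗[A] B := ∑ k ∈ Finset.range N, (Polynomial.X ^ k : Polynomial A₀) •
      Algebra.TensorProduct.map ι (AlgHom.id A B) (β (k + 1)) with hc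
    have hsum : ∑ k ∈ Finset.range (N + 1), (Polynomial.X ^ k : Polynomial A₀) •
        Algebra.TensorProduct.map ι (AlgHom.id A B) (β k) =
        (Polynomial.X : Polynomial A₀) • c + Algebra.TensorProduct.map ι (AlgHom.id A B) (β 0) := by
      rw [Finset.sum_range_succ', pow_zero, one_smul, hc, Finset.smul_sum]
      congr 1
      refine Finset.sum_congr rfl fun k _ => ?_
      rw [pow_succ', mul_smul]
    rw [hsum] at h
    have h0 : β 0 ∈ PolLaw.kerBC F A₀ := by
      have := kerBC_map F ev₀ h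
      rw [map_add, map_smul_tensor, hevX, zero_smul, zero_add, ← AlgHom.comp_apply,
        ← Algebra.TensorProduct.map_comp, AlgHom.comp_id, hevι, Algebra.TensorProduct.map_id,
        AlgHom.id_apply] at this
      exact this
    have h1 : (Polynomial.X : Polynomial A₀) • c ∈ PolLaw.kerBC F (Polynomial A₀) := by
      have := Ideal.sub_mem _ h (kerBC_map F ι h0)
      rwa [add_sub_cancel_right] at this
    have h2 : c ∈ PolLaw.kerBC F (Polynomial A₀) :=
      kerBC_of_smul_mem (A' := Polynomial A₀) F (a := Polynomial.X)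
        Polynomial.X_mem_nonzeroDivisors c h1
    have h3 := ih (fun k => β (k + 1)) h2
    intro k hk
    rcases k with _ | k
    · exact h0
    · exact h3 k (by omega)

/-- every element of `A₀[X] ⊗ B` is a polynomial in `X` with coefficients from `A₀ ⊗ B` -/
theorem exists_poly_repr (A₀ : Type u) [CommRing A₀] [Algebra A A₀] (b' : Polynomial A₀ ⊗[A] B) :
    ∃ (N : ℕ) (β : ℕ → A₀ ⊗[A] B), b' = ∑ k ∈ Finset.range N, (Polynomial.X ^ k : Polynomial A₀) •
      Algebra.TensorProduct.map (Polynomial.CAlgHom : A₀ →ₐ[A] Polynomial A₀) (AlgHom.id A B)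
        (β k) := by
  induction b' using TensorProduct.induction_on with
  | zero => exact ⟨0, fun _ => 0, by simp⟩
  | tmul p b =>
    refine ⟨p.natDegree + 1, fun k => p.coeff k ⊗ₜ[A] b, ?_⟩
    conv_lhs => rw [Polynomial.as_sum_range_C_mul_X_pow p, TensorProduct.sum_tmul]
    refine Finset.sum_congr rfl fun k _ => ?_
    rw [Algebra.TensorProduct.map_tmul, TensorProduct.smul_tmul', smul_eq_mul, mul_comm]
    rfl
  | add x y hx hy =>
    obtain ⟨N₁, β₁, rfl⟩ := hx
    obtain ⟨N₂, β₂, rfl⟩ := hy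
    refine ⟨max N₁ N₂, fun k => (if k < N₁ then β₁ k else 0) + (if k < N₂ then β₂ k else 0), ?_⟩
    simp only [map_add, smul_add, Finset.sum_add_distrib]
    congr 1
    · rw [← Finset.sum_subset (Finset.range_subset_range.2 (le_max_left N₁ N₂))]
      · exact Finset.sum_congr rfl fun k hk => by rw [if_pos (Finset.mem_range.1 hk)]
      · intro k _ hk
        rw [if_neg (by simpa using hk), map_zero, smul_zero]
    · rw [← Finset.sum_subset (Finset.range_subset_range.2 (le_max_right N₁ N₂))]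
      · exact Finset.sum_congr rfl fun k hk => by rw [if_pos (Finset.mem_range.1 hk)]
      · intro k _ hk
        rw [if_neg (by simpa using hk), map_zero, smul_zero]

theorem kerBC_polynomial_le (F : B →ₚₗ[A] A) (A₀ : Type u) [CommRing A₀] [Algebra A A₀]
    (hPi : PolLaw.kerBC F A₀ ≤ extKer F A₀) :
    PolLaw.kerBC F (Polynomial A₀) ≤ extKer F (Polynomial A₀) := by
  intro b' hb'
  obtain ⟨N, β, rfl⟩ := exists_poly_repr A₀ b'
  have h1 := kerBC_polynomial_coeffs F A₀ N β hb'
  refine Ideal.sum_mem _ fun k hk => ?_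
  have h2 := extKer_map F (Polynomial.CAlgHom : A₀ →ₐ[A] Polynomial A₀)
    (hPi (h1 k (Finset.mem_range.1 hk)))
  have h3 : ∀ (s : Polynomial A₀) (z : Polynomial A₀ ⊗[A] B), s • z = (s ⊗ₜ[A] (1 : B)) * z := by
    intro s z
    induction z using TensorProduct.induction_on with
    | zero => simp
    | tmul r b => rw [TensorProduct.smul_tmul', Algebra.TensorProduct.tmul_mul_tmul, smul_eq_mul,
        one_mul]
    | add x y hx hy => rw [smul_add, mul_add, hx, hy]
  rw [h3]
  exact Ideal.mul_mem_left _ _ h2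

/-- every element of `A' ⊗ B` comes from an `A`-algebra over which `kerBC` is the extension of
`ker` -/
theorem exists_generic (F : B →ₚₗ[A] A) (A' : Type u) [CommRing A'] [Algebra A A']
    (y : A' ⊗[A] B) :
    ∃ (A₀ : Type u) (_ : CommRing A₀) (_ : Algebra A A₀) (ψ : A₀ →ₐ[A] A') (y₀ : A₀ ⊗[A] B),
      PolLaw.kerBC F A₀ ≤ extKer F A₀ ∧ Algebra.TensorProduct.map ψ (AlgHom.id A B) y₀ = y := by
  classical
  obtain ⟨σ, I, s, m, rfl⟩ := exists_sum_tmul A' y
  induction I using Finset.induction_on with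
  | empty => exact ⟨A, inferInstance, inferInstance, Algebra.ofId A A', 0, kerBC_self_le F, by simp⟩
  | insert i I hi ih =>
    obtain ⟨A₀, _, _, ψ₀, y₀, hPi, hy₀⟩ := ih
    let ψ₁ : Polynomial A₀ →ₐ[A] A' :=
      Polynomial.eval₂AlgHom ψ₀ (s i) (fun _ => Commute.all _ _)
    have hψ₁ι : ψ₁.comp (Polynomial.CAlgHom : A₀ →ₐ[A] Polynomial A₀) = ψ₀ := by
      ext a
      simp [ψ₁]
    have hψ₁X : ψ₁ Polynomial.X = s i := by simp [ψ₁]
    refine ⟨Polynomial A₀, inferInstance, inferInstance, ψ₁,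
      Algebra.TensorProduct.map (Polynomial.CAlgHom : A₀ →ₐ[A] Polynomial A₀) (AlgHom.id A B) y₀ +
        Polynomial.X ⊗ₜ[A] m i, kerBC_polynomial_le F A₀ hPi, ?_⟩
    rw [map_add, ← AlgHom.comp_apply, ← Algebra.TensorProduct.map_comp, AlgHom.comp_id, hψ₁ι, hy₀,
      Algebra.TensorProduct.map_tmul, hψ₁X, AlgHom.id_apply, Finset.sum_insert hi, add_comm]

end Ker4

end Groth.Agent.Lib.Helper25.PolLawCoeff
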