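import Groth.Agent.Lib.Helper25.PolLawBC
import Groth.Agent.S13697
import Groth.Agent.S13703

set_option autoImplicit false
universe u
open scoped TensorProduct
open ZeroCyc

namespace Groth.Agent.Lib.Helper25.PolLawCoeff

section GD
variable {A : Type u} [CommRing A] {B : Type u} [CommRing B] [Algebra A B] {d : ℕ}

/-- going down for the image of a multiplicative law -/
theorem exists_prime_le_of_le_comap (F : PolLaw.MulLaw A B A d) (Q : Ideal B) [hQ : Q.IsPrime]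
    (hker : PolLaw.ker F.law ≤ Q) (p : Ideal A) [hp : p.IsPrime]
    (hpQ : p ≤ Q.comap (algebraMap A B)) :
    ∃ P : Ideal B, P.IsPrime ∧ PolLaw.ker F.law ≤ P ∧ P ≤ Q ∧ P.comap (algebraMap A B) = p := by
  classical
  -- the base change to the domain `A ⧸ p`
  set F₁ := bcMulLaw (A ⧸ p) F with hF₁
  -- the map `(A ⧸ p) ⊗ B → B ⧸ Q`
  let f₁ : (A ⧸ p) →ₐ[A] (B ⧸ Q) :=
    Ideal.Quotient.liftₐ p (Algebra.ofId A (B ⧸ Q)) (by
      intro a ha
      have h1 : algebraMap A B a ∈ Q := hpQ ha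
      rw [Algebra.ofId_apply, IsScalarTower.algebraMap_apply A B (B ⧸ Q)]
      exact Ideal.Quotient.eq_zero_iff_mem.2 h1)
  let φ : (A ⧸ p) ⊗[A] B →ₐ[A] (B ⧸ Q) :=
    Algebra.TensorProduct.productMap f₁ (Ideal.Quotient.mkₐ A Q)
  set Q₁ : Ideal ((A ⧸ p) ⊗[A] B) := RingHom.ker φ with hQ₁
  have hQ₁prime : Q₁.IsPrime := RingHom.ker_isPrime φ
  have hφr : ∀ b : B, φ ((1 : A ⧸ p) ⊗ₜ[A] b) = Ideal.Quotient.mk Q b := by
    intro b
    simp [φ]
  have hQ₁comap : ∀ b : B, (1 : A ⧸ p) ⊗ₜ[A] b ∈ Q₁ ↔ b ∈ Q := by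
    intro b
    rw [hQ₁, RingHom.mem_ker, hφr, Ideal.Quotient.eq_zero_iff_mem]
  have hle : PolLaw.ker F₁.law ≤ Q₁ := by
    have h1 : PolLaw.ker F₁.law = PolLaw.kerBC F.law (A ⧸ p) := ker_bcLaw (A ⧸ p) F.law
    rw [h1]
    refine le_trans Ideal.le_radical ?_
    rw [Groth.Agent.S13697.result F (A ⧸ p)]
    refine hQ₁prime.radical_le_iff.2 ?_
    rw [Ideal.map_le_iff_le_comap]
    intro b hb
    rw [Ideal.mem_comap]
    exact (hQ₁comap b).2 (hker hb)
  obtain ⟨P₁, hP₁min, hP₁Q₁⟩ := Ideal.exists_minimalPrimes_le hle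
  have hP₁prime : P₁.IsPrime := hP₁min.1.1
  have hdom : IsDomain (A ⧸ p) := Ideal.Quotient.isDomain p
  have h3 := (Groth.Agent.S13703.result F₁ hP₁min).1
  refine ⟨P₁.comap (Algebra.TensorProduct.includeRight : B →ₐ[A] (A ⧸ p) ⊗[A] B),
    Ideal.comap_isPrime _ _, ?_, ?_, ?_⟩
  · intro b hb
    rw [Ideal.mem_comap]
    apply hP₁min.1.2
    have h1 : PolLaw.ker F₁.law = PolLaw.kerBC F.law (A ⧸ p) := ker_bcLaw (A ⧸ p) F.law
    rw [h1]
    exact map_ker_le_kerBC F.law (A ⧸ p) (Ideal.mem_map_of_mem _ hb)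
  · intro b hb
    rw [Ideal.mem_comap] at hb
    exact (hQ₁comap b).1 (hP₁Q₁ hb)
  · ext a
    rw [Ideal.mem_comap, Ideal.mem_comap]
    have h4 : (Algebra.TensorProduct.includeRight : B →ₐ[A] (A ⧸ p) ⊗[A] B) (algebraMap A B a) =
        algebraMap (A ⧸ p) ((A ⧸ p) ⊗[A] B) (Ideal.Quotient.mk p a) := by
      rw [Algebra.TensorProduct.includeRight_apply, Algebra.TensorProduct.algebraMap_apply,
        Algebra.algebraMap_eq_smul_one, ← TensorProduct.smul_tmul]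
      congr 1
      rw [Algebra.algebraMap_self, RingHom.id_apply, Algebra.smul_def, mul_one]
      rfl
    rw [h4, ← Ideal.mem_comap, h3, Ideal.mem_bot, Ideal.Quotient.eq_zero_iff_mem]

end GD

end Groth.Agent.Lib.Helper25.PolLawCoeff
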