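import Groth.Agent.Lib.Helper25.PolLawBC

/-!
# Multiplicative laws and orthogonal idempotents
-/

namespace Groth.Agent.Lib.Helper25.PolLawCoeff
open scoped TensorProduct
universe u

section Idem0
variable {A : Type u} [CommRing A]

theorem idem_eq_zero_or_one [ConnectedSpace (PrimeSpectrum A)] (e : A) (he : IsIdempotentElem e) :
    e = 0 ∨ e = 1 := by
  set c := PrimeSpectrum.isIdempotentElemEquivClopens ⟨e, he⟩ with hc
  rcases isClopen_iff.1 c.isClopen with h | h
  · left
    have h1 : c = ⊥ := TopologicalSpace.Clopens.ext h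
    have h2 : c = PrimeSpectrum.isIdempotentElemEquivClopens ⟨(0 : A), IsIdempotentElem.zero⟩ := by
      rw [h1]
      exact (map_bot PrimeSpectrum.isIdempotentElemEquivClopens).symm
    exact congrArg Subtype.val (PrimeSpectrum.isIdempotentElemEquivClopens.injective h2)
  · right
    have h1 : c = ⊤ := TopologicalSpace.Clopens.ext h
    have h2 : c = PrimeSpectrum.isIdempotentElemEquivClopens ⟨(1 : A), IsIdempotentElem.one⟩ := by
      rw [h1]
      exact (map_top PrimeSpectrum.isIdempotentElemEquivClopens).symm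
    exact congrArg Subtype.val (PrimeSpectrum.isIdempotentElemEquivClopens.injective h2)

end Idem0

section Idem1
variable {A : Type u} [CommRing A] {B : Type u} [CommRing B] [Algebra A B] {d : ℕ}
  {J : Type u} [Fintype J] [DecidableEq J]

/-- the coefficients of a multiplicative law at a complete family of orthogonal idempotents are
orthogonal idempotents -/
theorem coeff_idem_mul (F : PolLaw.MulLaw A B A d) (e : J → B)
    (horth : ∀ i j, i ≠ j → e i * e j = 0) (hidem : ∀ i, e i * e i = e i)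
    (ν₀ μ₀ : J →₀ ℕ) :
    coeff F.law e Finset.univ ν₀ * coeff F.law e Finset.univ μ₀ =
      if ν₀ = μ₀ then coeff F.law e Finset.univ ν₀ else 0 := by
  classical
  set a := coeff F.law e Finset.univ with ha
  set S := MvPolynomial (J ⊕ J) A
  set x : S ⊗[A] B := ∑ i, (MvPolynomial.X (Sum.inl i) : S) ⊗ₜ[A] e i with hx
  set y : S ⊗[A] B := ∑ j, (MvPolynomial.X (Sum.inr j) : S) ⊗ₜ[A] e j with hy
  have hxy : x * y = ∑ i,
      ((MvPolynomial.X (Sum.inl i) : S) * MvPolynomial.X (Sum.inr i)) ⊗ₜ[A] e i := by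
    rw [hx, hy, Finset.sum_mul_sum]
    refine Finset.sum_congr rfl fun i _ => ?_
    rw [Finset.sum_eq_single i]
    · rw [Algebra.TensorProduct.tmul_mul_tmul, hidem]
    · intro j _ hji
      rw [Algebra.TensorProduct.tmul_mul_tmul, horth i j (Ne.symm hji), TensorProduct.tmul_zero]
    · intro h; exact absurd (Finset.mem_univ i) h
  have hmul := (F.mult S).2 x y
  rw [hxy, toFun'_sum F.law e Finset.univ S
      (fun i => MvPolynomial.X (Sum.inl i) * MvPolynomial.X (Sum.inr i)),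
    hx, hy, toFun'_sum F.law e Finset.univ S (fun i => MvPolynomial.X (Sum.inl i)),
    toFun'_sum F.law e Finset.univ S (fun j => MvPolynomial.X (Sum.inr j)),
    Finset.sum_mul_sum, ← Finset.sum_product'] at hmul
  set ε : (J →₀ ℕ) × (J →₀ ℕ) → (J ⊕ J →₀ ℕ) :=
    fun q => q.1.mapDomain Sum.inl + q.2.mapDomain Sum.inr with hε
  have hterm : ∀ q : (J →₀ ℕ) × (J →₀ ℕ),
      ((q.1.prod fun i k => (MvPolynomial.X (Sum.inl i) : S) ^ k) ⊗ₜ[A] a q.1) *
        ((q.2.prod fun j k => (MvPolynomial.X (Sum.inr j) : S) ^ k) ⊗ₜ[A] a q.2) =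
      MvPolynomial.monomial (ε q) (1 : A) ⊗ₜ[A] (a q.1 * a q.2) := by
    intro q
    rw [Algebra.TensorProduct.tmul_mul_tmul, prod_X_comp_eq_monomial _ Sum.inl_injective,
      prod_X_comp_eq_monomial _ Sum.inr_injective, MvPolynomial.monomial_mul, one_mul]
  have hterm2 : ∀ ν : J →₀ ℕ,
      (ν.prod fun i k => ((MvPolynomial.X (Sum.inl i) : S) * MvPolynomial.X (Sum.inr i)) ^ k) =
      MvPolynomial.monomial (ε (ν, ν)) (1 : A) := by
    intro ν
    simp only [mul_pow]
    rw [Finsupp.prod_mul, prod_X_comp_eq_monomial _ Sum.inl_injective,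
      prod_X_comp_eq_monomial _ Sum.inr_injective, MvPolynomial.monomial_mul, one_mul]
  rw [Finset.sum_congr rfl (fun q _ => hterm q),
    Finset.sum_congr rfl (fun ν _ => by rw [hterm2 ν])] at hmul
  have hinj : Function.Injective ε := by
    rintro ⟨a₁, a₁'⟩ ⟨b₁, b₁'⟩ hab
    simp only [hε] at hab
    have h1 : a₁ = b₁ := by
      ext i
      have := DFunLike.congr_fun hab (Sum.inl i)
      simpa [Finsupp.mapDomain_apply Sum.inl_injective,
        Finsupp.mapDomain_of_notMem_range] using this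
    have h2 : a₁' = b₁' := by
      ext j
      have := DFunLike.congr_fun hab (Sum.inr j)
      simpa [Finsupp.mapDomain_apply Sum.inr_injective,
        Finsupp.mapDomain_of_notMem_range] using this
    rw [h1, h2]
  have h2 := DFunLike.congr_fun (congrArg (tc (J ⊕ J) A) hmul) (ε (ν₀, μ₀))
  have hR : tc (J ⊕ J) A (∑ q ∈ a.support ×ˢ a.support,
      MvPolynomial.monomial (ε q) (1 : A) ⊗ₜ[A] (a q.1 * a q.2))
      (ε (ν₀, μ₀)) = a ν₀ * a μ₀ := by
    by_cases hmem : (ν₀, μ₀) ∈ a.support ×ˢ a.support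
    · exact tc_injective_sum (J ⊕ J) A _ ε (hinj.injOn) _ hmem
    · rw [tc_sum_monomial, Finset.sum_eq_zero]
      · rw [Finset.mem_product, not_and_or] at hmem
        rcases hmem with h | h
        · rw [Finsupp.notMem_support_iff.1 h, zero_mul]
        · rw [Finsupp.notMem_support_iff.1 h, mul_zero]
      · intro q hq
        rw [Finset.mem_filter] at hq
        exact absurd (hinj hq.2 ▸ hq.1) hmem
  rw [hR, tc_sum_monomial] at h2
  simp only [← ha] at h2 ⊢
  rw [← h2]
  split_ifs with hνμ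
  · subst hνμ
    by_cases hmem : ν₀ ∈ a.support
    · refine Finset.sum_eq_single_of_mem ν₀ (Finset.mem_filter.2 ⟨hmem, rfl⟩) ?_
      intro ν hν hne
      rw [Finset.mem_filter] at hν
      exact absurd (congrArg Prod.fst (hinj hν.2)) hne
    · rw [Finsupp.notMem_support_iff.1 hmem]
      refine Finset.sum_eq_zero fun ν hν => ?_
      rw [Finset.mem_filter] at hν
      have := congrArg Prod.fst (hinj hν.2)
      simp only at this
      rw [this, Finsupp.notMem_support_iff.1 hmem]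
  · refine Finset.sum_eq_zero fun ν hν => ?_
    rw [Finset.mem_filter] at hν
    have h3 := hinj hν.2
    exact absurd ((congrArg Prod.fst h3).symm.trans (congrArg Prod.snd h3)) hνμ

end Idem1

section Idem2
variable {A : Type u} [CommRing A] {B : Type u} [CommRing B] [Algebra A B] {d : ℕ}
  {J : Type u} [Fintype J] [DecidableEq J]

omit [DecidableEq J] in
theorem coeff_idem_sum (F : PolLaw.MulLaw A B A d) (e : J → B) (hsum : ∑ i, e i = 1) :
    ((coeff F.law e Finset.univ).sum fun _ a => a) = 1 := by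
  classical
  have h := toFun'_sum F.law e Finset.univ A (fun _ => (1 : A))
  have h1 : ∑ i, (1 : A) ⊗ₜ[A] e i = (1 : A ⊗[A] B) := by
    rw [← TensorProduct.tmul_sum, hsum]
    rfl
  rw [h1, (F.mult A).1] at h
  have h2 := congrArg (TensorProduct.lid A A) h
  rw [map_sum, Algebra.TensorProduct.one_def, TensorProduct.lid_tmul, smul_eq_mul, mul_one] at h2
  rw [Finsupp.sum, h2]
  refine Finset.sum_congr rfl fun ν _ => ?_
  rw [TensorProduct.lid_tmul]
  simp

/-- Over a base with connected spectrum a multiplicative law is a monomial on a complete family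
of orthogonal idempotents. -/
theorem exists_exponent [ConnectedSpace (PrimeSpectrum A)] (F : PolLaw.MulLaw A B A d)
    (e : J → B) (horth : ∀ i j, i ≠ j → e i * e j = 0) (hidem : ∀ i, e i * e i = e i)
    (hsum : ∑ i, e i = 1) :
    ∃ ν₀ : J →₀ ℕ, ν₀.degree = d ∧
      ∀ (S : Type u) [CommSemiring S] [Algebra A S] (s : J → S),
        F.law.toFun' S (∑ i, s i ⊗ₜ[A] e i) = (ν₀.prod fun i k => s i ^ k) ⊗ₜ[A] (1 : A) := by
  classical
  have : Nontrivial A := by
    have : Nonempty (PrimeSpectrum A) := inferInstance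
    exact (PrimeSpectrum.nonempty_iff_nontrivial.1 this)
  set a := coeff F.law e Finset.univ with ha
  have hmul := coeff_idem_mul F e horth hidem
  have h01 : ∀ ν, a ν = 0 ∨ a ν = 1 := fun ν =>
    idem_eq_zero_or_one (a ν) (by
      have := hmul ν ν
      rw [if_pos rfl] at this
      exact this)
  have hs := coeff_idem_sum F e hsum
  obtain ⟨ν₀, hν₀⟩ : ∃ ν₀, a ν₀ = 1 := by
    by_contra hne
    push Not at hne
    have : ∀ ν, a ν = 0 := fun ν => (h01 ν).resolve_right (hne ν)
    rw [Finsupp.sum, Finset.sum_eq_zero (fun ν _ => this ν)] at hs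
    exact zero_ne_one hs
  have hother : ∀ ν, ν ≠ ν₀ → a ν = 0 := by
    intro ν hν
    have := hmul ν ν₀
    rw [if_neg hν, hν₀, mul_one] at this
    exact this
  refine ⟨ν₀, ?_, ?_⟩
  · exact coeff_degree F.law F.homog e Finset.univ ν₀ (by rw [← ha, hν₀]; exact one_ne_zero)
  · intro S _ _ s
    rw [toFun'_sum]
    have hmem : ν₀ ∈ a.support := by
      rw [Finsupp.mem_support_iff, hν₀]
      exact one_ne_zero
    rw [Finset.sum_eq_single_of_mem ν₀ hmem, ← ha, hν₀]
    intro ν _ hne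
    rw [← ha, hother ν hne, TensorProduct.tmul_zero]

/-- an idempotent of the family whose exponent vanishes lies in the kernel -/
theorem idem_mem_ker_of_exponent_zero (F : PolLaw.MulLaw A B A d)
    (e : J → B) (horth : ∀ i j, i ≠ j → e i * e j = 0) (ν₀ : J →₀ ℕ)
    (hν₀ : ∀ (S : Type u) [CommSemiring S] [Algebra A S] (s : J → S),
        F.law.toFun' S (∑ i, s i ⊗ₜ[A] e i) = (ν₀.prod fun i k => s i ^ k) ⊗ₜ[A] (1 : A))
    (j : J) (hj : ν₀ j = 0) : e j ∈ PolLaw.ker F.law := by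
  intro S _ _ x w
  set s : J → S := fun i => if i = j then 0 else 1 with hs
  set y₀ : S ⊗[A] B := ∑ i, s i ⊗ₜ[A] e i with hy₀
  have hFy₀ : F.law.toFun' S y₀ = 1 := by
    rw [hy₀, hν₀ S s, Algebra.TensorProduct.one_def]
    congr 1
    rw [Finsupp.prod]
    refine Finset.prod_eq_one fun i hi => ?_
    by_cases hij : i = j
    · rw [hij, hj, pow_zero]
    · rw [hs]
      simp only [if_neg hij, one_pow]
  have hy₀e : y₀ * ((1 : S) ⊗ₜ[A] e j) = 0 := by
    rw [hy₀, Finset.sum_mul]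
    refine Finset.sum_eq_zero fun i _ => ?_
    rw [Algebra.TensorProduct.tmul_mul_tmul]
    by_cases hij : i = j
    · rw [hs]
      simp only [if_pos hij, zero_mul, TensorProduct.zero_tmul]
    · rw [horth i j hij, TensorProduct.tmul_zero]
  have h1 : ∀ z : S ⊗[A] B, F.law.toFun' S z = F.law.toFun' S (z * y₀) := by
    intro z
    rw [(F.mult S).2, hFy₀, mul_one]
  rw [h1 (x + w * (1 ⊗ₜ[A] e j)), h1 x, add_mul, mul_assoc, mul_comm (1 ⊗ₜ[A] e j) y₀, hy₀e,
    mul_zero, add_zero]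

end Idem2

section Idem3
variable {A : Type u} [CommRing A] {B₁ B₂ : Type u} [CommRing B₁] [Algebra A B₁] [CommRing B₂]
  [Algebra A B₂] {d : ℕ}

variable (S : Type u) [CommSemiring S] [Algebra A S]

/-- `S ⊗ B₁ → S ⊗ (B₁ × B₂)` -/
noncomputable abbrev inlT : S ⊗[A] B₁ →ₗ[A] S ⊗[A] (B₁ × B₂) := (LinearMap.inl A B₁ B₂).lTensor S
/-- `S ⊗ B₂ → S ⊗ (B₁ × B₂)` -/
noncomputable abbrev inrT : S ⊗[A] B₂ →ₗ[A] S ⊗[A] (B₁ × B₂) := (LinearMap.inr A B₁ B₂).lTensor S

variable {S}

theorem inlT_mul (x y : S ⊗[A] B₁) : inlT (B₂ := B₂) S (x * y) = inlT S x * inlT S y := by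
  induction x using TensorProduct.induction_on with
  | zero => simp
  | tmul s b =>
    induction y using TensorProduct.induction_on with
    | zero => simp
    | tmul s' b' =>
      simp only [inlT, Algebra.TensorProduct.tmul_mul_tmul, LinearMap.lTensor_tmul,
        LinearMap.inl_apply, Prod.mk_mul_mk, mul_zero]
    | add y y' hy hy' => rw [mul_add, map_add, map_add, hy, hy', mul_add]
  | add x x' hx hx' => rw [add_mul, map_add, map_add, hx, hx', add_mul]

theorem inrT_mul (x y : S ⊗[A] B₂) : inrT (B₁ := B₁) S (x * y) = inrT S x * inrT S y := by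
  induction x using TensorProduct.induction_on with
  | zero => simp
  | tmul s b =>
    induction y using TensorProduct.induction_on with
    | zero => simp
    | tmul s' b' =>
      simp only [inrT, Algebra.TensorProduct.tmul_mul_tmul, LinearMap.lTensor_tmul,
        LinearMap.inr_apply, Prod.mk_mul_mk, mul_zero]
    | add y y' hy hy' => rw [mul_add, map_add, map_add, hy, hy', mul_add]
  | add x x' hx hx' => rw [add_mul, map_add, map_add, hx, hx', add_mul]

theorem inlT_mul_tmul (x : S ⊗[A] B₁) (s : S) (b₁ : B₁) (b₂ : B₂) :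
    inlT (B₂ := B₂) S x * (s ⊗ₜ[A] (b₁, b₂)) = inlT S (x * (s ⊗ₜ[A] b₁)) := by
  induction x using TensorProduct.induction_on with
  | zero => simp
  | tmul s' b' =>
    simp only [inlT, Algebra.TensorProduct.tmul_mul_tmul, LinearMap.lTensor_tmul,
      LinearMap.inl_apply, Prod.mk_mul_mk, zero_mul]
  | add x x' hx hx' => rw [map_add, add_mul, hx, hx', add_mul, map_add]

theorem inrT_mul_tmul (x : S ⊗[A] B₂) (s : S) (b₁ : B₁) (b₂ : B₂) :
    inrT (B₁ := B₁) S x * (s ⊗ₜ[A] (b₁, b₂)) = inrT S (x * (s ⊗ₜ[A] b₂)) := by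
  induction x using TensorProduct.induction_on with
  | zero => simp
  | tmul s' b' =>
    simp only [inrT, Algebra.TensorProduct.tmul_mul_tmul, LinearMap.lTensor_tmul,
      LinearMap.inr_apply, Prod.mk_mul_mk, zero_mul]
  | add x x' hx hx' => rw [map_add, add_mul, hx, hx', add_mul, map_add]

theorem inlT_mul_inrT (x : S ⊗[A] B₁) (y : S ⊗[A] B₂) :
    inlT (B₂ := B₂) S x * inrT (B₁ := B₁) S y = 0 := by
  induction y using TensorProduct.induction_on with
  | zero => simp
  | tmul s b =>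
    show inlT S x * (s ⊗ₜ[A] ((0 : B₁), b)) = 0
    rw [inlT_mul_tmul, TensorProduct.tmul_zero, mul_zero, map_zero]
  | add y y' hy hy' => rw [map_add, mul_add, hy, hy', add_zero]

theorem eq_inlT_add_inrT (x : S ⊗[A] (B₁ × B₂)) :
    x = inlT S ((LinearMap.fst A B₁ B₂).lTensor S x) +
      inrT S ((LinearMap.snd A B₁ B₂).lTensor S x) := by
  induction x using TensorProduct.induction_on with
  | zero => simp
  | tmul s b =>
    simp only [inlT, inrT, LinearMap.lTensor_tmul, LinearMap.fst_apply, LinearMap.snd_apply,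
      LinearMap.inl_apply, LinearMap.inr_apply, ← TensorProduct.tmul_add, Prod.mk_add_mk, add_zero,
      zero_add]
  | add x y hx hy =>
    simp only [map_add]
    rw [add_add_add_comm, ← hx, ← hy]

end Idem3

section Idem4
variable {A : Type u} [CommRing A] {B₁ B₂ : Type u} [CommRing B₁] [Algebra A B₁] [CommRing B₂]
  [Algebra A B₂] {d : ℕ}

/-- the first component law `x₁ ↦ F (x₁, 1)` -/
noncomputable def fstLaw (F : (B₁ × B₂) →ₚₗ[A] A) : B₁ →ₚₗ[A] A where
  toFun' S _ _ := fun x₁ => F.toFun' S (inlT S x₁ + (1 : S) ⊗ₜ[A] ((0 : B₁), (1 : B₂)))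
  isCompat' {S} _ _ {S'} _ _ φ := by
    funext x₁
    simp only [Function.comp_apply]
    rw [PolynomialLaw.isCompat_apply']
    congr 1
    rw [map_add, LinearMap.rTensor_tmul, AlgHom.toLinearMap_apply, map_one]
    congr 1
    rw [inlT, inlT, ← LinearMap.comp_apply, ← LinearMap.comp_apply,
      LinearMap.rTensor_comp_lTensor, LinearMap.lTensor_comp_rTensor]

/-- the second component law `x₂ ↦ F (1, x₂)` -/
noncomputable def sndLaw (F : (B₁ × B₂) →ₚₗ[A] A) : B₂ →ₚₗ[A] A where
  toFun' S _ _ := fun x₂ => F.toFun' S ((1 : S) ⊗ₜ[A] ((1 : B₁), (0 : B₂)) + inrT S x₂)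
  isCompat' {S} _ _ {S'} _ _ φ := by
    funext x₂
    simp only [Function.comp_apply]
    rw [PolynomialLaw.isCompat_apply']
    congr 1
    rw [map_add, LinearMap.rTensor_tmul, AlgHom.toLinearMap_apply, map_one]
    congr 1
    rw [inrT, inrT, ← LinearMap.comp_apply, ← LinearMap.comp_apply,
      LinearMap.rTensor_comp_lTensor, LinearMap.lTensor_comp_rTensor]

variable {S : Type u} [CommSemiring S] [Algebra A S]

theorem tmul_one_mul' {M : Type u} [CommRing M] [Algebra A M] (s : S) (z : S ⊗[A] M) :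
    (s ⊗ₜ[A] (1 : M)) * z = s • z := (smul_eq_tmul_one_mul s z).symm

theorem inlT_mul_left (x : S ⊗[A] B₁) (s : S) :
    (s ⊗ₜ[A] ((1 : B₁), (0 : B₂))) * inlT S x = inlT S (s • x) := by
  rw [mul_comm, inlT_mul_tmul, mul_comm, tmul_one_mul']

theorem inlT_mul_right_zero (x : S ⊗[A] B₁) (s : S) :
    (s ⊗ₜ[A] ((0 : B₁), (1 : B₂))) * inlT S x = 0 := by
  rw [mul_comm, inlT_mul_tmul, TensorProduct.tmul_zero, mul_zero, map_zero]

theorem inrT_mul_left (x : S ⊗[A] B₂) (s : S) :
    (s ⊗ₜ[A] ((0 : B₁), (1 : B₂))) * inrT S x = inrT S (s • x) := by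
  rw [mul_comm, inrT_mul_tmul, mul_comm, tmul_one_mul']

theorem inrT_mul_right_zero (x : S ⊗[A] B₂) (s : S) :
    (s ⊗ₜ[A] ((1 : B₁), (0 : B₂))) * inrT S x = 0 := by
  rw [mul_comm, inrT_mul_tmul, TensorProduct.tmul_zero, mul_zero, map_zero]

theorem tmul_e_mul_e (s t : S) :
    (s ⊗ₜ[A] ((1 : B₁), (0 : B₂))) * (t ⊗ₜ[A] ((0 : B₁), (1 : B₂))) = 0 := by
  rw [Algebra.TensorProduct.tmul_mul_tmul, Prod.mk_mul_mk, mul_zero, zero_mul, Prod.mk_zero_zero,
    TensorProduct.tmul_zero]

theorem tmul_e₂_mul_e₂ (s t : S) :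
    (s ⊗ₜ[A] ((0 : B₁), (1 : B₂))) * (t ⊗ₜ[A] ((0 : B₁), (1 : B₂))) =
      (s * t) ⊗ₜ[A] ((0 : B₁), (1 : B₂)) := by
  rw [Algebra.TensorProduct.tmul_mul_tmul, Prod.mk_mul_mk, mul_zero, mul_one]

theorem tmul_e₁_mul_e₁ (s t : S) :
    (s ⊗ₜ[A] ((1 : B₁), (0 : B₂))) * (t ⊗ₜ[A] ((1 : B₁), (0 : B₂))) =
      (s * t) ⊗ₜ[A] ((1 : B₁), (0 : B₂)) := by
  rw [Algebra.TensorProduct.tmul_mul_tmul, Prod.mk_mul_mk, mul_zero, mul_one]

theorem split_fst (s : S) (x : S ⊗[A] B₁) :
    inlT (B₂ := B₂) S (s • x) + (1 : S) ⊗ₜ[A] ((0 : B₁), (1 : B₂)) =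
      (s ⊗ₜ[A] ((1 : B₁), (0 : B₂)) + (1 : S) ⊗ₜ[A] ((0 : B₁), (1 : B₂))) *
        (inlT S x + (1 : S) ⊗ₜ[A] ((0 : B₁), (1 : B₂))) := by
  rw [add_mul, mul_add, mul_add, inlT_mul_left, inlT_mul_right_zero, tmul_e_mul_e,
    tmul_e₂_mul_e₂, mul_one, add_zero, zero_add]

theorem split_snd (t : S) (x : S ⊗[A] B₂) :
    (1 : S) ⊗ₜ[A] ((1 : B₁), (0 : B₂)) + inrT (B₁ := B₁) S (t • x) =
      ((1 : S) ⊗ₜ[A] ((1 : B₁), (0 : B₂)) + t ⊗ₜ[A] ((0 : B₁), (1 : B₂))) *
        ((1 : S) ⊗ₜ[A] ((1 : B₁), (0 : B₂)) + inrT S x) := by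
  rw [add_mul, mul_add, mul_add, inrT_mul_left, inrT_mul_right_zero, mul_comm (t ⊗ₜ[A] _)
    ((1 : S) ⊗ₜ[A] ((1 : B₁), (0 : B₂))), tmul_e_mul_e, tmul_e₁_mul_e₁, mul_one, add_zero,
    zero_add]

theorem split_mul_fst (x y : S ⊗[A] B₁) :
    inlT (B₂ := B₂) S (x * y) + (1 : S) ⊗ₜ[A] ((0 : B₁), (1 : B₂)) =
      (inlT S x + (1 : S) ⊗ₜ[A] ((0 : B₁), (1 : B₂))) *
        (inlT S y + (1 : S) ⊗ₜ[A] ((0 : B₁), (1 : B₂))) := by
  rw [add_mul, mul_add, mul_add, inlT_mul_right_zero,
    mul_comm (inlT (B₂ := B₂) S x) ((1 : S) ⊗ₜ[A] ((0 : B₁), (1 : B₂))),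
    inlT_mul_right_zero, tmul_e₂_mul_e₂, mul_one, inlT_mul, add_zero, zero_add]

theorem split_mul_snd (x y : S ⊗[A] B₂) :
    (1 : S) ⊗ₜ[A] ((1 : B₁), (0 : B₂)) + inrT (B₁ := B₁) S (x * y) =
      ((1 : S) ⊗ₜ[A] ((1 : B₁), (0 : B₂)) + inrT S x) *
        ((1 : S) ⊗ₜ[A] ((1 : B₁), (0 : B₂)) + inrT S y) := by
  rw [add_mul, mul_add, mul_add, inrT_mul_right_zero,
    mul_comm (inrT (B₁ := B₁) S x) ((1 : S) ⊗ₜ[A] ((1 : B₁), (0 : B₂))),
    inrT_mul_right_zero, tmul_e₁_mul_e₁, mul_one, inrT_mul, add_zero, zero_add]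

theorem split_prod (x : S ⊗[A] (B₁ × B₂)) :
    x = (inlT S ((LinearMap.fst A B₁ B₂).lTensor S x) + (1 : S) ⊗ₜ[A] ((0 : B₁), (1 : B₂))) *
      ((1 : S) ⊗ₜ[A] ((1 : B₁), (0 : B₂)) + inrT S ((LinearMap.snd A B₁ B₂).lTensor S x)) := by
  rw [add_mul, mul_add, mul_add, inlT_mul_inrT,
    mul_comm (inlT (B₂ := B₂) S _) ((1 : S) ⊗ₜ[A] ((1 : B₁), (0 : B₂))), inlT_mul_left,
    one_smul, inrT_mul_left, one_smul,
    mul_comm ((1 : S) ⊗ₜ[A] ((0 : B₁), (1 : B₂))) ((1 : S) ⊗ₜ[A] ((1 : B₁), (0 : B₂))),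
    tmul_e_mul_e, add_zero, zero_add]
  exact eq_inlT_add_inrT x

end Idem4

section Pts1
variable {A : Type u} [CommRing A] {B : Type u} [CommRing B] [Algebra A B] {d : ℕ}

/-- the coefficients of the characteristic polynomial: a monic polynomial of degree `d` -/
theorem exists_monic_charPoly (F : PolLaw.MulLaw A B A d) (b : B) :
    ∃ q : Polynomial A, q.degree < d ∧
      ∀ (R : Type u) [CommRing R] [Algebra A R] (r : R),
        ((coeff F.law (fam2 b) Finset.univ).sum fun ν a => a • r ^ ν ⟨false⟩) =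
          Polynomial.aeval r (Polynomial.X ^ d + q) := by
  classical
  set c := coeff F.law (fam2 b) Finset.univ with hc
  set ν₀ : ULift.{u} Bool →₀ ℕ := Finsupp.single ⟨false⟩ d with hν₀
  have hc0 : c ν₀ = 1 := by
    rw [hc, coeff_shrink F.law (fam2 b) (Finset.subset_univ {⟨false⟩}) ν₀
      (Finsupp.support_single_subset)]
    exact coeff_single_of_one F (fam2 b) ⟨false⟩ (by simp [fam2])
  have hdeg : ∀ ν ∈ c.support, ν ⟨true⟩ + ν ⟨false⟩ = d := by
    intro ν hν
    have := coeff_degree F.law F.homog (fam2 b) Finset.univ ν (Finsupp.mem_support_iff.1 hν)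
    rw [Finsupp.degree_eq_sum, sum_ulift_bool] at this
    exact this
  refine ⟨∑ ν ∈ c.support.erase ν₀, Polynomial.C (c ν) * Polynomial.X ^ ν ⟨false⟩, ?_, ?_⟩
  · refine lt_of_le_of_lt (Polynomial.degree_sum_le _ _) ?_
    refine (Finset.sup_lt_iff (WithBot.bot_lt_coe d)).2 ?_
    intro ν hν
    rw [Finset.mem_erase] at hν
    refine lt_of_le_of_lt (Polynomial.degree_C_mul_X_pow_le _ _) ?_
    have h1 := hdeg ν hν.2
    have h2 : ν ⟨true⟩ ≠ 0 := by
      intro h0
      apply hν.1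
      ext ⟨k⟩
      cases k
      · rw [hν₀, Finsupp.single_eq_same]; omega
      · rw [hν₀, Finsupp.single_eq_of_ne (by simp), h0]
    have h3 : ν ⟨false⟩ < d := by omega
    exact WithBot.coe_lt_coe.2 h3
  · intro R _ _ r
    rw [map_add, map_pow, Polynomial.aeval_X, map_sum, Finsupp.sum]
    by_cases hmem : ν₀ ∈ c.support
    · rw [← Finset.add_sum_erase _ _ hmem, hc0, one_smul]
      congr 1
      · rw [hν₀, Finsupp.single_eq_same]
      · refine Finset.sum_congr rfl fun ν _ => ?_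
        rw [map_mul, Polynomial.aeval_C, map_pow, Polynomial.aeval_X, Algebra.smul_def]
    · have h01 : (0 : A) = 1 := by
        rw [← hc0]; exact (Finsupp.notMem_support_iff.1 hmem).symm
      have : Subsingleton A := subsingleton_of_zero_eq_one h01
      have : Subsingleton R := Module.subsingleton A R
      exact Subsingleton.elim _ _

/-- the characteristic polynomial is, up to the substitution `X ↦ -X`, monic of degree `d` -/
theorem charPoly_eq_comp (F : PolLaw.MulLaw A B A d) (b : B) :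
    ∃ q : Polynomial A, q.degree < d ∧
      TensorProduct.rid A (Polynomial A) (F.law.toFun' (Polynomial A)
        ((1 : Polynomial A) ⊗ₜ[A] b - Polynomial.X ⊗ₜ[A] (1 : B))) =
      (Polynomial.X ^ d + q).comp (-Polynomial.X) := by
  classical
  obtain ⟨q, hq, h⟩ := exists_monic_charPoly F b
  refine ⟨q, hq, ?_⟩
  have h1 := h (Polynomial A) (-Polynomial.X)
  rw [Polynomial.comp_eq_aeval, ← h1]
  set s : ULift.{u} Bool → Polynomial A := fun k => if k.down then 1 else -Polynomial.X with hs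
  have hs1 : s ⟨true⟩ = 1 := by simp [hs]
  have hs2 : s ⟨false⟩ = -Polynomial.X := by simp [hs]
  have hsum : (1 : Polynomial A) ⊗ₜ[A] b - Polynomial.X ⊗ₜ[A] (1 : B) =
      ∑ k, s k ⊗ₜ[A] fam2 b k := by
    rw [sum_ulift_bool, hs1, hs2, TensorProduct.neg_tmul, sub_eq_add_neg]
    rfl
  rw [hsum, toFun'_sum, map_sum, Finsupp.sum]
  refine Finset.sum_congr rfl fun ν _ => ?_
  rw [TensorProduct.rid_tmul, prod_fam2, hs1, hs2, one_pow, one_mul]

end Pts1

section Pts2
variable {A : Type u} [CommRing A] {B : Type u} [CommRing B] [Algebra A B] {d : ℕ}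

theorem charPoly_bcLaw (A' : Type u) [CommRing A'] [Algebra A A'] (F : PolLaw.MulLaw A B A d)
    (y : A' ⊗[A] B) :
    TensorProduct.rid A' (Polynomial A')
      ((bcMulLaw A' F).law.toFun' (Polynomial A') ((1 : Polynomial A') ⊗ₜ[A'] y -
        Polynomial.X ⊗ₜ[A'] (1 : A' ⊗[A] B))) = charPolyRel F.law A' y := by
  show TensorProduct.rid A' (Polynomial A')
    ((bcLaw A' F.law).toFun' (Polynomial A') _) = _
  rw [bcLaw_toFun', map_sub, cancel_one_tmul]
  have h1 : Algebra.TensorProduct.cancelBaseChange A A' (Polynomial A') (Polynomial A') B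
      ((Polynomial.X : Polynomial A') ⊗ₜ[A'] (1 : A' ⊗[A] B)) = Polynomial.X ⊗ₜ[A] (1 : B) := by
    rw [Algebra.TensorProduct.one_def, Algebra.TensorProduct.cancelBaseChange_tmul, one_smul]
  rw [h1, Algebra.TensorProduct.rid_symm_apply, TensorProduct.rid_tmul, one_smul]
  rfl

/-- the relative characteristic polynomial is, up to `X ↦ -X`, monic of degree `d` -/
theorem charPolyRel_eq_comp (A' : Type u) [CommRing A'] [Algebra A A']
    (F : PolLaw.MulLaw A B A d) (y : A' ⊗[A] B) :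
    ∃ q : Polynomial A', q.degree < d ∧
      charPolyRel F.law A' y = (Polynomial.X ^ d + q).comp (-Polynomial.X) := by
  obtain ⟨q, hq, h⟩ := charPoly_eq_comp (bcMulLaw A' F) y
  exact ⟨q, hq, by rw [← h, charPoly_bcLaw]⟩

/-- A multiplicative law of degree `d` has at most `d` points in its support with values in an
infinite field. -/
theorem card_points_le {L : Type u} [Field L] [Algebra A L] [Infinite L]
    (F : PolLaw.MulLaw A B A d) {n : ℕ} (β : Fin n → (B →ₐ[A] L)) (hβ : Function.Injective β)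
    (hker : ∀ i, ∀ b ∈ PolLaw.ker F.law, β i b = 0) : n ≤ d := by
  classical
  set βt : Fin n → (L ⊗[A] B →ₐ[L] L) := fun i =>
    Algebra.TensorProduct.lift (AlgHom.id L L) (β i) (fun _ _ => Commute.all _ _) with hβt
  have hβt_tmul : ∀ i (l : L) (b : B), βt i (l ⊗ₜ[A] b) = l * β i b := by
    intro i l b
    simp [hβt]
  -- a separating element
  obtain ⟨y, hy⟩ : ∃ y : L ⊗[A] B, ∀ p : {p : Fin n × Fin n // p.1 ≠ p.2},
      ((βt p.1.1).toLinearMap - (βt p.1.2).toLinearMap : Module.Dual L (L ⊗[A] B)) y ≠ 0 := by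
    apply Module.Dual.exists_forall_ne_zero_of_forall_exists
    rintro ⟨⟨i, j⟩, hij⟩
    have hne : β i ≠ β j := fun h => hij (hβ h)
    obtain ⟨b, hb⟩ := DFunLike.ne_iff.1 hne
    refine ⟨(1 : L) ⊗ₜ[A] b, ?_⟩
    simp only [LinearMap.sub_apply, AlgHom.toLinearMap_apply, hβt_tmul, one_mul]
    exact sub_ne_zero.2 hb
  have hsep : ∀ i j, i ≠ j → βt i y ≠ βt j y := by
    intro i j hij
    have := hy ⟨(i, j), hij⟩
    simpa [sub_ne_zero] using this
  obtain ⟨q, hq, hχ⟩ := charPolyRel_eq_comp L F y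
  set p : Polynomial L := Polynomial.X ^ d + q with hp
  have hpmonic : p.Monic := Polynomial.monic_X_pow_add hq
  have hpdeg : p.natDegree = d := by
    have h1 : (Polynomial.X ^ d + q).degree = (d : WithBot ℕ) := by
      rw [Polynomial.degree_add_eq_left_of_degree_lt (by rwa [Polynomial.degree_X_pow]),
        Polynomial.degree_X_pow]
    exact Polynomial.natDegree_eq_of_degree_eq_some h1
  -- roots
  have hroot : ∀ i, p.IsRoot (-(βt i y)) := by
    intro i
    have h1 : Polynomial.aeval y (charPolyRel F.law L y) ∈ extKer F.law L :=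
      aeval_charPolyRel_mem_extKer L F y
    have h2 : extKer F.law L ≤ RingHom.ker (βt i : L ⊗[A] B →+* L) := by
      rw [extKer, Ideal.map_le_iff_le_comap]
      intro b hb
      rw [Ideal.mem_comap, RingHom.mem_ker]
      show βt i ((1 : L) ⊗ₜ[A] b) = 0
      rw [hβt_tmul, hker i b hb, mul_zero]
    have h3 := h2 h1
    rw [RingHom.mem_ker] at h3
    have h4 : βt i (Polynomial.aeval y (charPolyRel F.law L y)) =
        Polynomial.aeval (βt i y) (charPolyRel F.law L y) :=
      (Polynomial.aeval_algHom_apply (βt i) y _).symm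
    have h5 : (βt i : L ⊗[A] B →+* L) (Polynomial.aeval y (charPolyRel F.law L y)) =
        βt i (Polynomial.aeval y (charPolyRel F.law L y)) := rfl
    rw [h5, h4, hχ, Polynomial.coe_aeval_eq_eval, Polynomial.eval_comp, Polynomial.eval_neg,
      Polynomial.eval_X] at h3
    exact h3
  set r : Fin n → L := fun i => -(βt i y) with hr
  have hrinj : Function.Injective r := by
    intro i j hij
    by_contra hne
    exact hsep i j hne (neg_injective hij)
  have hsub : Finset.univ.image r ⊆ p.roots.toFinset := by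
    intro x hx
    rw [Finset.mem_image] at hx
    obtain ⟨i, _, rfl⟩ := hx
    rw [Multiset.mem_toFinset, Polynomial.mem_roots hpmonic.ne_zero]
    exact hroot i
  calc n = (Finset.univ.image r).card := by
        rw [Finset.card_image_of_injective _ hrinj, Finset.card_univ, Fintype.card_fin]
    _ ≤ p.roots.toFinset.card := Finset.card_le_card hsub
    _ ≤ Multiset.card p.roots := Multiset.toFinset_card_le _
    _ ≤ p.natDegree := Polynomial.card_roots' p
    _ = d := hpdeg

end Pts2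

end Groth.Agent.Lib.Helper25.PolLawCoeff
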