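import Groth.Agent.Lib.Helper25.PolLawDL
import Groth.Agent.Lib.Helper25.PolLawEt

set_option autoImplicit false
universe u
open scoped TensorProduct

namespace Groth.Agent.Lib.Helper25.PolLawCoeff

section Lin1
variable {A : Type u} [CommRing A] {B : Type u} [CommRing B] [Algebra A B]

/-- the polynomial `F (x + s y)` in `R[s]` -/
noncomputable def linPoly (F : B →ₚₗ[A] A) (R : Type u) [CommRing R] [Algebra A R]
    (x y : R ⊗[A] B) : Polynomial R :=
  Algebra.TensorProduct.rid A (Polynomial R) (Polynomial R) (F.toFun' (Polynomial R)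
    (Algebra.TensorProduct.map (Polynomial.CAlgHom : R →ₐ[A] Polynomial R) (AlgHom.id A B) x +
      ((Polynomial.X : Polynomial R) ⊗ₜ[A] (1 : B)) *
        Algebra.TensorProduct.map (Polynomial.CAlgHom : R →ₐ[A] Polynomial R) (AlgHom.id A B) y))

/-- the linear coefficient of `F (x + s y)` -/
noncomputable def lin (F : B →ₚₗ[A] A) (R : Type u) [CommRing R] [Algebra A R]
    (x y : R ⊗[A] B) : R := (linPoly F R x y).coeff 1

/-- general substitution formula -/
theorem linPoly_subst (F : B →ₚₗ[A] A) {R R₁ : Type u} [CommRing R] [Algebra A R] [CommRing R₁]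
    [Algebra A R₁] (θ : Polynomial R →ₐ[A] R₁) (x y : R ⊗[A] B) :
    θ (linPoly F R x y) = Algebra.TensorProduct.rid A R₁ R₁ (F.toFun' R₁
      (Algebra.TensorProduct.map (θ.comp Polynomial.CAlgHom) (AlgHom.id A B) x +
        (θ Polynomial.X ⊗ₜ[A] (1 : B)) *
          Algebra.TensorProduct.map (θ.comp Polynomial.CAlgHom) (AlgHom.id A B) y)) := by
  have h : ∀ z : R ⊗[A] B, Algebra.TensorProduct.map θ (AlgHom.id A B)
      (Algebra.TensorProduct.map (Polynomial.CAlgHom : R →ₐ[A] Polynomial R) (AlgHom.id A B) z) =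
      Algebra.TensorProduct.map (θ.comp Polynomial.CAlgHom) (AlgHom.id A B) z := by
    intro z
    rw [← AlgHom.comp_apply, ← Algebra.TensorProduct.map_comp, AlgHom.comp_id]
  rw [linPoly, ← algRid_map, ← law_compat_map', map_add, map_mul, h, h,
    Algebra.TensorProduct.map_tmul, map_one]

theorem linPoly_eval (F : B →ₚₗ[A] A) {R : Type u} [CommRing R] [Algebra A R] (r₀ : R)
    (x y : R ⊗[A] B) :
    (linPoly F R x y).eval r₀ =
      Algebra.TensorProduct.rid A R R (F.toFun' R (x + (r₀ ⊗ₜ[A] (1 : B)) * y)) := by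
  let θ : Polynomial R →ₐ[A] R := (Polynomial.aeval r₀).restrictScalars A
  have hθC : θ.comp Polynomial.CAlgHom = AlgHom.id A R := by
    refine AlgHom.ext fun t => ?_
    show Polynomial.aeval r₀ (Polynomial.C t) = t
    rw [Polynomial.aeval_C]
    rfl
  have hθX : θ Polynomial.X = r₀ := Polynomial.aeval_X r₀
  have h1 := linPoly_subst F θ x y
  rw [hθC, hθX, Algebra.TensorProduct.map_id, AlgHom.id_apply, AlgHom.id_apply] at h1
  rw [← h1]
  show _ = Polynomial.aeval r₀ (linPoly F R x y)
  rw [Polynomial.coe_aeval_eq_eval]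

theorem linPoly_map (F : B →ₚₗ[A] A) {R R' : Type u} [CommRing R] [Algebra A R] [CommRing R']
    [Algebra A R'] (ψ : R →ₐ[A] R') (x y : R ⊗[A] B) :
    (linPoly F R x y).map (ψ : R →+* R') =
      linPoly F R' (Algebra.TensorProduct.map ψ (AlgHom.id A B) x)
        (Algebra.TensorProduct.map ψ (AlgHom.id A B) y) := by
  let θ : Polynomial R →ₐ[A] Polynomial R' := Polynomial.mapAlgHom ψ
  have hθC : θ.comp Polynomial.CAlgHom = (Polynomial.CAlgHom : R' →ₐ[A] Polynomial R').comp ψ := by
    refine AlgHom.ext fun t => ?_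
    show Polynomial.map (ψ : R →+* R') (Polynomial.C t) = Polynomial.C (ψ t)
    rw [Polynomial.map_C]
    rfl
  have hθX : θ Polynomial.X = Polynomial.X := Polynomial.map_X _
  have h1 := linPoly_subst F θ x y
  rw [hθC, hθX] at h1
  have h2 : ∀ z : R ⊗[A] B, Algebra.TensorProduct.map
      ((Polynomial.CAlgHom : R' →ₐ[A] Polynomial R').comp ψ) (AlgHom.id A B) z =
      Algebra.TensorProduct.map (Polynomial.CAlgHom : R' →ₐ[A] Polynomial R') (AlgHom.id A B)
        (Algebra.TensorProduct.map ψ (AlgHom.id A B) z) := by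
    intro z
    rw [← AlgHom.comp_apply, ← Algebra.TensorProduct.map_comp, AlgHom.comp_id]
  rw [h2, h2] at h1
  exact h1

theorem lin_map (F : B →ₚₗ[A] A) {R R' : Type u} [CommRing R] [Algebra A R] [CommRing R']
    [Algebra A R'] (ψ : R →ₐ[A] R') (x y : R ⊗[A] B) :
    ψ (lin F R x y) = lin F R' (Algebra.TensorProduct.map ψ (AlgHom.id A B) x)
        (Algebra.TensorProduct.map ψ (AlgHom.id A B) y) := by
  rw [lin, lin, ← linPoly_map, Polynomial.coeff_map]
  rfl

theorem lin_smul (F : B →ₚₗ[A] A) {R : Type u} [CommRing R] [Algebra A R] (r : R)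
    (x y : R ⊗[A] B) :
    lin F R x ((r ⊗ₜ[A] (1 : B)) * y) = r * lin F R x y := by
  let θ : Polynomial R →ₐ[A] Polynomial R :=
    (Polynomial.aeval (Polynomial.C r * Polynomial.X)).restrictScalars A
  have hθC : θ.comp Polynomial.CAlgHom = Polynomial.CAlgHom := by
    refine AlgHom.ext fun t => ?_
    show Polynomial.aeval (Polynomial.C r * Polynomial.X) (Polynomial.C t) = Polynomial.C t
    rw [Polynomial.aeval_C]
    rfl
  have hθX : θ Polynomial.X = Polynomial.C r * Polynomial.X := Polynomial.aeval_X _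
  have h1 := linPoly_subst F θ x y
  rw [hθC, hθX] at h1
  have h2 : linPoly F R x ((r ⊗ₜ[A] (1 : B)) * y) = θ (linPoly F R x y) := by
    rw [h1, linPoly, map_mul, Algebra.TensorProduct.map_tmul, map_one, ← mul_assoc,
      Algebra.TensorProduct.tmul_mul_tmul, mul_one, mul_comm Polynomial.X]
    rfl
  rw [lin, lin, h2]
  show (Polynomial.aeval (Polynomial.C r * Polynomial.X) (linPoly F R x y)).coeff 1 = _
  rw [← Polynomial.comp_eq_aeval, Polynomial.comp_C_mul_X_coeff, pow_one, mul_comm]

theorem coeff_one_eval_X {R : Type*} [CommRing R] (Ψ : Polynomial (Polynomial R)) :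
    (Ψ.eval Polynomial.X).coeff 1 = (Ψ.coeff 0).coeff 1 + (Ψ.coeff 1).coeff 0 := by
  induction Ψ using Polynomial.induction_on' with
  | add p q hp hq =>
    rw [Polynomial.eval_add, Polynomial.coeff_add, Polynomial.coeff_add, Polynomial.coeff_add,
      Polynomial.coeff_add, Polynomial.coeff_add, hp, hq]
    ring
  | monomial b q =>
    rw [Polynomial.eval_monomial, Polynomial.coeff_mul_X_pow', Polynomial.coeff_monomial,
      Polynomial.coeff_monomial]
    rcases b with _ | _ | b
    · simp
    · simp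
    · simp

theorem lin_add (F : B →ₚₗ[A] A) {R : Type u} [CommRing R] [Algebra A R]
    (x y₁ y₂ : R ⊗[A] B) :
    lin F R x (y₁ + y₂) = lin F R x y₁ + lin F R x y₂ := by
  let ι : R →ₐ[A] Polynomial R := Polynomial.CAlgHom
  set x' : Polynomial R ⊗[A] B := Algebra.TensorProduct.map ι (AlgHom.id A B) x +
    ((Polynomial.X : Polynomial R) ⊗ₜ[A] (1 : B)) *
      Algebra.TensorProduct.map ι (AlgHom.id A B) y₁ with hx'
  set y' : Polynomial R ⊗[A] B := Algebra.TensorProduct.map ι (AlgHom.id A B) y₂ with hy'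
  set Ψ := linPoly F (Polynomial R) x' y' with hΨ
  have ha : Ψ.eval Polynomial.X = linPoly F R x (y₁ + y₂) := by
    rw [hΨ, linPoly_eval, hx', hy', linPoly, map_add, mul_add, add_assoc]
  have hb : Ψ.coeff 0 = linPoly F R x y₁ := by
    rw [Polynomial.coeff_zero_eq_eval_zero, hΨ, linPoly_eval, TensorProduct.zero_tmul, zero_mul,
      add_zero, hx', linPoly]
  have hc : (Ψ.coeff 1).coeff 0 = lin F R x y₂ := by
    let ev : Polynomial R →ₐ[A] R := (Polynomial.aeval (0 : R)).restrictScalars A
    have hevι : ev.comp ι = AlgHom.id A R := by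
      refine AlgHom.ext fun t => ?_
      show Polynomial.aeval (0 : R) (Polynomial.C t) = t
      rw [Polynomial.aeval_C]
      rfl
    have hevX : ev Polynomial.X = 0 := Polynomial.aeval_X _
    have hmap : ∀ z : R ⊗[A] B, Algebra.TensorProduct.map ev (AlgHom.id A B)
        (Algebra.TensorProduct.map ι (AlgHom.id A B) z) = z := by
      intro z
      rw [← AlgHom.comp_apply, ← Algebra.TensorProduct.map_comp, hevι, AlgHom.comp_id,
        Algebra.TensorProduct.map_id, AlgHom.id_apply]
    have h1 := lin_map F ev x' y'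
    rw [hx', hy', map_add, map_mul, hmap, hmap, hmap, Algebra.TensorProduct.map_tmul, hevX,
      TensorProduct.zero_tmul, zero_mul, add_zero] at h1
    rw [← h1, lin, ← hx', ← hy', ← hΨ, Polynomial.coeff_zero_eq_eval_zero]
    show _ = Polynomial.aeval (0 : R) (Ψ.coeff 1)
    rw [Polynomial.coe_aeval_eq_eval]
  rw [lin, ← ha, coeff_one_eval_X, hb, hc]
  rfl

theorem lin_zero (F : B →ₚₗ[A] A) {R : Type u} [CommRing R] [Algebra A R] (x : R ⊗[A] B) :
    lin F R x 0 = 0 := by
  have := lin_add F x 0 0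
  rw [add_zero] at this
  exact left_eq_add.1 this

theorem lin_sum (F : B →ₚₗ[A] A) {R : Type u} [CommRing R] [Algebra A R] (x : R ⊗[A] B)
    {ι : Type*} (s : Finset ι) (y : ι → R ⊗[A] B) :
    lin F R x (∑ i ∈ s, y i) = ∑ i ∈ s, lin F R x (y i) := by
  classical
  induction s using Finset.induction_on with
  | empty => simp [lin_zero]
  | insert i s hi ih => rw [Finset.sum_insert hi, Finset.sum_insert hi, lin_add, ih]

end Lin1

section Lin2
variable {A : Type u} [CommRing A] {B : Type u} [CommRing B] [Algebra A B]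

/-- Taylor: the derivative of `F (x + t y)` is the linear coefficient at `x + t y` -/
theorem derivative_linPoly (F : B →ₚₗ[A] A) {R : Type u} [CommRing R] [Algebra A R]
    (x y : R ⊗[A] B) :
    Polynomial.derivative (linPoly F R x y) = lin F (Polynomial R)
      (Algebra.TensorProduct.map (Polynomial.CAlgHom : R →ₐ[A] Polynomial R) (AlgHom.id A B) x +
        ((Polynomial.X : Polynomial R) ⊗ₜ[A] (1 : B)) *
          Algebra.TensorProduct.map (Polynomial.CAlgHom : R →ₐ[A] Polynomial R) (AlgHom.id A B) y)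
      (Algebra.TensorProduct.map (Polynomial.CAlgHom : R →ₐ[A] Polynomial R) (AlgHom.id A B) y) := by
  let ι : R →ₐ[A] Polynomial R := Polynomial.CAlgHom
  let ι' : Polynomial R →ₐ[A] Polynomial (Polynomial R) := Polynomial.CAlgHom
  let τ : Polynomial R →ₐ[A] Polynomial (Polynomial R) :=
    (Polynomial.aeval (Polynomial.C Polynomial.X + Polynomial.X :
      Polynomial (Polynomial R))).restrictScalars A
  have hτC : τ.comp ι = ι'.comp ι := by
    refine AlgHom.ext fun t => ?_
    show Polynomial.aeval (Polynomial.C Polynomial.X + Polynomial.X : Polynomial (Polynomial R))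
      (Polynomial.C t) = Polynomial.C (Polynomial.C t)
    rw [Polynomial.aeval_C]
    rfl
  have hτX : τ Polynomial.X = Polynomial.C Polynomial.X + Polynomial.X := Polynomial.aeval_X _
  have h1 := linPoly_subst F τ x y
  rw [hτC, hτX] at h1
  have h2 : ∀ z : R ⊗[A] B, Algebra.TensorProduct.map (ι'.comp ι) (AlgHom.id A B) z =
      Algebra.TensorProduct.map ι' (AlgHom.id A B)
        (Algebra.TensorProduct.map ι (AlgHom.id A B) z) := by
    intro z
    rw [← AlgHom.comp_apply, ← Algebra.TensorProduct.map_comp, AlgHom.comp_id]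
  have h3 : linPoly F (Polynomial R) (Algebra.TensorProduct.map ι (AlgHom.id A B) x +
        ((Polynomial.X : Polynomial R) ⊗ₜ[A] (1 : B)) *
          Algebra.TensorProduct.map ι (AlgHom.id A B) y)
      (Algebra.TensorProduct.map ι (AlgHom.id A B) y) = τ (linPoly F R x y) := by
    rw [h1, linPoly, h2, h2, map_add, map_mul, Algebra.TensorProduct.map_tmul, map_one,
      TensorProduct.add_tmul, add_mul, add_assoc]
    rfl
  rw [lin, h3]
  have h4 : τ (linPoly F R x y) = Polynomial.taylor (Polynomial.X : Polynomial R)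
      ((linPoly F R x y).map (Polynomial.C : R →+* Polynomial R)) := by
    show Polynomial.aeval _ _ = _
    rw [Polynomial.taylor_apply, Polynomial.comp, Polynomial.eval₂_map, Polynomial.aeval_def,
      add_comm]
    rfl
  rw [h4, Polynomial.taylor_coeff_one, Polynomial.derivative_map, Polynomial.eval_map,
    Polynomial.eval₂_C_X]

end Lin2

section Lin3
variable {A : Type u} [CommRing A] [Algebra ℚ A] {B : Type u} [CommRing B] [Algebra A B]

theorem isUnit_natCast_succ (R : Type u) [CommRing R] [Algebra A R] (n : ℕ) :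
    IsUnit ((n : R) + 1) := by
  have h1 : IsUnit ((n : ℚ) + 1) := by
    have : ((n : ℚ) + 1) ≠ 0 := by positivity
    exact this.isUnit
  have h2 := (h1.map (algebraMap ℚ A)).map (algebraMap A R)
  simpa using h2

/-- in characteristic zero a polynomial with vanishing derivative is constant -/
theorem eval_eq_of_derivative_eq_zero (R : Type u) [CommRing R] [Algebra A R]
    (φ : Polynomial R) (h : Polynomial.derivative φ = 0) (r₁ r₂ : R) :
    φ.eval r₁ = φ.eval r₂ := by
  have h1 : φ = Polynomial.C (φ.coeff 0) := by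
    ext n
    cases n with
    | zero => rw [Polynomial.coeff_C_zero]
    | succ k =>
      rw [Polynomial.coeff_C_succ]
      have h2 := congrArg (fun p => Polynomial.coeff p k) h
      simp only [Polynomial.coeff_derivative, Polynomial.coeff_zero] at h2
      exact (isUnit_natCast_succ (A := A) R k).mul_left_eq_zero.1 h2
  rw [h1, Polynomial.eval_C, Polynomial.eval_C]

/-- in characteristic zero, membership in the kernel of a base change is detected by the
linear coefficients -/
theorem mem_kerBC_of_lin_eq_zero (F : B →ₚₗ[A] A) (A'' : Type u) [CommRing A''] [Algebra A A'']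
    (z : A'' ⊗[A] B)
    (h : ∀ (R : Type u) [CommRing R] [Algebra A R] (g : A'' →ₐ[A] R) (x w : R ⊗[A] B),
      lin F R x (w * Algebra.TensorProduct.map g (AlgHom.id A B) z) = 0) :
    z ∈ PolLaw.kerBC F A'' := by
  rw [mem_kerBC_iff]
  intro R _ _ g x w
  obtain ⟨n, ψ, p, q, hψ, rfl, rfl⟩ := exists_lift₂_over g x w
  let R₀ := MvPolynomial (Fin n) A''
  let g₀ : A'' →ₐ[A] R₀ := mvC A A'' (Fin n)
  set y : R₀ ⊗[A] B := q * Algebra.TensorProduct.map g₀ (AlgHom.id A B) z with hy
  have hder : Polynomial.derivative (linPoly F R₀ p y) = 0 := by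
    rw [derivative_linPoly, hy, map_mul, ← AlgHom.comp_apply (Algebra.TensorProduct.map _ _)
      (Algebra.TensorProduct.map g₀ _), ← Algebra.TensorProduct.map_comp, AlgHom.comp_id]
    exact h (Polynomial R₀) _ _ _
  have h1 := eval_eq_of_derivative_eq_zero (A := A) R₀ _ hder 1 0
  rw [linPoly_eval, linPoly_eval, ← Algebra.TensorProduct.one_def, one_mul,
    TensorProduct.zero_tmul, zero_mul, add_zero] at h1
  have h2 := (Algebra.TensorProduct.rid A R₀ R₀).injective h1
  have h3 := congrArg (Algebra.TensorProduct.map ψ (AlgHom.id A A)) h2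
  rw [← law_compat_map', ← law_compat_map', map_add, hy, map_mul, ← AlgHom.comp_apply
    (Algebra.TensorProduct.map ψ _) (Algebra.TensorProduct.map g₀ _),
    ← Algebra.TensorProduct.map_comp, AlgHom.comp_id, hψ] at h3
  exact h3

end Lin3

section Lin4
variable {A : Type u} [CommRing A] {B : Type u} [CommRing B] [Algebra A B]

/-- specialization of the universal points -/
theorem exists_univ_spec {n : ℕ} (e : Fin n → B) (he : Submodule.span A (Set.range e) = ⊤)
    (A'' : Type u) [CommRing A''] [Algebra A A''] {R : Type u} [CommSemiring R] [Algebra A R]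
    (g : A'' →ₐ[A] R) (x w : R ⊗[A] B) :
    ∃ ψ : MvPolynomial (Fin n ⊕ Fin n) A'' →ₐ[A] R,
      ψ.comp (mvC A A'' (Fin n ⊕ Fin n)) = g ∧
      Algebra.TensorProduct.map ψ (AlgHom.id A B) (univX e A'') = x ∧
      Algebra.TensorProduct.map ψ (AlgHom.id A B) (univW e A'') = w := by
  classical
  obtain ⟨s, rfl⟩ := exists_sum_tmul_of_span e he R x
  obtain ⟨s', rfl⟩ := exists_sum_tmul_of_span e he R w
  let ψ : MvPolynomial (Fin n ⊕ Fin n) A'' →ₐ[A] R :=
    { MvPolynomial.eval₂Hom (g : A'' →+* R) (Sum.elim s s') with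
      commutes' := fun a => by
        show MvPolynomial.eval₂Hom (g : A'' →+* R) (Sum.elim s s')
          (algebraMap A (MvPolynomial (Fin n ⊕ Fin n) A'') a) = _
        rw [IsScalarTower.algebraMap_apply A A'' (MvPolynomial (Fin n ⊕ Fin n) A''),
          MvPolynomial.algebraMap_eq, MvPolynomial.eval₂Hom_C]
        exact g.commutes a }
  have hψX : ∀ k, ψ (MvPolynomial.X k) = Sum.elim s s' k := fun k =>
    MvPolynomial.eval₂Hom_X' _ _ _
  refine ⟨ψ, ?_, ?_, ?_⟩
  · refine AlgHom.ext fun a => ?_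
    show MvPolynomial.eval₂Hom (g : A'' →+* R) (Sum.elim s s') (MvPolynomial.C a) = g a
    exact MvPolynomial.eval₂Hom_C _ _ _
  · rw [univX, map_sum]
    refine Finset.sum_congr rfl fun i _ => ?_
    rw [Algebra.TensorProduct.map_tmul, AlgHom.id_apply, hψX]
    rfl
  · rw [univW, map_sum]
    refine Finset.sum_congr rfl fun i _ => ?_
    rw [Algebra.TensorProduct.map_tmul, AlgHom.id_apply, hψX]
    rfl

/-- the universal linear coefficient -/
noncomputable def univLin (F : B →ₚₗ[A] A) {n : ℕ} (e : Fin n → B) (A'' : Type u)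
    [CommRing A''] [Algebra A A''] (z : A'' ⊗[A] B) : MvPolynomial (Fin n ⊕ Fin n) A'' :=
  lin F (MvPolynomial (Fin n ⊕ Fin n) A'') (univX e A'')
    (univW e A'' * Algebra.TensorProduct.map (mvC A A'' (Fin n ⊕ Fin n)) (AlgHom.id A B) z)

theorem univLin_eq_zero_of_mem_kerBC (F : B →ₚₗ[A] A) {n : ℕ} (e : Fin n → B) (A'' : Type u)
    [CommRing A''] [Algebra A A''] (z : A'' ⊗[A] B) (hz : z ∈ PolLaw.kerBC F A'') :
    univLin F e A'' z = 0 := by
  rw [mem_kerBC_iff] at hz
  let R := MvPolynomial (Fin n ⊕ Fin n) A''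
  let ι : R →ₐ[A] Polynomial R := Polynomial.CAlgHom
  have h1 := hz (Polynomial R) (ι.comp (mvC A A'' (Fin n ⊕ Fin n)))
    (Algebra.TensorProduct.map ι (AlgHom.id A B) (univX e A''))
    (((Polynomial.X : Polynomial R) ⊗ₜ[A] (1 : B)) *
      Algebra.TensorProduct.map ι (AlgHom.id A B) (univW e A''))
  rw [univLin, lin, linPoly, map_mul, ← AlgHom.comp_apply (Algebra.TensorProduct.map _ _)
    (Algebra.TensorProduct.map (mvC A A'' (Fin n ⊕ Fin n)) _), ← Algebra.TensorProduct.map_comp,
    AlgHom.comp_id, ← mul_assoc, h1, law_compat_map', algRid_map]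
  exact Polynomial.coeff_C_succ

theorem univLin_sum (F : B →ₚₗ[A] A) {n : ℕ} (e : Fin n → B) (A'' : Type u)
    [CommRing A''] [Algebra A A''] (a : Fin n → A'') :
    univLin F e A'' (∑ k, a k ⊗ₜ[A] e k) =
      ∑ k, MvPolynomial.C (a k) *
        MvPolynomial.map (algebraMap A A'') (univLin F e A ((1 : A) ⊗ₜ[A] e k)) := by
  classical
  let R := MvPolynomial (Fin n ⊕ Fin n) A''
  have h1 : univW e A'' * Algebra.TensorProduct.map (mvC A A'' (Fin n ⊕ Fin n)) (AlgHom.id A B)
      (∑ k, a k ⊗ₜ[A] e k) =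
      ∑ k, ((MvPolynomial.C (a k) : R) ⊗ₜ[A] (1 : B)) * (univW e A'' * ((1 : R) ⊗ₜ[A] e k)) := by
    rw [map_sum, Finset.mul_sum]
    refine Finset.sum_congr rfl fun k _ => ?_
    rw [Algebra.TensorProduct.map_tmul, AlgHom.id_apply, mvC_apply, mul_left_comm,
      Algebra.TensorProduct.tmul_mul_tmul, mul_one, one_mul]
  rw [univLin, h1, lin_sum]
  refine Finset.sum_congr rfl fun k _ => ?_
  rw [lin_smul]
  congr 1
  -- naturality along `A → A''`
  set μ : MvPolynomial (Fin n ⊕ Fin n) A →ₐ[A] MvPolynomial (Fin n ⊕ Fin n) A'' :=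
    MvPolynomial.mapAlgHom (Algebra.ofId A A'') with hμ
  have hμX : Algebra.TensorProduct.map μ (AlgHom.id A B) (univX e A) = univX e A'' := by
    rw [univX, univX, map_sum]
    refine Finset.sum_congr rfl fun i _ => ?_
    rw [Algebra.TensorProduct.map_tmul, AlgHom.id_apply]
    congr 1
    exact MvPolynomial.map_X _ _
  have hμW : Algebra.TensorProduct.map μ (AlgHom.id A B) (univW e A) = univW e A'' := by
    rw [univW, univW, map_sum]
    refine Finset.sum_congr rfl fun i _ => ?_
    rw [Algebra.TensorProduct.map_tmul, AlgHom.id_apply]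
    congr 1
    exact MvPolynomial.map_X _ _
  have h2 := lin_map F μ (univX e A) (univW e A *
    Algebra.TensorProduct.map (mvC A A (Fin n ⊕ Fin n)) (AlgHom.id A B) ((1 : A) ⊗ₜ[A] e k))
  rw [map_mul, hμX, hμW, Algebra.TensorProduct.map_tmul, Algebra.TensorProduct.map_tmul,
    map_one, map_one, AlgHom.id_apply, AlgHom.id_apply] at h2
  rw [← h2]
  rfl

end Lin4

section Lin5
variable {A : Type u} [CommRing A] [Algebra ℚ A] {B : Type u} [CommRing B] [Algebra A B]

theorem mem_kerBC_of_univLin_eq_zero (F : B →ₚₗ[A] A) {n : ℕ} (e : Fin n → B)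
    (he : Submodule.span A (Set.range e) = ⊤) (A'' : Type u)
    [CommRing A''] [Algebra A A''] (z : A'' ⊗[A] B) (hz : univLin F e A'' z = 0) :
    z ∈ PolLaw.kerBC F A'' := by
  apply mem_kerBC_of_lin_eq_zero
  intro R _ _ g x w
  obtain ⟨ψ, hψC, rfl, rfl⟩ := exists_univ_spec e he A'' g x w
  have h1 := lin_map F ψ (univX e A'')
    (univW e A'' * Algebra.TensorProduct.map (mvC A A'' (Fin n ⊕ Fin n)) (AlgHom.id A B) z)
  rw [← univLin, hz, map_zero, map_mul, ← AlgHom.comp_apply (Algebra.TensorProduct.map ψ _)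
    (Algebra.TensorProduct.map (mvC A A'' (Fin n ⊕ Fin n)) _), ← Algebra.TensorProduct.map_comp,
    AlgHom.comp_id, hψC] at h1
  exact h1.symm

end Lin5

end Groth.Agent.Lib.Helper25.PolLawCoeff
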