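import Groth.Agent.Lib.Helper25.PolLawBCG
import Groth.Prelude.Def_W4c5normfunctorschNorm

/-!
# Base change and restriction of scalars for module-valued polynomial laws; normic laws
-/

namespace Groth.Agent.Lib.Helper25.PolLawMod
open scoped TensorProduct
open Groth.Agent.Lib.Helper25.PolLawCoeff
universe u

section BcMap
variable {R : Type u} [CommRing R] {Q : Type u} [CommRing Q] [Algebra R Q]
  {X : Type u} [AddCommGroup X] [Module R X]
  {Y : Type u} [AddCommGroup Y] [Module R Y] [Module Q Y] [IsScalarTower R Q Y]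

variable (Q) in
/-- `p ⊗ x ↦ p ⊗ g x`, as a `P`-linear map `P ⊗[R] X → P ⊗[Q] Y` -/
noncomputable def bcMap (g : X →ₗ[R] Y) (P : Type u) [CommSemiring P] [Algebra R P] [Algebra Q P]
    [IsScalarTower R Q P] : P ⊗[R] X →ₗ[P] P ⊗[Q] Y :=
  (TensorProduct.AlgebraTensorModule.lTensor P P (g.liftBaseChange Q)) ∘ₗ
    (TensorProduct.AlgebraTensorModule.cancelBaseChange R Q P P X).symm.toLinearMap

@[simp]
theorem bcMap_tmul (g : X →ₗ[R] Y) (P : Type u) [CommSemiring P] [Algebra R P] [Algebra Q P]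
    [IsScalarTower R Q P] (p : P) (x : X) : bcMap Q g P (p ⊗ₜ[R] x) = p ⊗ₜ[Q] g x := by
  simp [bcMap]

theorem bcAlong_eq_bcMap (g : X →ₗ[R] Y) (P : Type u) [CommRing P] [Algebra R P] [Algebra Q P]
    [IsScalarTower R Q P] (m : P ⊗[R] X) : PolLaw.bcAlong g P m = bcMap Q g P m := by
  induction m using TensorProduct.induction_on with
  | zero => simp
  | tmul p x => simp [PolLaw.bcAlong]
  | add x y hx hy => rw [map_add, map_add, hx, hy]

/-- the equivalence `P ⊗[R] X ≃ P ⊗[Q] Y` when `Y` is the base change of `X` -/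
noncomputable def bcEquiv {g : X →ₗ[R] Y} (hg : IsBaseChange Q g) (P : Type u) [CommSemiring P]
    [Algebra R P] [Algebra Q P] [IsScalarTower R Q P] : P ⊗[R] X ≃ₗ[P] P ⊗[Q] Y :=
  (TensorProduct.AlgebraTensorModule.cancelBaseChange R Q P P X).symm ≪≫ₗ
    (TensorProduct.AlgebraTensorModule.congr (LinearEquiv.refl P P) hg.equiv)

theorem bcEquiv_apply {g : X →ₗ[R] Y} (hg : IsBaseChange Q g) (P : Type u) [CommSemiring P]
    [Algebra R P] [Algebra Q P] [IsScalarTower R Q P] (m : P ⊗[R] X) :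
    bcEquiv hg P m = bcMap Q g P m := by
  induction m using TensorProduct.induction_on with
  | zero => simp
  | tmul p x => simp [bcEquiv, IsBaseChange.equiv_tmul]
  | add x y hx hy => rw [map_add, map_add, hx, hy]

theorem bcEquiv_tmul {g : X →ₗ[R] Y} (hg : IsBaseChange Q g) (P : Type u) [CommSemiring P]
    [Algebra R P] [Algebra Q P] [IsScalarTower R Q P] (p : P) (x : X) :
    bcEquiv hg P (p ⊗ₜ[R] x) = p ⊗ₜ[Q] g x := by
  rw [bcEquiv_apply, bcMap_tmul]

/-- naturality of `bcMap` in the test algebra -/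
theorem bcMap_natural (g : X →ₗ[R] Y) {P P' : Type u} [CommSemiring P] [Algebra R P] [Algebra Q P]
    [IsScalarTower R Q P] [CommSemiring P'] [Algebra R P'] [Algebra Q P'] [IsScalarTower R Q P']
    (φ : P →ₐ[Q] P') (m : P ⊗[R] X) :
    bcMap Q g P' ((φ.restrictScalars R).toLinearMap.rTensor X m) =
      φ.toLinearMap.rTensor Y (bcMap Q g P m) := by
  induction m using TensorProduct.induction_on with
  | zero => simp
  | tmul p x => simp
  | add x y hx hy => rw [map_add, map_add, map_add, map_add, hx, hy]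

theorem bcEquiv_symm_natural {g : X →ₗ[R] Y} (hg : IsBaseChange Q g) {P P' : Type u}
    [CommSemiring P] [Algebra R P] [Algebra Q P]
    [IsScalarTower R Q P] [CommSemiring P'] [Algebra R P'] [Algebra Q P'] [IsScalarTower R Q P']
    (φ : P →ₐ[Q] P') (z : P ⊗[Q] Y) :
    (bcEquiv hg P').symm (φ.toLinearMap.rTensor Y z) =
      (φ.restrictScalars R).toLinearMap.rTensor X ((bcEquiv hg P).symm z) := by
  rw [LinearEquiv.symm_apply_eq, bcEquiv_apply, bcMap_natural, ← bcEquiv_apply hg,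
    LinearEquiv.apply_symm_apply]

end BcMap

section BcLaw
variable {R : Type u} [CommRing R] {Q : Type u} [CommRing Q] [Algebra R Q]
  {X : Type u} [AddCommGroup X] [Module R X]
  {Y : Type u} [AddCommGroup Y] [Module R Y] [Module Q Y] [IsScalarTower R Q Y]
  {N : Type u} [AddCommGroup N] [Module R N]
  {N₂ : Type u} [AddCommGroup N₂] [Module R N₂] [Module Q N₂] [IsScalarTower R Q N₂]
  {g : X →ₗ[R] Y} (hg : IsBaseChange Q g) {h : N →ₗ[R] N₂} (hh : IsBaseChange Q h)

/-- members of the base change of a law `X → N` over `R` to a law `Y → N₂` over `Q` -/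
noncomputable def bcLawFun (F : X →ₚₗ[R] N) (P : Type u) [CommSemiring P] [Algebra Q P]
    (z : P ⊗[Q] Y) : P ⊗[Q] N₂ :=
  letI := algA R Q P
  haveI := towerA R Q P
  bcEquiv hh P (F.toFun' P ((bcEquiv hg P).symm z))

theorem bcLawFun_eq (F : X →ₚₗ[R] N) (P : Type u) [CommSemiring P] [iA : Algebra R P]
    [Algebra Q P] [tw : IsScalarTower R Q P] (z : P ⊗[Q] Y) :
    bcLawFun hg hh F P z = bcEquiv hh P (F.toFun' P ((bcEquiv hg P).symm z)) := by
  have h : iA = algA R Q P := by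
    apply Algebra.algebra_ext
    intro a
    rw [IsScalarTower.algebraMap_apply R Q P]
    rfl
  subst h
  rfl

/-- the base change of a law `X → N` over `R` to a law `Y → N₂` over `Q` -/
noncomputable def bcLawM (F : X →ₚₗ[R] N) : Y →ₚₗ[Q] N₂ where
  toFun' P _ _ := bcLawFun hg hh F P
  isCompat' {P} _ _ {P'} _ _ φ := by
    funext z
    let := algA R Q P
    have := towerA R Q P
    let := algA R Q P'
    have := towerA R Q P'
    simp only [Function.comp_apply]
    rw [bcLawFun_eq, bcLawFun_eq, bcEquiv_symm_natural hg φ,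
      ← PolynomialLaw.isCompat_apply' (f := F), bcEquiv_apply hh P', bcMap_natural,
      ← bcEquiv_apply hh]

theorem bcLawM_toFun' (F : X →ₚₗ[R] N) (P : Type u) [CommSemiring P] [Algebra R P]
    [Algebra Q P] [IsScalarTower R Q P] (z : P ⊗[Q] Y) :
    (bcLawM hg hh F).toFun' P z = bcEquiv hh P (F.toFun' P ((bcEquiv hg P).symm z)) :=
  bcLawFun_eq hg hh F P z

theorem bcLawM_toFun'_bcMap (F : X →ₚₗ[R] N) (P : Type u) [CommSemiring P] [Algebra R P]
    [Algebra Q P] [IsScalarTower R Q P] (m : P ⊗[R] X) :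
    (bcLawM hg hh F).toFun' P (bcMap Q g P m) = bcMap Q h P (F.toFun' P m) := by
  rw [bcLawM_toFun', ← bcEquiv_apply hg, LinearEquiv.symm_apply_apply, bcEquiv_apply]

end BcLaw

section Res
variable {R : Type u} [CommRing R] (Q : Type u) [CommRing Q] [Algebra R Q]
  {X : Type u} [AddCommGroup X] [Module R X]
  {Y : Type u} [AddCommGroup Y] [Module R Y] [Module Q Y] [IsScalarTower R Q Y]
  {E : Type u} [AddCommGroup E] [Module R E] [Module Q E] [IsScalarTower R Q E]

/-- `S ⊗[R] X → (Q ⊗[R] S) ⊗[Q] Y`, `s ⊗ x ↦ (1 ⊗ s) ⊗ g x` -/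
noncomputable def resInM (g : X →ₗ[R] Y) (S : Type u) [CommSemiring S] [Algebra R S] :
    S ⊗[R] X →+ (Q ⊗[R] S) ⊗[Q] Y :=
  (bcMap Q g (Q ⊗[R] S)).toAddMonoidHom.comp
    ((Algebra.TensorProduct.includeRight : S →ₐ[R] Q ⊗[R] S).toLinearMap.rTensor X).toAddMonoidHom

/-- `(Q ⊗[R] S) ⊗[Q] E → S ⊗[R] E`, `(q ⊗ s) ⊗ e ↦ s ⊗ q • e` -/
noncomputable def resOutM (S : Type u) [CommSemiring S] [Algebra R S] :
    (Q ⊗[R] S) ⊗[Q] E →+ S ⊗[R] E :=
  (TensorProduct.comm R E S).toLinearMap.toAddMonoidHom.comp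
    ((TensorProduct.AlgebraTensorModule.cancelBaseChange R Q Q E S).toLinearMap.toAddMonoidHom.comp
      (TensorProduct.comm Q (Q ⊗[R] S) E).toLinearMap.toAddMonoidHom)

theorem resInM_tmul (g : X →ₗ[R] Y) (S : Type u) [CommSemiring S] [Algebra R S] (s : S) (x : X) :
    resInM Q g S (s ⊗ₜ[R] x) = ((1 : Q) ⊗ₜ[R] s) ⊗ₜ[Q] g x := by
  simp [resInM]

theorem resOutM_tmul (S : Type u) [CommSemiring S] [Algebra R S] (q : Q) (s : S) (e : E) :
    resOutM Q S ((q ⊗ₜ[R] s) ⊗ₜ[Q] e) = s ⊗ₜ[R] (q • e) := by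
  simp [resOutM]

theorem resOutM_smul (S : Type u) [CommSemiring S] [Algebra R S] (s : S)
    (y : (Q ⊗[R] S) ⊗[Q] E) :
    resOutM Q S (((1 : Q) ⊗ₜ[R] s) • y) = s • resOutM Q S y := by
  induction y using induction_two Q with
  | h0 => simp
  | ht q t e =>
    rw [TensorProduct.smul_tmul', smul_eq_mul, Algebra.TensorProduct.tmul_mul_tmul, one_mul,
      resOutM_tmul, resOutM_tmul, TensorProduct.smul_tmul', smul_eq_mul]
  | ha x y hx hy => rw [smul_add, map_add, map_add, hx, hy, smul_add]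

theorem resInM_natural (g : X →ₗ[R] Y) {S S' : Type u} [CommSemiring S] [Algebra R S]
    [CommSemiring S'] [Algebra R S'] (φ : S →ₐ[R] S') (x : S ⊗[R] X) :
    resInM Q g S' (φ.toLinearMap.rTensor X x) =
      (Algebra.TensorProduct.map (AlgHom.id Q Q) φ).toLinearMap.rTensor Y (resInM Q g S x) := by
  induction x using TensorProduct.induction_on with
  | zero => simp
  | tmul t b =>
    rw [LinearMap.rTensor_tmul, resInM_tmul, resInM_tmul, LinearMap.rTensor_tmul]
    rfl
  | add x y hx hy => rw [map_add, map_add, map_add, map_add, hx, hy]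

theorem resOutM_natural {S S' : Type u} [CommSemiring S] [Algebra R S] [CommSemiring S']
    [Algebra R S'] (φ : S →ₐ[R] S') (y : (Q ⊗[R] S) ⊗[Q] E) :
    resOutM Q S' ((Algebra.TensorProduct.map (AlgHom.id Q Q) φ).toLinearMap.rTensor E y) =
      φ.toLinearMap.rTensor E (resOutM Q S y) := by
  induction y using induction_two Q with
  | h0 => simp
  | ht q t e =>
    rw [LinearMap.rTensor_tmul, resOutM_tmul, LinearMap.rTensor_tmul]
    erw [Algebra.TensorProduct.map_tmul]
    rw [resOutM_tmul]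
    rfl
  | ha x y hx hy => rw [map_add, map_add, map_add, map_add, hx, hy]

/-- restriction of scalars (along `g : X → Y`) of a law on `Y` over `Q` to a law on `X` over `R` -/
noncomputable def resLawM (g : X →ₗ[R] Y) (G : Y →ₚₗ[Q] E) : X →ₚₗ[R] E where
  toFun' S _ _ x := resOutM Q S (G.toFun' (Q ⊗[R] S) (resInM Q g S x))
  isCompat' {S} _ _ {S'} _ _ φ := by
    funext x
    simp only [Function.comp_apply]
    rw [resInM_natural, ← PolynomialLaw.isCompat_apply' (f := G), resOutM_natural]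

theorem resLawM_toFun' (g : X →ₗ[R] Y) (G : Y →ₚₗ[Q] E) (S : Type u) [CommSemiring S]
    [Algebra R S] (x : S ⊗[R] X) :
    (resLawM Q g G).toFun' S x = resOutM Q S (G.toFun' (Q ⊗[R] S) (resInM Q g S x)) := rfl

end Res

section Compat
variable {R : Type u} [CommRing R] {Q : Type u} [CommRing Q] [Algebra R Q]
  {X : Type u} [AddCommGroup X] [Module R X]
  {Y : Type u} [AddCommGroup Y] [Module R Y] [Module Q Y] [IsScalarTower R Q Y]
  {N : Type u} [AddCommGroup N] [Module R N]
  {N₂ : Type u} [AddCommGroup N₂] [Module R N₂] [Module Q N₂] [IsScalarTower R Q N₂]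
  {E : Type u} [AddCommGroup E] [Module R E] [Module Q E] [IsScalarTower R Q E]
  {g : X →ₗ[R] Y} (hg : IsBaseChange Q g) {h : N →ₗ[R] N₂} (hh : IsBaseChange Q h)

theorem mulL_resInM (g : X →ₗ[R] Y) (P : Type u) [CommSemiring P] [Algebra R P] [Algebra Q P]
    [IsScalarTower R Q P] (x : P ⊗[R] X) :
    (mulL Q P).toLinearMap.rTensor Y (resInM Q g P x) = bcMap Q g P x := by
  induction x using TensorProduct.induction_on with
  | zero => simp
  | tmul r b =>
    rw [resInM_tmul, LinearMap.rTensor_tmul, AlgHom.toLinearMap_apply, mulL_tmul, one_smul,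
      bcMap_tmul]
  | add x y hx hy => rw [map_add, map_add, map_add, hx, hy]

theorem mulL_resOutM (P : Type u) [CommSemiring P] [Algebra R P] [Algebra Q P]
    [IsScalarTower R Q P] (y : (Q ⊗[R] P) ⊗[Q] E) :
    TensorProduct.mapOfCompatibleSMul Q R R P E (resOutM Q P y) =
      (mulL Q P).toLinearMap.rTensor E y := by
  induction y using induction_two Q with
  | h0 => simp
  | ht q r e =>
    rw [resOutM_tmul, TensorProduct.mapOfCompatibleSMul_tmul, LinearMap.rTensor_tmul,
      AlgHom.toLinearMap_apply, mulL_tmul, TensorProduct.smul_tmul]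
  | ha x y hx hy => rw [map_add, map_add, map_add, hx, hy]

theorem lTensor_bcMap (h : N →ₗ[R] N₂) (P : Type u) [CommSemiring P] [Algebra R P] [Algebra Q P]
    [IsScalarTower R Q P] (φ : N →ₗ[R] E) (φ' : N₂ →ₗ[Q] E) (hφ : ∀ n, φ' (h n) = φ n)
    (w : P ⊗[R] N) :
    φ'.lTensor P (bcMap Q h P w) =
      TensorProduct.mapOfCompatibleSMul Q R R P E (φ.lTensor P w) := by
  induction w using TensorProduct.induction_on with
  | zero => simp
  | tmul r c =>
    rw [bcMap_tmul, LinearMap.lTensor_tmul, LinearMap.lTensor_tmul,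
      TensorProduct.mapOfCompatibleSMul_tmul, hφ]
  | add x y hx hy => rw [map_add, map_add, map_add, map_add, hx, hy]

/-- If `φ ∘ F` is the restriction of `G`, then `φ' ∘ (F base changed)` is `G`. -/
theorem postcomp_bcLawM_eq (F : X →ₚₗ[R] N) (G : Y →ₚₗ[Q] E) (φ : N →ₗ[R] E)
    (φ' : N₂ →ₗ[Q] E) (hφ : ∀ n, φ' (h n) = φ n)
    (hres : PolLaw.postcomp φ F = resLawM Q g G) :
    PolLaw.postcomp φ' (bcLawM hg hh F) = G := by
  ext P _ _ z
  let := algA R Q P
  have := towerA R Q P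
  show φ'.lTensor P ((bcLawM hg hh F).toFun' P z) = G.toFun' P z
  rw [bcLawM_toFun', bcEquiv_apply, lTensor_bcMap h P φ φ' hφ]
  have h1 : φ.lTensor P (F.toFun' P ((bcEquiv hg P).symm z)) =
      (resLawM Q g G).toFun' P ((bcEquiv hg P).symm z) := by
    rw [← hres]; rfl
  rw [h1, resLawM_toFun', mulL_resOutM, PolynomialLaw.isCompat_apply' (f := G), mulL_resInM,
    ← bcEquiv_apply hg, LinearEquiv.apply_symm_apply]

theorem resOutM_lTensor_bcMap (h : N →ₗ[R] N₂) (S : Type u) [CommSemiring S] [Algebra R S]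
    (φ' : N₂ →ₗ[Q] E) (y : S ⊗[R] N) :
    resOutM Q S (φ'.lTensor (Q ⊗[R] S) (resInM Q h S y)) =
      ((φ'.restrictScalars R) ∘ₗ h).lTensor S y := by
  induction y using TensorProduct.induction_on with
  | zero => simp
  | tmul s c =>
    rw [resInM_tmul, LinearMap.lTensor_tmul, resOutM_tmul, one_smul, LinearMap.lTensor_tmul]
    rfl
  | add x y hx hy => simp only [map_add, hx, hy]

/-- the restriction of `φ' ∘ (F base changed)` is `(φ' ∘ h) ∘ F` -/
theorem resLawM_postcomp_bcLawM (F : X →ₚₗ[R] N) (φ' : N₂ →ₗ[Q] E) :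
    resLawM Q g (PolLaw.postcomp φ' (bcLawM hg hh F)) =
      PolLaw.postcomp ((φ'.restrictScalars R) ∘ₗ h) F := by
  ext S _ _ x
  show resOutM Q S (φ'.lTensor (Q ⊗[R] S)
    ((bcLawM hg hh F).toFun' (Q ⊗[R] S) (resInM Q g S x))) = _
  have h1 : resInM Q g S x = bcMap Q g (Q ⊗[R] S)
      ((Algebra.TensorProduct.includeRight : S →ₐ[R] Q ⊗[R] S).toLinearMap.rTensor X x) := rfl
  rw [h1, bcLawM_toFun'_bcMap, ← PolynomialLaw.isCompat_apply' (f := F)]
  exact resOutM_lTensor_bcMap h S φ' _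

end Compat

section Normic
variable {R : Type u} [CommRing R] (R' : Type u) [CommRing R'] [Algebra R R']
  {Q : Type u} [CommRing Q] [Algebra R Q] (Q' : Type u) [CommRing Q'] [Algebra R Q'] [Algebra Q Q']
  [Algebra R' Q'] [IsScalarTower R Q Q'] [IsScalarTower R R' Q']
  {M' : Type u} [AddCommGroup M'] [Module R M'] [Module R' M'] [IsScalarTower R R' M']
  {M'' : Type u} [AddCommGroup M''] [Module R M''] [Module R' M''] [Module Q M''] [Module Q' M'']
  [IsScalarTower R R' M''] [IsScalarTower R Q M''] [IsScalarTower R' Q' M'']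
  [IsScalarTower Q Q' M'']
  {N : Type u} [AddCommGroup N] [Module R N]
  {N₂ : Type u} [AddCommGroup N₂] [Module R N₂] [Module Q N₂] [IsScalarTower R Q N₂]
  {E : Type u} [AddCommGroup E] [Module R E] [Module Q E] [IsScalarTower R Q E]

/-- `P ⊗[R] R' ≃ P ⊗[Q] Q'` for a pushout square -/
noncomputable def rhoEquiv [Algebra.IsPushout R Q R' Q'] (P : Type u) [CommSemiring P]
    [Algebra R P] [Algebra Q P] [IsScalarTower R Q P] : P ⊗[R] R' ≃ₐ[P] P ⊗[Q] Q' :=
  (Algebra.TensorProduct.cancelBaseChange R Q P P R').symm.trans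
    (Algebra.TensorProduct.congr AlgEquiv.refl (Algebra.IsPushout.equiv R Q R' Q'))

theorem rhoEquiv_tmul [Algebra.IsPushout R Q R' Q'] (P : Type u) [CommSemiring P]
    [Algebra R P] [Algebra Q P] [IsScalarTower R Q P] (p : P) (r : R') :
    rhoEquiv R' Q' P (p ⊗ₜ[R] r) = p ⊗ₜ[Q] (algebraMap R' Q' r) := by
  simp [rhoEquiv, Algebra.IsPushout.equiv_tmul]

theorem bcMap_actEnd [Algebra.IsPushout R Q R' Q'] (f : M' →ₗ[R'] M'') (P : Type u)
    [CommSemiring P] [Algebra R P] [Algebra Q P] [IsScalarTower R Q P]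
    (x : P ⊗[R] R') (m : P ⊗[R] M') :
    bcMap Q (f.restrictScalars R) P (PolLaw.actEnd M' P x m) =
      PolLaw.actEnd M'' P (rhoEquiv R' Q' P x) (bcMap Q (f.restrictScalars R) P m) := by
  induction x using TensorProduct.induction_on with
  | zero => simp
  | tmul p r =>
    induction m using TensorProduct.induction_on with
    | zero => simp
    | tmul t m' =>
      rw [PolLaw.actEnd_tmul_tmul, bcMap_tmul, bcMap_tmul, rhoEquiv_tmul,
        PolLaw.actEnd_tmul_tmul, LinearMap.restrictScalars_apply, LinearMap.restrictScalars_apply,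
        map_smul, algebraMap_smul]
    | add a b ha hb => simp only [map_add, ha, hb]
  | add a b ha hb => simp only [map_add, LinearMap.add_apply, ha, hb]

/-- base change preserves normic laws -/
theorem isNormic_bcLawM [Algebra.IsPushout R Q R' Q'] {f : M' →ₗ[R'] M''}
    (hg : IsBaseChange Q (f.restrictScalars R)) {h : N →ₗ[R] N₂} (hh : IsBaseChange Q h)
    (ν : M' →ₚₗ[R] N) (hν : PolLaw.IsNormic R' ν) :
    PolLaw.IsNormic Q' (bcLawM hg hh ν) := by
  intro P _ _ x' m'
  let := algA R Q P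
  have := towerA R Q P
  obtain ⟨x, rfl⟩ := (rhoEquiv (R := R) R' Q' P).surjective x'
  obtain ⟨m, rfl⟩ := (bcEquiv hg P).surjective m'
  rw [bcEquiv_apply, ← bcMap_actEnd, bcLawM_toFun'_bcMap, bcLawM_toFun'_bcMap, hν P x m, map_smul,
    Algebra.norm_eq_of_algEquiv]

theorem resInM_actEnd [Algebra.IsPushout R Q R' Q'] (f : M' →ₗ[R'] M'') (S : Type u)
    [CommSemiring S] [Algebra R S] (x : S ⊗[R] R') (m : S ⊗[R] M') :
    resInM Q (f.restrictScalars R) S (PolLaw.actEnd M' S x m) =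
      PolLaw.actEnd M'' (Q ⊗[R] S) (rhoEquiv R' Q' (Q ⊗[R] S)
        (Algebra.TensorProduct.map (Algebra.TensorProduct.includeRight : S →ₐ[R] Q ⊗[R] S)
          (AlgHom.id R R') x)) (resInM Q (f.restrictScalars R) S m) := by
  show bcMap Q (f.restrictScalars R) (Q ⊗[R] S)
      ((Algebra.TensorProduct.includeRight : S →ₐ[R] Q ⊗[R] S).toLinearMap.rTensor M'
        (PolLaw.actEnd M' S x m)) = _
  rw [PolLaw.rTensor_actEnd, bcMap_actEnd R' Q']
  rfl

/-- restriction of scalars preserves normic laws -/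
theorem isNormic_resLawM [Algebra.IsPushout R Q R' Q'] [Module.Free R R'] [Module.Finite R R']
    (f : M' →ₗ[R'] M'') (G : M'' →ₚₗ[Q] E) (hG : PolLaw.IsNormic Q' G) :
    PolLaw.IsNormic R' (resLawM Q (f.restrictScalars R) G) := by
  intro S _ _ x m
  rw [resLawM_toFun', resLawM_toFun', resInM_actEnd R' Q']
  have h1 := hG (Q ⊗[R] S) (rhoEquiv R' Q' (Q ⊗[R] S)
        (Algebra.TensorProduct.map (Algebra.TensorProduct.includeRight : S →ₐ[R] Q ⊗[R] S)
          (AlgHom.id R R') x)) (resInM Q (f.restrictScalars R) S m)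
  rw [Algebra.norm_eq_of_algEquiv, ← PolLaw.detAct_self, PolLaw.detAct_map, PolLaw.detAct_self] at h1
  erw [h1]
  rw [Algebra.TensorProduct.includeRight_apply, resOutM_smul]

/-- **Base change of universal normic pairs.** -/
theorem isUnivNormic_bcLawM [Algebra.IsPushout R Q R' Q'] [Module.Free R R'] [Module.Finite R R']
    {f : M' →ₗ[R'] M''}
    (hg : IsBaseChange Q (f.restrictScalars R)) {h : N →ₗ[R] N₂} (hh : IsBaseChange Q h)
    (ν : M' →ₚₗ[R] N) (hν : PolLaw.IsUnivNormic R' ν) :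
    PolLaw.IsUnivNormic Q' (bcLawM hg hh ν) := by
  refine ⟨isNormic_bcLawM R' Q' hg hh ν hν.1, ?_⟩
  intro E _ _ μ hμ
  let : Module R E := Module.compHom E (algebraMap R Q)
  have : IsScalarTower R Q E := IsScalarTower.of_algebraMap_smul fun _ _ => rfl
  obtain ⟨φ, hφ, huniq⟩ := hν.2 E (resLawM Q (f.restrictScalars R) μ)
    (isNormic_resLawM R' Q' f μ hμ)
  have hφ' : ∀ n, hh.lift φ (h n) = φ n := hh.lift_eq φ
  refine ⟨hh.lift φ, postcomp_bcLawM_eq hg hh ν μ φ (hh.lift φ) hφ' hφ, ?_⟩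
  intro ψ hψ
  have h1 : PolLaw.postcomp ((ψ.restrictScalars R) ∘ₗ h) ν =
      resLawM Q (f.restrictScalars R) μ := by
    rw [← resLawM_postcomp_bcLawM hg hh, hψ]
  have h2 := huniq _ h1
  apply hh.algHom_ext
  intro n
  rw [hφ', ← h2]
  rfl

end Normic

section Unique
variable {R : Type u} [CommRing R] {Q : Type u} [CommRing Q] [Algebra R Q]
  {X : Type u} [AddCommGroup X] [Module R X]
  {N N₂ N₃ : Type u} [AddCommGroup N] [Module R N] [AddCommGroup N₂] [Module R N₂]
  [AddCommGroup N₃] [Module R N₃]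

theorem postcomp_comp (φ : N₂ →ₗ[R] N₃) (ψ : N →ₗ[R] N₂) (F : X →ₚₗ[R] N) :
    PolLaw.postcomp (φ ∘ₗ ψ) F = PolLaw.postcomp φ (PolLaw.postcomp ψ F) := by
  ext S _ _ x
  show (φ ∘ₗ ψ).lTensor S (F.toFun' S x) = φ.lTensor S (ψ.lTensor S (F.toFun' S x))
  rw [LinearMap.lTensor_comp, LinearMap.comp_apply]

theorem postcomp_id (F : X →ₚₗ[R] N) : PolLaw.postcomp LinearMap.id F = F := by
  ext S _ _ x
  show (LinearMap.id : N →ₗ[R] N).lTensor S (F.toFun' S x) = _
  rw [LinearMap.lTensor_id, LinearMap.id_apply]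

theorem lTensor_bcMap_comp {N₂ E : Type u} [AddCommGroup N₂] [Module R N₂] [Module Q N₂]
    [IsScalarTower R Q N₂] [AddCommGroup E] [Module R E] [Module Q E] [IsScalarTower R Q E]
    (h : N →ₗ[R] N₂) (φ' : N₂ →ₗ[Q] E) (P : Type u) [CommSemiring P] [Algebra R P] [Algebra Q P]
    [IsScalarTower R Q P] (w : P ⊗[R] N) :
    φ'.lTensor P (bcMap Q h P w) = bcMap Q ((φ'.restrictScalars R) ∘ₗ h) P w := by
  induction w using TensorProduct.induction_on with
  | zero => simp
  | tmul r c =>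
    rw [bcMap_tmul, bcMap_tmul, LinearMap.lTensor_tmul]
    rfl
  | add x y hx hy => rw [map_add, map_add, map_add, hx, hy]

end Unique

end Groth.Agent.Lib.Helper25.PolLawMod
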