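import Groth.Agent.Lib.Helper25.PolLawGD
import Groth.Agent.Lib.Helper25.PolLawIdem

set_option autoImplicit false
universe u
open scoped TensorProduct
open ZeroCyc

namespace Groth.Agent.Lib.Helper25.PolLawCoeff

section Open1
variable {A : Type u} [CommRing A] {B : Type u} [CommRing B] [Algebra A B] {d : ℕ}

/-- a monic polynomial dividing a power of `X` over a domain is a power of `X` -/
theorem eq_zero_of_X_pow_add_dvd_X_pow [IsDomain A] (q : Polynomial A) (hq : q.degree < d)
    (M : ℕ) (hdvd : Polynomial.X ^ d + q ∣ Polynomial.X ^ M) : q = 0 := by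
  classical
  obtain ⟨i, _, hi⟩ := (dvd_prime_pow Polynomial.prime_X M).1 hdvd
  obtain ⟨u, hu⟩ := hi
  have hmonic : (Polynomial.X ^ d + q).Monic := Polynomial.monic_X_pow_add hq
  obtain ⟨c, hc, hcu⟩ := Polynomial.isUnit_iff.1 u.isUnit
  have h1 : (Polynomial.X ^ d + q) * Polynomial.C c = Polynomial.X ^ i := by rw [hcu]; exact hu
  have h2 : c = 1 := by
    have := congrArg Polynomial.leadingCoeff h1
    rw [Polynomial.leadingCoeff_mul, hmonic.leadingCoeff, Polynomial.leadingCoeff_C,
      Polynomial.leadingCoeff_X_pow, one_mul] at this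
    exact this
  rw [h2, Polynomial.C_1, mul_one] at h1
  have h3 : d = i := by
    have := congrArg Polynomial.natDegree h1
    rw [Polynomial.natDegree_X_pow] at this
    rw [← this]
    have h4 : (Polynomial.X ^ d + q).degree = ((d : ℕ) : WithBot ℕ) := by
      rw [Polynomial.degree_add_eq_left_of_degree_lt (by rwa [Polynomial.degree_X_pow]),
        Polynomial.degree_X_pow]
    exact (Polynomial.natDegree_eq_of_degree_eq_some h4).symm
  rw [← h3] at h1
  exact add_left_cancel (a := Polynomial.X ^ d) (by rw [h1, add_zero])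

/-- the value of the law at `1 ⊗ b + r ⊗ 1` -/
theorem toFun'_fam2 (F : PolLaw.MulLaw A B A d) (b : B) (R : Type u) [CommRing R] [Algebra A R]
    (r : R) :
    Algebra.TensorProduct.rid A R R (F.law.toFun' R ((1 : R) ⊗ₜ[A] b + r ⊗ₜ[A] (1 : B))) =
      (coeff F.law (fam2 b) Finset.univ).sum fun ν a => a • r ^ ν ⟨false⟩ := by
  classical
  set s : ULift.{u} Bool → R := fun k => if k.down then 1 else r with hs
  have hs1 : s ⟨true⟩ = 1 := by simp [hs]
  have hs2 : s ⟨false⟩ = r := by simp [hs]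
  have hsum : (1 : R) ⊗ₜ[A] b + r ⊗ₜ[A] (1 : B) = ∑ k, s k ⊗ₜ[A] fam2 b k := by
    rw [sum_ulift_bool, hs1, hs2]
    rfl
  rw [hsum, toFun'_sum, map_sum, Finsupp.sum]
  refine Finset.sum_congr rfl fun ν _ => ?_
  rw [Algebra.TensorProduct.rid_tmul, prod_fam2, hs1, hs2, one_pow, one_mul]

/-- over a domain, an element which is nilpotent modulo `ker F` has characteristic polynomial
`X ^ d` -/
theorem charPoly_eq_X_pow_of_pow_mem_ker [IsDomain A] (F : PolLaw.MulLaw A B A d) (y : B) (N : ℕ)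
    (hy : y ^ N ∈ PolLaw.ker F.law) (q : Polynomial A) (hq : q.degree < d)
    (h : ∀ (R : Type u) [CommRing R] [Algebra A R] (r : R),
        ((coeff F.law (fam2 y) Finset.univ).sum fun ν a => a • r ^ ν ⟨false⟩) =
          Polynomial.aeval r (Polynomial.X ^ d + q)) : q = 0 := by
  classical
  let R : Type u := Polynomial A
  set a : R ⊗[A] B := (Polynomial.X : R) ⊗ₜ[A] (1 : B) with ha
  set c : R ⊗[A] B := (1 : R) ⊗ₜ[A] (-y) with hc
  set z : R ⊗[A] B := (1 : R) ⊗ₜ[A] y + (Polynomial.X : R) ⊗ₜ[A] (1 : B) with hz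
  have hz' : z = a - c := by
    rw [hz, ha, hc, TensorProduct.tmul_neg, sub_neg_eq_add, add_comm]
  have hFz : Algebra.TensorProduct.rid A R R (F.law.toFun' R z) = Polynomial.X ^ d + q := by
    rw [hz, toFun'_fam2, h R Polynomial.X, Polynomial.aeval_X_left_apply]
  set w : R ⊗[A] B := ∑ i ∈ Finset.range N, a ^ i * c ^ (N - 1 - i) with hw
  have hwz : w * z = a ^ N - c ^ N := by
    rw [hz', hw]
    exact geom_sum₂_mul a c N
  have hcN : c ^ N = (1 : R) ⊗ₜ[A] ((-y) ^ N) := by
    rw [hc, Algebra.TensorProduct.tmul_pow, one_pow]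
  have hmem : (-y) ^ N ∈ PolLaw.ker F.law := by
    rw [neg_pow]
    exact Ideal.mul_mem_left _ _ hy
  have h1 : F.law.toFun' R (a ^ N - c ^ N) = F.law.toFun' R (a ^ N) := by
    rw [hcN, sub_eq_add_neg, ← neg_one_mul ((1 : R) ⊗ₜ[A] ((-y) ^ N))]
    exact hmem R (a ^ N) (-1)
  have h2 : F.law.toFun' R (a ^ N) = ((Polynomial.X : R) ^ N) ^ d • (1 : R ⊗[A] A) := by
    have h3 : a ^ N = ((Polynomial.X : R) ^ N) • (1 : R ⊗[A] B) := by
      rw [ha, Algebra.TensorProduct.tmul_pow, one_pow, Algebra.TensorProduct.one_def,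
        TensorProduct.smul_tmul', smul_eq_mul, mul_one]
    rw [h3, F.homog, (F.mult R).1]
  have h4 : Algebra.TensorProduct.rid A R R (F.law.toFun' R w) * (Polynomial.X ^ d + q) =
      (Polynomial.X ^ N) ^ d := by
    rw [← hFz, ← map_mul, ← (F.mult R).2, hwz, h1, h2, map_smul, map_one, smul_eq_mul, mul_one]
  exact eq_zero_of_X_pow_add_dvd_X_pow q hq (N * d) ⟨_, by rw [pow_mul, ← h4, mul_comm]⟩

end Open1

section Open2
variable {A : Type u} [CommRing A] {B : Type u} [CommRing B] [Algebra A B] {d : ℕ}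

/-- contraction to `B` of a prime of `(A ⧸ p) ⊗ B` lying over `0` lies over `p` -/
theorem comap_includeRight_comap (p : Ideal A) (P₁ : Ideal ((A ⧸ p) ⊗[A] B))
    (h3 : P₁.comap (algebraMap (A ⧸ p) ((A ⧸ p) ⊗[A] B)) = ⊥) :
    (P₁.comap (Algebra.TensorProduct.includeRight : B →ₐ[A] (A ⧸ p) ⊗[A] B)).comap
      (algebraMap A B) = p := by
  ext a
  rw [Ideal.mem_comap, Ideal.mem_comap]
  have h4 : (Algebra.TensorProduct.includeRight : B →ₐ[A] (A ⧸ p) ⊗[A] B) (algebraMap A B a) =
      algebraMap (A ⧸ p) ((A ⧸ p) ⊗[A] B) (Ideal.Quotient.mk p a) := by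
    rw [Algebra.TensorProduct.includeRight_apply, Algebra.TensorProduct.algebraMap_apply,
      Algebra.algebraMap_eq_smul_one, ← TensorProduct.smul_tmul]
    congr 1
    rw [Algebra.algebraMap_self, RingHom.id_apply, Algebra.smul_def, mul_one]
    rfl
  rw [h4, ← Ideal.mem_comap, h3, Ideal.mem_bot, Ideal.Quotient.eq_zero_iff_mem]

/-- the image in `Spec A` of the basic open `D(b)` of the support of `F` is the union of the
basic opens of the lower coefficients of the characteristic polynomial of `b`. -/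
theorem exists_prime_notMem_iff (F : PolLaw.MulLaw A B A d) (b : B) (q : Polynomial A)
    (h : ∀ (R : Type u) [CommRing R] [Algebra A R] (r : R),
        ((coeff F.law (fam2 b) Finset.univ).sum fun ν a => a • r ^ ν ⟨false⟩) =
          Polynomial.aeval r (Polynomial.X ^ d + q))
    (p : Ideal A) [hp : p.IsPrime] :
    (∃ Q : Ideal B, Q.IsPrime ∧ PolLaw.ker F.law ≤ Q ∧ Q.comap (algebraMap A B) = p ∧ b ∉ Q) ↔
      ∃ i, q.coeff i ∉ p := by
  classical
  constructor
  · rintro ⟨Q, hQ, hker, hQp, hbQ⟩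
    by_contra hcon
    push Not at hcon
    apply hbQ
    have h1 : chVal F.law b ∈ Q := hker (chVal_mem_ker F b)
    have h2 : chVal F.law b = (-b) ^ d + Polynomial.aeval (-b) q := by
      have := h B (-b)
      rw [map_add, map_pow, Polynomial.aeval_X] at this
      exact this
    have h3 : Polynomial.aeval (-b) q ∈ Q := by
      rw [Polynomial.aeval_eq_sum_range]
      refine Q.sum_mem fun i _ => ?_
      rw [Algebra.smul_def]
      refine Q.mul_mem_right _ ?_
      have : q.coeff i ∈ Q.comap (algebraMap A B) := by rw [hQp]; exact hcon i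
      exact this
    rw [h2] at h1
    have h4 : (-b) ^ d ∈ Q := (Q.add_mem_iff_left h3).1 h1
    have h5 := hQ.mem_of_pow_mem d h4
    exact (Q.neg_mem_iff).1 h5
  · intro hex
    by_contra hcon
    push Not at hcon
    obtain ⟨i, hi⟩ := hex
    apply hi
    have hdom : IsDomain (A ⧸ p) := Ideal.Quotient.isDomain p
    set F₁ := bcMulLaw (A ⧸ p) F with hF₁
    set y : (A ⧸ p) ⊗[A] B := (1 : A ⧸ p) ⊗ₜ[A] b with hy
    have hyrad : y ∈ (PolLaw.ker F₁.law).radical := by
      rw [← Ideal.sInf_minimalPrimes, Ideal.mem_sInf]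
      intro P₁ hP₁
      have hP₁prime : P₁.IsPrime := hP₁.1.1
      have h3 := (Groth.Agent.S13703.result F₁ hP₁).1
      have h4 := comap_includeRight_comap p P₁ h3
      have h5 : PolLaw.ker F.law ≤
          P₁.comap (Algebra.TensorProduct.includeRight : B →ₐ[A] (A ⧸ p) ⊗[A] B) := by
        intro k hk
        rw [Ideal.mem_comap]
        apply hP₁.1.2
        have h1 : PolLaw.ker F₁.law = PolLaw.kerBC F.law (A ⧸ p) := ker_bcLaw (A ⧸ p) F.law
        rw [h1]
        exact map_ker_le_kerBC F.law (A ⧸ p) (Ideal.mem_map_of_mem _ hk)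
      exact hcon _ (Ideal.comap_isPrime _ _) h5 h4
    obtain ⟨N, hN⟩ := hyrad
    obtain ⟨q₁, hq₁, h₁⟩ := exists_monic_charPoly F₁ y
    have hq₁0 : q₁ = 0 := charPoly_eq_X_pow_of_pow_mem_ker F₁ y N hN q₁ hq₁ h₁
    -- compare the two characteristic polynomials over `(A ⧸ p)[X]`
    have e1 := toFun'_fam2 F₁ y (Polynomial (A ⧸ p)) Polynomial.X
    rw [h₁, hq₁0, add_zero, map_pow, Polynomial.aeval_X] at e1
    have e2 := toFun'_fam2 F b (Polynomial (A ⧸ p)) Polynomial.X
    rw [h, Polynomial.aeval_X_left_eq_map, Polynomial.map_add, Polynomial.map_pow,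
      Polynomial.map_X] at e2
    have e3 : Algebra.TensorProduct.rid (A ⧸ p) (Polynomial (A ⧸ p)) (Polynomial (A ⧸ p))
        (F₁.law.toFun' (Polynomial (A ⧸ p))
          ((1 : Polynomial (A ⧸ p)) ⊗ₜ[A ⧸ p] y + Polynomial.X ⊗ₜ[A ⧸ p] 1)) =
        Algebra.TensorProduct.rid A (Polynomial (A ⧸ p)) (Polynomial (A ⧸ p))
          (F.law.toFun' (Polynomial (A ⧸ p))
            ((1 : Polynomial (A ⧸ p)) ⊗ₜ[A] b + Polynomial.X ⊗ₜ[A] 1)) := by
      show Algebra.TensorProduct.rid (A ⧸ p) (Polynomial (A ⧸ p)) (Polynomial (A ⧸ p))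
        ((bcLaw (A ⧸ p) F.law).toFun' (Polynomial (A ⧸ p)) _) = _
      rw [bcLaw_toFun', AlgEquiv.apply_symm_apply, map_add, cancel_one_tmul, hy,
        Algebra.TensorProduct.map_tmul, map_one, Algebra.TensorProduct.one_def,
        Algebra.TensorProduct.cancelBaseChange_tmul, one_smul]
      rfl
    rw [e3, e2] at e1
    have e4 : q.map (algebraMap A (A ⧸ p)) = 0 := by
      have := e1
      exact add_left_cancel (a := Polynomial.X ^ d) (by rw [this, add_zero])
    have e5 := congrArg (fun f => Polynomial.coeff f i) e4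
    simp only [Polynomial.coeff_map, Polynomial.coeff_zero] at e5
    exact Ideal.Quotient.eq_zero_iff_mem.1 e5

end Open2

section Open3
variable {A : Type u} [CommRing A] {B : Type u} [CommRing B] [Algebra A B] {d : ℕ}

/-- the image of a family of zero-cycles is universally open over the base (ring level) -/
theorem isOpenMap_comap_tensor_image (F : PolLaw.MulLaw A B A d) (A' : Type u) [CommRing A']
    [Algebra A A'] :
    IsOpenMap (PrimeSpectrum.comap (algebraMap A' (A' ⊗[A] PolLaw.image F.law))) := by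
  classical
  rw [PrimeSpectrum.isTopologicalBasis_basic_opens.isOpenMap_iff]
  rintro _ ⟨t, rfl⟩
  -- the surjection `A' ⊗ B → A' ⊗ (B ⧸ ker F)`
  set π : A' ⊗[A] B →ₐ[A'] A' ⊗[A] PolLaw.image F.law :=
    Algebra.TensorProduct.map (AlgHom.id A' A') (Ideal.Quotient.mkₐ A (PolLaw.ker F.law)) with hπ
  have hπsurj : Function.Surjective π :=
    Algebra.TensorProduct.map_surjective _ _ (fun x => ⟨x, rfl⟩)
      (Ideal.Quotient.mkₐ_surjective A _)
  have hkerπ : RingHom.ker π = (PolLaw.ker F.law).map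
      (Algebra.TensorProduct.includeRight : B →ₐ[A] A' ⊗[A] B) := by
    have h1 := Algebra.TensorProduct.lTensor_ker (A := A')
      (Ideal.Quotient.mkₐ A (PolLaw.ker F.law)) (Ideal.Quotient.mkₐ_surjective A _)
    have h2 : RingHom.ker (Ideal.Quotient.mkₐ A (PolLaw.ker F.law)) = PolLaw.ker F.law :=
      Ideal.Quotient.mkₐ_ker A _
    rw [h2] at h1
    rw [← h1]
    rfl
  set F' := bcMulLaw A' F with hF'
  have hkerF' : PolLaw.ker F'.law = PolLaw.kerBC F.law A' := ker_bcLaw A' F.law
  have hπF' : RingHom.ker π ≤ PolLaw.ker F'.law := by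
    rw [hkerπ, hkerF']
    exact map_ker_le_kerBC F.law A'
  obtain ⟨y, rfl⟩ := hπsurj t
  obtain ⟨q, _, h⟩ := exists_monic_charPoly F' y
  have himage : (PrimeSpectrum.comap (algebraMap A' (A' ⊗[A] PolLaw.image F.law))) ''
      (PrimeSpectrum.basicOpen (π y) : Set (PrimeSpectrum (A' ⊗[A] PolLaw.image F.law))) =
      ⋃ i, (PrimeSpectrum.basicOpen (q.coeff i) : Set (PrimeSpectrum A')) := by
    ext p'
    have := p'.2
    rw [Set.mem_iUnion]
    simp only [SetLike.mem_coe, PrimeSpectrum.mem_basicOpen]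
    rw [← exists_prime_notMem_iff F' y q h p'.asIdeal]
    constructor
    · rintro ⟨𝔔, h𝔔, rfl⟩
      have h𝔔' : π y ∉ 𝔔.asIdeal := h𝔔
      have hQprime : (𝔔.asIdeal.comap π).IsPrime := Ideal.comap_isPrime _ _
      have hπQ : RingHom.ker π ≤ 𝔔.asIdeal.comap π := by
        intro x hx
        rw [Ideal.mem_comap, (RingHom.mem_ker).1 hx]
        exact 𝔔.asIdeal.zero_mem
      refine ⟨𝔔.asIdeal.comap π, hQprime, ?_, ?_, h𝔔'⟩
      · rw [hkerF']
        refine le_trans Ideal.le_radical ?_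
        rw [Groth.Agent.S13697.result F A', ← hkerπ]
        exact hQprime.radical_le_iff.2 hπQ
      · ext a
        simp only [PrimeSpectrum.comap_asIdeal, Ideal.mem_comap]
        rw [AlgHom.commutes]
    · rintro ⟨Q, hQprime, hkerQ, hQp', hyQ⟩
      have hπQ : RingHom.ker π ≤ Q := le_trans hπF' hkerQ
      have h1 : (Q.map π).comap π = Q := by
        rw [Ideal.comap_map_of_surjective π hπsurj]
        refine le_antisymm (sup_le le_rfl ?_) le_sup_left
        exact hπQ
      refine ⟨⟨Q.map π, Ideal.map_isPrime_of_surjective hπsurj hπQ⟩, ?_, ?_⟩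
      · show π y ∉ Q.map π
        intro hmem
        apply hyQ
        rw [← h1]
        exact hmem
      · ext a
        simp only [PrimeSpectrum.comap_asIdeal, Ideal.mem_comap]
        rw [← hQp', Ideal.mem_comap, ← AlgHom.commutes π a]
        conv_rhs => rw [← h1]
        rfl
  rw [himage]
  exact isOpen_iUnion fun i => (PrimeSpectrum.basicOpen (q.coeff i)).2

end Open3

end Groth.Agent.Lib.Helper25.PolLawCoeff
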