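import Groth.Agent.Lib.Helper25.PolLawIdem
import Groth.Agent.S13695

/-!
# Points of the support of a family of zero cycles
-/

namespace Groth.Agent.Lib.Helper25.PolLawCoeff
open scoped TensorProduct
universe u

section Pts3

theorem finite_card_le_of_no_inj {X : Type*} (d : ℕ)
    (h : ∀ f : Fin (d + 1) → X, ¬ Function.Injective f) : Finite X ∧ Nat.card X ≤ d := by
  have hfin : Finite X := by
    by_contra hinf
    rw [not_finite_iff_infinite] at hinf
    exact h (fun i => Infinite.natEmbedding X i) (fun i j hij => by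
      exact Fin.ext ((Infinite.natEmbedding X).injective hij))
  refine ⟨hfin, ?_⟩
  by_contra hlt
  push Not at hlt
  let e := (Finite.equivFin X).symm
  exact h (fun i => e (Fin.castLE hlt i)) (fun i j hij => by
    have := e.injective hij
    exact Fin.castLE_injective hlt this)

variable {A : Type u} [CommRing A] {B : Type u} [CommRing B] [Algebra A B] {d : ℕ}

/-- fibres of the image of a family of zero cycles of degree `d` have at most `d` points -/
theorem card_primeSpectrum_fibre_le (F : PolLaw.MulLaw A B A d) (K : Type u) [Field K]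
    [Algebra A K] :
    Finite (PrimeSpectrum (K ⊗[A] PolLaw.image F.law)) ∧
      Nat.card (PrimeSpectrum (K ⊗[A] PolLaw.image F.law)) ≤ d := by
  classical
  apply finite_card_le_of_no_inj
  intro f hf
  set T := K ⊗[A] PolLaw.image F.law with hT
  have hint : Algebra.IsIntegral A (PolLaw.image F.law) := Groth.Agent.S13695.result F
  have hintT : Algebra.IsIntegral K T := inferInstance
  set Ω := AlgebraicClosure K with hΩ
  -- for each prime, a `K`-algebra map to `Ω` with that kernel
  have hex : ∀ 𝔮 : PrimeSpectrum T, ∃ γ : T →ₐ[K] Ω, RingHom.ker (γ : T →+* Ω) = 𝔮.asIdeal := by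
    intro 𝔮
    have hfld : IsField (T ⧸ 𝔮.asIdeal) :=
      isField_of_isIntegral_of_isField' (R := K) (S := T ⧸ 𝔮.asIdeal) (Field.toIsField K)
    have : Module.IsTorsionFree K (T ⧸ 𝔮.asIdeal) :=
      DivisionSemiring.to_moduleIsTorsionFree
    have : Module.IsTorsionFree K Ω := DivisionSemiring.to_moduleIsTorsionFree
    have hintq : Algebra.IsIntegral K (T ⧸ 𝔮.asIdeal) := Algebra.IsIntegral.trans T
    have halg : Algebra.IsAlgebraic K (T ⧸ 𝔮.asIdeal) := Algebra.IsIntegral.isAlgebraic
    let σ : (T ⧸ 𝔮.asIdeal) →ₐ[K] Ω := IsAlgClosed.lift (R := K) (S := T ⧸ 𝔮.asIdeal) (M := Ω)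
    have hσ : ∀ x : T ⧸ 𝔮.asIdeal, σ x = 0 → x = 0 := by
      intro x hx
      by_contra hne
      obtain ⟨y, hy⟩ := hfld.mul_inv_cancel hne
      have := congrArg σ hy
      rw [map_mul, hx, zero_mul, map_one] at this
      exact zero_ne_one this
    refine ⟨σ.comp (Ideal.Quotient.mkₐ K 𝔮.asIdeal), ?_⟩
    ext t
    rw [RingHom.mem_ker]
    show σ (Ideal.Quotient.mk 𝔮.asIdeal t) = 0 ↔ t ∈ 𝔮.asIdeal
    constructor
    · intro h
      exact Ideal.Quotient.eq_zero_iff_mem.1 (hσ _ h)
    · intro h
      rw [Ideal.Quotient.eq_zero_iff_mem.2 h, map_zero]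
  choose γ hγ using hex
  set β : Fin (d + 1) → (B →ₐ[A] Ω) := fun i =>
    ((γ (f i)).restrictScalars A).comp
      ((Algebra.TensorProduct.includeRight : PolLaw.image F.law →ₐ[A] T).comp
        (Ideal.Quotient.mkₐ A (PolLaw.ker F.law))) with hβ
  have hβinj : Function.Injective β := by
    intro i j hij
    apply hf
    apply PrimeSpectrum.ext
    rw [← hγ (f i), ← hγ (f j)]
    have : γ (f i) = γ (f j) := by
      apply Algebra.TensorProduct.ext'
      intro k bb
      obtain ⟨b, rfl⟩ := Ideal.Quotient.mk_surjective bb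
      have h1 : ∀ i, γ (f i) (k ⊗ₜ[A] Ideal.Quotient.mk (PolLaw.ker F.law) b) = k • β i b := by
        intro i
        rw [hβ]
        show _ = k • γ (f i) ((1 : K) ⊗ₜ[A] Ideal.Quotient.mk (PolLaw.ker F.law) b)
        rw [← map_smul, TensorProduct.smul_tmul', smul_eq_mul, mul_one]
      rw [h1, h1, hij]
    rw [this]
  have hle := card_points_le F β hβinj (by
    intro i b hb
    rw [hβ]
    show γ (f i) ((1 : K) ⊗ₜ[A] Ideal.Quotient.mk (PolLaw.ker F.law) b) = 0
    rw [Ideal.Quotient.eq_zero_iff_mem.2 hb, TensorProduct.tmul_zero, map_zero])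
  omega

end Pts3

end Groth.Agent.Lib.Helper25.PolLawCoeff
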