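import Groth.Agent.Lib.Helper25.PolLawPts

/-!
# The law induced on a quotient by an ideal contained in the kernel
-/

namespace Groth.Agent.Lib.Helper25.PolLawCoeff
open scoped TensorProduct
universe u

section Quot
variable {A : Type u} [CommRing A] {B C : Type u} [CommRing B] [Algebra A B] [CommRing C]
  [Algebra A C]

/-- `S ⊗ B → S ⊗ (B ⧸ I)` -/
noncomputable abbrev quotT (I : Ideal B) (S : Type u) [CommSemiring S] [Algebra A S] :
    S ⊗[A] B →ₐ[S] S ⊗[A] (B ⧸ I) :=
  Algebra.TensorProduct.map (AlgHom.id S S) (Ideal.Quotient.mkₐ A I)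

theorem quotT_surjective (I : Ideal B) (S : Type u) [CommSemiring S] [Algebra A S] :
    Function.Surjective (quotT (A := A) I S) :=
  LinearMap.lTensor_surjective S (g := (Ideal.Quotient.mkₐ A I).toLinearMap)
    (Ideal.Quotient.mkₐ_surjective A I)

theorem law_add_lTensor_mem (F : B →ₚₗ[A] C) (I : Ideal B) (hI : I ≤ PolLaw.ker F) (S : Type u)
    [CommSemiring S] [Algebra A S] (z : S ⊗[A] ↥(I.restrictScalars A)) (y : S ⊗[A] B) :
    F.toFun' S (y + (I.restrictScalars A).subtype.lTensor S z) = F.toFun' S y := by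
  induction z using TensorProduct.induction_on generalizing y with
  | zero => simp
  | tmul s i =>
    rw [LinearMap.lTensor_tmul]
    have h1 : s ⊗ₜ[A] ((I.restrictScalars A).subtype i) =
        (s ⊗ₜ[A] (1 : B)) * ((1 : S) ⊗ₜ[A] (i : B)) := by
      rw [Algebra.TensorProduct.tmul_mul_tmul, mul_one, one_mul]
      rfl
    rw [h1]
    exact hI i.2 S y _
  | add z₁ z₂ h₁ h₂ => rw [map_add, ← add_assoc, h₂, h₁]

/-- `F` is constant on the fibres of `S ⊗ B → S ⊗ (B ⧸ I)` when `I ≤ ker F` -/
theorem law_eq_of_quotT_eq (F : B →ₚₗ[A] C) (I : Ideal B) (hI : I ≤ PolLaw.ker F) (S : Type u)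
    [CommRing S] [Algebra A S] (y y' : S ⊗[A] B) (h : quotT I S y = quotT I S y') :
    F.toFun' S y = F.toFun' S y' := by
  have hex : Function.Exact ((I.restrictScalars A).subtype)
      ((Ideal.Quotient.mkₐ A I).toLinearMap) := by
    intro b
    constructor
    · intro hb
      exact ⟨⟨b, Ideal.Quotient.eq_zero_iff_mem.1 hb⟩, rfl⟩
    · rintro ⟨i, rfl⟩
      exact Ideal.Quotient.eq_zero_iff_mem.2 i.2
  have hex2 := lTensor_exact S hex (Ideal.Quotient.mkₐ_surjective A I)
  have h0 : (Ideal.Quotient.mkₐ A I).toLinearMap.lTensor S (y - y') = 0 := by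
    rw [map_sub, sub_eq_zero]
    exact h
  obtain ⟨z, hz⟩ := (hex2 _).1 h0
  have : y = y' + (I.restrictScalars A).subtype.lTensor S z := by
    rw [hz]; abel
  rw [this, law_add_lTensor_mem F I hI]

open Groth.Agent.Lib.Helper68 in
/-- the family on polynomial rings defining the quotient law -/
noncomputable def quotFam (F : B →ₚₗ[A] C) (I : Ideal B) (n : ℕ) :
    MvPolynomial (Fin n) A ⊗[A] (B ⧸ I) → MvPolynomial (Fin n) A ⊗[A] C :=
  fun y => F.toFun' (MvPolynomial (Fin n) A)
    (Function.surjInv (quotT_surjective (A := A) I (MvPolynomial (Fin n) A)) y)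

theorem quotFam_quotT (F : B →ₚₗ[A] C) (I : Ideal B) (hI : I ≤ PolLaw.ker F) (n : ℕ)
    (y : MvPolynomial (Fin n) A ⊗[A] B) :
    quotFam F I n (quotT I (MvPolynomial (Fin n) A) y) = F.toFun' (MvPolynomial (Fin n) A) y := by
  apply law_eq_of_quotT_eq F I hI
  exact Function.surjInv_eq (quotT_surjective (A := A) I (MvPolynomial (Fin n) A)) _

theorem quotT_rTensor (I : Ideal B) {S S' : Type u} [CommSemiring S] [Algebra A S]
    [CommSemiring S'] [Algebra A S'] (φ : S →ₐ[A] S') (y : S ⊗[A] B) :
    quotT I S' (φ.toLinearMap.rTensor B y) = φ.toLinearMap.rTensor (B ⧸ I) (quotT I S y) := by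
  induction y using TensorProduct.induction_on with
  | zero => simp
  | tmul s b => simp [quotT]
  | add x y hx hy => simp only [map_add, hx, hy]

open Groth.Agent.Lib.Helper68 in
theorem quotFam_compat (F : B →ₚₗ[A] C) (I : Ideal B) (hI : I ≤ PolLaw.ker F) :
    PolyCompat (quotFam F I) := by
  intro n m φ
  funext y
  obtain ⟨y, rfl⟩ := quotT_surjective (A := A) I (MvPolynomial (Fin n) A) y
  simp only [Function.comp_apply]
  rw [quotFam_quotT F I hI, ← quotT_rTensor, quotFam_quotT F I hI, PolynomialLaw.isCompat_apply']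

open Groth.Agent.Lib.Helper68 in
/-- the law induced on `B ⧸ I` for `I ≤ ker F` -/
noncomputable def quotLaw (F : B →ₚₗ[A] C) (I : Ideal B) (hI : I ≤ PolLaw.ker F) :
    (B ⧸ I) →ₚₗ[A] C :=
  (quotFam_compat F I hI).toPolynomialLaw

open Groth.Agent.Lib.Helper68 in
theorem quotLaw_quotT (F : B →ₚₗ[A] C) (I : Ideal B) (hI : I ≤ PolLaw.ker F) (S : Type u)
    [CommSemiring S] [Algebra A S] (y : S ⊗[A] B) :
    (quotLaw F I hI).toFun' S (quotT I S y) = F.toFun' S y := by
  obtain ⟨n, ψ, p, rfl⟩ := PolynomialLaw.exists_lift y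
  rw [quotT_rTensor, quotLaw, PolyCompat.toPolynomialLaw_toFun', quotFam_quotT F I hI,
    PolynomialLaw.isCompat_apply']

/-- the multiplicative law induced on `B ⧸ I` for `I ≤ ker F` -/
noncomputable def quotMulLaw {d : ℕ} (F : PolLaw.MulLaw A B C d) (I : Ideal B)
    (hI : I ≤ PolLaw.ker F.law) : PolLaw.MulLaw A (B ⧸ I) C d where
  law := quotLaw F.law I hI
  homog := by
    intro S _ _ s y
    obtain ⟨y, rfl⟩ := quotT_surjective (A := A) I S y
    rw [← map_smul, quotLaw_quotT, quotLaw_quotT, F.homog]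
  mult := by
    intro S _ _
    refine ⟨?_, fun x y => ?_⟩
    · rw [← map_one (quotT (A := A) I S), quotLaw_quotT, (F.mult S).1]
    · obtain ⟨x, rfl⟩ := quotT_surjective (A := A) I S x
      obtain ⟨y, rfl⟩ := quotT_surjective (A := A) I S y
      rw [← map_mul, quotLaw_quotT, quotLaw_quotT, quotLaw_quotT, (F.mult S).2]

theorem quotT_one_tmul (I : Ideal B) (S : Type u) [CommSemiring S] [Algebra A S] (b : B) :
    quotT (A := A) I S ((1 : S) ⊗ₜ[A] b) = (1 : S) ⊗ₜ[A] (Ideal.Quotient.mk I b) := by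
  simp [quotT]

theorem mk_mem_ker_quotLaw_iff (F : B →ₚₗ[A] C) (I : Ideal B) (hI : I ≤ PolLaw.ker F) (b : B) :
    Ideal.Quotient.mk I b ∈ PolLaw.ker (quotLaw F I hI) ↔ b ∈ PolLaw.ker F := by
  constructor
  · intro h S _ _ x w
    have := h S (quotT I S x) (quotT I S w)
    rw [← quotT_one_tmul, ← map_mul, ← map_add, quotLaw_quotT, quotLaw_quotT] at this
    exact this
  · intro h S _ _ x w
    obtain ⟨x, rfl⟩ := quotT_surjective (A := A) I S x
    obtain ⟨w, rfl⟩ := quotT_surjective (A := A) I S w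
    rw [← quotT_one_tmul, ← map_mul, ← map_add, quotLaw_quotT, quotLaw_quotT]
    exact h S x w

theorem ker_quotLaw_self (F : B →ₚₗ[A] C) :
    PolLaw.ker (quotLaw F (PolLaw.ker F) le_rfl) = ⊥ := by
  rw [eq_bot_iff]
  intro x hx
  obtain ⟨b, rfl⟩ := Ideal.Quotient.mk_surjective x
  rw [mk_mem_ker_quotLaw_iff] at hx
  rw [Ideal.mem_bot]
  exact Ideal.Quotient.eq_zero_iff_mem.2 hx

end Quot

section CC1
variable {A : Type u} [CommRing A] {B : Type u} [CommRing B] [Algebra A B] {d : ℕ}

/-- a valid family: nonzero pairwise orthogonal idempotents with sum one -/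
def ValidIdem {R : Type*} [CommRing R] (E : Finset R) : Prop :=
  (∀ e ∈ E, e ≠ 0 ∧ e * e = e) ∧ (∀ e ∈ E, ∀ f ∈ E, e ≠ f → e * f = 0) ∧ ∑ e ∈ E, e = 1

/-- over a connected base, a complete family of nonzero orthogonal idempotents of the image
algebra has at most `d` members -/
theorem card_validIdem_le [ConnectedSpace (PrimeSpectrum A)] (F : PolLaw.MulLaw A B A d)
    (E : Finset (PolLaw.image F.law)) (hE : ValidIdem E) : E.card ≤ d := by
  classical
  set G := quotMulLaw F (PolLaw.ker F.law) le_rfl with hG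
  have hker : PolLaw.ker G.law = ⊥ := ker_quotLaw_self F.law
  set e : {x // x ∈ E} → PolLaw.image F.law := Subtype.val with he
  have horth : ∀ i j, i ≠ j → e i * e j = 0 := by
    intro i j hij
    exact hE.2.1 i.1 i.2 j.1 j.2 (fun h => hij (Subtype.ext h))
  have hidem : ∀ i, e i * e i = e i := fun i => (hE.1 i.1 i.2).2
  have hsum : ∑ i, e i = 1 := by
    rw [he, Finset.sum_coe_sort E (fun x => x)]
    exact hE.2.2
  obtain ⟨ν₀, hdeg, hν₀⟩ := exists_exponent G e horth hidem hsum
  have hpos : ∀ i, 1 ≤ ν₀ i := by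
    intro i
    by_contra hlt
    have h0 : ν₀ i = 0 := by omega
    have := idem_mem_ker_of_exponent_zero G e horth ν₀ hν₀ i h0
    rw [hker, Ideal.mem_bot] at this
    exact (hE.1 i.1 i.2).1 this
  have h1 : (Finset.univ : Finset {x // x ∈ E}).card ≤ ∑ i, ν₀ i := by
    rw [Finset.card_eq_sum_ones]
    exact Finset.sum_le_sum fun i _ => hpos i
  rw [Finset.card_univ, Fintype.card_coe] at h1
  have h2 : ∑ i, ν₀ i = d := (Finsupp.degree_eq_sum ν₀).symm.trans hdeg
  omega

end CC1

section CC2
variable {R : Type*} [CommRing R]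

theorem validIdem_refine [DecidableEq R] (E : Finset R) (hE : ValidIdem E) (e : R) (he : e ∈ E)
    (f : R) (hf : f * f = f) (hfe : f * e = f) (hf0 : f ≠ 0) (hfne : f ≠ e) :
    ∃ E' : Finset R, ValidIdem E' ∧ E'.card = E.card + 1 := by
  have hee : e * e = e := (hE.1 e he).2
  set g := e - f with hg
  have hgg : g * g = g := by
    rw [hg]
    have : f * e = f := hfe
    have h2 : e * f = f := by rw [mul_comm]; exact hfe
    ring_nf
    rw [pow_two, pow_two, hee, hf, h2]
    ring
  have hge : g * e = g := by rw [hg, sub_mul, hee, hfe]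
  have hfg : f * g = 0 := by rw [hg, mul_sub, hfe, hf, sub_self]
  have hg0 : g ≠ 0 := by
    rw [hg]
    exact fun h => hfne (sub_eq_zero.1 h).symm
  have horthE : ∀ h ∈ E.erase e, f * h = 0 ∧ g * h = 0 := by
    intro h hh
    rw [Finset.mem_erase] at hh
    have heh : e * h = 0 := hE.2.1 e he h hh.2 (Ne.symm hh.1)
    constructor
    · rw [← hfe, mul_assoc, heh, mul_zero]
    · rw [← hge, mul_assoc, heh, mul_zero]
  have hfnot : f ∉ E.erase e := by
    intro hmem
    have := (horthE f hmem).1
    rw [hf] at this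
    exact hf0 this
  have hgnot : g ∉ E.erase e := by
    intro hmem
    have := (horthE g hmem).2
    rw [hgg] at this
    exact hg0 this
  have hfg_ne : f ≠ g := by
    intro h
    have h3 : f * f = 0 := by
      have h4 : f * f = f * g := congrArg (fun t => f * t) h
      rw [h4, hfg]
    rw [hf] at h3
    exact hf0 h3
  refine ⟨insert f (insert g (E.erase e)), ⟨?_, ?_, ?_⟩, ?_⟩
  · intro x hx
    rw [Finset.mem_insert, Finset.mem_insert] at hx
    rcases hx with rfl | rfl | hx
    · exact ⟨hf0, hf⟩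
    · exact ⟨hg0, hgg⟩
    · exact hE.1 x (Finset.mem_of_mem_erase hx)
  · intro x hx y hy hxy
    rw [Finset.mem_insert, Finset.mem_insert] at hx hy
    rcases hx with rfl | rfl | hx <;> rcases hy with rfl | rfl | hy
    · exact absurd rfl hxy
    · exact hfg
    · exact (horthE y hy).1
    · rw [mul_comm]; exact hfg
    · exact absurd rfl hxy
    · exact (horthE y hy).2
    · rw [mul_comm]; exact (horthE x hx).1
    · rw [mul_comm]; exact (horthE x hx).2
    · exact hE.2.1 x (Finset.mem_of_mem_erase hx) y (Finset.mem_of_mem_erase hy) hxy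
  · rw [Finset.sum_insert (by
      rw [Finset.mem_insert, not_or]
      exact ⟨hfg_ne, hfnot⟩), Finset.sum_insert hgnot, ← add_assoc]
    have : f + g = e := by rw [hg]; ring
    rw [this, Finset.add_sum_erase E (fun x => x) he]
    exact hE.2.2
  · rw [Finset.card_insert_of_notMem (by
      rw [Finset.mem_insert, not_or]
      exact ⟨hfg_ne, hfnot⟩), Finset.card_insert_of_notMem hgnot, Finset.card_erase_of_mem he]
    have : 0 < E.card := Finset.card_pos.2 ⟨e, he⟩
    omega

end CC2

section CC3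
variable {R : Type*} [CommRing R]

theorem preconnected_zeroLocus_of_maximal (E : Finset R) (hE : ValidIdem E)
    (hmax : ∀ E' : Finset R, ValidIdem E' → E'.card ≤ E.card) (e : R) (he : e ∈ E) :
    IsPreconnected (PrimeSpectrum.zeroLocus {1 - e} : Set (PrimeSpectrum R)) := by
  classical
  have hee : e * e = e := (hE.1 e he).2
  set I : Ideal R := Ideal.span {1 - e} with hI
  have hmke : Ideal.Quotient.mk I e = 1 := by
    have : Ideal.Quotient.mk I (1 - e) = 0 :=
      Ideal.Quotient.eq_zero_iff_mem.2 (Ideal.subset_span rfl)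
    rw [map_sub, map_one, sub_eq_zero] at this
    exact this.symm
  have hidem : ∀ g' : R ⧸ I, g' * g' = g' → g' = 0 ∨ g' = 1 := by
    intro g' hg'
    obtain ⟨g, rfl⟩ := Ideal.Quotient.mk_surjective g'
    set f := g * e with hf
    have h1 : g * g - g ∈ I := by
      rw [← Ideal.Quotient.eq_zero_iff_mem, map_sub, map_mul, hg', sub_self]
    obtain ⟨r, hr⟩ := Ideal.mem_span_singleton'.1 h1
    have h2 : (g * g - g) * e = 0 := by
      rw [← hr, mul_assoc, sub_mul, one_mul, hee, sub_self, mul_zero]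
    have hff : f * f = f := by
      have : f * f - f = (g * g - g) * e := by
        rw [hf]
        have : g * e * (g * e) = g * g * (e * e) := by ring
        rw [this, hee]
        ring
      rw [← sub_eq_zero, this, h2]
    have hfe : f * e = f := by rw [hf, mul_assoc, hee]
    have hmkf : Ideal.Quotient.mk I f = Ideal.Quotient.mk I g := by
      rw [hf, map_mul, hmke, mul_one]
    by_cases hf0 : f = 0
    · left
      rw [← hmkf, hf0, map_zero]
    · right
      by_cases hfe' : f = e
      · rw [← hmkf, hfe', hmke]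
      · exfalso
        obtain ⟨E', hE', hcard⟩ := validIdem_refine E hE e he f hff hfe hf0 hfe'
        have := hmax E' hE'
        omega
  have hpre : PreconnectedSpace (PrimeSpectrum (R ⧸ I)) := by
    rw [preconnectedSpace_iff_clopen]
    intro s hs
    obtain ⟨g', hg', rfl⟩ := PrimeSpectrum.isClopen_iff.1 hs
    rcases hidem g' hg' with rfl | rfl
    · left
      rw [PrimeSpectrum.basicOpen_zero]
      rfl
    · right
      rw [PrimeSpectrum.basicOpen_one]
      rfl
  have hrange : Set.range (PrimeSpectrum.comap (Ideal.Quotient.mk I)) =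
      PrimeSpectrum.zeroLocus {1 - e} := by
    rw [range_comap_of_surjective _ _ Ideal.Quotient.mk_surjective, Ideal.mk_ker, hI,
      PrimeSpectrum.zeroLocus_span]
  rw [← hrange]
  exact isPreconnected_range (PrimeSpectrum.continuous_comap _)

theorem card_connectedComponents_le_of_validIdem (d : ℕ)
    (H : ∀ E : Finset R, ValidIdem E → E.card ≤ d) :
    Finite (ConnectedComponents (PrimeSpectrum R)) ∧
      Nat.card (ConnectedComponents (PrimeSpectrum R)) ≤ d := by
  classical
  have hbase : ∃ E : Finset R, ValidIdem E := by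
    by_cases h : (1 : R) = 0
    · refine ⟨∅, ?_, ?_, ?_⟩
      · simp
      · simp
      · simp [h]
    · refine ⟨{1}, ?_, ?_, ?_⟩
      · intro e he
        rw [Finset.mem_singleton] at he
        subst he
        exact ⟨h, one_mul 1⟩
      · intro e he f hf hef
        rw [Finset.mem_singleton] at he hf
        exact absurd (he.trans hf.symm) hef
      · simp
  obtain ⟨E, hE, hmax⟩ : ∃ E : Finset R, ValidIdem E ∧
      ∀ E' : Finset R, ValidIdem E' → E'.card ≤ E.card := by
    set P : ℕ → Prop := fun n => ∃ E : Finset R, ValidIdem E ∧ E.card = n with hP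
    obtain ⟨E₀, hE₀⟩ := hbase
    have hPspec : P (Nat.findGreatest P d) :=
      Nat.findGreatest_spec (P := P) (H E₀ hE₀) ⟨E₀, hE₀, rfl⟩
    obtain ⟨E, hE, hcard⟩ := hPspec
    refine ⟨E, hE, fun E' hE' => ?_⟩
    rw [hcard]
    exact Nat.le_findGreatest (H E' hE') ⟨E', hE', rfl⟩
  have hconn := preconnected_zeroLocus_of_maximal E hE hmax
  have hcover : ∀ x : PrimeSpectrum R, ∃ e ∈ E, x ∈ PrimeSpectrum.zeroLocus {1 - e} := by
    intro x
    have h1 : ∃ e₀ ∈ E, e₀ ∉ x.asIdeal := by
      by_contra hall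
      push Not at hall
      have : (1 : R) ∈ x.asIdeal := by
        rw [← hE.2.2]
        exact Ideal.sum_mem _ hall
      exact x.isPrime.ne_top ((Ideal.eq_top_iff_one _).2 this)
    obtain ⟨e₀, he₀, hx⟩ := h1
    refine ⟨e₀, he₀, ?_⟩
    rw [PrimeSpectrum.mem_zeroLocus, Set.singleton_subset_iff, SetLike.mem_coe]
    have h2 : 1 - e₀ = ∑ e ∈ E.erase e₀, e := by
      rw [← hE.2.2, ← Finset.add_sum_erase E (fun x => x) he₀]
      ring
    rw [h2]
    refine Ideal.sum_mem _ fun e he => ?_
    rw [Finset.mem_erase] at he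
    have h3 : e * e₀ = 0 := hE.2.1 e he.2 e₀ he₀ he.1
    have h4 : e * e₀ ∈ x.asIdeal := by rw [h3]; exact Ideal.zero_mem _
    exact (x.isPrime.mem_or_mem h4).resolve_right hx
  have hne : ∀ e ∈ E, ∃ x : PrimeSpectrum R, x ∈ PrimeSpectrum.zeroLocus {1 - e} := by
    intro e he
    have hnt : Ideal.span {1 - e} ≠ (⊤ : Ideal R) := by
      intro htop
      rw [Ideal.span_singleton_eq_top] at htop
      obtain ⟨u, hu⟩ := htop.exists_left_inv
      have h1 : (1 - e) * e = 0 := by rw [sub_mul, one_mul, (hE.1 e he).2, sub_self]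
      have h2 : e = u * ((1 - e) * e) := by rw [← mul_assoc, hu, one_mul]
      rw [h1, mul_zero] at h2
      exact (hE.1 e he).1 h2
    obtain ⟨M, hM, hle⟩ := Ideal.exists_le_maximal _ hnt
    refine ⟨⟨M, hM.isPrime⟩, ?_⟩
    rw [PrimeSpectrum.mem_zeroLocus, Set.singleton_subset_iff]
    exact hle (Ideal.subset_span rfl)
  choose pt hpt using hne
  set Φ : {e // e ∈ E} → ConnectedComponents (PrimeSpectrum R) :=
    fun e => ConnectedComponents.mk (pt e.1 e.2) with hΦ
  have hsurj : Function.Surjective Φ := by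
    intro c
    obtain ⟨x, rfl⟩ := ConnectedComponents.surjective_coe c
    obtain ⟨e, he, hx⟩ := hcover x
    refine ⟨⟨e, he⟩, ?_⟩
    show ConnectedComponents.mk (pt e he) = ConnectedComponents.mk x
    rw [ConnectedComponents.coe_eq_coe']
    exact (hconn e he).subset_connectedComponent hx (hpt e he)
  refine ⟨Finite.of_surjective Φ hsurj, ?_⟩
  calc Nat.card (ConnectedComponents (PrimeSpectrum R))
      ≤ Nat.card {e // e ∈ E} := Nat.card_le_card_of_surjective Φ hsurj
    _ = E.card := by simp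
    _ ≤ d := H E hE

end CC3

end Groth.Agent.Lib.Helper25.PolLawCoeff
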