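import Groth.Agent.Lib.Helper25.PolLawKer

set_option autoImplicit false
universe u
open scoped TensorProduct

namespace Groth.Agent.Lib.Helper25.PolLawCoeff

section Red1
variable {A : Type u} [CommRing A] {B : Type u} [CommRing B] [Algebra A B]
  {C : Type u} [CommRing C] [Algebra A C] {d : ℕ}

theorem mulLaw_pow (F : PolLaw.MulLaw A B C d) (S : Type u) [CommSemiring S] [Algebra A S]
    (x : S ⊗[A] B) (N : ℕ) : F.law.toFun' S (x ^ N) = F.law.toFun' S x ^ N := by
  induction N with
  | zero => rw [pow_zero, pow_zero, (F.mult S).1]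
  | succ n ih => rw [pow_succ, pow_succ, (F.mult S).2, ih]

/-- naturality of the evaluated law -/
theorem evalAt_law_map (F : PolLaw.MulLaw A B C d) {R R' : Type u} [CommRing R] [Algebra A R]
    [CommRing R'] [Algebra A R'] (ψ : R →ₐ[A] R') (ε : C →ₐ[A] R) (y : R ⊗[A] B) :
    ψ (evalAt ε (F.law.toFun' R y)) =
      evalAt (ψ.comp ε) (F.law.toFun' R' (Algebra.TensorProduct.map ψ (AlgHom.id A B) y)) := by
  rw [evalAt_comp_map, law_compat_map]

/-- the generic lemma: over a domain, an element nilpotent modulo `ker F` can be dropped from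
arguments at which the evaluated law does not vanish -/
theorem evalAt_law_add_eq_of_ne_zero (F : PolLaw.MulLaw A B C d) {D : Type u} [CommRing D]
    [IsDomain D] [Algebra A D] (ε : C →ₐ[A] D) (b : B) (N : ℕ) (hb : b ^ N ∈ PolLaw.ker F.law)
    (P q : D ⊗[A] B) (hP : evalAt ε (F.law.toFun' D P) ≠ 0) :
    evalAt ε (F.law.toFun' D (P + q * (1 ⊗ₜ[A] b))) = evalAt ε (F.law.toFun' D P) := by
  classical
  let E : Type u := Polynomial D
  let ι : D →ₐ[A] E := Polynomial.CAlgHom
  set εE : C →ₐ[A] E := ι.comp ε with hεE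
  set PE : E ⊗[A] B := Algebra.TensorProduct.map ι (AlgHom.id A B) P with hPE
  set qE : E ⊗[A] B := Algebra.TensorProduct.map ι (AlgHom.id A B) q with hqE
  set W : E ⊗[A] B := ((Polynomial.X : E) ⊗ₜ[A] (1 : B)) * qE * (1 ⊗ₜ[A] b) with hW
  set Q : E := evalAt εE (F.law.toFun' E (PE + W)) with hQ
  set G : E := evalAt εE (F.law.toFun' E
    (∑ i ∈ Finset.range N, PE ^ i * (-W) ^ (N - 1 - i))) with hG
  set c : D := evalAt ε (F.law.toFun' D P) with hc
  have hprod : (∑ i ∈ Finset.range N, PE ^ i * (-W) ^ (N - 1 - i)) * (PE + W) =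
      PE ^ N - (-W) ^ N := by
    have := geom_sum₂_mul PE (-W) N
    rwa [sub_neg_eq_add] at this
  have hWN : (-W) ^ N = ((-1) ^ N * ((Polynomial.X : E) ⊗ₜ[A] (1 : B)) ^ N * qE ^ N) *
      (1 ⊗ₜ[A] (b ^ N)) := by
    have h0 : ((1 : E) ⊗ₜ[A] (b ^ N) : E ⊗[A] B) = (1 ⊗ₜ[A] b) ^ N := by
      rw [Algebra.TensorProduct.tmul_pow, one_pow]
    rw [h0, hW]
    ring
  have h1 : F.law.toFun' E (PE ^ N - (-W) ^ N) = F.law.toFun' E PE ^ N := by
    have h0 : PE ^ N - (-W) ^ N = PE ^ N +
        (-((-1) ^ N * ((Polynomial.X : E) ⊗ₜ[A] (1 : B)) ^ N * qE ^ N)) * (1 ⊗ₜ[A] (b ^ N)) := by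
      rw [hWN]
      ring
    rw [h0, ← mulLaw_pow]
    exact hb E (PE ^ N) _
  have h2 : evalAt εE (F.law.toFun' E PE) = Polynomial.C c := by
    have := evalAt_law_map F ι ε P
    rw [← this]
    rfl
  have h3 : G * Q = Polynomial.C (c ^ N) := by
    rw [hG, hQ, ← map_mul, ← (F.mult E).2, hprod, h1, map_pow, h2, map_pow]
  have hne : G * Q ≠ 0 := by
    rw [h3]
    exact (Polynomial.C_ne_zero).2 (pow_ne_zero N hP)
  have hQdeg : Q.natDegree = 0 := by
    have h4 := Polynomial.natDegree_mul (left_ne_zero_of_mul hne) (right_ne_zero_of_mul hne)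
    rw [h3, Polynomial.natDegree_C] at h4
    omega
  have hQC : Q = Polynomial.C (Q.coeff 0) := Polynomial.eq_C_of_natDegree_eq_zero hQdeg
  -- evaluation at `a`
  have hev : ∀ a : D, evalAt ε (F.law.toFun' D (P + ((a ⊗ₜ[A] (1 : B)) * q * (1 ⊗ₜ[A] b)))) =
      Q.coeff 0 := by
    intro a
    let ev : E →ₐ[A] D := (Polynomial.aeval a).restrictScalars A
    have hevι : ev.comp ι = AlgHom.id A D := by
      ext x
      show Polynomial.aeval a (Polynomial.C x) = x
      rw [Polynomial.aeval_C]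
      rfl
    have hevε : ev.comp εE = ε := by
      rw [hεE, ← AlgHom.comp_assoc, hevι, AlgHom.id_comp]
    have hmapP : Algebra.TensorProduct.map ev (AlgHom.id A B) PE = P := by
      rw [hPE, ← AlgHom.comp_apply, ← Algebra.TensorProduct.map_comp, hevι, AlgHom.comp_id,
        Algebra.TensorProduct.map_id, AlgHom.id_apply]
    have hmapq : Algebra.TensorProduct.map ev (AlgHom.id A B) qE = q := by
      rw [hqE, ← AlgHom.comp_apply, ← Algebra.TensorProduct.map_comp, hevι, AlgHom.comp_id,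
        Algebra.TensorProduct.map_id, AlgHom.id_apply]
    have hmapW : Algebra.TensorProduct.map ev (AlgHom.id A B) W =
        (a ⊗ₜ[A] (1 : B)) * q * (1 ⊗ₜ[A] b) := by
      rw [hW, map_mul, map_mul, hmapq, Algebra.TensorProduct.map_tmul,
        Algebra.TensorProduct.map_tmul, map_one]
      have hX : ev (Polynomial.X : Polynomial D) = a := by
        show Polynomial.aeval a (Polynomial.X : Polynomial D) = a
        rw [Polynomial.aeval_X]
      rw [hX, map_one, AlgHom.id_apply]
    have h5 := evalAt_law_map F ev εE (PE + W)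
    rw [hevε, map_add, hmapP, hmapW, ← hQ] at h5
    rw [← h5, hQC]
    show Polynomial.aeval a (Polynomial.C (Q.coeff 0)) = _
    rw [Polynomial.aeval_C, Polynomial.coeff_C_zero]
    rfl
  have e1 := hev 1
  have e0 := hev 0
  rw [← Algebra.TensorProduct.one_def, one_mul] at e1
  rw [TensorProduct.zero_tmul, zero_mul, zero_mul, add_zero] at e0
  rw [e1, ← e0]

end Red1

section Red2
variable {A : Type u} [CommRing A] {B : Type u} [CommRing B] [Algebra A B]
  {C : Type u} [CommRing C] [Algebra A C] {d : ℕ}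

/-- over a domain, an element nilpotent modulo `ker F` can be dropped from all arguments of the
evaluated law -/
theorem evalAt_law_add_eq (F : PolLaw.MulLaw A B C d) {K : Type u} [CommRing K]
    [IsDomain K] [Algebra A K] (ε : C →ₐ[A] K) (b : B) (N : ℕ) (hb : b ^ N ∈ PolLaw.ker F.law)
    (p q : K ⊗[A] B) :
    evalAt ε (F.law.toFun' K (p + q * (1 ⊗ₜ[A] b))) = evalAt ε (F.law.toFun' K p) := by
  classical
  let D : Type u := Polynomial K
  let ι : K →ₐ[A] D := Polynomial.CAlgHom
  set εD : C →ₐ[A] D := ι.comp ε with hεD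
  set pD : D ⊗[A] B := Algebra.TensorProduct.map ι (AlgHom.id A B) p with hpD
  set qD : D ⊗[A] B := Algebra.TensorProduct.map ι (AlgHom.id A B) q with hqD
  set P : D ⊗[A] B := ((1 - Polynomial.X : D) ⊗ₜ[A] (1 : B)) +
    ((Polynomial.X : D) ⊗ₜ[A] (1 : B)) * pD with hP
  -- evaluation at `a`
  let ev : K → (D →ₐ[A] K) := fun a => (Polynomial.aeval a).restrictScalars A
  have hevι : ∀ a, (ev a).comp ι = AlgHom.id A K := by
    intro a
    ext x
    show Polynomial.aeval a (Polynomial.C x) = x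
    rw [Polynomial.aeval_C]
    rfl
  have hX : ∀ a, ev a (Polynomial.X : Polynomial K) = a := by
    intro a
    show Polynomial.aeval a (Polynomial.X : Polynomial K) = a
    rw [Polynomial.aeval_X]
  have hevε : ∀ a, (ev a).comp εD = ε := by
    intro a
    rw [hεD, ← AlgHom.comp_assoc, hevι, AlgHom.id_comp]
  have hmapp : ∀ a, Algebra.TensorProduct.map (ev a) (AlgHom.id A B) pD = p := by
    intro a
    rw [hpD, ← AlgHom.comp_apply, ← Algebra.TensorProduct.map_comp, hevι, AlgHom.comp_id,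
      Algebra.TensorProduct.map_id, AlgHom.id_apply]
  have hmapq : ∀ a, Algebra.TensorProduct.map (ev a) (AlgHom.id A B) qD = q := by
    intro a
    rw [hqD, ← AlgHom.comp_apply, ← Algebra.TensorProduct.map_comp, hevι, AlgHom.comp_id,
      Algebra.TensorProduct.map_id, AlgHom.id_apply]
  have hmapP : ∀ a, Algebra.TensorProduct.map (ev a) (AlgHom.id A B) P =
      ((1 - a) ⊗ₜ[A] (1 : B)) + (a ⊗ₜ[A] (1 : B)) * p := by
    intro a
    rw [hP, map_add, map_mul, hmapp, Algebra.TensorProduct.map_tmul,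
      Algebra.TensorProduct.map_tmul, map_sub, map_one, hX, map_one]
  have hPne : evalAt εD (F.law.toFun' D P) ≠ 0 := by
    intro h0
    have h1 := evalAt_law_map F (ev 0) εD P
    rw [h0, map_zero, hevε, hmapP, sub_zero, TensorProduct.zero_tmul, zero_mul, add_zero,
      ← Algebra.TensorProduct.one_def, (F.mult K).1, map_one] at h1
    exact zero_ne_one h1
  have hgen := evalAt_law_add_eq_of_ne_zero F εD b N hb P qD hPne
  have h1 := evalAt_law_map F (ev 1) εD (P + qD * (1 ⊗ₜ[A] b))
  have h2 := evalAt_law_map F (ev 1) εD P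
  rw [hevε, map_add, hmapP, sub_self, TensorProduct.zero_tmul, zero_add,
    ← Algebra.TensorProduct.one_def, one_mul, map_mul, hmapq, Algebra.TensorProduct.map_tmul,
    map_one, AlgHom.id_apply] at h1
  rw [hevε, hmapP, sub_self, TensorProduct.zero_tmul, zero_add,
    ← Algebra.TensorProduct.one_def, one_mul] at h2
  rw [← h1, ← h2, hgen]

end Red2

section Red3
variable {A : Type u} [CommRing A] {B : Type u} [CommRing B] [Algebra A B]
  {C : Type u} [CommRing C] [Algebra A C] {d : ℕ}

theorem map_law_add_eq_of_domain (F : PolLaw.MulLaw A B C d) {S : Type u} [CommRing S]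
    [Algebra A S] {K : Type u} [CommRing K] [IsDomain K] [Algebra A K]
    (ρ : S ⊗[A] C →ₐ[A] K) (b : B) (N : ℕ) (hb : b ^ N ∈ PolLaw.ker F.law) (p q : S ⊗[A] B) :
    ρ (F.law.toFun' S (p + q * (1 ⊗ₜ[A] b))) = ρ (F.law.toFun' S p) := by
  classical
  let ε : C →ₐ[A] K := ρ.comp Algebra.TensorProduct.includeRight
  let ψ : S →ₐ[A] K := ρ.comp Algebra.TensorProduct.includeLeft
  have hmk : ∀ z : S ⊗[A] C, ρ z =
      evalAt ε (Algebra.TensorProduct.map ψ (AlgHom.id A C) z) := by
    intro z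
    induction z using TensorProduct.induction_on with
    | zero => simp
    | tmul s c =>
      rw [Algebra.TensorProduct.map_tmul, evalAt_tmul, AlgHom.id_apply]
      show _ = ρ (s ⊗ₜ[A] 1) * ρ (1 ⊗ₜ[A] c)
      rw [← map_mul, Algebra.TensorProduct.tmul_mul_tmul, mul_one, one_mul]
    | add x y hx hy => rw [map_add, map_add, map_add, hx, hy]
  have c1 := law_compat_map F.law ψ (p + q * (1 ⊗ₜ[A] b))
  have c2 := law_compat_map F.law ψ p
  rw [hmk, hmk, ← c1, ← c2, map_add, map_mul,
    Algebra.TensorProduct.map_tmul, map_one, AlgHom.id_apply]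
  exact evalAt_law_add_eq F ε b N hb _ _

/-- if the target is reduced, the kernel of a multiplicative law is a radical ideal -/
theorem ker_isRadical [IsReduced C] (F : PolLaw.MulLaw A B C d) :
    (PolLaw.ker F.law).IsRadical := by
  classical
  rintro b ⟨N, hN⟩
  apply mem_ker_of_forall_mvPolynomial
  intro n p q
  -- `S₀ ⊗ C` is reduced
  have hred : IsReduced (MvPolynomial (Fin n) A ⊗[A] C) := by
    let e := (Algebra.TensorProduct.comm A (MvPolynomial (Fin n) A) C).toRingEquiv.trans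
      (MvPolynomial.scalarRTensorAlgEquiv (R := A) (σ := Fin n) (N := C)).toRingEquiv
    exact isReduced_of_injective e.toRingHom e.injective
  rw [← sub_eq_zero]
  apply (nilpotent_iff_mem_prime.2 ?_).eq_zero
  intro 𝔭 h𝔭
  rw [← Ideal.Quotient.eq_zero_iff_mem, map_sub, sub_eq_zero]
  have hdom : IsDomain ((MvPolynomial (Fin n) A ⊗[A] C) ⧸ 𝔭) := Ideal.Quotient.isDomain 𝔭
  exact map_law_add_eq_of_domain (K := (MvPolynomial (Fin n) A ⊗[A] C) ⧸ 𝔭) F
    (Ideal.Quotient.mkₐ A 𝔭) b N hN p q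

end Red3

end Groth.Agent.Lib.Helper25.PolLawCoeff
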