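import Groth.Agent.Lib.Helper25.PolLawIdem
import Groth.Agent.Lib.Helper25.PolLawEt
import Groth.Agent.S13697

set_option autoImplicit false
universe u
open scoped TensorProduct

namespace Groth.Agent.Lib.Helper25.PolLawCoeff

section Split0
variable {A : Type u} [CommRing A] {B : Type u} [CommRing B] [Algebra A B]

/-- if a finite family spans `B` then every element of `S ⊗ B` is a combination of the
`1 ⊗ e i` -/
theorem exists_sum_tmul_of_span' {J : Type*} [Fintype J] (e : J → B)
    (he : Submodule.span A (Set.range e) = ⊤) (S : Type u) [CommSemiring S] [Algebra A S]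
    (x : S ⊗[A] B) : ∃ s : J → S, x = ∑ i, s i ⊗ₜ[A] e i := by
  induction x using TensorProduct.induction_on with
  | zero => exact ⟨fun _ => 0, by simp⟩
  | tmul s b =>
    have hb : b ∈ Submodule.span A (Set.range e) := by rw [he]; trivial
    obtain ⟨a, rfl⟩ := (Submodule.mem_span_range_iff_exists_fun A).1 hb
    refine ⟨fun i => a i • s, ?_⟩
    rw [TensorProduct.tmul_sum]
    refine Finset.sum_congr rfl fun i _ => ?_
    rw [TensorProduct.tmul_smul, TensorProduct.smul_tmul']
  | add x y hx hy =>
    obtain ⟨s, rfl⟩ := hx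
    obtain ⟨s', rfl⟩ := hy
    refine ⟨fun i => s i + s' i, ?_⟩
    rw [← Finset.sum_add_distrib]
    exact Finset.sum_congr rfl fun i _ => (TensorProduct.add_tmul _ _ _).symm

theorem smul_prod_congr {S : Type*} [CommSemiring S] [Algebra A S] {ι : Type*} (s : Finset ι)
    (f g : ι → S) (a : A) (h : ∀ i ∈ s, a • f i = a • g i) :
    a • ∏ i ∈ s, f i = a • ∏ i ∈ s, g i := by
  classical
  induction s using Finset.induction_on with
  | empty => simp
  | insert i s hi ih =>
    rw [Finset.prod_insert hi, Finset.prod_insert hi, ← smul_mul_assoc,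
      h i (Finset.mem_insert_self i s), smul_mul_assoc, ← mul_smul_comm,
      ih (fun k hk => h k (Finset.mem_insert_of_mem hk)), mul_smul_comm]

end Split0

section Split1
variable {A : Type u} [CommRing A] {C : Type u} [CommRing C] [Algebra A C] {d : ℕ}
  {J : Type u} [Fintype J] [DecidableEq J]

/-- for a multiplicative law on an algebra spanned by orthogonal idempotents, the coefficient of
an exponent vanishing at `j` times the idempotent `ε j` lies in the kernel -/
theorem coeff_smul_idem_mem_ker (G : PolLaw.MulLaw A C A d) (ε : J → C)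
    (horth : ∀ i j, i ≠ j → ε i * ε j = 0) (hidem : ∀ i, ε i * ε i = ε i)
    (hspan : Submodule.span A (Set.range ε) = ⊤) (ν : J →₀ ℕ) (j : J) (hj : ν j = 0) :
    coeff G.law ε Finset.univ ν • ε j ∈ PolLaw.ker G.law := by
  classical
  set a := coeff G.law ε Finset.univ with ha
  have hmul := coeff_idem_mul G ε horth hidem
  intro S _ _ x w
  obtain ⟨s, rfl⟩ := exists_sum_tmul_of_span' ε hspan S x
  obtain ⟨t, rfl⟩ := exists_sum_tmul_of_span' ε hspan S w
  set s' : J → S := Function.update s j (s j + a ν • t j) with hs'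
  have h1 : (∑ i, s i ⊗ₜ[A] ε i) + (∑ i, t i ⊗ₜ[A] ε i) * ((1 : S) ⊗ₜ[A] (a ν • ε j)) =
      ∑ i, s' i ⊗ₜ[A] ε i := by
    have h2 : (∑ i, t i ⊗ₜ[A] ε i) * ((1 : S) ⊗ₜ[A] (a ν • ε j)) = (a ν • t j) ⊗ₜ[A] ε j := by
      rw [Finset.sum_mul, Finset.sum_eq_single j]
      · rw [Algebra.TensorProduct.tmul_mul_tmul, mul_one, mul_smul_comm, hidem,
          TensorProduct.tmul_smul, TensorProduct.smul_tmul']
      · intro i _ hij
        rw [Algebra.TensorProduct.tmul_mul_tmul, mul_smul_comm, horth i j hij, smul_zero,
          TensorProduct.tmul_zero]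
      · intro h; exact absurd (Finset.mem_univ j) h
    rw [h2, ← Finset.add_sum_erase _ _ (Finset.mem_univ j),
      ← Finset.add_sum_erase (f := fun i => s' i ⊗ₜ[A] ε i) _ (Finset.mem_univ j), add_right_comm,
      ← TensorProduct.add_tmul]
    congr 1
    · rw [hs', Function.update_self]
    · refine Finset.sum_congr rfl fun i hi => ?_
      rw [hs', Function.update_of_ne (Finset.ne_of_mem_erase hi)]
  rw [h1, toFun'_sum, toFun'_sum]
  refine Finset.sum_congr rfl fun μ _ => ?_
  -- move the coefficient to the left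
  have h3 : ∀ u : S, u ⊗ₜ[A] (coeff G.law ε Finset.univ μ) =
      (coeff G.law ε Finset.univ μ • u) ⊗ₜ[A] (1 : A) := by
    intro u
    rw [TensorProduct.smul_tmul, smul_eq_mul, mul_one]
  rw [h3, h3]
  congr 1
  rw [Finsupp.prod, Finsupp.prod]
  refine smul_prod_congr _ _ _ _ fun i _ => ?_
  by_cases hij : i = j
  · subst hij
    rw [hs', Function.update_self]
    by_cases hμi : μ i = 0
    · rw [hμi, pow_zero, pow_zero]
    · have hμν : μ ≠ ν := by
        intro h
        rw [h] at hμi
        exact hμi hj
      have h4 : a μ * a ν = 0 := by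
        have := hmul μ ν
        rwa [if_neg hμν] at this
      have hidemμ : a μ * a μ = a μ := by
        have := hmul μ μ
        rwa [if_pos rfl] at this
      obtain ⟨k, hk⟩ := Nat.exists_eq_succ_of_ne_zero hμi
      have h5 : ∀ u : S, a μ • u ^ μ i = (a μ • u) ^ μ i := by
        intro u
        rw [smul_pow, hk]
        congr 1
        clear hk
        induction k with
        | zero => simp
        | succ n ih => rw [pow_succ, ← ih, hidemμ]
      rw [← ha, h5, h5, smul_add, smul_smul, h4, zero_smul, add_zero]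
  · rw [hs', Function.update_of_ne hij]

end Split1

section Split2
variable {A : Type u} [CommRing A] {C : Type u} [CommRing C] [Algebra A C] {d : ℕ}
  {J : Type u} [Fintype J] [DecidableEq J]

/-- a multiplicative law of degree `d` on a split algebra of rank `d` whose kernel is nil has the
coefficients of the product of the coordinates -/
theorem coeff_eq_of_ker_le_nilradical (G : PolLaw.MulLaw A C A d) (ε : J → C)
    (horth : ∀ i j, i ≠ j → ε i * ε j = 0) (hidem : ∀ i, ε i * ε i = ε i)
    (hsum : ∑ i, ε i = 1) (hspan : Submodule.span A (Set.range ε) = ⊤)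
    (hfaith : ∀ (a : A) (j : J), a • ε j = 0 → a = 0) (hcard : Fintype.card J = d)
    (hker : PolLaw.ker G.law ≤ nilradical C) (ν : J →₀ ℕ) :
    coeff G.law ε Finset.univ ν =
      if ν = (Finsupp.equivFunOnFinite.symm fun _ => 1) then 1 else 0 := by
  classical
  set a := coeff G.law ε Finset.univ with ha
  set one : J →₀ ℕ := Finsupp.equivFunOnFinite.symm fun _ => 1 with hone
  have hmul := coeff_idem_mul G ε horth hidem
  have hidema : ∀ μ, IsIdempotentElem (a μ) := by
    intro μ
    have := hmul μ μ
    rwa [if_pos rfl] at this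
  -- exponents vanishing somewhere have zero coefficient
  have hzero : ∀ (μ : J →₀ ℕ) (j : J), μ j = 0 → a μ = 0 := by
    intro μ j hj
    have h1 := hker (coeff_smul_idem_mem_ker G ε horth hidem hspan μ j hj)
    obtain ⟨N, hN⟩ := h1
    apply hfaith _ j
    cases N with
    | zero =>
      rw [pow_zero] at hN
      have : Subsingleton C := subsingleton_of_zero_eq_one hN.symm
      exact Subsingleton.elim _ _
    | succ n =>
      rw [smul_pow, (hidema μ).pow_succ_eq, IsIdempotentElem.pow_succ_eq n (hidem j)] at hN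
      exact hN
  -- the only possible exponent is `one`
  have hother : ∀ μ, μ ≠ one → a μ = 0 := by
    intro μ hμ
    by_contra hne
    apply hμ
    have hpos : ∀ j, 1 ≤ μ j := by
      intro j
      by_contra hj
      exact hne (hzero μ j (by omega))
    have hdeg := coeff_degree G.law G.homog ε Finset.univ μ hne
    rw [Finsupp.degree_eq_sum] at hdeg
    have hsum1 : ∑ j, (μ j - 1) = 0 := by
      have h2 : ∑ j, μ j = ∑ j, ((μ j - 1) + 1) :=
        Finset.sum_congr rfl fun j _ => (Nat.sub_add_cancel (hpos j)).symm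
      rw [Finset.sum_add_distrib, Finset.sum_const, Finset.card_univ, hcard, smul_eq_mul,
        mul_one] at h2
      omega
    ext j
    have h3 := (Finset.sum_eq_zero_iff.1 hsum1) j (Finset.mem_univ j)
    have h4 := hpos j
    have h5 : one j = 1 := rfl
    rw [h5]
    omega
  split_ifs with hν
  · have hs := coeff_idem_sum G ε hsum
    rw [Finsupp.sum, ← ha] at hs
    rw [hν]
    by_cases hmem : one ∈ a.support
    · rw [Finset.sum_eq_single_of_mem one hmem (fun μ _ hμ => hother μ hμ)] at hs
      exact hs
    · rw [Finset.sum_eq_zero (fun μ hμ => hother μ (fun h => hmem (h ▸ hμ)))] at hs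
      have : Subsingleton A := subsingleton_of_zero_eq_one hs
      exact Subsingleton.elim _ _
  · exact hother ν hν

/-- two multiplicative laws of degree `d` with nil kernels on a split algebra of rank `d`
coincide -/
theorem law_eq_of_ker_le_nilradical (G G' : PolLaw.MulLaw A C A d) (ε : J → C)
    (horth : ∀ i j, i ≠ j → ε i * ε j = 0) (hidem : ∀ i, ε i * ε i = ε i)
    (hsum : ∑ i, ε i = 1) (hspan : Submodule.span A (Set.range ε) = ⊤)
    (hfaith : ∀ (a : A) (j : J), a • ε j = 0 → a = 0) (hcard : Fintype.card J = d)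
    (hker : PolLaw.ker G.law ≤ nilradical C) (hker' : PolLaw.ker G'.law ≤ nilradical C) :
    G.law = G'.law := by
  classical
  have hcoef : coeff G.law ε Finset.univ = coeff G'.law ε Finset.univ := by
    ext ν
    rw [coeff_eq_of_ker_le_nilradical G ε horth hidem hsum hspan hfaith hcard hker,
      coeff_eq_of_ker_le_nilradical G' ε horth hidem hsum hspan hfaith hcard hker']
  refine PolynomialLaw.ext ?_
  funext S _ _ x
  obtain ⟨s, rfl⟩ := exists_sum_tmul_of_span' ε hspan S x
  rw [toFun'_sum, toFun'_sum, hcoef]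

end Split2

section Split3
variable {T : Type u} [CommRing T] {C : Type u} [CommRing C] [Algebra T C]

/-- the idempotents of a split algebra -/
noncomputable def splitIdem {m : ℕ} (e : C ≃ₐ[T] (Fin m → T)) (i : ULift.{u} (Fin m)) : C :=
  e.symm (Pi.single i.down 1)

theorem splitIdem_apply {m : ℕ} (e : C ≃ₐ[T] (Fin m → T)) (i : ULift.{u} (Fin m)) :
    e (splitIdem e i) = Pi.single i.down 1 := by
  rw [splitIdem, AlgEquiv.apply_symm_apply]

theorem splitIdem_orth {m : ℕ} (e : C ≃ₐ[T] (Fin m → T)) (i j : ULift.{u} (Fin m)) (hij : i ≠ j) :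
    splitIdem e i * splitIdem e j = 0 := by
  apply e.injective
  rw [map_mul, splitIdem_apply, splitIdem_apply, map_zero]
  funext k
  rw [Pi.mul_apply, Pi.single_apply, Pi.single_apply, Pi.zero_apply]
  have hd : i.down ≠ j.down := fun h => hij (ULift.ext _ _ h)
  by_cases h1 : k = i.down
  · rw [if_pos h1, if_neg (fun h2 => hd (h1.symm.trans h2)), mul_zero]
  · rw [if_neg h1, zero_mul]

theorem splitIdem_idem {m : ℕ} (e : C ≃ₐ[T] (Fin m → T)) (i : ULift.{u} (Fin m)) :
    splitIdem e i * splitIdem e i = splitIdem e i := by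
  apply e.injective
  rw [map_mul, splitIdem_apply]
  funext k
  rw [Pi.mul_apply, Pi.single_apply]
  split_ifs <;> simp

theorem splitIdem_repr {m : ℕ} (e : C ≃ₐ[T] (Fin m → T)) (c : C) :
    c = ∑ i : ULift.{u} (Fin m), e c i.down • splitIdem e i := by
  apply e.injective
  rw [map_sum]
  simp_rw [map_smul, splitIdem_apply]
  rw [← Fintype.sum_equiv Equiv.ulift.symm (fun k : Fin m => e c k • (Pi.single k 1 : Fin m → T))
    (fun i : ULift.{u} (Fin m) => e c i.down • (Pi.single i.down 1 : Fin m → T)) (fun _ => rfl)]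
  funext k
  rw [Finset.sum_apply]
  simp [Pi.single_apply]

theorem splitIdem_sum {m : ℕ} (e : C ≃ₐ[T] (Fin m → T)) :
    ∑ i : ULift.{u} (Fin m), splitIdem e i = 1 := by
  have h := splitIdem_repr e (1 : C)
  rw [h]
  refine Finset.sum_congr rfl fun i _ => ?_
  rw [map_one, Pi.one_apply, one_smul]

theorem splitIdem_span {m : ℕ} (e : C ≃ₐ[T] (Fin m → T)) :
    Submodule.span T (Set.range (splitIdem e)) = ⊤ := by
  rw [eq_top_iff]
  intro c _
  rw [splitIdem_repr e c]
  exact Submodule.sum_mem _ fun i _ => Submodule.smul_mem _ _ (Submodule.subset_span ⟨i, rfl⟩)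

theorem splitIdem_faith {m : ℕ} (e : C ≃ₐ[T] (Fin m → T)) (a : T) (j : ULift.{u} (Fin m))
    (h : a • splitIdem e j = 0) : a = 0 := by
  have h1 := congrArg e h
  rw [map_smul, splitIdem_apply, map_zero] at h1
  have h2 := congrFun h1 j.down
  simpa using h2

/-- the norm on a product of copies of the base ring is the product of the coordinates -/
theorem norm_pi {m : ℕ} (x : Fin m → T) : Algebra.norm T x = ∏ i, x i := by
  classical
  rw [Algebra.norm_eq_matrix_det (Pi.basisFun T (Fin m))]
  have : Algebra.leftMulMatrix (Pi.basisFun T (Fin m)) x = Matrix.diagonal x := by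
    ext i j
    rw [Algebra.leftMulMatrix_eq_repr_mul, Pi.basisFun_repr, Pi.basisFun_apply, Pi.mul_apply,
      Matrix.diagonal_apply, Pi.single_apply]
    by_cases hij : i = j
    · rw [if_pos hij, if_pos hij, mul_one]
    · rw [if_neg hij, if_neg hij, mul_zero]
  rw [this, Matrix.det_diagonal]

theorem norm_split {m : ℕ} (e : C ≃ₐ[T] (Fin m → T)) (c : C) :
    Algebra.norm T c = ∏ i, e c i := by
  rw [← norm_pi, Algebra.norm_eq_of_algEquiv e c]

end Split3

end Groth.Agent.Lib.Helper25.PolLawCoeff
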