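import Groth.Agent.Lib.Helper25.PolLawCoeff
import Groth.Prelude.Def_PolLaw2
import Groth.Prelude.Def_SymTen
import Groth.Agent.Lib.Helper99.SymNorm

/-!
# Coefficients of the tensor power law, polarisation, and symmetric tensors of free algebras
-/

namespace Groth.Agent.Lib.Helper25.PolLawCoeff

open scoped TensorProduct
open MvPolynomial

universe u

section Indicator

variable {A : Type*} [CommRing A] {σ : Type*} {N : Type*} [AddCommGroup N] [Module A N]

theorem prod_indicator_pow [DecidableEq σ] (J : Finset σ) (μ : σ →₀ ℕ) :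
    (μ.prod fun i k => (if i ∈ J then (MvPolynomial.X i : MvPolynomial σ A) else 0) ^ k) =
      if μ.support ⊆ J then MvPolynomial.monomial μ 1 else 0 := by
  split_ifs with h
  · rw [MvPolynomial.monomial_eq, map_one, one_mul]
    refine Finset.prod_congr rfl fun i hi => ?_
    show (if i ∈ J then (MvPolynomial.X i : MvPolynomial σ A) else 0) ^ μ i = _
    rw [if_pos (h hi)]
  · rw [Finset.not_subset] at h
    obtain ⟨i, hi, hiJ⟩ := h
    refine Finset.prod_eq_zero hi ?_
    show (if i ∈ J then (MvPolynomial.X i : MvPolynomial σ A) else 0) ^ μ i = _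
    rw [if_neg hiJ, zero_pow (Finsupp.mem_support_iff.1 hi)]

theorem tc_sum_indicator [DecidableEq σ] (J : Finset σ) (T : Finset (σ →₀ ℕ))
    (n : (σ →₀ ℕ) → N) (ν : σ →₀ ℕ) :
    tc σ N (∑ μ ∈ T, (μ.prod fun i k =>
        (if i ∈ J then (MvPolynomial.X i : MvPolynomial σ A) else 0) ^ k) ⊗ₜ[A] n μ) ν =
      if ν.support ⊆ J ∧ ν ∈ T then n ν else 0 := by
  rw [map_sum, Finsupp.finsetSum_apply]
  simp_rw [prod_indicator_pow, tc_tmul]
  split_ifs with h
  · rw [Finset.sum_eq_single ν]
    · rw [if_pos h.1, MvPolynomial.coeff_monomial, if_pos rfl, one_smul]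
    · intro μ _ hμ
      split_ifs
      · rw [MvPolynomial.coeff_monomial, if_neg hμ, zero_smul]
      · rw [MvPolynomial.coeff_zero, zero_smul]
    · intro hν
      exact absurd h.2 hν
  · apply Finset.sum_eq_zero
    intro μ hμ
    split_ifs with h1
    · rw [MvPolynomial.coeff_monomial]
      split_ifs with h2
      · subst h2
        exact absurd ⟨h1, hμ⟩ h
      · rw [zero_smul]
    · rw [MvPolynomial.coeff_zero, zero_smul]

end Indicator

section Support

variable {A : Type u} [CommRing A] {M N : Type u} [AddCommGroup M] [Module A M]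
  [AddCommGroup N] [Module A N]

/-- the coefficients at `(m, I)` are supported on exponents supported in `I` -/
theorem coeff_support_subset (F : M →ₚₗ[A] N) {σ : Type u} (m : σ → M) (I : Finset σ)
    (ν : σ →₀ ℕ) (hν : coeff F m I ν ≠ 0) : ν.support ⊆ I := by
  classical
  by_contra hsub
  apply hν
  have h1 : ∑ i ∈ I, (if i ∈ I then (MvPolynomial.X i : MvPolynomial σ A) else 0) ⊗ₜ[A] m i =
      gen m I := Finset.sum_congr rfl fun i hi => by rw [if_pos hi]
  have h2 := toFun'_sum F m I (MvPolynomial σ A)
    (fun i => if i ∈ I then (MvPolynomial.X i : MvPolynomial σ A) else 0)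
  rw [h1] at h2
  have h3 := DFunLike.congr_fun (congrArg (tc σ N) h2) ν
  rw [tc_sum_indicator, if_neg (fun h => hsub h.1)] at h3
  exact h3

/-- shrinking the index set does not change the coefficients supported in the smaller set -/
theorem coeff_shrink (F : M →ₚₗ[A] N) {σ : Type u} (m : σ → M) {I' I : Finset σ} (hI : I' ⊆ I)
    (ν : σ →₀ ℕ) (hν : ν.support ⊆ I') : coeff F m I ν = coeff F m I' ν := by
  classical
  have h1 : ∑ i ∈ I, (if i ∈ I' then (MvPolynomial.X i : MvPolynomial σ A) else 0) ⊗ₜ[A] m i =
      gen m I' := by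
    rw [gen, ← Finset.sum_subset hI]
    · exact Finset.sum_congr rfl fun i hi => by rw [if_pos hi]
    · intro i _ hi
      rw [if_neg hi, TensorProduct.zero_tmul]
  have h2 := toFun'_sum F m I (MvPolynomial σ A)
    (fun i => if i ∈ I' then (MvPolynomial.X i : MvPolynomial σ A) else 0)
  rw [h1] at h2
  have h3 := DFunLike.congr_fun (congrArg (tc σ N) h2) ν
  rw [tc_sum_indicator] at h3
  show coeff F m I ν = tc σ N _ ν
  rw [h3]
  split_ifs with h
  · rfl
  · rw [not_and] at h
    exact Finsupp.notMem_support_iff.1 (h hν)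

end Support

section TypeFn
variable {σ : Type*} {d : ℕ}

/-- the type (multiset of values, as a finsupp) of a function `Fin d → σ` -/
noncomputable def ftype (c : Fin d → σ) : σ →₀ ℕ := ∑ j, Finsupp.single (c j) 1

theorem ftype_degree (c : Fin d → σ) : (ftype c).degree = d := by
  rw [ftype, map_sum]
  simp [Finsupp.degree_single]

theorem prod_ftype {R : Type*} [CommMonoid R] (s : σ → R) (c : Fin d → σ) :
    ((ftype c).prod fun i k => s i ^ k) = ∏ j, s (c j) := by
  rw [ftype, ← Finsupp.prod_finsetSum_index (fun i => pow_zero _) (fun i k k' => pow_add _ _ _)]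
  refine Finset.prod_congr rfl fun j _ => ?_
  rw [Finsupp.prod_single_index (h := fun i k => s i ^ k) (pow_zero _), pow_one]

theorem ftype_apply_pos (c : Fin d → σ) (j : Fin d) : 0 < ftype c (c j) := by
  classical
  rw [ftype, Finsupp.finsetSum_apply]
  refine lt_of_lt_of_le ?_ (Finset.single_le_sum (f := fun j' => (Finsupp.single (c j') 1) (c j))
    (fun _ _ => Nat.zero_le _) (Finset.mem_univ j))
  simp

theorem mem_of_ftype_support_subset (c : Fin d → σ) {I : Finset σ} (h : (ftype c).support ⊆ I)
    (j : Fin d) : c j ∈ I :=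
  h (Finsupp.mem_support_iff.2 (ftype_apply_pos c j).ne')

theorem ftype_support_subset (c : Fin d → σ) {I : Finset σ} (h : ∀ j, c j ∈ I) :
    (ftype c).support ⊆ I := by
  classical
  intro i hi
  rw [Finsupp.mem_support_iff, ftype, Finsupp.finsetSum_apply] at hi
  obtain ⟨j, _, hj⟩ := Finset.exists_ne_zero_of_sum_ne_zero hi
  rw [Finsupp.single_apply] at hj
  split_ifs at hj with h1
  · rw [← h1]; exact h j
  · exact absurd rfl hj

theorem exists_ftype_eq : ∀ {d : ℕ} (ν : σ →₀ ℕ), ν.degree = d → ∃ c : Fin d → σ, ftype c = ν := by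
  classical
  intro d
  induction d with
  | zero =>
    intro ν h
    refine ⟨Fin.elim0, ?_⟩
    rw [Finsupp.degree_eq_zero_iff] at h
    rw [h, ftype]
    simp
  | succ n ih =>
    intro ν h
    have hne : ν ≠ 0 := by
      rintro rfl
      simp at h
    obtain ⟨i, hi⟩ := Finsupp.ne_iff.1 hne
    rw [Finsupp.zero_apply] at hi
    have hle : Finsupp.single i 1 ≤ ν := by
      rw [Finsupp.single_le_iff]
      exact Nat.one_le_iff_ne_zero.2 hi
    have hν : ν = Finsupp.single i 1 + (ν - Finsupp.single i 1) := (add_tsub_cancel_of_le hle).symm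
    have hdeg : (ν - Finsupp.single i 1).degree = n := by
      have := congrArg Finsupp.degree hν
      rw [map_add, Finsupp.degree_single, h] at this
      omega
    obtain ⟨c', hc'⟩ := ih _ hdeg
    refine ⟨Fin.cons i c', ?_⟩
    rw [ftype, Fin.sum_univ_succ, Fin.cons_zero]
    simp only [Fin.cons_succ]
    rw [hν]
    congr 1

end TypeFn

section TPow
variable {A : Type u} [CommRing A] {B : Type u} [CommRing B] [Algebra A B] {d : ℕ}

theorem prod_tmul {S : Type*} [CommSemiring S] [Algebra A S] {C : Type*} [CommRing C] [Algebra A C]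
    {κ : Type*} (T : Finset κ) (a : κ → S) (b : κ → C) :
    ∏ k ∈ T, (a k ⊗ₜ[A] b k) = (∏ k ∈ T, a k) ⊗ₜ[A] (∏ k ∈ T, b k) := by
  classical
  induction T using Finset.induction_on with
  | empty => simp [Algebra.TensorProduct.one_def]
  | insert k T hk ih =>
    rw [Finset.prod_insert hk, Finset.prod_insert hk, Finset.prod_insert hk, ih,
      Algebra.TensorProduct.tmul_mul_tmul]

theorem prod_single_eq_tprod (b : Fin d → B) :
    ∏ j, PiTensorProduct.singleAlgHom (R := A) (A := fun _ : Fin d => B) j (b j) =
      PiTensorProduct.tprod A b := by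
  simp only [PiTensorProduct.singleAlgHom_apply, MonoidHom.mulSingle_apply]
  rw [← PiTensorProduct.tprod_prod]
  exact congrArg _ (Finset.univ_prod_mulSingle b)

theorem tpowLaw_sum {σ : Type*} (S : Type u) [CommSemiring S] [Algebra A S] (s : σ → S)
    (m : σ → B) (I : Finset σ) :
    (SymTen.tpowLaw A B d).law.toFun' S (∑ i ∈ I, s i ⊗ₜ[A] m i) =
      ∑ c ∈ Fintype.piFinset (fun _ : Fin d => I),
        (∏ j, s (c j)) ⊗ₜ[A] PiTensorProduct.tprod A (fun j => m (c j)) := by
  show ∏ j, Algebra.TensorProduct.map (AlgHom.id S S)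
      (PiTensorProduct.singleAlgHom (R := A) (A := fun _ : Fin d => B) j)
      (∑ i ∈ I, s i ⊗ₜ[A] m i) = _
  simp_rw [map_sum, Algebra.TensorProduct.map_tmul, AlgHom.id_apply]
  rw [Finset.prod_univ_sum]
  refine Finset.sum_congr rfl fun c _ => ?_
  rw [prod_tmul, prod_single_eq_tprod]

theorem coeff_tpowLaw {σ : Type u} (m : σ → B) (I : Finset σ) (ν : σ →₀ ℕ)
    [DecidableEq (σ →₀ ℕ)] :
    coeff (SymTen.tpowLaw A B d).law m I ν =
      ∑ c ∈ Fintype.piFinset (fun _ : Fin d => I) with ftype c = ν,
        PiTensorProduct.tprod A (fun j => m (c j)) := by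
  rw [coeff, gen, tpowLaw_sum]
  have : ∀ c : Fin d → σ, (∏ j, (MvPolynomial.X (c j) : MvPolynomial σ A)) =
      MvPolynomial.monomial (ftype c) 1 := by
    intro c
    rw [← prod_ftype, MvPolynomial.monomial_eq, map_one, one_mul]
  simp_rw [this]
  rw [tc_sum_monomial]

end TPow

section Universal
variable {A : Type u} [CommRing A] {B : Type u} [CommRing B] [Algebra A B] {N : Type u}
  [AddCommGroup N] [Module A N] {d : ℕ} {J : Type u}

/-- every element of `S ⊗ B` is a finsupp combination of the basis -/
theorem exists_finsupp_basis (bas : Module.Basis J A B) (S : Type*) [CommSemiring S]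
    [Algebra A S] (y : S ⊗[A] B) :
    ∃ s : J →₀ S, y = ∑ α ∈ s.support, s α ⊗ₜ[A] bas α := by
  suffices h : ∃ s : J →₀ S, y = s.sum fun α r => r ⊗ₜ[A] bas α from h
  induction y using TensorProduct.induction_on with
  | zero => exact ⟨0, by simp⟩
  | tmul r b =>
    refine ⟨(bas.repr b).mapRange (fun a => r * algebraMap A S a) (by simp), ?_⟩
    rw [Finsupp.sum_mapRange_index (h := fun α r => r ⊗ₜ[A] bas α)
      (fun α => TensorProduct.zero_tmul _ _)]
    conv_lhs => rw [← bas.linearCombination_repr b, Finsupp.linearCombination_apply, Finsupp.sum,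
      TensorProduct.tmul_sum]
    rw [Finsupp.sum]
    refine Finset.sum_congr rfl fun α _ => ?_
    rw [TensorProduct.tmul_smul, TensorProduct.smul_tmul', Algebra.smul_def, mul_comm]
  | add x y hx hy =>
    obtain ⟨s₁, rfl⟩ := hx
    obtain ⟨s₂, rfl⟩ := hy
    refine ⟨s₁ + s₂, ?_⟩
    rw [Finsupp.sum_add_index' (h := fun α r => r ⊗ₜ[A] bas α)
      (fun α => TensorProduct.zero_tmul _ _) (fun α r r' => TensorProduct.add_tmul _ _ _)]

open scoped Classical in
/-- a chosen representative of each type -/
noncomputable def rep' (J : Type*) (d : ℕ) (ν : J →₀ ℕ) : Option (Fin d → J) :=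
  if h : ∃ c' : Fin d → J, ftype c' = ν then some (Classical.choose h) else none

theorem rep'_spec {ν : J →₀ ℕ} {r : Fin d → J} (h : rep' J d ν = some r) : ftype r = ν := by
  classical
  rw [rep'] at h
  split_ifs at h with hex
  · rw [Option.some.injEq] at h
    rw [← h]
    exact Classical.choose_spec hex

theorem rep'_isSome {ν : J →₀ ℕ} (c : Fin d → J) (hc : ftype c = ν) :
    ∃ r, rep' J d ν = some r := by
  classical
  rw [rep']
  rw [dif_pos ⟨c, hc⟩]
  exact ⟨_, rfl⟩

open scoped Classical in
/-- The linear form on the tensor power attached to a homogeneous law on a free algebra. -/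
noncomputable def linFactor (bas : Module.Basis J A B) (F : B →ₚₗ[A] N) (d : ℕ) :
    (⨂[A] _ : Fin d, B) →ₗ[A] N :=
  (Basis.piTensorProduct (fun _ : Fin d => bas)).constr A fun c =>
    if rep' J d (ftype c) = some c then coeff F bas (Finset.univ.image c) (ftype c) else 0

open scoped Classical in
theorem linFactor_tprod (bas : Module.Basis J A B) (F : B →ₚₗ[A] N) (c : Fin d → J) :
    linFactor bas F d (PiTensorProduct.tprod A fun j => bas (c j)) =
      if rep' J d (ftype c) = some c then coeff F bas (Finset.univ.image c) (ftype c) else 0 := by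
  rw [← Basis.piTensorProduct_apply (fun _ : Fin d => bas) c, linFactor, Module.Basis.constr_basis]

theorem linFactor_coeff (bas : Module.Basis J A B) (F : B →ₚₗ[A] N) (hF : PolLaw.IsHomog F d)
    (I : Finset J) (ν : J →₀ ℕ) :
    linFactor bas F d (coeff (SymTen.tpowLaw A B d).law bas I ν) = coeff F bas I ν := by
  classical
  rw [coeff_tpowLaw, map_sum]
  simp_rw [linFactor_tprod]
  by_cases hex : ∃ c₀ ∈ Fintype.piFinset (fun _ : Fin d => I), ftype c₀ = ν
  · obtain ⟨c₀, hc₀I, hc₀⟩ := hex
    obtain ⟨r, hr⟩ := rep'_isSome c₀ hc₀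
    have hrν : ftype r = ν := rep'_spec hr
    have hrI : r ∈ Fintype.piFinset (fun _ : Fin d => I) := by
      rw [Fintype.mem_piFinset]
      apply mem_of_ftype_support_subset
      rw [hrν, ← hc₀]
      exact ftype_support_subset c₀ (Fintype.mem_piFinset.1 hc₀I)
    rw [Finset.sum_eq_single r]
    · rw [hrν, if_pos hr]
      symm
      apply coeff_shrink
      · intro i hi
        obtain ⟨j, _, rfl⟩ := Finset.mem_image.1 hi
        exact Fintype.mem_piFinset.1 hrI j
      · rw [← hrν]
        exact ftype_support_subset r fun j => Finset.mem_image_of_mem r (Finset.mem_univ j)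
    · intro c hc hcr
      rw [Finset.mem_filter] at hc
      rw [hc.2, hr, if_neg]
      intro h
      exact hcr (Option.some.inj h).symm
    · intro h
      exact absurd (Finset.mem_filter.2 ⟨hrI, hrν⟩) h
  · rw [Finset.sum_eq_zero]
    · by_contra hne
      have hne' : coeff F bas I ν ≠ 0 := fun h => hne h.symm
      obtain ⟨c, hc⟩ := exists_ftype_eq ν (coeff_degree F hF bas I ν hne')
      apply hex
      refine ⟨c, ?_, hc⟩
      rw [Fintype.mem_piFinset]
      apply mem_of_ftype_support_subset
      rw [hc]
      exact coeff_support_subset F bas I ν hne'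
    · intro c hc
      rw [Finset.mem_filter] at hc
      exact absurd ⟨c, hc.1, hc.2⟩ hex

/-- Universal property of the tensor power law on a free algebra (linear version). -/
theorem linFactor_spec (bas : Module.Basis J A B) (F : B →ₚₗ[A] N) (hF : PolLaw.IsHomog F d)
    (S : Type u) [CommSemiring S] [Algebra A S] (y : S ⊗[A] B) :
    (linFactor bas F d).lTensor S ((SymTen.tpowLaw A B d).law.toFun' S y) = F.toFun' S y := by
  classical
  obtain ⟨s, rfl⟩ := exists_finsupp_basis bas S y
  rw [toFun'_sum, toFun'_sum, map_sum]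
  simp_rw [LinearMap.lTensor_tmul, linFactor_coeff bas F hF]
  have hsub : (coeff F bas s.support).support ⊆
      (coeff (SymTen.tpowLaw A B d).law bas s.support).support := by
    intro ν hν
    rw [Finsupp.mem_support_iff] at hν ⊢
    intro h0
    apply hν
    rw [← linFactor_coeff bas F hF, h0, map_zero]
  symm
  apply Finset.sum_subset hsub
  intro ν _ hν
  rw [Finsupp.notMem_support_iff.1 hν, TensorProduct.tmul_zero]

end Universal

section Scale
variable {A : Type u} [CommRing A] {M N : Type u} [AddCommGroup M] [Module A M]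
  [AddCommGroup N] [Module A N]

theorem tc_monomial_tmul' {σ : Type*} (ν : σ →₀ ℕ) (a : A) (n : N) :
    tc σ N (MvPolynomial.monomial ν a ⊗ₜ[A] n) = Finsupp.single ν (a • n) := by
  have : MvPolynomial.monomial ν a = a • MvPolynomial.monomial ν (1 : A) := by
    rw [MvPolynomial.smul_monomial, smul_eq_mul, mul_one]
  rw [this, ← TensorProduct.smul_tmul', map_smul, tc_monomial_tmul, Finsupp.smul_single]

/-- scaling the family scales the coefficients -/
theorem coeff_smul_family (F : M →ₚₗ[A] N) {σ : Type u} (α : σ → A) (m : σ → M) (I : Finset σ)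
    (ν : σ →₀ ℕ) :
    coeff F (fun i => α i • m i) I ν = (ν.prod fun i k => α i ^ k) • coeff F m I ν := by
  classical
  have h1 : gen (A := A) (fun i => α i • m i) I =
      ∑ i ∈ I, (MvPolynomial.C (α i) * MvPolynomial.X i : MvPolynomial σ A) ⊗ₜ[A] m i := by
    rw [gen]
    refine Finset.sum_congr rfl fun i _ => ?_
    rw [TensorProduct.tmul_smul, TensorProduct.smul_tmul', MvPolynomial.smul_eq_C_mul]
  have h2 : ∀ μ : σ →₀ ℕ, (μ.prod fun i k =>
      (MvPolynomial.C (α i) * MvPolynomial.X i : MvPolynomial σ A) ^ k) =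
      MvPolynomial.monomial μ (μ.prod fun i k => α i ^ k) := by
    intro μ
    simp_rw [mul_pow]
    rw [Finsupp.prod_mul, MvPolynomial.monomial_eq]
    congr 1
    rw [Finsupp.prod, Finsupp.prod, map_prod]
    simp
  rw [coeff, h1, toFun'_sum]
  simp_rw [h2]
  rw [map_sum, Finsupp.finsetSum_apply]
  simp_rw [tc_monomial_tmul', Finsupp.single_apply]
  rw [Finset.sum_ite_eq' (coeff F m I).support ν]
  split_ifs with h
  · rfl
  · rw [Finsupp.notMem_support_iff.1 h, smul_zero]

end Scale

section Polar
variable {A : Type u} [CommRing A] {M N : Type u} [AddCommGroup M] [Module A M]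
  [AddCommGroup N] [Module A N]

noncomputable def ones (d : ℕ) : ULift.{u} (Fin d) →₀ ℕ :=
  Finsupp.equivFunOnFinite.symm fun _ => 1

@[simp] theorem ones_apply (d : ℕ) (i : ULift.{u} (Fin d)) : ones d i = 1 := rfl

noncomputable def polar (F : M →ₚₗ[A] N) (d : ℕ) (b : Fin d → M) : N :=
  coeff F (fun j : ULift.{u} (Fin d) => b j.down) Finset.univ (ones d)

/-- the scalar identity behind additivity of the polarisation -/
theorem coeff_ones_split (d : ℕ) [DecidableEq (ULift.{u} (Fin d))] (j₀ : ULift.{u} (Fin d))
    (μ : Option (ULift.{u} (Fin d)) →₀ ℕ) :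
    MvPolynomial.coeff (ones d) (μ.prod fun k e =>
        (k.elim (MvPolynomial.X j₀) MvPolynomial.X : MvPolynomial (ULift.{u} (Fin d)) A) ^ e) =
      MvPolynomial.coeff (ones d) (μ.prod fun k e =>
        (k.elim 0 MvPolynomial.X : MvPolynomial (ULift.{u} (Fin d)) A) ^ e) +
      MvPolynomial.coeff (ones d) (μ.prod fun k e =>
        (k.elim (MvPolynomial.X j₀) (fun i => if i ∈ Finset.univ.erase j₀ then MvPolynomial.X i
          else 0) : MvPolynomial (ULift.{u} (Fin d)) A) ^ e) := by
  have h0 : (μ.prod fun k e =>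
      (k.elim (MvPolynomial.X j₀) MvPolynomial.X : MvPolynomial (ULift.{u} (Fin d)) A) ^ e) =
      MvPolynomial.X j₀ ^ μ none * MvPolynomial.monomial μ.some 1 := by
    rw [Finsupp.prod_option_index _ _ (fun o => pow_zero _) (fun o m₁ m₂ => pow_add _ _ _)]
    congr 1
    exact prod_X_pow_eq_monomial μ.some
  have ha : (μ.prod fun k e =>
      (k.elim 0 MvPolynomial.X : MvPolynomial (ULift.{u} (Fin d)) A) ^ e) =
      0 ^ μ none * MvPolynomial.monomial μ.some 1 := by
    rw [Finsupp.prod_option_index _ _ (fun o => pow_zero _) (fun o m₁ m₂ => pow_add _ _ _)]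
    congr 1
    exact prod_X_pow_eq_monomial μ.some
  have hb : (μ.prod fun k e =>
      (k.elim (MvPolynomial.X j₀) (fun i => if i ∈ Finset.univ.erase j₀ then MvPolynomial.X i
          else 0) : MvPolynomial (ULift.{u} (Fin d)) A) ^ e) =
      MvPolynomial.X j₀ ^ μ none *
        (if μ.some.support ⊆ Finset.univ.erase j₀ then MvPolynomial.monomial μ.some 1 else 0) := by
    rw [Finsupp.prod_option_index _ _ (fun o => pow_zero _) (fun o m₁ m₂ => pow_add _ _ _)]
    congr 1
    exact prod_indicator_pow (Finset.univ.erase j₀) μ.some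
  rw [h0, ha, hb]
  set e := μ none with he
  set μ' := μ.some with hμ'
  by_cases h0 : e = 0
  · rw [h0, pow_zero, pow_zero, one_mul, one_mul]
    split_ifs with hs
    · rw [MvPolynomial.coeff_monomial]
      have hne : μ' ≠ ones d := by
        intro h
        have h1 : j₀ ∉ μ'.support := fun hj => by simpa using hs hj
        rw [Finsupp.notMem_support_iff, h] at h1
        simp at h1
      rw [if_neg hne, add_zero]
    · rw [MvPolynomial.coeff_zero, add_zero]
  · rw [zero_pow h0, zero_mul, MvPolynomial.coeff_zero, zero_add]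
    split_ifs with hs
    · rfl
    · rw [mul_zero, MvPolynomial.coeff_zero, MvPolynomial.X_pow_eq_monomial,
        MvPolynomial.monomial_mul, MvPolynomial.coeff_monomial, if_neg]
      intro h
      rw [Finset.not_subset] at hs
      obtain ⟨i, hi, hi'⟩ := hs
      have hij : i = j₀ := by simpa using hi'
      subst hij
      have h1 := DFunLike.congr_fun h i
      rw [Finsupp.add_apply, Finsupp.single_eq_same, ones_apply] at h1
      have h2 : μ' i ≠ 0 := Finsupp.mem_support_iff.1 hi
      omega

theorem polar_update_add (F : M →ₚₗ[A] N) (d : ℕ) [DecidableEq (Fin d)] (b : Fin d → M)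
    (j : Fin d) (x y : M) :
    polar F d (Function.update b j (x + y)) =
      polar F d (Function.update b j x) + polar F d (Function.update b j y) := by
  set j₀ : ULift.{u} (Fin d) := ULift.up j with hj₀
  set g : Option (ULift.{u} (Fin d)) → M :=
    fun k => k.elim y (fun i => Function.update b j x i.down) with hg
  have hdown : ∀ i : ULift.{u} (Fin d), i.down = j ↔ i = j₀ := by
    intro i
    constructor
    · intro h; exact ULift.ext _ _ h
    · rintro rfl; rfl
  -- the three specialisations
  have H0 : ∑ k, (k.elim (MvPolynomial.X j₀) MvPolynomial.X :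
      MvPolynomial (ULift.{u} (Fin d)) A) ⊗ₜ[A] g k =
      gen (fun i : ULift.{u} (Fin d) => Function.update b j (x + y) i.down) Finset.univ := by
    rw [Fintype.sum_option, gen]
    simp only [Option.elim_none, Option.elim_some, hg]
    have : ∀ i : ULift.{u} (Fin d), (MvPolynomial.X i : MvPolynomial (ULift.{u} (Fin d)) A) ⊗ₜ[A]
        Function.update b j (x + y) i.down =
        (MvPolynomial.X i : MvPolynomial (ULift.{u} (Fin d)) A) ⊗ₜ[A] Function.update b j x i.down +
          if i = j₀ then (MvPolynomial.X i : MvPolynomial (ULift.{u} (Fin d)) A) ⊗ₜ[A] y else 0 := by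
      intro i
      by_cases hi : i = j₀
      · subst hi
        rw [if_pos rfl, Function.update_self, Function.update_self, TensorProduct.tmul_add]
      · rw [if_neg hi, add_zero, Function.update_of_ne (fun h => hi ((hdown i).1 h)),
          Function.update_of_ne (fun h => hi ((hdown i).1 h))]
    simp_rw [this]
    rw [Finset.sum_add_distrib, Finset.sum_ite_eq' Finset.univ j₀, if_pos (Finset.mem_univ _),
      add_comm]
  have Ha : ∑ k, (k.elim 0 MvPolynomial.X :
      MvPolynomial (ULift.{u} (Fin d)) A) ⊗ₜ[A] g k =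
      gen (fun i : ULift.{u} (Fin d) => Function.update b j x i.down) Finset.univ := by
    rw [Fintype.sum_option, gen]
    simp only [Option.elim_none, Option.elim_some, hg, TensorProduct.zero_tmul, zero_add]
  have Hb : ∑ k, (k.elim (MvPolynomial.X j₀) (fun i => if i ∈ Finset.univ.erase j₀ then
      MvPolynomial.X i else 0) : MvPolynomial (ULift.{u} (Fin d)) A) ⊗ₜ[A] g k =
      gen (fun i : ULift.{u} (Fin d) => Function.update b j y i.down) Finset.univ := by
    rw [Fintype.sum_option, gen]
    simp only [Option.elim_none, Option.elim_some, hg]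
    have : ∀ i : ULift.{u} (Fin d), (MvPolynomial.X i : MvPolynomial (ULift.{u} (Fin d)) A) ⊗ₜ[A]
        Function.update b j y i.down =
        (if i ∈ Finset.univ.erase j₀ then (MvPolynomial.X i : MvPolynomial (ULift.{u} (Fin d)) A)
          else 0) ⊗ₜ[A] Function.update b j x i.down +
          if i = j₀ then (MvPolynomial.X i : MvPolynomial (ULift.{u} (Fin d)) A) ⊗ₜ[A] y else 0 := by
      intro i
      by_cases hi : i = j₀
      · subst hi
        rw [if_pos rfl, if_neg (by simp), TensorProduct.zero_tmul, zero_add, Function.update_self]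
      · rw [if_neg hi, add_zero, if_pos (by simp [hi]),
          Function.update_of_ne (fun h => hi ((hdown i).1 h)),
          Function.update_of_ne (fun h => hi ((hdown i).1 h))]
    simp_rw [this]
    rw [Finset.sum_add_distrib, Finset.sum_ite_eq' Finset.univ j₀, if_pos (Finset.mem_univ _),
      add_comm]
  have key : ∀ (s : Option (ULift.{u} (Fin d)) → MvPolynomial (ULift.{u} (Fin d)) A)
      (b' : Fin d → M), ∑ k, s k ⊗ₜ[A] g k = gen (fun i : ULift.{u} (Fin d) => b' i.down)
        Finset.univ →
      polar F d b' = ∑ μ ∈ (coeff F g Finset.univ).support,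
        MvPolynomial.coeff (ones d) (μ.prod fun k e => s k ^ e) • coeff F g Finset.univ μ := by
    intro s b' h
    rw [polar, coeff, ← h, toFun'_sum F g Finset.univ, map_sum, Finsupp.finsetSum_apply]
    exact Finset.sum_congr rfl fun μ _ => tc_tmul _ _ _ _ _
  rw [key _ _ H0, key _ _ Ha, key _ _ Hb, ← Finset.sum_add_distrib]
  refine Finset.sum_congr rfl fun μ _ => ?_
  rw [coeff_ones_split d j₀ μ, add_smul]


theorem polar_update_smul (F : M →ₚₗ[A] N) (d : ℕ) [DecidableEq (Fin d)] (b : Fin d → M)
    (j : Fin d) (a : A) (x : M) :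
    polar F d (Function.update b j (a • x)) = a • polar F d (Function.update b j x) := by
  classical
  have h : (fun i : ULift.{u} (Fin d) => Function.update b j (a • x) i.down) =
      fun i => (if i.down = j then a else 1) • Function.update b j x i.down := by
    funext i
    by_cases hi : i.down = j
    · rw [if_pos hi, hi, Function.update_self, Function.update_self]
    · rw [if_neg hi, one_smul, Function.update_of_ne hi, Function.update_of_ne hi]
  rw [polar, polar, h, coeff_smul_family]
  congr 1
  rw [Finsupp.prod_fintype _ _ (fun i => pow_zero _)]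
  simp only [ones_apply, pow_one]
  rw [Finset.prod_ite, Finset.prod_const_one, mul_one, Finset.prod_const]
  have : (Finset.univ.filter fun i : ULift.{u} (Fin d) => i.down = j) = {ULift.up j} := by
    ext i
    simp only [Finset.mem_filter, Finset.mem_univ, true_and, Finset.mem_singleton]
    constructor
    · intro h; exact ULift.ext _ _ h
    · rintro rfl; rfl
  rw [this, Finset.card_singleton, pow_one]


end Polar

section PolarLin
variable {A : Type u} [CommRing A] {M N : Type u} [AddCommGroup M] [Module A M]
  [AddCommGroup N] [Module A N]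

/-- the polarisation as a multilinear map -/
noncomputable def polarMulti (F : M →ₚₗ[A] N) (d : ℕ) : MultilinearMap A (fun _ : Fin d => M) N where
  toFun := polar F d
  map_update_add' := fun b j x y => polar_update_add F d b j x y
  map_update_smul' := fun b j a x => polar_update_smul F d b j a x

/-- the polarisation as a linear map on the tensor power -/
noncomputable def polarLin (F : M →ₚₗ[A] N) (d : ℕ) : (⨂[A] _ : Fin d, M) →ₗ[A] N :=
  PiTensorProduct.lift (polarMulti F d)

@[simp] theorem polarLin_tprod (F : M →ₚₗ[A] N) (d : ℕ) (b : Fin d → M) :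
    polarLin F d (PiTensorProduct.tprod A b) = polar F d b :=
  PiTensorProduct.lift.tprod _

theorem polar_postcomp {P : Type u} [AddCommGroup P] [Module A P] (g : N →ₗ[A] P)
    (F : M →ₚₗ[A] N) (d : ℕ) (b : Fin d → M) :
    polar (PolLaw.postcomp g F) d b = g (polar F d b) :=
  coeff_postcomp g F _ _ _

theorem polar_precomp {M' : Type u} [AddCommGroup M'] [Module A M'] (g : M' →ₗ[A] M)
    (F : M →ₚₗ[A] N) (d : ℕ) (b : Fin d → M') :
    polar (PolLaw.precomp F g) d b = polar F d (fun j => g (b j)) := by
  rw [polar, coeff_precomp]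
  rfl

theorem polarLin_postcomp {P : Type u} [AddCommGroup P] [Module A P] (g : N →ₗ[A] P)
    (F : M →ₚₗ[A] N) (d : ℕ) (t : ⨂[A] _ : Fin d, M) :
    polarLin (PolLaw.postcomp g F) d t = g (polarLin F d t) := by
  induction t using PiTensorProduct.induction_on with
  | smul_tprod r b => rw [map_smul, map_smul, map_smul, polarLin_tprod, polarLin_tprod, polar_postcomp]
  | add x y hx hy => rw [map_add, map_add, map_add, hx, hy]

end PolarLin

section PolarAlg
variable {A : Type u} [CommRing A] {B B' : Type u} [CommRing B] [Algebra A B] [CommRing B']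
  [Algebra A B'] {N : Type u} [AddCommGroup N] [Module A N]

theorem polarLin_precomp_tmap (π : B' →ₐ[A] B) (F : B →ₚₗ[A] N) (d : ℕ)
    (t : ⨂[A] _ : Fin d, B') :
    polarLin F d (SymTen.tmap A d π t) = polarLin (PolLaw.precomp F π.toLinearMap) d t := by
  induction t using PiTensorProduct.induction_on with
  | smul_tprod r b =>
    rw [map_smul, map_smul, map_smul, SymTen.tmap_tprod, polarLin_tprod, polarLin_tprod,
      polar_precomp]
    rfl
  | add x y hx hy => rw [map_add, map_add, map_add, hx, hy]

theorem ftype_eq_ones_iff {d : ℕ} (c : Fin d → ULift.{u} (Fin d)) :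
    ftype c = ones d ↔ Function.Bijective c := by
  classical
  have happ : ∀ i, ftype c i = (Finset.univ.filter fun j => c j = i).card := by
    intro i
    rw [ftype, Finsupp.finsetSum_apply, Finset.card_filter]
    exact Finset.sum_congr rfl fun j _ => Finsupp.single_apply
  constructor
  · intro h
    have hsurj : Function.Surjective c := by
      intro i
      have h1 : (Finset.univ.filter fun j => c j = i).card = 1 := by
        rw [← happ, h, ones_apply]
      obtain ⟨j, hj⟩ := Finset.card_eq_one.1 h1
      have : j ∈ Finset.univ.filter fun j => c j = i := by rw [hj]; exact Finset.mem_singleton_self j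
      exact ⟨j, (Finset.mem_filter.1 this).2⟩
    exact (Fintype.bijective_iff_surjective_and_card c).2 ⟨hsurj, by simp⟩
  · intro h
    ext i
    rw [happ, ones_apply]
    obtain ⟨j, hj, huniq⟩ := h.existsUnique i
    rw [Finset.card_eq_one]
    refine ⟨j, ?_⟩
    ext j'
    simp only [Finset.mem_filter, Finset.mem_univ, true_and, Finset.mem_singleton]
    exact ⟨fun h' => huniq j' h', fun h' => h' ▸ hj⟩

theorem polar_tpowLaw (d : ℕ) (b : Fin d → B) :
    polar (SymTen.tpowLaw A B d).law d b =
      ∑ σ : Equiv.Perm (Fin d), PiTensorProduct.tprod A (fun j => b (σ j)) := by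
  classical
  rw [polar, coeff_tpowLaw]
  have hset : (Fintype.piFinset (fun _ : Fin d => (Finset.univ : Finset (ULift.{u} (Fin d))))).filter
      (fun c => ftype c = ones d) =
      Finset.univ.image (fun σ : Equiv.Perm (Fin d) => fun j => ULift.up.{u} (σ j)) := by
    ext c
    simp only [Finset.mem_filter, Fintype.mem_piFinset, Finset.mem_univ, implies_true, true_and,
      Finset.mem_image]
    rw [ftype_eq_ones_iff]
    constructor
    · intro h
      have hb : Function.Bijective (fun j => (c j).down) :=
        (Equiv.ulift.bijective).comp h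
      refine ⟨Equiv.ofBijective _ hb, ?_⟩
      funext j
      rfl
    · rintro ⟨σ, rfl⟩
      exact (Equiv.ulift.symm.bijective).comp σ.bijective
  rw [hset, Finset.sum_image]
  intro σ _ σ' _ h
  ext j
  have := congrFun h j
  exact congrArg Fin.val (ULift.up_injective this)

theorem polarLin_tpowLaw (d : ℕ) (t : ⨂[A] _ : Fin d, B) :
    polarLin (SymTen.tpowLaw A B d).law d t =
      ∑ σ : Equiv.Perm (Fin d), SymTen.perm A B d σ t := by
  induction t using PiTensorProduct.induction_on with
  | smul_tprod r b =>
    rw [map_smul, polarLin_tprod, polar_tpowLaw]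
    simp_rw [map_smul, SymTen.perm_tprod]
    rw [← Finset.smul_sum]
    congr 1
    exact (Equiv.sum_comp (Equiv.inv (Equiv.Perm (Fin d)))
      (fun σ => PiTensorProduct.tprod A fun j => b (σ j))).symm
  | add x y hx hy =>
    rw [map_add, hx, hy, ← Finset.sum_add_distrib]
    exact Finset.sum_congr rfl fun σ _ => (map_add _ _ _).symm

end PolarAlg

section Star
variable {A : Type u} [CommRing A] {B : Type u} [CommRing B] [Algebra A B] {N : Type u}
  [AddCommGroup N] [Module A N]

theorem exists_sum_tmul_fin {M : Type*} [AddCommGroup M] [Module A M] (S : Type*)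
    [CommSemiring S] [Algebra A S] (y : S ⊗[A] M) :
    ∃ (n : ℕ) (s : Fin n → S) (m : Fin n → M), y = ∑ j, s j ⊗ₜ[A] m j := by
  induction y using TensorProduct.induction_on with
  | zero => exact ⟨0, Fin.elim0, Fin.elim0, by simp⟩
  | tmul s m => exact ⟨1, fun _ => s, fun _ => m, by simp⟩
  | add x y hx hy =>
    obtain ⟨n₁, s₁, m₁, rfl⟩ := hx
    obtain ⟨n₂, s₂, m₂, rfl⟩ := hy
    refine ⟨n₁ + n₂, Fin.append s₁ s₂, Fin.append m₁ m₂, ?_⟩
    rw [Fin.sum_univ_add]
    simp

theorem isHomog_precomp {B' : Type u} [CommRing B'] [Algebra A B'] (F : B →ₚₗ[A] N) {d : ℕ}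
    (hF : PolLaw.IsHomog F d) (π : B' →ₐ[A] B) :
    PolLaw.IsHomog (PolLaw.precomp F π.toLinearMap) d := by
  intro S _ _ s x
  show F.toFun' S (π.toLinearMap.lTensor S (s • x)) = s ^ d • F.toFun' S (π.toLinearMap.lTensor S x)
  rw [PolLaw.lTensor_algHom_apply, PolLaw.lTensor_algHom_apply, map_smul, hF S s]

/-- The polarisation of `F`, evaluated on a coefficient of the tensor power law, is `d!` times the
corresponding coefficient of `F`. -/
theorem polarLin_coeff_tpowLaw (F : B →ₚₗ[A] N) {d : ℕ} (hF : PolLaw.IsHomog F d) {σ : Type u}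
    (m : σ → B) (I : Finset σ) (ν : σ →₀ ℕ) :
    polarLin F d (coeff (SymTen.tpowLaw A B d).law m I ν) = d.factorial • coeff F m I ν := by
  classical
  set B' := MvPolynomial σ A
  set π : B' →ₐ[A] B := MvPolynomial.aeval m
  set bas : Module.Basis (σ →₀ ℕ) A B' := MvPolynomial.basisMonomials σ A
  set F' := PolLaw.precomp F π.toLinearMap with hF'def
  have hF' : PolLaw.IsHomog F' d := isHomog_precomp F hF π
  set g := linFactor bas F' d
  have hlaw : F' = PolLaw.postcomp g (SymTen.tpowLaw A B' d).law := by
    refine PolynomialLaw.ext ?_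
    funext S _ _ y
    exact (linFactor_spec bas F' hF' S y).symm
  have step1 : coeff F m I ν = coeff F' (MvPolynomial.X : σ → B') I ν := by
    rw [hF'def, coeff_precomp]
    congr 2
    funext i
    exact (MvPolynomial.aeval_X m i).symm
  have step2 : coeff F' (MvPolynomial.X : σ → B') I ν =
      g (coeff (SymTen.tpowLaw A B' d).law (MvPolynomial.X : σ → B') I ν) := by
    conv_lhs => rw [hlaw]
    exact coeff_postcomp _ _ _ _ _
  have step3 : coeff (SymTen.tpowLaw A B d).law m I ν =
      SymTen.tmap A d π (coeff (SymTen.tpowLaw A B' d).law (MvPolynomial.X : σ → B') I ν) := by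
    rw [coeff_tpowLaw, coeff_tpowLaw, map_sum]
    refine Finset.sum_congr rfl fun c _ => ?_
    rw [SymTen.tmap_tprod]
    congr 1
    funext j
    exact (MvPolynomial.aeval_X m (c j)).symm
  have step6 : polarLin (SymTen.tpowLaw A B' d).law d
      (coeff (SymTen.tpowLaw A B' d).law (MvPolynomial.X : σ → B') I ν) =
      d.factorial • coeff (SymTen.tpowLaw A B' d).law (MvPolynomial.X : σ → B') I ν := by
    rw [polarLin_tpowLaw]
    have : ∀ τ : Equiv.Perm (Fin d), SymTen.perm A B' d τ
        (coeff (SymTen.tpowLaw A B' d).law (MvPolynomial.X : σ → B') I ν) =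
        coeff (SymTen.tpowLaw A B' d).law (MvPolynomial.X : σ → B') I ν := by
      intro τ
      have h := coeff_postcomp (SymTen.perm A B' d τ).toLinearMap (SymTen.tpowLaw A B' d).law
        (MvPolynomial.X : σ → B') I ν
      rw [Groth.Agent.Lib.Helper99.SymNorm.postcomp_perm_tpowLaw] at h
      exact h.symm
    rw [Finset.sum_congr rfl (fun τ _ => this τ), Finset.sum_const, Finset.card_univ,
      Fintype.card_perm, Fintype.card_fin]
  rw [step3, polarLin_precomp_tmap, ← hF'def]
  conv_lhs => rw [hlaw]
  rw [polarLin_postcomp, step6, map_nsmul, ← step2, ← step1]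

end Star

end Groth.Agent.Lib.Helper25.PolLawCoeff
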