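import Groth.Agent.Lib.Helper25.QuadMat

/-!
# Finding a regular plane Zariski-locally (characteristic free)

For a matrix `N` whose symmetrisation has determinant outside a prime `p`, unimodular changes of
variables making `N z0 z0 ∉ p` and then the plane discriminant `4 N₀₀ N₁₁ - (N₀₁ + N₁₀)² ∉ p`.
-/

set_option autoImplicit false
set_option linter.unusedSectionVars false
set_option linter.unusedVariables false
set_option linter.unusedSimpArgs false

namespace Helper25.QuadMat

open Matrix

variable {R : Type*} [CommRing R] {ι : Type*} [Fintype ι] [DecidableEq ι]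

theorem exists_unit_value (N : Matrix ι ι R) (p : Ideal R) [p.IsPrime]
    (hdet : (N + Nᵀ).det ∉ p) (z0 : ι) :
    ∃ G : Matrix ι ι R, IsUnit G.det ∧ (Gᵀ * N * G) z0 z0 ∉ p := by
  by_cases h : ∃ i, N i i ∉ p
  · obtain ⟨i, hi⟩ := h
    refine ⟨(1 : Matrix ι ι R).submatrix id (Equiv.swap z0 i), isUnit_det_one_submatrix _, ?_⟩
    rw [conj_apply_bl, one_submatrix_col, bl_single_single, Equiv.swap_apply_left]
    exact hi
  · push Not at h
    have : ∃ j, (N + Nᵀ) z0 j ∉ p := by
      by_contra hc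
      push Not at hc
      exact hdet (det_mem_of_row_mem _ p z0 hc)
    obtain ⟨j, hj⟩ := this
    have hj0 : j ≠ z0 := by
      rintro rfl
      apply hj
      simp only [Matrix.add_apply, Matrix.transpose_apply]
      exact p.add_mem (h _) (h _)
    refine ⟨Matrix.transvection j z0 1,
      by rw [Matrix.det_transvection_of_ne _ _ hj0]; exact isUnit_one, ?_⟩
    rw [conj_apply_bl, transvection_col_same, bl_add_left, bl_add_right, bl_add_right,
      bl_single_single, bl_single_single, bl_single_single, bl_single_single]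
    intro hmem
    apply hj
    have e : (N + Nᵀ) z0 j = (N z0 z0 + N z0 j + (N j z0 + N j j)) - N z0 z0 - N j j := by
      simp only [Matrix.add_apply, Matrix.transpose_apply]; ring
    rw [e]
    exact p.sub_mem (p.sub_mem hmem (h _)) (h _)

/-- The discriminant of the plane spanned by the coordinates `z0`, `z1`. -/
def mu (M : Matrix ι ι R) (z0 z1 : ι) : R :=
  4 * M z0 z0 * M z1 z1 - (M z0 z1 + M z1 z0) ^ 2

theorem det_mem_of_rankOne (b : Matrix ι ι R) (p : Ideal R) [p.IsPrime] [Nontrivial ι]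
    (c : R) (hc : c ∉ p) (v : ι → R) (h : ∀ j k, c * b j k - v j * v k ∈ p) : b.det ∈ p := by
  have h1 : (Ideal.Quotient.mk p) ((c • b).det) = 0 := by
    rw [RingHom.map_det]
    have : (Ideal.Quotient.mk p).mapMatrix (c • b)
        = (Ideal.Quotient.mk p).mapMatrix (Matrix.vecMulVec v v) := by
      ext j k
      simp only [RingHom.mapMatrix_apply, Matrix.map_apply, Matrix.smul_apply, smul_eq_mul,
        Matrix.vecMulVec_apply]
      rw [← sub_eq_zero, ← map_sub, Ideal.Quotient.eq_zero_iff_mem]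
      exact h j k
    rw [this, ← RingHom.map_det, Matrix.det_vecMulVec, map_zero]
  rw [Ideal.Quotient.eq_zero_iff_mem, Matrix.det_smul] at h1
  rcases Ideal.IsPrime.mem_or_mem ‹_› h1 with h2 | h2
  · exact absurd (Ideal.IsPrime.mem_of_pow_mem ‹_› _ h2) hc
  · exact h2

theorem conj_transvection_entries (N₁ : Matrix ι ι R) (l z0 z1 : ι) (h01 : z0 ≠ z1) :
    ((Matrix.transvection l z1 (1 : R))ᵀ * N₁ * Matrix.transvection l z1 1 : Matrix ι ι R) z0 z0 = N₁ z0 z0 ∧
    ((Matrix.transvection l z1 (1 : R))ᵀ * N₁ * Matrix.transvection l z1 1 : Matrix ι ι R) z1 z1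
      = N₁ z1 z1 + N₁ z1 l + (N₁ l z1 + N₁ l l) ∧
    ((Matrix.transvection l z1 (1 : R))ᵀ * N₁ * Matrix.transvection l z1 1 : Matrix ι ι R) z0 z1
      = N₁ z0 z1 + N₁ z0 l ∧
    ((Matrix.transvection l z1 (1 : R))ᵀ * N₁ * Matrix.transvection l z1 1 : Matrix ι ι R) z1 z0
      = N₁ z1 z0 + N₁ l z0 := by
  refine ⟨?_, ?_, ?_, ?_⟩
  · rw [conj_apply_bl, transvection_col_ne _ _ _ h01, bl_single_single]
  · rw [conj_apply_bl, transvection_col_same, bl_add_left, bl_add_right, bl_add_right,
      bl_single_single, bl_single_single, bl_single_single, bl_single_single]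
  · rw [conj_apply_bl, transvection_col_same, transvection_col_ne _ _ _ h01, bl_add_right,
      bl_single_single, bl_single_single]
  · rw [conj_apply_bl, transvection_col_same, transvection_col_ne _ _ _ h01, bl_add_left,
      bl_single_single, bl_single_single]

theorem exists_regular_plane (N : Matrix ι ι R) (p : Ideal R) [p.IsPrime]
    (hdet : (N + Nᵀ).det ∉ p) (z0 z1 : ι) (h01 : z0 ≠ z1) (hα : N z0 z0 ∉ p) :
    ∃ G : Matrix ι ι R, IsUnit G.det ∧ (Gᵀ * N * G) z0 z0 = N z0 z0 ∧
      mu (Gᵀ * N * G) z0 z1 ∉ p := by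
  haveI : Nontrivial ι := ⟨⟨z0, z1, h01⟩⟩
  set α := N z0 z0 with hαdef
  set b := N + Nᵀ with hb
  have hbapp : ∀ x y, b x y = N x y + N y x := fun x y => by
    simp only [hb, Matrix.add_apply, Matrix.transpose_apply]
  -- the candidate values
  by_cases H1 : ∃ j, j ≠ z0 ∧ 4 * α * N j j - (b z0 j) ^ 2 ∉ p
  · obtain ⟨j, hj0, hj⟩ := H1
    have hσ0 : Equiv.swap z1 j z0 = z0 := Equiv.swap_apply_of_ne_of_ne h01 hj0.symm
    refine ⟨(1 : Matrix ι ι R).submatrix id (Equiv.swap z1 j), isUnit_det_one_submatrix _, ?_, ?_⟩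
    · rw [conj_apply_bl, one_submatrix_col, bl_single_single, hσ0]
    · unfold mu
      simp only [conj_apply_bl, one_submatrix_col, bl_single_single, hσ0,
        Equiv.swap_apply_left]
      rw [hbapp] at hj
      exact hj
  · push Not at H1
    by_cases H2 : ∃ j k, j ≠ z0 ∧ k ≠ z0 ∧ j ≠ k ∧
        4 * α * (N j j + N j k + N k j + N k k) - (b z0 j + b z0 k) ^ 2 ∉ p
    · obtain ⟨j, k, hj0, hk0, hjk, hψ⟩ := H2
      set σ := Equiv.swap z1 j with hσ
      have hσ0 : σ z0 = z0 := Equiv.swap_apply_of_ne_of_ne h01 hj0.symm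
      have hσ1 : σ z1 = j := Equiv.swap_apply_left _ _
      set l := σ k with hl
      have hσl : σ l = k := by rw [hl, hσ, Equiv.swap_apply_self]
      have hl1 : l ≠ z1 := by
        intro h
        have : σ l = σ z1 := by rw [h]
        rw [hσl, hσ1] at this
        exact hjk this.symm
      have hl0 : l ≠ z0 := by
        intro h
        have : σ l = σ z0 := by rw [h]
        rw [hσl, hσ0] at this
        exact hk0 this
      have hN₁ : ∀ x y, (((1 : Matrix ι ι R).submatrix id σ)ᵀ * N *
          ((1 : Matrix ι ι R).submatrix id σ)) x y = N (σ x) (σ y) := fun x y => by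
        rw [conj_apply_bl, one_submatrix_col, one_submatrix_col, bl_single_single]
      have hmul : ((1 : Matrix ι ι R).submatrix id σ * Matrix.transvection l z1 1)ᵀ * N *
          ((1 : Matrix ι ι R).submatrix id σ * Matrix.transvection l z1 1)
          = (Matrix.transvection l z1 (1 : R))ᵀ * (((1 : Matrix ι ι R).submatrix id σ)ᵀ * N *
            ((1 : Matrix ι ι R).submatrix id σ)) * Matrix.transvection l z1 1 := by
        rw [Matrix.transpose_mul]; simp only [Matrix.mul_assoc]
      obtain ⟨e00, e11, e01, e10⟩ := conj_transvection_entries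
        (((1 : Matrix ι ι R).submatrix id σ)ᵀ * N * ((1 : Matrix ι ι R).submatrix id σ)) l z0 z1 h01
      simp only [hN₁, hσ0, hσ1, hσl] at e00 e11 e01 e10
      refine ⟨(1 : Matrix ι ι R).submatrix id σ * Matrix.transvection l z1 1, ?_, ?_, ?_⟩
      · rw [Matrix.det_mul]
        exact (isUnit_det_one_submatrix σ).mul
          (by rw [Matrix.det_transvection_of_ne _ _ hl1]; exact isUnit_one)
      · rw [hmul, e00]
      · rw [hmul]
        unfold mu
        rw [e00, e11, e01, e10]
        simp only [hbapp] at hψ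
        convert hψ using 2
        ring
    · push Not at H2
      exfalso
      apply hdet
      by_cases h2 : (2 : R) ∈ p
      · -- row z0 of b lies in p
        refine det_mem_of_row_mem _ p z0 fun j => ?_
        by_cases hj : j = z0
        · subst hj
          rw [hbapp]
          have : N j j + N j j = 2 * N j j := by ring
          rw [this]; exact p.mul_mem_right _ h2
        · have := H1 j hj
          have h4 : 4 * α * N j j ∈ p := by
            have : (4 : R) * α * N j j = 2 * (2 * α * N j j) := by ring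
            rw [this]; exact p.mul_mem_right _ h2
          have hsq : (b z0 j) ^ 2 ∈ p := by
            have e : (b z0 j) ^ 2 = 4 * α * N j j - (4 * α * N j j - (b z0 j) ^ 2) := by ring
            rw [e]; exact p.sub_mem h4 this
          exact Ideal.IsPrime.mem_of_pow_mem ‹_› _ hsq
      · -- rank one modulo p
        have h2α : 2 * α ∉ p := fun h =>
          (Ideal.IsPrime.mem_or_mem ‹_› h).elim h2 hα
        refine det_mem_of_rankOne b p (2 * α) h2α (fun j => b z0 j) fun j k => ?_
        by_cases hj : j = z0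
        · subst hj
          have : 2 * α * b j k - b j j * b j k = 0 := by
            rw [hbapp j j, hαdef]; ring
          rw [this]; exact p.zero_mem
        by_cases hk : k = z0
        · subst hk
          have : 2 * α * b j k - b k j * b k k = 0 := by
            rw [hbapp k k, hbapp j k, hbapp k j, hαdef]; ring
          rw [this]; exact p.zero_mem
        by_cases hjk : j = k
        · subst hjk
          have := H1 j hj
          have e : 2 * α * b j j - b z0 j * b z0 j = 4 * α * N j j - (b z0 j) ^ 2 := by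
            rw [hbapp j j]; ring
          rw [e]; exact this
        · have hj' := H1 j hj
          have hk' := H1 k hk
          have hjk' := H2 j k hj hk hjk
          have e : 2 * (2 * α * b j k - b z0 j * b z0 k)
              = (4 * α * (N j j + N j k + N k j + N k k) - (b z0 j + b z0 k) ^ 2)
                - (4 * α * N j j - (b z0 j) ^ 2) - (4 * α * N k k - (b z0 k) ^ 2) := by
            rw [hbapp j k]; ring
          have : 2 * (2 * α * b j k - b z0 j * b z0 k) ∈ p := by
            rw [e]; exact p.sub_mem (p.sub_mem hjk' hj') hk'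
          exact (Ideal.IsPrime.mem_or_mem ‹_› this).resolve_left h2

end Helper25.QuadMat

namespace Helper25.QuadMat

open Matrix

variable {R : Type*} [CommRing R] {ι : Type*} [Fintype ι] [DecidableEq ι]

theorem exists_good_plane (N : Matrix ι ι R) (p : Ideal R) [p.IsPrime]
    (hdet : (N + Nᵀ).det ∉ p) (z0 z1 : ι) (h01 : z0 ≠ z1) :
    ∃ G : Matrix ι ι R, IsUnit G.det ∧ (Gᵀ * N * G) z0 z0 ∉ p ∧ mu (Gᵀ * N * G) z0 z1 ∉ p := by
  obtain ⟨GA, hGA, hA⟩ := exists_unit_value N p hdet z0
  have hdetA : ((GAᵀ * N * GA) + (GAᵀ * N * GA)ᵀ).det ∉ p := by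
    have e : (GAᵀ * N * GA) + (GAᵀ * N * GA)ᵀ = GAᵀ * (N + Nᵀ) * GA := by
      simp only [Matrix.transpose_mul, Matrix.transpose_transpose, Matrix.mul_add, Matrix.add_mul,
        Matrix.mul_assoc]
    rw [e, Matrix.det_mul, Matrix.det_mul, Matrix.det_transpose]
    intro hmem
    apply hdet
    have hu : IsUnit (GA.det * GA.det) := hGA.mul hGA
    have : GA.det * (N + Nᵀ).det * GA.det = (GA.det * GA.det) * (N + Nᵀ).det := by ring
    rw [this] at hmem
    rcases Ideal.IsPrime.mem_or_mem ‹_› hmem with h | h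
    · exact absurd (p.eq_top_of_isUnit_mem h hu) (Ideal.IsPrime.ne_top ‹_›)
    · exact h
  obtain ⟨GB, hGB, hB0, hBmu⟩ := exists_regular_plane (GAᵀ * N * GA) p hdetA z0 z1 h01 hA
  have hmul : (GA * GB)ᵀ * N * (GA * GB) = GBᵀ * (GAᵀ * N * GA) * GB := by
    rw [Matrix.transpose_mul]; simp only [Matrix.mul_assoc]
  refine ⟨GA * GB, by rw [Matrix.det_mul]; exact hGA.mul hGB, ?_, ?_⟩
  · rw [hmul, hB0]; exact hA
  · rw [hmul]; exact hBmu

/-- The split binary form. -/
def H2 (S : Type*) [CommRing S] : Matrix (Fin 2) (Fin 2) S := !![0, 1; 0, 0]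

theorem plane_split {S : Type*} [CommRing S] (A : Matrix (Fin 2) (Fin 2) S) (s h : S)
    (hs : s ^ 2 + (A 0 1 + A 1 0) * s + A 0 0 * A 1 1 = 0)
    (hh : A 0 0 * (4 * A 0 0 * A 1 1 - (A 0 1 + A 1 0) ^ 2) * h = 1) :
    ∃ G₃ : Matrix (Fin 2) (Fin 2) S, IsUnit G₃.det ∧ QEq (G₃ᵀ * A * G₃) (H2 S) := by
  set α := A 0 0 with hα
  set β := A 1 1 with hβ
  set γ := A 0 1 with hγ
  set δ := A 1 0 with hδ
  have hA : A = !![α, γ; δ, β] := Matrix.eta_fin_two A
  refine ⟨!![s, -(γ + δ + s) * h; α, α * h], ?_, ?_⟩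
  · rw [Matrix.det_fin_two_of]
    -- α h (2 s + c)
    have hu : IsUnit (α * h * (2 * s + (γ + δ))) := by
      have h1 : IsUnit (α * (4 * α * β - (γ + δ) ^ 2) * h) := by rw [hh]; exact isUnit_one
      have hαu : IsUnit α := isUnit_of_mul_isUnit_left (isUnit_of_mul_isUnit_left h1)
      have hhu : IsUnit h := isUnit_of_mul_isUnit_right h1
      have hμu : IsUnit (4 * α * β - (γ + δ) ^ 2) :=
        isUnit_of_mul_isUnit_right (isUnit_of_mul_isUnit_left h1)
      have hsq : (2 * s + (γ + δ)) ^ 2 = -(4 * α * β - (γ + δ) ^ 2) := by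
        linear_combination 4 * hs
      have : IsUnit ((2 * s + (γ + δ)) ^ 2) := by rw [hsq]; exact hμu.neg
      exact (hαu.mul hhu).mul ((isUnit_pow_iff two_ne_zero).mp this)
    convert hu using 1
    ring
  · rw [hA]
    refine ⟨?_, ?_⟩
    · intro i
      fin_cases i
      · simp [H2, Matrix.mul_apply, Fin.sum_univ_two]
        linear_combination α * hs
      · simp [H2, Matrix.mul_apply, Fin.sum_univ_two]
        linear_combination (α * h ^ 2) * hs
    · intro i j
      fin_cases i <;> fin_cases j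
      · simp [H2, Matrix.mul_apply, Fin.sum_univ_two]
        linear_combination (2 * α) * hs
      · simp [H2, Matrix.mul_apply, Fin.sum_univ_two]
        linear_combination (-2 * α * h) * hs + hh
      · simp [H2, Matrix.mul_apply, Fin.sum_univ_two]
        linear_combination (-2 * α * h) * hs + hh
      · simp [H2, Matrix.mul_apply, Fin.sum_univ_two]
        linear_combination (2 * α * h ^ 2) * hs

end Helper25.QuadMat

namespace Helper25.QuadMat

open Matrix

variable {S : Type*} [CommRing S] {ι' : Type*} [Fintype ι'] [DecidableEq ι']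

theorem polar_eq_of_QEq {ι : Type*} [Fintype ι] {M M' : Matrix ι ι S} (h : QEq M M') :
    M + Mᵀ = M' + M'ᵀ := by
  ext i j
  simp only [Matrix.add_apply, Matrix.transpose_apply]
  exact h.polar i j

theorem split_off_plane (N₁ : Matrix (Fin 2 ⊕ ι') (Fin 2 ⊕ ι') S)
    (hdet : IsUnit (N₁ + N₁ᵀ).det) (s h : S)
    (hs : s ^ 2 + (N₁ (.inl 0) (.inl 1) + N₁ (.inl 1) (.inl 0)) * s
      + N₁ (.inl 0) (.inl 0) * N₁ (.inl 1) (.inl 1) = 0)
    (hh : N₁ (.inl 0) (.inl 0) * mu N₁ (.inl 0) (.inl 1) * h = 1) :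
    ∃ (g : Matrix (Fin 2 ⊕ ι') (Fin 2 ⊕ ι') S) (D' : Matrix ι' ι' S),
      IsUnit g.det ∧ IsUnit (D' + D'ᵀ).det ∧
      QEq (gᵀ * N₁ * g) (Matrix.fromBlocks (H2 S) 0 0 D') := by
  set A := N₁.toBlocks₁₁ with hA
  set B := N₁.toBlocks₁₂ with hB
  set C := N₁.toBlocks₂₁ with hC
  set D := N₁.toBlocks₂₂ with hD
  have hN : N₁ = Matrix.fromBlocks A B C D := (Matrix.fromBlocks_toBlocks N₁).symm
  have hAapp : ∀ i j, A i j = N₁ (.inl i) (.inl j) := fun i j => rfl
  set P := A + Aᵀ with hP
  set μ := mu N₁ (.inl 0) (.inl 1) with hμdef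
  have hPdet : P.det = μ := by
    rw [Matrix.det_fin_two, hμdef]
    unfold mu
    simp only [hP, Matrix.add_apply, Matrix.transpose_apply, hAapp]
    ring
  set μinv := N₁ (.inl 0) (.inl 0) * h with hμinv
  have hμ : μinv * μ = 1 := by rw [hμinv, ← hh]; ring
  set Pinv := μinv • P.adjugate with hPinv
  have hPP : P * Pinv = 1 := by
    rw [hPinv, Matrix.mul_smul, Matrix.mul_adjugate, hPdet, smul_smul, hμ, one_smul]
  set X := B + Cᵀ with hX
  set Y := -(Pinv * X) with hY
  have hPY : P * Y + X = 0 := by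
    rw [hY, Matrix.mul_neg, ← Matrix.mul_assoc, hPP, Matrix.one_mul, neg_add_cancel]
  set U : Matrix (Fin 2 ⊕ ι') (Fin 2 ⊕ ι') S := Matrix.fromBlocks 1 Y 0 1 with hU
  set D' := Yᵀ * (A * Y + B) + (C * Y + D) with hD'
  have hUN : Uᵀ * N₁ * U = Matrix.fromBlocks A (A * Y + B) (Yᵀ * A + C) D' := by
    rw [hN, hU, Matrix.fromBlocks_transpose, Matrix.fromBlocks_multiply,
      Matrix.fromBlocks_multiply]
    simp only [Matrix.transpose_one, Matrix.transpose_zero, Matrix.one_mul, Matrix.zero_mul,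
      Matrix.mul_one, Matrix.mul_zero, add_zero, zero_add, Matrix.mul_add, hD']
    congr 1
    rw [Matrix.add_mul, Matrix.mul_assoc]
    abel
  have hQ1 : QEq (Uᵀ * N₁ * U) (Matrix.fromBlocks A 0 0 D') := by
    rw [hUN]
    refine QEq.fromBlocks (QEq.refl _) (QEq.refl _) fun a k => ?_
    have e : A * Y + B + (Yᵀ * A + C)ᵀ = P * Y + X := by
      rw [Matrix.transpose_add, Matrix.transpose_mul, Matrix.transpose_transpose, hP, hX,
        Matrix.add_mul]
      abel
    have := congrFun (congrFun (e.trans hPY) a) k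
    simp only [Matrix.add_apply, Matrix.transpose_apply, Matrix.zero_apply] at this
    simp only [Matrix.zero_apply, add_zero]
    exact this
  obtain ⟨G₃, hG₃det, hG₃⟩ := plane_split A s h (by simpa only [hAapp] using hs)
    (by
      have : mu N₁ (.inl 0) (.inl 1) = 4 * A 0 0 * A 1 1 - (A 0 1 + A 1 0) ^ 2 := rfl
      rw [← this]; exact hh)
  set G₃' : Matrix (Fin 2 ⊕ ι') (Fin 2 ⊕ ι') S := Matrix.fromBlocks G₃ 0 0 1 with hG₃'
  have hG₃'mul : G₃'ᵀ * Matrix.fromBlocks A 0 0 D' * G₃'
      = Matrix.fromBlocks (G₃ᵀ * A * G₃) 0 0 D' := by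
    rw [hG₃', Matrix.fromBlocks_transpose, Matrix.fromBlocks_multiply,
      Matrix.fromBlocks_multiply]
    simp only [Matrix.transpose_one, Matrix.transpose_zero, Matrix.one_mul, Matrix.zero_mul,
      Matrix.mul_one, Matrix.mul_zero, add_zero, zero_add]
  refine ⟨U * G₃', D', ?_, ?_, ?_⟩
  · rw [Matrix.det_mul, hU, hG₃', Matrix.det_fromBlocks_zero₂₁, Matrix.det_fromBlocks_zero₂₁,
      Matrix.det_one, Matrix.det_one, one_mul, one_mul, mul_one]
    exact hG₃det
  · have e1 : Uᵀ * (N₁ + N₁ᵀ) * U = Matrix.fromBlocks P 0 0 (D' + D'ᵀ) := by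
      have : Uᵀ * (N₁ + N₁ᵀ) * U = (Uᵀ * N₁ * U) + (Uᵀ * N₁ * U)ᵀ := by
        simp only [Matrix.transpose_mul, Matrix.transpose_transpose, Matrix.mul_add,
          Matrix.add_mul, Matrix.mul_assoc]
      rw [this, polar_eq_of_QEq hQ1, Matrix.fromBlocks_transpose, Matrix.fromBlocks_add]
      simp only [Matrix.transpose_zero, add_zero, hP]
    have hUdet : U.det = 1 := by
      rw [hU, Matrix.det_fromBlocks_zero₂₁]
      simp only [Matrix.det_one, one_mul]
    have e2 := congrArg Matrix.det e1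
    rw [Matrix.det_mul, Matrix.det_mul, Matrix.det_transpose, hUdet, one_mul, mul_one,
      Matrix.det_fromBlocks_zero₂₁] at e2
    rw [e2] at hdet
    exact isUnit_of_mul_isUnit_right hdet
  · have e : (U * G₃')ᵀ * N₁ * (U * G₃') = G₃'ᵀ * (Uᵀ * N₁ * U) * G₃' := by
      rw [Matrix.transpose_mul]; simp only [Matrix.mul_assoc]
    rw [e]
    refine (hQ1.conj G₃').trans ?_
    rw [hG₃'mul]
    exact QEq.fromBlocks hG₃ (QEq.refl _) fun _ _ => rfl

end Helper25.QuadMat
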