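import Mathlib
import Groth.Prelude
import Groth.Agent.Lib.Helper25.DivisionPrimeDegree

/-!
# Central division algebras of dimension four are quaternion algebras (char ≠ 2) (helper25)
-/

set_option autoImplicit false
universe u v w
open scoped TensorProduct Quaternion
open Polynomial

namespace Groth.Agent.Lib.Helper25.QuatDiv

open Groth.Agent.Lib.Helper25.PrimeDegree

variable {k : Type u} [Field k] {D : Type v} [DivisionRing D] [Algebra k D]
  [Algebra.IsCentral k D] [FiniteDimensional k D]

/-- a non-central element satisfies a monic quadratic equation -/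
theorem exists_quadratic (hD : Module.finrank k D = 2 ^ 2) {z : D}
    (hz : z ∉ (algebraMap k D).range) :
    ∃ c₁ c₀ : k, z * z + c₁ • z + c₀ • (1 : D) = 0 := by
  have hdeg := natDegree_minpoly_eq Nat.prime_two hD hz
  have hmon : (minpoly k z).Monic := minpoly.monic (Algebra.IsIntegral.isIntegral z)
  have h := aeval_eq_of_natDegree_two hmon hdeg z
  rw [minpoly.aeval] at h
  exact ⟨_, _, h.symm⟩

/-- existence of a pure quaternion: a non-central element with central square -/
theorem exists_pure (h2 : (2 : k) ≠ 0) (hD : Module.finrank k D = 2 ^ 2) :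
    ∃ (i : D) (a : k), i ∉ (algebraMap k D).range ∧ i * i = a • (1 : D) := by
  obtain ⟨u, hu⟩ := exists_not_mem_range (K := k) (D := D) Nat.prime_two hD
  obtain ⟨c₁, c₀, h⟩ := exists_quadratic hD hu
  refine ⟨u + (c₁ / 2) • (1 : D), (c₁ / 2) ^ 2 - c₀, ?_, ?_⟩
  · intro hmem
    apply hu
    obtain ⟨r, hr⟩ := hmem
    refine ⟨r - c₁ / 2, ?_⟩
    rw [map_sub, hr, Algebra.algebraMap_eq_smul_one]
    abel
  · have e1 : ∀ t : k, (u + t • (1 : D)) * (u + t • (1 : D)) =
        u * u + (2 * t) • u + (t * t) • (1 : D) := by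
      intro t
      simp only [add_mul, mul_add, smul_mul_assoc, mul_smul_comm, one_mul, mul_one]
      module
    rw [e1, show 2 * (c₁ / 2) = c₁ by field_simp]
    linear_combination (norm := module) h

omit [FiniteDimensional k D] [Algebra.IsCentral k D] in
/-- `r + s i = 0` with `i` non-central forces `r = s = 0` -/
theorem eq_zero_of_smul_add_smul {i : D} (hi : i ∉ (algebraMap k D).range) {r s : k}
    (h : r • (1 : D) + s • i = 0) : r = 0 ∧ s = 0 := by
  have hs : s = 0 := by
    by_contra hs
    apply hi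
    refine ⟨-(r / s), ?_⟩
    have h1 : s • i = -(r • (1 : D)) := by
      rw [eq_neg_iff_add_eq_zero, add_comm]; exact h
    have h2 : i = s⁻¹ • (s • i) := by rw [smul_smul, inv_mul_cancel₀ hs, one_smul]
    rw [h2, h1, Algebra.algebraMap_eq_smul_one, smul_neg, smul_smul, neg_smul]
    congr 2
    field_simp
  subst hs
  rw [zero_smul, add_zero] at h
  refine ⟨?_, rfl⟩
  by_contra hr
  have : (1 : D) = 0 := by
    rw [← one_smul k (1 : D), ← inv_mul_cancel₀ hr, ← smul_smul, h, smul_zero]
  exact one_ne_zero this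

/-- the quaternion basis of a central division algebra of dimension four -/
theorem exists_basis (h2 : (2 : k) ≠ 0) (hD : Module.finrank k D = 2 ^ 2) :
    ∃ (a b : k) (q : QuaternionAlgebra.Basis D a 0 b),
      q.i ∉ (algebraMap k D).range ∧ q.j ≠ 0 := by
  obtain ⟨i, a, hi, hii⟩ := exists_pure h2 hD
  obtain ⟨v, hv⟩ := exists_not_commute hi
  set j := i * v - v * i with hj
  have hj0 : j ≠ 0 := sub_ne_zero.mpr (Ne.symm hv)
  have hi0 : i ≠ 0 := by
    rintro rfl
    exact hi ⟨0, map_zero _⟩
  have hanti : j * i = -(i * j) := by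
    have h1 : j * i + i * j = (i * i) * v - v * (i * i) := by
      rw [hj]; noncomm_ring
    rw [hii, smul_mul_assoc, mul_smul_comm, one_mul, mul_one, sub_self] at h1
    exact eq_neg_of_add_eq_zero_left h1
  have hij0 : i * j ≠ 0 := mul_ne_zero hi0 hj0
  have hjk : j ∉ (algebraMap k D).range := by
    rintro ⟨c, hc⟩
    have h1 : j * i = i * j := by
      rw [← hc]; exact Algebra.commutes c i
    rw [hanti] at h1
    have h3 : (2 : k) • (i * j) = 0 := by
      rw [two_smul]
      nth_rw 1 [← h1]
      exact neg_add_cancel _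
    rcases smul_eq_zero.mp h3 with h | h
    · exact h2 h
    · exact hij0 h
  obtain ⟨e₁, e₀, hq⟩ := exists_quadratic hD hjk
  -- `i` commutes with `j * j`
  have hcomm : i * (j * j) = (j * j) * i := by
    calc i * (j * j) = (i * j) * j := (mul_assoc _ _ _).symm
      _ = -(j * i) * j := by rw [hanti, neg_neg]
      _ = -(j * (i * j)) := by rw [neg_mul, mul_assoc]
      _ = j * (j * i) := by rw [hanti, mul_neg]
      _ = (j * j) * i := (mul_assoc _ _ _).symm
  have hjj : j * j = -(e₁ • j) - e₀ • (1 : D) := by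
    linear_combination (norm := module) hq
  have he₁ : e₁ = 0 := by
    have h1 := hcomm
    rw [hjj] at h1
    simp only [mul_sub, sub_mul, mul_neg, neg_mul, mul_smul_comm, smul_mul_assoc, mul_one,
      one_mul, hanti, smul_neg, neg_neg] at h1
    have h3 : (2 * e₁) • (i * j) = 0 := by
      rw [mul_smul, two_smul]
      have h4 : e₁ • (i * j) = -(e₁ • (i * j)) := by
        have := sub_left_injective h1
        exact this.symm
      nth_rw 1 [h4]
      exact neg_add_cancel _
    rcases smul_eq_zero.mp h3 with h | h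
    · rcases mul_eq_zero.mp h with h | h
      · exact absurd h h2
      · exact h
    · exact absurd h hij0
  subst he₁
  rw [zero_smul, neg_zero, zero_sub] at hjj
  refine ⟨a, -e₀, ⟨i, j, i * j, ?_, ?_, rfl, ?_⟩, hi, hj0⟩
  · rw [hii, zero_smul, add_zero]
  · rw [hjj, neg_smul]
  · rw [zero_smul, zero_sub]; exact hanti

/-- **A central division algebra of dimension four is a quaternion algebra** (`2 ≠ 0`). -/
theorem exists_algEquiv_quaternion (h2 : (2 : k) ≠ 0) (hD : Module.finrank k D = 2 ^ 2) :
    ∃ a b : k, Nonempty (ℍ[k,a,0,b] ≃ₐ[k] D) := by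
  obtain ⟨a, b, q, hi, hj0⟩ := exists_basis h2 hD
  refine ⟨a, b, ?_⟩
  have hi0 : q.i ≠ 0 := by
    intro h
    exact hi ⟨0, by rw [map_zero, h]⟩
  have hanti : q.j * q.i = -(q.i * q.j) := by
    have := q.j_mul_i
    rwa [zero_smul, zero_sub, ← q.i_mul_j] at this
  have hinj : Function.Injective q.liftHom := by
    rw [injective_iff_map_eq_zero]
    intro x hx
    have hx' : x.re • (1 : D) + x.imI • q.i + x.imJ • q.j + x.imK • (q.i * q.j) = 0 := by
      have : q.liftHom x = algebraMap k D x.re + x.imI • q.i + x.imJ • q.j + x.imK • q.k := rfl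
      rw [this, Algebra.algebraMap_eq_smul_one, ← q.i_mul_j] at hx
      exact hx
    -- commutator with `i`
    have h1 : q.i * (x.re • (1 : D) + x.imI • q.i + x.imJ • q.j + x.imK • (q.i * q.j)) -
        (x.re • (1 : D) + x.imI • q.i + x.imJ • q.j + x.imK • (q.i * q.j)) * q.i =
        (2 : k) • ((x.imJ • (1 : D) + x.imK • q.i) * (q.i * q.j)) := by
      have e1 : q.i * q.j * q.i = -(q.i * (q.i * q.j)) := by
        rw [mul_assoc, hanti, mul_neg]
      simp only [mul_add, add_mul, mul_smul_comm, smul_mul_assoc, mul_one, one_mul, hanti, e1,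
        smul_neg, two_smul]
      abel
    rw [hx', mul_zero, zero_mul, sub_zero] at h1
    have h3 : x.imJ • (1 : D) + x.imK • q.i = 0 := by
      rcases smul_eq_zero.mp h1.symm with h | h
      · exact absurd h h2
      · rcases mul_eq_zero.mp h with h | h
        · exact h
        · exact absurd h (mul_ne_zero hi0 hj0)
    obtain ⟨hJ, hK⟩ := eq_zero_of_smul_add_smul hi h3
    rw [hJ, hK, zero_smul, zero_smul, add_zero, add_zero] at hx'
    obtain ⟨hR, hI⟩ := eq_zero_of_smul_add_smul hi hx'
    exact QuaternionAlgebra.ext hR hI hJ hK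
  have hdim : Module.finrank k ℍ[k,a,0,b] = Module.finrank k D := by
    rw [QuaternionAlgebra.finrank_eq_four, hD]; norm_num
  have hsurj : Function.Surjective q.liftHom :=
    (LinearMap.injective_iff_surjective_of_finrank_eq_finrank
      (f := q.liftHom.toLinearMap) hdim).mp hinj
  exact ⟨AlgEquiv.ofBijective q.liftHom ⟨hinj, hsurj⟩⟩

end Groth.Agent.Lib.Helper25.QuatDiv
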