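import Mathlib
import Groth.Prelude
import Groth.Agent.Lib.Helper25.SplitBaseChange
import Groth.Agent.Lib.Helper25.TPowBaseChange
import Groth.Agent.Lib.Helper25.PTower
import Groth.Agent.Lib.Helper1.CSA.TensorSimple
import Groth.Agent.Lib.Helper1.CSA.WedderburnUnique

/-!
# Quaternion division algebras: centrality, period two (helper25)
-/

set_option autoImplicit false
universe u v w
open scoped TensorProduct Quaternion

namespace Groth.Agent.Lib.Helper25.QuatDiv

open Groth.Agent.Lib.Helper25.BrauerRel Groth.Agent.Lib.Helper25.TPow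
  Groth.Agent.Lib.Helper25.SplitBaseChange Groth.Agent.Lib.Helper25.TPowBaseChange
  Groth.Agent.Lib.Helper25.PTower

variable {k : Type u} [Field k]

theorem eq_zero_of_eq_neg (h2 : (2 : k) ≠ 0) {t : k} (h : t = -t) : t = 0 := by
  have h1 : (2 : k) * t = 0 := by linear_combination h
  rcases mul_eq_zero.mp h1 with h | h
  · exact absurd h h2
  · exact h

theorem isCentral_quaternion (a b : k) (h2 : (2 : k) ≠ 0) (ha : a ≠ 0) :
    Algebra.IsCentral k ℍ[k,a,0,b] := by
  refine ⟨fun x hx => ?_⟩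
  rw [Subalgebra.mem_center_iff] at hx
  have h1 := hx ⟨0, 1, 0, 0⟩
  have h3 := hx ⟨0, 0, 1, 0⟩
  rw [QuaternionAlgebra.ext_iff] at h1 h3
  simp at h1 h3
  have hJ : x.imJ = 0 := eq_zero_of_eq_neg h2 h1.2
  have hI : x.imI = 0 := eq_zero_of_eq_neg h2 h3.2.symm
  have hK : x.imK = 0 := by
    have := eq_zero_of_eq_neg h2 h1.1
    rcases mul_eq_zero.mp this with h | h
    · exact absurd h ha
    · exact h
  rw [Algebra.mem_bot]
  refine ⟨x.re, ?_⟩
  apply QuaternionAlgebra.ext <;> simp [hI, hJ, hK]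

/-- in a quaternion algebra where nonzero elements are units, `a ≠ 0` -/
theorem ne_zero_of_units (a b : k) (hu : ∀ x : ℍ[k,a,0,b], x ≠ 0 → IsUnit x) : a ≠ 0 := by
  rintro rfl
  have hi : (⟨0, 1, 0, 0⟩ : ℍ[k,0,0,b]) ≠ 0 := by
    intro h
    have := congrArg QuaternionAlgebra.imI h
    simp at this
  have h1 := hu _ hi
  have h3 : (⟨0, 1, 0, 0⟩ : ℍ[k,0,0,b]) * ⟨0, 1, 0, 0⟩ = 0 := by
    apply QuaternionAlgebra.ext <;> simp
  have := (h1.mul h1)
  rw [h3] at this
  exact not_isUnit_zero this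

section Split

variable (k)
variable (A : Type v) [Ring A] [Algebra k A] [Algebra.IsCentral k A] [IsSimpleRing A]
  [FiniteDimensional k A]

/-- a central simple algebra with an anti-automorphism has split tensor square -/
theorem splits_tensor_self_of_op (e : A ≃ₐ[k] Aᵐᵒᵖ) : Curves.Splits k (A ⊗[k] A) k := by
  classical
  have hfinop : FiniteDimensional k Aᵐᵒᵖ := Module.Finite.equiv (MulOpposite.opLinearEquiv k)
  have hsimple : IsSimpleRing (A ⊗[k] Aᵐᵒᵖ) :=
    Groth.Agent.Lib.Helper1.isSimpleRing_tensor_of_isCentral_of_isSimpleRing A Aᵐᵒᵖ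
  have hinj : Function.Injective (AlgHom.mulLeftRight k A) :=
    RingHom.injective (AlgHom.mulLeftRight k A).toRingHom
  have hrank : Module.finrank k (A ⊗[k] Aᵐᵒᵖ) = Module.finrank k (Module.End k A) := by
    rw [Module.finrank_tensorProduct, Module.finrank_linearMap,
      (MulOpposite.opLinearEquiv k : A ≃ₗ[k] Aᵐᵒᵖ).finrank_eq]
  have hbij : Function.Bijective (AlgHom.mulLeftRight k A) := by
    refine ⟨hinj, ?_⟩
    exact (LinearMap.injective_iff_surjective_of_finrank_eq_finrank
      (f := (AlgHom.mulLeftRight k A).toLinearMap) hrank).mp hinj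
  let bas := Module.finBasis k A
  refine ⟨Module.finrank k A, Module.finrank_pos.ne', ⟨?_⟩⟩
  exact (Algebra.TensorProduct.lid k _).trans
    ((Algebra.TensorProduct.congr AlgEquiv.refl e).trans
      ((AlgEquiv.ofBijective (AlgHom.mulLeftRight k A) hbij).trans (algEquivMatrix bas)))

end Split

end Groth.Agent.Lib.Helper25.QuatDiv
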