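import Mathlib
import Groth.Prelude
import Groth.Agent.Lib.Helper25.QuatDiv
import Groth.Agent.Lib.Helper25.QuatSplit

set_option autoImplicit false
set_option linter.unusedSectionVars false
set_option linter.style.haveILetI false
universe u v w
open scoped TensorProduct Quaternion

namespace Groth.Agent.Lib.Helper25.QuatDiv

open Groth.Agent.Lib.Helper25.BrauerRel Groth.Agent.Lib.Helper25.TPow
  Groth.Agent.Lib.Helper25.SplitBaseChange Groth.Agent.Lib.Helper25.TPowBaseChange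
  Groth.Agent.Lib.Helper25.PTower

variable (k : Type u) [Field k] (h2 : (2 : k) ≠ 0)
  (A : Type v) [Ring A] [Algebra k A] [Algebra.IsCentral k A] [IsSimpleRing A]
  [FiniteDimensional k A]

include h2 in
/-- index two implies matrix algebra over a quaternion division algebra -/
theorem exists_quaternion_of_isIndex_two (hidx : CSAGal.IsIndex k A 2) :
    ∃ (a b : k) (m : ℕ), 0 < m ∧ (∀ x : ℍ[k,a,0,b], x ≠ 0 → IsUnit x) ∧
      Nonempty (A ≃ₐ[k] Matrix (Fin m) (Fin m) ℍ[k,a,0,b]) := by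
  obtain ⟨_, m, D, _, _, hm, hD, ⟨e⟩⟩ := hidx
  have hcD : Algebra.IsCentral k D := isCentral_of_matrix_algEquiv k A D m hm e
  have hfD : FiniteDimensional k D := by
    apply Module.finite_of_finrank_pos
    rw [hD]; norm_num
  obtain ⟨a, b, ⟨φ⟩⟩ := exists_algEquiv_quaternion h2 hD
  refine ⟨a, b, m, hm, ?_, ⟨e.trans φ.symm.mapMatrix⟩⟩
  intro x hx
  have h1 : φ x ≠ 0 := fun h => hx (by simpa using h)
  have h3 : IsUnit (φ x) := isUnit_iff_ne_zero.mpr h1
  have := h3.map φ.symm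
  simpa using this

include h2 in
/-- a matrix algebra over a quaternion division algebra has period two and index two -/
theorem isPeriod_isIndex_of_quaternion (a b : k) (m : ℕ) (hm : 0 < m)
    (hu : ∀ x : ℍ[k,a,0,b], x ≠ 0 → IsUnit x)
    (e : A ≃ₐ[k] Matrix (Fin m) (Fin m) ℍ[k,a,0,b]) :
    CSAGal.IsPeriod k A 2 ∧ CSAGal.IsIndex k A 2 := by
  letI : DivisionRing ℍ[k,a,0,b] :=
    DivisionRing.ofIsUnitOrEqZero (fun x => or_iff_not_imp_right.mpr (hu x))
  have ha : a ≠ 0 := ne_zero_of_units a b hu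
  have hc : Algebra.IsCentral k ℍ[k,a,0,b] := isCentral_quaternion a b h2 ha
  have hdimQ : Module.finrank k ℍ[k,a,0,b] = 4 := QuaternionAlgebra.finrank_eq_four _ _ _
  have hQQ : Curves.Splits k (ℍ[k,a,0,b] ⊗[k] ℍ[k,a,0,b]) k :=
    splits_tensor_self_of_op k ℍ[k,a,0,b] QuaternionAlgebra.starAe
  have hbr : BrEq k A ℍ[k,a,0,b] :=
    (BrEq.of_algEquiv e).trans (brEq_matrix ℍ[k,a,0,b] m hm.ne').symm
  refine ⟨⟨two_pos, ?_, ?_⟩, ?_⟩
  · rw [splits_iff_brEq] at hQQ ⊢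
    have g1 : BrEq k (CSAGal.tpow k A 2) (CSAGal.tpow k ℍ[k,a,0,b] 2) := BrEq.tpow hbr 2
    have g2 : BrEq k (CSAGal.tpow k ℍ[k,a,0,b] 2) (ℍ[k,a,0,b] ⊗[k] ℍ[k,a,0,b]) :=
      BrEq.of_algEquiv ((succEquiv k ℍ[k,a,0,b] 1).trans
        (Algebra.TensorProduct.congr (oneEquiv k ℍ[k,a,0,b]) AlgEquiv.refl))
    exact (g1.trans g2).trans hQQ
  · intro e' h0 hlt hs
    have he' : e' = 1 := by omega
    subst he'
    have h1 : Curves.Splits k A k := splits_of_algEquiv (oneEquiv k A) hs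
    obtain ⟨n, hn, ⟨ψ⟩⟩ := h1
    have ψ' : Matrix (Fin m) (Fin m) ℍ[k,a,0,b] ≃ₐ[k] Matrix (Fin n) (Fin n) k :=
      e.symm.trans ((Algebra.TensorProduct.lid k A).symm.trans ψ)
    obtain ⟨χ⟩ := Groth.Agent.Lib.Helper1.WU.nonempty_algEquiv_of_matrix_algEquiv k ℍ[k,a,0,b] k
      m n hm.ne' hn ψ'
    have := χ.toLinearEquiv.finrank_eq
    rw [hdimQ, Module.finrank_self] at this
    omega
  · have hk : Small.{v} k := small_of_injective (algebraMap k A).injective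
    have hsm : Small.{v} ℍ[k,a,0,b] :=
      small_map (Module.finBasis k ℍ[k,a,0,b]).equivFun.toEquiv
    let f : Shrink.{v} ℍ[k,a,0,b] ≃ₐ[k] ℍ[k,a,0,b] := Shrink.algEquiv k _
    refine ⟨two_pos, m, Shrink.{v} ℍ[k,a,0,b], inferInstance, inferInstance, hm, ?_,
      ⟨e.trans f.symm.mapMatrix⟩⟩
    rw [f.toLinearEquiv.finrank_eq, hdimQ]; norm_num

/-- uniqueness of the quaternion algebra -/
theorem quaternion_unique (a b a' b' : k) (m m' : ℕ)
    (hu : ∀ x : ℍ[k,a,0,b], x ≠ 0 → IsUnit x) (hu' : ∀ x : ℍ[k,a',0,b'], x ≠ 0 → IsUnit x)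
    (e : A ≃ₐ[k] Matrix (Fin m) (Fin m) ℍ[k,a,0,b])
    (e' : A ≃ₐ[k] Matrix (Fin m') (Fin m') ℍ[k,a',0,b']) :
    Nonempty (ℍ[k,a,0,b] ≃ₐ[k] ℍ[k,a',0,b']) := by
  letI : DivisionRing ℍ[k,a,0,b] :=
    DivisionRing.ofIsUnitOrEqZero (fun x => or_iff_not_imp_right.mpr (hu x))
  letI : DivisionRing ℍ[k,a',0,b'] :=
    DivisionRing.ofIsUnitOrEqZero (fun x => or_iff_not_imp_right.mpr (hu' x))
  have hm : m ≠ 0 := by
    rintro rfl
    have : Subsingleton A := e.toEquiv.subsingleton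
    exact not_subsingleton A this
  have hm' : m' ≠ 0 := by
    rintro rfl
    have : Subsingleton A := e'.toEquiv.subsingleton
    exact not_subsingleton A this
  exact Groth.Agent.Lib.Helper1.WU.nonempty_algEquiv_of_matrix_algEquiv k ℍ[k,a,0,b] ℍ[k,a',0,b']
    m m' hm hm' (e.symm.trans e')

end Groth.Agent.Lib.Helper25.QuatDiv
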