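import Mathlib
import Groth.Agent.Lib.Helper25.CartanDieudonne
import Groth.Agent.Lib.Helper25.OrthRels
import Groth.Agent.Lib.Helper25.CliffSplit

/-!
# Reflection matrices over commutative rings
-/

set_option autoImplicit false
set_option linter.style.haveILetI false
set_option linter.unusedSectionVars false
universe u

namespace Helper25.ReflMat

open Matrix Helper25.QuadMat Helper25.Cliff QuadraticMap

section Ring

variable {A : Type*} [CommRing A]

theorem Q_refl_ring {V : Type*} [AddCommGroup V] [Module A V] (Q : QuadraticForm A V) (w : V)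
    (c : A) (hc : c * Q w = 1) (x : V) : Q (x - (c * polar Q w x) • w) = Q x := by
  set p := polar Q w x with hp
  have h1 : x - (c * p) • w = x + (-(c * p)) • w := by rw [neg_smul, sub_eq_add_neg]
  rw [h1, QuadraticMap.map_add Q, QuadraticMap.map_smul, polar_smul_right, polar_comm Q x w, ← hp]
  simp only [smul_eq_mul]
  linear_combination (c * p * p) * hc

variable {ι : Type*} [Fintype ι] [DecidableEq ι]

/-- The polar pairing of the matrix form. -/
def pol (N : Matrix ι ι A) (w x : ι → A) : A := ((N + Nᵀ) *ᵥ w) ⬝ᵥ x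

theorem polar_qfForm (N : Matrix ι ι A) (w x : ι → A) :
    polar (qfForm N) w x = pol N w x := by
  unfold qfForm pol
  rw [LinearMap.BilinMap.polar_toQuadraticMap, Matrix.toLinearMap₂'_apply',
    Matrix.toLinearMap₂'_apply', Matrix.add_mulVec, add_dotProduct, Matrix.mulVec_transpose,
    ← Matrix.dotProduct_mulVec, dotProduct_comm (N *ᵥ w) x, add_comm]

/-- The matrix of the reflection in `w`, with `c` the inverse of `q(w)`. -/
def reflMat (N : Matrix ι ι A) (w : ι → A) (c : A) : Matrix ι ι A :=
  1 - c • vecMulVec w ((N + Nᵀ) *ᵥ w)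

theorem reflMat_mulVec (N : Matrix ι ι A) (w : ι → A) (c : A) (x : ι → A) :
    reflMat N w c *ᵥ x = x - (c * pol N w x) • w := by
  unfold reflMat pol
  rw [Matrix.sub_mulVec, Matrix.one_mulVec, Matrix.smul_mulVec, vecMulVec_mulVec]
  ext i
  simp only [Pi.sub_apply, Pi.smul_apply, MulOpposite.smul_eq_mul_unop, MulOpposite.unop_op,
    smul_eq_mul]
  ring

theorem qf_reflMat (N : Matrix ι ι A) (w : ι → A) (c : A) (hc : c * qf N w = 1) (x : ι → A) :
    qf N (reflMat N w c *ᵥ x) = qf N x := by
  rw [reflMat_mulVec, ← polar_qfForm, ← qfForm_apply, ← qfForm_apply]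
  exact Q_refl_ring (qfForm N) w c (by rw [qfForm_apply]; exact hc) x

theorem QEq_reflMat (N : Matrix ι ι A) (w : ι → A) (c : A) (hc : c * qf N w = 1) :
    QEq ((reflMat N w c)ᵀ * N * reflMat N w c) N :=
  QEq.of_qf_eq fun x => by rw [qf_conj, qf_reflMat N w c hc]

theorem pol_self (N : Matrix ι ι A) (w : ι → A) : pol N w w = 2 * qf N w := by
  rw [← polar_qfForm, ← qfForm_apply, QuadraticMap.polar_self, two_smul, two_mul]

theorem det_reflMat (N : Matrix ι ι A) (w : ι → A) (c : A) (hc : c * qf N w = 1) :
    (reflMat N w c).det = -1 := by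
  have h1 : reflMat N w c = 1 + replicateCol Unit ((-c) • w) *
      replicateRow Unit ((N + Nᵀ) *ᵥ w) := by
    unfold reflMat
    rw [← vecMulVec_eq Unit, sub_eq_add_neg, ← neg_smul]
    congr 1
    ext i j
    simp [vecMulVec_apply, mul_assoc]
  rw [h1, det_one_add_replicateCol_mul_replicateRow, dotProduct_smul]
  have : ((N + Nᵀ) *ᵥ w) ⬝ᵥ w = pol N w w := rfl
  rw [this, pol_self, smul_eq_mul]
  linear_combination (-2 : A) * hc

theorem reflMat_map {A' : Type*} [CommRing A'] (φ : A →+* A') (N : Matrix ι ι A) (w : ι → A)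
    (c : A) : (reflMat N w c).map φ = reflMat (N.map φ) (φ ∘ w) (φ c) := by
  ext i j
  simp only [reflMat, Matrix.map_apply, Matrix.sub_apply, Matrix.smul_apply, vecMulVec_apply,
    Matrix.mulVec, dotProduct, Matrix.add_apply, Matrix.transpose_apply, smul_eq_mul, map_sub,
    map_mul, map_sum, map_add, Function.comp_apply, Matrix.one_apply]
  congr 1
  split_ifs <;> simp

end Ring

section Field

variable {K : Type*} [Field K] {ι : Type*} [Fintype ι] [DecidableEq ι]

theorem toLin'_reflMat (N : Matrix ι ι K) (w : ι → K) :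
    Matrix.toLin' (reflMat N w (qf N w)⁻¹) = Helper25.CD.refl (qfForm N) w := by
  apply LinearMap.ext
  intro x
  rw [Matrix.toLin'_apply, reflMat_mulVec, Helper25.CD.refl_apply, polar_qfForm, qfForm_apply]

end Field

end Helper25.ReflMat
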