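import Mathlib

/-!
# Relative dimension of a smooth algebra from the dimension of its tangent spaces
-/

set_option autoImplicit false
set_option linter.style.haveILetI false
universe u

namespace Helper25.RelDim

open TensorProduct KaehlerDifferential

section Der

variable {R B K : Type*} [CommRing R] [CommRing B] [Algebra R B]
  [Field K] [Algebra B K] [Algebra R K] [IsScalarTower R B K]

/-- `Hom_B(Ω, K) ≃ Der_R(B, K)`, `K`-linearly. -/
noncomputable def linearMapEquivDer : (Ω[B⁄R] →ₗ[B] K) ≃ₗ[K] Derivation R B K :=
  { (KaehlerDifferential.linearMapEquivDerivation R B (M := K)).toAddEquiv with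
    map_smul' := fun c f => by
      apply Derivation.ext
      intro b
      rfl }

theorem finrank_der_eq [Module.Finite B Ω[B⁄R]] :
    Module.finrank K (Derivation R B K) = Module.finrank K (K ⊗[B] Ω[B⁄R]) := by
  rw [← (linearMapEquivDer (R := R) (B := B) (K := K)).finrank_eq,
    (LinearMap.liftBaseChangeEquiv K (M := Ω[B⁄R]) (N := K) (R := B)).finrank_eq]
  exact Subspace.dual_finrank_eq

end Der

section Loc

variable {R B S K : Type u} [CommRing R] [CommRing B] [Algebra R B] [CommRing S] [Algebra R S]
  [Algebra B S] [IsScalarTower R B S]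
  [Field K] [Algebra S K] [Algebra B K] [IsScalarTower B S K] [Algebra R K] [IsScalarTower R B K]

theorem finrank_kaehler_localization (t : B) [IsLocalization.Away t S] [Module.Free S Ω[S⁄R]]
    [Module.Finite B Ω[B⁄R]] :
    Module.finrank S Ω[S⁄R] = Module.finrank K (Derivation R B K) := by
  haveI : Algebra.FormallyEtale B S := Algebra.FormallyEtale.of_isLocalization (Submonoid.powers t)
  haveI : Nontrivial S := (algebraMap S K).domain_nontrivial
  have hbc : IsBaseChange S (KaehlerDifferential.map R R B S) :=
    isBaseChange_of_formallyEtale R B S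
  let e1 : S ⊗[B] Ω[B⁄R] ≃ₗ[S] Ω[S⁄R] := hbc.equiv
  let e2 : K ⊗[S] (S ⊗[B] Ω[B⁄R]) ≃ₗ[K] K ⊗[S] Ω[S⁄R] :=
    LinearEquiv.baseChange S K _ _ e1
  let e3 : K ⊗[S] (S ⊗[B] Ω[B⁄R]) ≃ₗ[K] K ⊗[B] Ω[B⁄R] :=
    AlgebraTensorModule.cancelBaseChange B S K K Ω[B⁄R]
  rw [finrank_der_eq, ← e3.finrank_eq, e2.finrank_eq, Module.finrank_baseChange]

end Loc

section Main

variable {R B : Type u} [CommRing R] [CommRing B] [Algebra R B]

theorem toAlgebra_comp_eq (t : B) :
    ((algebraMap B (Localization.Away t)).comp (algebraMap R B)).toAlgebra =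
      (inferInstance : Algebra R (Localization.Away t)) :=
  Algebra.algebra_ext _ _ (fun r => (IsScalarTower.algebraMap_apply R B _ r).symm)

theorem span_nontrivial_eq_top (s : Set B) (hs : Ideal.span s = ⊤) :
    Ideal.span {t ∈ s | Nontrivial (Localization.Away t)} = ⊤ := by
  by_contra hne
  obtain ⟨m, hm, hle⟩ := Ideal.exists_le_maximal _ hne
  have : ¬ s ⊆ m := by
    intro hsm
    have : Ideal.span s ≤ m := Ideal.span_le.mpr hsm
    rw [hs] at this
    exact hm.ne_top (top_le_iff.mp this)
  obtain ⟨t, hts, htm⟩ := Set.not_subset.mp this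
  apply htm
  apply hle
  apply Ideal.subset_span
  refine ⟨hts, ?_⟩
  rw [← not_subsingleton_iff_nontrivial,
    IsLocalization.subsingleton_iff (M := Submonoid.powers t)]
  rintro ⟨n, hn⟩
  exact htm (hm.isPrime.mem_of_pow_mem n (by simp only [hn]; exact m.zero_mem))

/-- A smooth algebra all of whose tangent spaces at geometric points have dimension `d` is locally
standard smooth of relative dimension `d`. -/
theorem locally_isStandardSmoothOfRelativeDimension [Algebra.Smooth R B] (d : ℕ)
    (h : ∀ (K : Type u) [Field K] [IsAlgClosed K] [Algebra R K] [Algebra B K]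
      [IsScalarTower R B K], Module.finrank K (Derivation R B K) = d) :
    RingHom.Locally (RingHom.IsStandardSmoothOfRelativeDimension d) (algebraMap R B) := by
  have hsm : (algebraMap R B).Smooth := RingHom.smooth_algebraMap.mpr inferInstance
  obtain ⟨s, hs, hst⟩ := hsm.locally_isStandardSmooth
  refine ⟨{t ∈ s | Nontrivial (Localization.Away t)}, span_nontrivial_eq_top s hs, ?_⟩
  rintro t ⟨hts, hnt⟩
  have h1 : @Algebra.IsStandardSmooth R (Localization.Away t) _ _
      ((algebraMap B (Localization.Away t)).comp (algebraMap R B)).toAlgebra := hst t hts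
  show @Algebra.IsStandardSmoothOfRelativeDimension d R (Localization.Away t) _ _
      ((algebraMap B (Localization.Away t)).comp (algebraMap R B)).toAlgebra
  rw [toAlgebra_comp_eq] at h1 ⊢
  haveI := h1
  haveI := hnt
  rw [Algebra.IsStandardSmoothOfRelativeDimension.iff_of_isStandardSmooth]
  haveI : Module.Finite B Ω[B⁄R] := inferInstance
  obtain ⟨m, hm⟩ := Ideal.exists_maximal (Localization.Away t)
  letI : Field (Localization.Away t ⧸ m) := Ideal.Quotient.field m
  let K := AlgebraicClosure (Localization.Away t ⧸ m)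
  have h2 := finrank_kaehler_localization (R := R) (B := B) (S := Localization.Away t) (K := K) t
  rw [h K] at h2
  rw [← Module.finrank_eq_rank, h2]

end Main

end Helper25.RelDim
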