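import Mathlib
import Groth.Prelude.Def_QuadGrp2
import Groth.Agent.Lib.Helper25.RelDimTangent

/-!
# Relative dimension of an affine scheme over an affine base
-/

set_option autoImplicit false
set_option linter.style.haveILetI false
universe u

namespace Helper25.RelDim

open CategoryTheory AlgebraicGeometry

variable {R : Type u} [CommRing R]

set_option backward.isDefEq.respectTransparency.types false in
theorem smoothOfRelativeDimension_of_isIso {G : Over (Spec (CommRingCat.of R))} (B : Type u)
    [CommRing B] [Algebra R B] (y₀ : QuadGrp.specOver R B ⟶ G) [IsIso y₀] (d : ℕ)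
    (h : RingHom.Locally (RingHom.IsStandardSmoothOfRelativeDimension d) (algebraMap R B)) :
    SmoothOfRelativeDimension d G.hom := by
  have hw : y₀.left ≫ G.hom = Spec.map (CommRingCat.ofHom (algebraMap R B)) := Over.w y₀
  haveI : IsIso y₀.left := inferInstanceAs (IsIso ((Over.forget _).map y₀))
  have h1 := MorphismProperty.cancel_left_of_respectsIso (@SmoothOfRelativeDimension d)
    y₀.left G.hom
  rw [hw] at h1
  have h2 : SmoothOfRelativeDimension d (Spec.map (CommRingCat.ofHom (algebraMap R B))) ↔
      RingHom.Locally (RingHom.IsStandardSmoothOfRelativeDimension d) (algebraMap R B) :=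
    HasRingHomProperty.Spec_iff (P := @SmoothOfRelativeDimension d)
  have h3 : SmoothOfRelativeDimension d (Spec.map (CommRingCat.ofHom (algebraMap R B))) ↔
      SmoothOfRelativeDimension d G.hom := h1
  exact h3.mp (h2.mpr h)

end Helper25.RelDim
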