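import Mathlib
import Groth.Agent.Lib.Helper25.CliffCenterBC
import Groth.Agent.Lib.Helper25.GPinEven

/-!
# The Dickson condition over a base change, read on the centre of the even Clifford algebra of the
original form
-/

set_option autoImplicit false
set_option linter.style.haveILetI false
set_option linter.unusedSectionVars false
universe u

namespace Helper25.SOEven

open CliffordAlgebra QuadGrp Helper25.Cliff Helper25.AzTransport Helper25.CliffBCF
open scoped TensorProduct

section General

variable {R' : Type*} [CommRing R'] {M' : Type*} [AddCommGroup M'] [Module R' M']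
  (Q' : QuadraticForm R' M')

/-- The automorphism of the Clifford algebra induced by an isometry. -/
noncomputable abbrev cl (g : M' ≃ₗ[R'] M') (hg : g ∈ O Q') :
    CliffordAlgebra Q' →ₐ[R'] CliffordAlgebra Q' :=
  CliffordAlgebra.map (isometryOfMem Q' g hg)

theorem cl_ι (g : M' ≃ₗ[R'] M') (hg : g ∈ O Q') (v : M') : cl Q' g hg (ι Q' v) = ι Q' (g v) := by
  rw [cl, CliffordAlgebra.map_apply_ι, isometryOfMem_apply]

theorem cl_mem_even (g : M' ≃ₗ[R'] M') (hg : g ∈ O Q') (x : CliffordAlgebra Q')
    (hx : x ∈ evenOdd Q' 0) : cl Q' g hg x ∈ evenOdd Q' 0 := by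
  induction x, hx using CliffordAlgebra.even_induction with
  | algebraMap r => rw [AlgHom.commutes]; exact SetLike.algebraMap_mem_graded _ _
  | add x y hx hy ihx ihy => rw [map_add]; exact Submodule.add_mem _ ihx ihy
  | ι_mul_ι_mul m₁ m₂ x hx ih =>
    rw [map_mul, map_mul, cl_ι, cl_ι]
    have := SetLike.mul_mem_graded (ι_mul_ι_mem_evenOdd_zero Q' (g m₁) (g m₂)) ih
    rwa [zero_add] at this

theorem cl_cl_inv (g : M' ≃ₗ[R'] M') (hg : g ∈ O Q') (x : CliffordAlgebra Q') :
    cl Q' g hg (cl Q' g⁻¹ ((O Q').inv_mem hg) x) = x := by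
  have : (cl Q' g hg).comp (cl Q' g⁻¹ ((O Q').inv_mem hg)) = AlgHom.id R' _ := by
    apply CliffordAlgebra.hom_ext; ext m; simp [isometryOfMem]
  exact congrArg (fun f => f x) this

theorem cl_inv_cl (g : M' ≃ₗ[R'] M') (hg : g ∈ O Q') (x : CliffordAlgebra Q') :
    cl Q' g⁻¹ ((O Q').inv_mem hg) (cl Q' g hg x) = x := by
  have : (cl Q' g⁻¹ ((O Q').inv_mem hg)).comp (cl Q' g hg) = AlgHom.id R' _ := by
    apply CliffordAlgebra.hom_ext; ext m; simp [isometryOfMem]
  exact congrArg (fun f => f x) this

/-- Central elements of the even subalgebra, read in the Clifford algebra. -/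
def IsEvenCentral (x : CliffordAlgebra Q') : Prop :=
  x ∈ evenOdd Q' 0 ∧ ∀ y ∈ evenOdd Q' 0, x * y = y * x

theorem isEvenCentral_iff (z : ↥(even Q')) :
    z ∈ Subalgebra.center R' ↥(even Q') ↔ IsEvenCentral Q' (z : CliffordAlgebra Q') := by
  rw [Subalgebra.mem_center_iff]
  constructor
  · intro h
    refine ⟨z.2, fun y hy => ?_⟩
    exact (congrArg Subtype.val (h ⟨y, hy⟩)).symm
  · rintro ⟨-, h⟩ y
    apply Subtype.ext
    exact (h y.1 y.2).symm

theorem isDicksonTrivial_iff (g : M' ≃ₗ[R'] M') (hg : g ∈ O Q') :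
    IsDicksonTrivial Q' g hg ↔ ∀ x, IsEvenCentral Q' x → cl Q' g hg x = x := by
  constructor
  · intro h x hx
    exact h ⟨x, hx.1⟩ ((isEvenCentral_iff Q' ⟨x, hx.1⟩).mpr hx)
  · intro h z hz
    exact h z ((isEvenCentral_iff Q' z).mp hz)

theorem cl_isEvenCentral (g : M' ≃ₗ[R'] M') (hg : g ∈ O Q') (x : CliffordAlgebra Q')
    (hx : IsEvenCentral Q' x) : IsEvenCentral Q' (cl Q' g hg x) := by
  refine ⟨cl_mem_even Q' g hg x hx.1, fun y hy => ?_⟩
  have hy' := cl_mem_even Q' g⁻¹ ((O Q').inv_mem hg) y hy
  have h1 := hx.2 _ hy'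
  have h2 := congrArg (cl Q' g hg) h1
  rw [map_mul, map_mul, cl_cl_inv] at h2
  exact h2

end General

variable {R : Type u} [CommRing R] {M : Type u} [AddCommGroup M] [Module R M]
  [Module.Free R M] [Module.Finite R M] (Q : QuadraticForm R M)
  (A : Type u) [CommRing A] [Algebra R A]

/-- Images of central elements of the even Clifford algebra are central in the even Clifford algebra
of the base change. -/
theorem jA_isEvenCentral (z : ↥(even Q)) (hz : z ∈ Subalgebra.center R ↥(even Q)) :
    IsEvenCentral (baseChangeForm A Q) (jA Q A (z : CliffordAlgebra Q)) := by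
  have key : ∀ t : A ⊗[R] ↥(even Q),
      jA Q A (z : CliffordAlgebra Q) * jE Q A t = jE Q A t * jA Q A (z : CliffordAlgebra Q) := by
    intro t
    induction t using TensorProduct.induction_on with
    | zero => simp
    | tmul a x =>
      rw [jE_tmul, mul_smul_comm, smul_mul_assoc, ← map_mul, ← map_mul]
      have := congrArg Subtype.val (Subalgebra.mem_center_iff.mp hz x)
      congr 2
      exact this.symm
    | add x y hx hy => rw [map_add, mul_add, add_mul, hx, hy]
  refine ⟨jA_mem_even Q A _ z.2, fun y hy => ?_⟩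
  obtain ⟨t, rfl⟩ := jE_surjective_even Q A y hy
  exact key t

/-- The Dickson condition for an isometry of `Q_A` can be tested on the centre of the even
Clifford algebra of `Q`, for a regular form of even rank. -/
theorem isDicksonTrivial_baseChange_iff (m : ℕ) (hm : 1 ≤ m) (hV : Module.finrank R M = 2 * m)
    (hQ : Function.Surjective (QuadraticMap.polarBilin Q))
    (g : (A ⊗[R] M) ≃ₗ[A] (A ⊗[R] M)) (hg : g ∈ O (baseChangeForm A Q)) :
    IsDicksonTrivial (baseChangeForm A Q) g hg ↔
      ∀ z : ↥(even Q), z ∈ Subalgebra.center R ↥(even Q) →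
        cl (baseChangeForm A Q) g hg (jA Q A (z : CliffordAlgebra Q)) =
          jA Q A (z : CliffordAlgebra Q) := by
  rw [isDicksonTrivial_iff]
  constructor
  · intro h z hz
    exact h _ (jA_isEvenCentral Q A z hz)
  · intro h x hx
    have hmem := center_even_mem_span Q m hm hV hQ A x hx.1 hx.2
    have key : ∀ x ∈ Submodule.span A (Set.range fun z : ↥(Subalgebra.center R ↥(even Q)) =>
        jA Q A ((z : ↥(even Q)) : CliffordAlgebra Q)), cl (baseChangeForm A Q) g hg x = x := by
      intro x hmem
      induction hmem using Submodule.span_induction with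
      | mem y hy =>
        obtain ⟨z, rfl⟩ := hy
        exact h z.1 z.2
      | zero => rw [map_zero]
      | add x y _ _ hx hy => rw [map_add, hx, hy]
      | smul a x _ hx => rw [map_smul, hx]
    exact key x hmem

end Helper25.SOEven
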