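import Mathlib
import Groth.Agent.Lib.Helper25.SOEvenDickson

/-!
# The Dickson condition is open in infinitesimal neighbourhoods: an isometry whose reduction modulo
a square-zero ideal is Dickson-trivial is Dickson-trivial
-/

set_option autoImplicit false
set_option linter.style.haveILetI false
set_option linter.unusedSectionVars false
universe u v

namespace Helper25.SOEven

open CliffordAlgebra QuadGrp Helper25.Cliff Helper25.AzTransport Helper25.CliffBCF
open scoped TensorProduct

/-- The centre of the even Clifford algebra of a regular form of even rank is étale. -/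
theorem etale_center_even (A : Type u) [CommRing A] (V : Type v) [AddCommGroup V] [Module A V]
    [Module.Free A V] [Module.Finite A V] (m : ℕ) (hm : 1 ≤ m) (hV : Module.finrank A V = 2 * m)
    (Q : QuadraticForm A V) (hQ : Function.Surjective (QuadraticMap.polarBilin Q)) :
    Algebra.Etale A ↥(Subalgebra.center A ↥(CliffordAlgebra.even Q)) ∧
      Module.Finite A ↥(Subalgebra.center A ↥(CliffordAlgebra.even Q)) := by
  classical
  obtain ⟨⟨S, i1, i2, hff, -, -, ⟨Θ₀⟩⟩, -, -⟩ :=
    Helper25.Cliff.clifford_even_rank_structure A V m hm hV Q hQ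
  have := hff
  have : NeZero (2 ^ (m - 1)) := ⟨pow_ne_zero _ two_ne_zero⟩
  let Θ := Θ₀.trans (Helper25.AzTransport.matPiEquiv S (Fin (2 ^ (m - 1)))).symm
  have : Module.Finite S (TensorProduct A S ↥(CliffordAlgebra.even Q)) :=
    Module.Finite.equiv Θ₀.symm.toLinearEquiv
  have : Module.Finite A ↥(CliffordAlgebra.even Q) :=
    Module.Finite.of_finite_tensorProduct_of_faithfullyFlat S
  obtain ⟨h1, h2, -, -⟩ :=
    Helper25.AzTransport.center_etale_rank_two A ↥(CliffordAlgebra.even Q) S (2 ^ (m - 1)) Θ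
  exact ⟨h1, h2⟩

variable {R : Type u} [CommRing R] {M : Type u} [AddCommGroup M] [Module R M]
  [Module.Free R M] [Module.Finite R M] (Q : QuadraticForm R M)
  {A A' : Type u} [CommRing A] [Algebra R A] [CommRing A'] [Algebra R A']

theorem Fcan_isEvenCentral (φ : A →ₐ[R] A') (hφ : Function.Surjective φ)
    (x : CliffordAlgebra (baseChangeForm A Q)) (hx : IsEvenCentral (baseChangeForm A Q) x) :
    IsEvenCentral (baseChangeForm A' Q) (Fcan Q φ x) := by
  refine ⟨Fcan_mem_even Q φ x hx.1, fun y hy => ?_⟩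
  obtain ⟨y₀, hy₀, rfl⟩ := exists_even_lift Q φ hφ y hy
  rw [← map_mul, ← map_mul, hx.2 y₀ hy₀]

/-- **Infinitesimal openness of the Dickson condition.** -/
theorem isDicksonTrivial_of_map (m : ℕ) (hm : 1 ≤ m) (hV : Module.finrank R M = 2 * m)
    (hQ : Function.Surjective (QuadraticMap.polarBilin Q))
    (φ : A →ₐ[R] A') (hφ : Function.Surjective φ)
    (hker : ∀ a b : A, φ a = 0 → φ b = 0 → a * b = 0)
    (g : (A ⊗[R] M) ≃ₗ[A] (A ⊗[R] M)) (hg : g ∈ QuadGrp.O (baseChangeForm A Q))
    (g' : (A' ⊗[R] M) ≃ₗ[A'] (A' ⊗[R] M)) (hg' : g' ∈ QuadGrp.O (baseChangeForm A' Q))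
    (hc : ∀ v, g' (LinearMap.rTensor M φ.toLinearMap v) = LinearMap.rTensor M φ.toLinearMap (g v))
    (hD' : IsDicksonTrivial (baseChangeForm A' Q) g' hg') :
    IsDicksonTrivial (baseChangeForm A Q) g hg := by
  classical
  rcases subsingleton_or_nontrivial A with hA | hA
  · haveI : Subsingleton (CliffordAlgebra (baseChangeForm A Q)) := Module.subsingleton A _
    intro z _
    exact Subsingleton.elim _ _
  haveI : Nontrivial R := (algebraMap R A).domain_nontrivial
  have hfin : Module.finrank A (A ⊗[R] M) = 2 * m := by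
    rw [Module.finrank_baseChange, hV]
  have hsurj := Helper25.GPinLift.polarBilin_baseChangeForm_surjective Q A hQ
  obtain ⟨het, -⟩ := etale_center_even A (A ⊗[R] M) m hm hfin (baseChangeForm A Q) hsurj
  set QA := baseChangeForm A Q with hQA
  -- the automorphism induced on the centre
  let ι₀ : ↥(Subalgebra.center A ↥(even QA)) →ₐ[A] CliffordAlgebra QA :=
    (even QA).val.comp (Subalgebra.center A ↥(even QA)).val
  have hι₀ : ∀ z, IsEvenCentral QA (ι₀ z) := fun z =>
    (isEvenCentral_iff QA z.1).mp z.2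
  let σ₁ : ↥(Subalgebra.center A ↥(even QA)) →ₐ[A] ↥(even QA) :=
    AlgHom.codRestrict ((cl QA g hg).comp ι₀) (even QA)
      (fun z => cl_mem_even QA g hg _ (hι₀ z).1)
  let σ : ↥(Subalgebra.center A ↥(even QA)) →ₐ[A] ↥(Subalgebra.center A ↥(even QA)) :=
    AlgHom.codRestrict σ₁ (Subalgebra.center A ↥(even QA))
      (fun z => (isEvenCentral_iff QA (σ₁ z)).mpr (cl_isEvenCentral QA g hg _ (hι₀ z)))
  have hσ : ∀ z, ι₀ (σ z) = cl QA g hg (ι₀ z) := fun z => rfl
  let f : ↥(Subalgebra.center A ↥(even QA)) →+* CliffordAlgebra (baseChangeForm A' Q) :=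
    (Fcan Q φ).comp ι₀.toRingHom
  have hf : ∀ z, f z = Fcan Q φ (ι₀ z) := fun z => rfl
  have hnil : IsNilpotent (RingHom.ker f) := by
    refine ⟨2, ?_⟩
    rw [Ideal.zero_eq_bot, eq_bot_iff, pow_two, Ideal.mul_le]
    intro a ha b hb
    rw [RingHom.mem_ker, hf] at ha hb
    rw [Ideal.mem_bot]
    have := Helper25.GPinLift.Fcan_ker_sq Q φ hker _ _ ha hb
    rw [← map_mul] at this
    have hinj : Function.Injective ι₀ := fun x y h => Subtype.ext (Subtype.ext h)
    exact hinj (by rw [this, map_zero])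
  haveI := het
  have key : σ = AlgHom.id A _ := by
    apply Algebra.FormallyUnramified.ext' f hnil
    intro z
    rw [hf, hσ, AlgHom.id_apply, hf, Helper25.GPinLift.Fcan_map Q φ g hg g' hg' hc]
    exact (isDicksonTrivial_iff _ g' hg').mp hD' _ (Fcan_isEvenCentral Q φ hφ _ (hι₀ z))
  intro z hz
  have := congrArg (fun τ => ι₀ (τ ⟨z, hz⟩)) key
  exact this

end Helper25.SOEven
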