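import Mathlib
import Groth.Agent.Lib.Helper25.ReflMat
import Groth.Agent.Lib.Helper25.ConnIdem
import Groth.Agent.Lib.Helper25.CliffBC

/-!
# One-parameter families of products of two reflections and values of idempotents
-/

set_option autoImplicit false
set_option linter.style.haveILetI false
set_option linter.unusedSectionVars false
set_option linter.unusedVariables false
universe u

namespace Helper25.SOFam

open Matrix Helper25.QuadMat Helper25.Cliff Helper25.ReflMat Helper25.ConnIdem Polynomial
open TensorProduct

/-- A subgroup functor of matrices, represented by `B`, stable under multiplication and containing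
the products of two reflections of the form `N`. -/
structure ReflFunctor {R : Type u} [CommRing R] {ι : Type} [Fintype ι] [DecidableEq ι]
    (N : Matrix ι ι R) (B : Type u) [CommRing B] [Algebra R B] where
  /-- the points -/
  P : ∀ (A : Type u) [CommRing A] [Algebra R A], Set (Matrix ι ι A)
  /-- representability -/
  rp : ∀ (A : Type u) [CommRing A] [Algebra R A], (B →ₐ[R] A) ≃ P A
  rp_comp : ∀ {A A' : Type u} [CommRing A] [Algebra R A] [CommRing A'] [Algebra R A']
    (φ : A →ₐ[R] A') (f : B →ₐ[R] A), (rp A' (φ.comp f)).1 = (rp A f).1.map φ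
  mul_mem : ∀ {A : Type u} [CommRing A] [Algebra R A] {g h : Matrix ι ι A},
    g ∈ P A → h ∈ P A → g * h ∈ P A
  refl2_mem : ∀ {A : Type u} [CommRing A] [Algebra R A] (w w' : ι → A) (c c' : A),
    c * qf (N.map (algebraMap R A)) w = 1 → c' * qf (N.map (algebraMap R A)) w' = 1 →
    reflMat (N.map (algebraMap R A)) w c * reflMat (N.map (algebraMap R A)) w' c' ∈ P A

section Refl2

variable {A : Type*} [CommRing A] {ι : Type*} [Fintype ι] [DecidableEq ι]

theorem pol_sub_smul (N : Matrix ι ι A) (w x : ι → A) (t : A) :
    pol N w (x - t • w) = pol N w x - t * pol N w w := by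
  unfold pol
  rw [dotProduct_sub, dotProduct_smul, smul_eq_mul]

theorem reflMat_mul_self (N : Matrix ι ι A) (w : ι → A) (c : A) (hc : c * qf N w = 1) :
    reflMat N w c * reflMat N w c = 1 := by
  apply Matrix.toLin'.injective
  apply LinearMap.ext
  intro x
  rw [Matrix.toLin'_mul, LinearMap.comp_apply, Matrix.toLin'_apply, Matrix.toLin'_apply,
    reflMat_mulVec, reflMat_mulVec, pol_sub_smul, pol_self, Matrix.toLin'_one, LinearMap.id_apply,
    sub_sub, ← add_smul]
  have : c * pol N w x + c * (pol N w x - c * pol N w x * (2 * qf N w)) = 0 := by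
    linear_combination (-2 * c * pol N w x) * hc
  rw [this, zero_smul, sub_zero]

end Refl2

section EvalAt

variable {K : Type*} [Field K] (p : K[X])

/-- Evaluation at a point where `p` does not vanish. -/
noncomputable def evalAt (t : K) (ht : p.eval t ≠ 0) : Localization.Away p →ₐ[K] K :=
  IsLocalization.liftAlgHom (M := Submonoid.powers p) (f := Polynomial.aeval t) (by
    rintro ⟨y, n, rfl⟩
    simp only [map_pow, Polynomial.coe_aeval_eq_eval]
    exact (isUnit_iff_ne_zero.mpr ht).pow n)

theorem evalAt_algebraMap (t : K) (ht : p.eval t ≠ 0) (q : K[X]) :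
    evalAt p t ht (algebraMap K[X] (Localization.Away p) q) = q.eval t := by
  unfold evalAt
  rw [IsLocalization.liftAlgHom_apply, IsLocalization.lift_eq]
  simp

theorem evalAt_algebraMap_self (t : K) (ht : p.eval t ≠ 0) (x : K) :
    evalAt p t ht (algebraMap K (Localization.Away p) x) = x := by
  rw [AlgHom.commutes]; rfl

theorem evalAt_invSelf (t : K) (ht : p.eval t ≠ 0) :
    evalAt p t ht (IsLocalization.Away.invSelf (S := Localization.Away p) p) = (p.eval t)⁻¹ := by
  have h := IsLocalization.Away.mul_invSelf (S := Localization.Away p) p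
  have h2 := congrArg (evalAt p t ht) h
  rw [map_mul, map_one, evalAt_algebraMap] at h2
  exact eq_inv_of_mul_eq_one_right h2

theorem isDomain_away (hp : p ≠ 0) : IsDomain (Localization.Away p) :=
  IsLocalization.isDomain_localization (powers_le_nonZeroDivisors_of_noZeroDivisors hp)

end EvalAt

section Family

variable {R : Type u} [CommRing R] {ι : Type} [Fintype ι] [DecidableEq ι] {N : Matrix ι ι R}
  {B : Type u} [CommRing B] [Algebra R B] (F : ReflFunctor N B)
  {K : Type u} [Field K] [Algebra R K]

/-- Multiplying a point by a product of two reflections does not change the value of an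
idempotent. -/
theorem ev_eq_mul_refl_refl (e : K ⊗[R] B) (he : IsIdempotentElem e) (f f' : B →ₐ[R] K)
    (u v : ι → K) (hu : qf (N.map (algebraMap R K)) u ≠ 0) (hv : qf (N.map (algebraMap R K)) v ≠ 0)
    (h : (F.rp K f').1 = (F.rp K f).1 * (reflMat (N.map (algebraMap R K)) u
        (qf (N.map (algebraMap R K)) u)⁻¹ * reflMat (N.map (algebraMap R K)) v
        (qf (N.map (algebraMap R K)) v)⁻¹)) :
    ev (K := K) f' e = ev (K := K) f e := by
  set NK := N.map (algebraMap R K) with hNK
  -- the polynomial family
  let wX : ι → K[X] := fun i => C (u i) + X * C (v i - u i)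
  let p : K[X] := qf (NK.map C) wX
  have hpeval : ∀ t : K, p.eval t = qf NK (fun i => u i + t * (v i - u i)) := by
    intro t
    have := qf_map (Polynomial.evalRingHom t) (NK.map C) wX
    simp only [Polynomial.coe_evalRingHom] at this
    rw [← this]
    congr 1
    · ext i j; simp
    · ext i; simp [wX]
  have hp0 : p.eval 0 ≠ 0 := by
    rw [hpeval]; simpa using hu
  have hp1 : p.eval 1 ≠ 0 := by
    rw [hpeval]; simpa using hv
  have hp : p ≠ 0 := by
    rintro h0; rw [h0] at hp0; simp at hp0
  let D := Localization.Away p
  haveI : IsDomain D := isDomain_away p hp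
  set ND := N.map (algebraMap R D) with hND
  have hNDK : ND = NK.map (algebraMap K D) := by
    rw [hND, hNK, Matrix.map_map]
    ext i j
    simp only [Matrix.map_apply, Function.comp_apply]
    exact IsScalarTower.algebraMap_apply R K D _
  have hNDX : ND = (NK.map C).map (algebraMap K[X] D) := by
    rw [hNDK, Matrix.map_map]
    ext i j
    simp only [Matrix.map_apply, Function.comp_apply]
    rw [IsScalarTower.algebraMap_apply K K[X] D]
    rfl
  let wD : ι → D := fun i => algebraMap K[X] D (wX i)
  let c : D := IsLocalization.Away.invSelf (S := D) p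
  have hqw : qf ND wD = algebraMap K[X] D p := by
    rw [hNDX]
    exact qf_map (algebraMap K[X] D) (NK.map C) wX
  have hc : c * qf ND wD = 1 := by
    rw [hqw, mul_comm]
    exact IsLocalization.Away.mul_invSelf (S := D) p
  let uD : ι → D := fun i => algebraMap K D (u i)
  let cu : D := algebraMap K D (qf NK u)⁻¹
  have hcu : cu * qf ND uD = 1 := by
    rw [hNDK]
    have := qf_map (algebraMap K D) NK u
    rw [this, ← map_mul, inv_mul_cancel₀ hu, map_one]
  -- the family
  let φKD : K →ₐ[R] D := IsScalarTower.toAlgHom R K D
  let fD : B →ₐ[R] D := φKD.comp f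
  have hfD : (F.rp D fD).1 = (F.rp K f).1.map (algebraMap K D) := F.rp_comp φKD f
  have hGmem : (F.rp D fD).1 * (reflMat ND uD cu * reflMat ND wD c) ∈ F.P D :=
    F.mul_mem (F.rp D fD).2 (F.refl2_mem uD wD cu c hcu hc)
  let FD : B →ₐ[R] D := (F.rp D).symm ⟨_, hGmem⟩
  have hFD : (F.rp D FD).1 = (F.rp D fD).1 * (reflMat ND uD cu * reflMat ND wD c) := by
    simp only [FD, Equiv.apply_symm_apply]
  have hspec : ∀ (t : K) (ht : p.eval t ≠ 0),
      (F.rp K (((evalAt p t ht).restrictScalars R).comp FD)).1 =
        (F.rp K f).1 * (reflMat NK u (qf NK u)⁻¹ *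
          reflMat NK (fun i => u i + t * (v i - u i))
            (qf NK (fun i => u i + t * (v i - u i)))⁻¹) := by
    intro t ht
    rw [F.rp_comp, hFD, hfD, Matrix.map_mul, Matrix.map_mul, Matrix.map_map]
    have h1 : ((F.rp K f).1.map (⇑((evalAt p t ht).restrictScalars R) ∘ ⇑(algebraMap K D))) =
        (F.rp K f).1 := by
      ext i j
      exact evalAt_algebraMap_self p t ht _
    have hNDα : ND.map ((evalAt p t ht).restrictScalars R) = NK := by
      rw [hNDK, Matrix.map_map]
      ext i j
      exact evalAt_algebraMap_self p t ht _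
    have h2 : (reflMat ND uD cu).map ((evalAt p t ht).restrictScalars R) =
        reflMat NK u (qf NK u)⁻¹ := by
      have := reflMat_map ((evalAt p t ht).restrictScalars R : D →+* K) ND uD cu
      simp only [AlgHom.coe_restrictScalars', AlgHom.toRingHom_eq_coe, RingHom.coe_coe] at this hNDα ⊢
      rw [this, hNDα]
      congr 1
      · ext i; exact evalAt_algebraMap_self p t ht _
      · exact evalAt_algebraMap_self p t ht _
    have h3 : (reflMat ND wD c).map ((evalAt p t ht).restrictScalars R) =
        reflMat NK (fun i => u i + t * (v i - u i))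
            (qf NK (fun i => u i + t * (v i - u i)))⁻¹ := by
      have := reflMat_map ((evalAt p t ht).restrictScalars R : D →+* K) ND wD c
      simp only [AlgHom.coe_restrictScalars', AlgHom.toRingHom_eq_coe, RingHom.coe_coe] at this hNDα ⊢
      rw [this, hNDα]
      congr 1
      · ext i
        have := evalAt_algebraMap p t ht (wX i)
        simp only [Function.comp_apply, wD]
        rw [this]
        simp [wX]
      · rw [← hpeval]
        exact evalAt_invSelf p t ht
    rw [h1]
    simp only [AlgHom.coe_restrictScalars'] at h2 h3 ⊢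
    rw [h2, h3]
  have key := ev_eq_of_family (K := K) e he FD (evalAt p 0 hp0) (evalAt p 1 hp1)
  have e0 : ((evalAt p 0 hp0).restrictScalars R).comp FD = f := by
    apply (F.rp K).injective
    apply Subtype.ext
    rw [hspec 0 hp0]
    have : (fun i => u i + 0 * (v i - u i)) = u := by ext i; simp
    rw [this, reflMat_mul_self NK u _ (inv_mul_cancel₀ hu), Matrix.mul_one]
  have e1 : ((evalAt p 1 hp1).restrictScalars R).comp FD = f' := by
    apply (F.rp K).injective
    apply Subtype.ext
    rw [hspec 1 hp1, h]
    have : (fun i => u i + 1 * (v i - u i)) = v := by ext i; simp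
    rw [this]
  rw [e0, e1] at key
  exact key.symm

/-- Multiplying a point by a product of an even number of reflections does not change the value
of an idempotent. -/
theorem ev_eq_of_even_list (e : K ⊗[R] B) (he : IsIdempotentElem e) :
    ∀ (k : ℕ) (L : List (ι → K)), L.length = 2 * k →
      (∀ v ∈ L, qf (N.map (algebraMap R K)) v ≠ 0) →
      ∀ f f' : B →ₐ[R] K,
        (F.rp K f').1 = (F.rp K f).1 *
          (L.map (fun v => reflMat (N.map (algebraMap R K)) v
            (qf (N.map (algebraMap R K)) v)⁻¹)).prod →
        ev (K := K) f' e = ev (K := K) f e := by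
  intro k
  induction k with
  | zero =>
    intro L hL _ f f' h
    have : L = [] := List.length_eq_zero_iff.mp (by simpa using hL)
    subst this
    simp only [List.map_nil, List.prod_nil, Matrix.mul_one] at h
    have : f' = f := (F.rp K).injective (Subtype.ext h)
    rw [this]
  | succ k ih =>
    intro L hL hLq f f' h
    match L, hL, hLq, h with
    | [], hL, _, _ => exact absurd hL (by simp)
    | [a], hL, _, _ => exact absurd hL (by simp; omega)
    | a :: b :: L', hL, hLq, h =>
      have ha : qf (N.map (algebraMap R K)) a ≠ 0 := hLq a (by simp)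
      have hb : qf (N.map (algebraMap R K)) b ≠ 0 := hLq b (by simp)
      have hmem : (F.rp K f).1 * (reflMat (N.map (algebraMap R K)) a
          (qf (N.map (algebraMap R K)) a)⁻¹ * reflMat (N.map (algebraMap R K)) b
          (qf (N.map (algebraMap R K)) b)⁻¹) ∈ F.P K :=
        F.mul_mem (F.rp K f).2 (F.refl2_mem a b _ _ (inv_mul_cancel₀ ha) (inv_mul_cancel₀ hb))
      let f'' : B →ₐ[R] K := (F.rp K).symm ⟨_, hmem⟩
      have hf'' : (F.rp K f'').1 = (F.rp K f).1 * (reflMat (N.map (algebraMap R K)) a
          (qf (N.map (algebraMap R K)) a)⁻¹ * reflMat (N.map (algebraMap R K)) b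
          (qf (N.map (algebraMap R K)) b)⁻¹) := by
        simp only [f'', Equiv.apply_symm_apply]
      have h1 : ev (K := K) f'' e = ev (K := K) f e :=
        ev_eq_mul_refl_refl F e he f f'' a b ha hb hf''
      have h2 : ev (K := K) f' e = ev (K := K) f'' e := by
        apply ih L' (by simp at hL; omega) (fun v hv => hLq v (by simp [hv])) f'' f'
        rw [h, hf'']
        simp only [List.map_cons, List.prod_cons]
        simp only [Matrix.mul_assoc]
      rw [h2, h1]

/-- If every `K`-point is the base point times a product of an even number of reflections, then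
`K ⊗ B` has only trivial idempotents. -/
theorem idem_trivial [Algebra.FiniteType R B] [IsAlgClosed K] (f₁ : B →ₐ[R] K)
    (hgen : ∀ f : B →ₐ[R] K, ∃ L : List (ι → K),
      (∀ v ∈ L, qf (N.map (algebraMap R K)) v ≠ 0) ∧ Even L.length ∧
      (F.rp K f).1 = (F.rp K f₁).1 *
        (L.map (fun v => reflMat (N.map (algebraMap R K)) v
          (qf (N.map (algebraMap R K)) v)⁻¹)).prod)
    (e : K ⊗[R] B) (he : IsIdempotentElem e) : e = 0 ∨ e = 1 := by
  refine eq_zero_or_one_of_forall_ev_eq e he f₁ fun f => ?_
  obtain ⟨L, hLq, ⟨k, hk⟩, hL⟩ := hgen f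
  exact ev_eq_of_even_list F e he k L (by omega) hLq f₁ f hL

end Family

end Helper25.SOFam
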