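import Mathlib
import Groth.Agent.Lib.Helper25.SOFamily
import Groth.Agent.Lib.Helper25.QuadOddForm
import Groth.Agent.Lib.Helper41.HalfDiscField

/-!
# Idempotents of the geometric fibres of the special orthogonal group in odd rank
-/

set_option autoImplicit false
set_option linter.style.haveILetI false
set_option linter.unusedSectionVars false
set_option linter.unusedVariables false
universe u

namespace Helper25.SOFam

open Matrix Helper25.QuadMat Helper25.Cliff Helper25.ReflMat Helper25.ConnIdem Helper25.GLsub
open TensorProduct Groth.Agent.Lib.Helper41.HalfDisc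

section Closure

variable {R : Type u} [CommRing R] {ι : Type} [Fintype ι] [DecidableEq ι] (N : Matrix ι ι R)
  {A : Type*} [CommRing A] [Algebra R A]

theorem one_mem_orth : (1 : Matrix ι ι A) ∈ pts (orthRels N) A := by
  rw [mem_pts_orthRels]
  refine ⟨by simp, ?_⟩
  simp only [Matrix.transpose_one, Matrix.one_mul, Matrix.mul_one]
  exact QEq.refl _

theorem mul_mem_orth {g h : Matrix ι ι A} (hg : g ∈ pts (orthRels N) A)
    (hh : h ∈ pts (orthRels N) A) : g * h ∈ pts (orthRels N) A := by
  rw [mem_pts_orthRels] at *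
  refine ⟨by rw [det_mul]; exact hg.1.mul hh.1, ?_⟩
  have : (g * h)ᵀ * N.map (algebraMap R A) * (g * h) =
      hᵀ * (gᵀ * N.map (algebraMap R A) * g) * h := by
    simp only [Matrix.transpose_mul, Matrix.mul_assoc]
  rw [this]
  exact (hg.2.conj h).trans hh.2

theorem one_mem_sorth : (1 : Matrix ι ι A) ∈ pts (sorthRels N) A := by
  rw [mem_pts_sorthRels]
  exact ⟨one_mem_orth N, by simp⟩

theorem mul_mem_sorth {g h : Matrix ι ι A} (hg : g ∈ pts (sorthRels N) A)
    (hh : h ∈ pts (sorthRels N) A) : g * h ∈ pts (sorthRels N) A := by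
  rw [mem_pts_sorthRels] at *
  exact ⟨mul_mem_orth N hg.1 hh.1, by rw [det_mul, hg.2, hh.2, one_mul]⟩

theorem reflMat_mem_orth (w : ι → A) (c : A) (hc : c * qf (N.map (algebraMap R A)) w = 1) :
    reflMat (N.map (algebraMap R A)) w c ∈ pts (orthRels N) A := by
  rw [mem_pts_orthRels]
  refine ⟨?_, QEq_reflMat _ w c hc⟩
  rw [det_reflMat _ w c hc]
  exact isUnit_one.neg

theorem refl2_mem_sorth (w w' : ι → A) (c c' : A)
    (hc : c * qf (N.map (algebraMap R A)) w = 1) (hc' : c' * qf (N.map (algebraMap R A)) w' = 1) :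
    reflMat (N.map (algebraMap R A)) w c * reflMat (N.map (algebraMap R A)) w' c' ∈
      pts (sorthRels N) A := by
  rw [mem_pts_sorthRels]
  refine ⟨mul_mem_orth N (reflMat_mem_orth N w c hc) (reflMat_mem_orth N w' c' hc'), ?_⟩
  rw [det_mul, det_reflMat _ w c hc, det_reflMat _ w' c' hc']
  simp

/-- The naive special orthogonal group as a `ReflFunctor`. -/
noncomputable def sorthFunctor : ReflFunctor N (Alg (sorthRels N)) where
  P A _ _ := pts (sorthRels N) A
  rp A _ _ := rep (sorthRels N) A
  rp_comp φ f := rep_comp (sorthRels N) φ f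
  mul_mem hg hh := mul_mem_sorth N hg hh
  refl2_mem w w' c c' hc hc' := refl2_mem_sorth N w w' c c' hc hc'

end Closure

section Field

variable {K : Type*} [Field K] {ι : Type} [Fintype ι] [DecidableEq ι]

theorem toLin'_list_prod (L : List (Matrix ι ι K)) :
    Matrix.toLin' L.prod = (L.map Matrix.toLin').prod := by
  induction L with
  | nil => simp; rfl
  | cons a L ih => simp [Matrix.toLin'_mul, ih]; rfl

theorem det_list_reflMat (NK : Matrix ι ι K) (L : List (ι → K)) (hL : ∀ v ∈ L, qf NK v ≠ 0) :
    (L.map (fun v => reflMat NK v (qf NK v)⁻¹)).prod.det = (-1) ^ L.length := by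
  induction L with
  | nil => simp
  | cons a L ih =>
    rw [List.map_cons, List.prod_cons, det_mul, ih (fun v hv => hL v (by simp [hv])),
      det_reflMat NK a _ (inv_mul_cancel₀ (hL a (by simp))), List.length_cons, pow_succ]
    ring

/-- Isometries of a form with trivial radical over an algebraically closed field are products of
reflection matrices. -/
theorem exists_list_reflMat [IsAlgClosed K] (NK : Matrix ι ι K)
    (hND : Helper25.CD.ND (qfForm NK)) (g : Matrix ι ι K)
    (hg : QEq (gᵀ * NK * g) NK) :
    ∃ L : List (ι → K), (∀ v ∈ L, qf NK v ≠ 0) ∧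
      g = (L.map (fun v => reflMat NK v (qf NK v)⁻¹)).prod := by
  have hiso : ∀ v, qfForm NK (Matrix.toLin' g v) = qfForm NK v := by
    intro v
    rw [qfForm_apply, qfForm_apply, Matrix.toLin'_apply, ← qf_conj, qf_eq_of_QEq hg]
  obtain ⟨L, hLq, hL⟩ := Helper25.CD.exists_list_refl (Module.finrank K (ι → K)) (ι → K)
    (qfForm NK) rfl hND (Matrix.toLin' g) hiso
  refine ⟨L, fun v hv => by rw [← qfForm_apply]; exact hLq v hv, ?_⟩
  apply Matrix.toLin'.injective
  rw [hL, toLin'_list_prod, List.map_map]
  congr 1
  apply List.map_congr_left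
  intro v _
  simp only [Function.comp_apply]
  rw [toLin'_reflMat]

end Field

section Odd

variable {R : Type u} [CommRing R]

theorem hdetE_eq_halfDisc {K : Type*} [CommRing K] (n : ℕ) (NK : Matrix (Fin n) (Fin n) K) :
    hdetE (Equiv.refl (Fin n)) NK =
      QuadGrp.halfDisc (Pi.basisFun K (Fin n)) (LinearEquiv.refl K K) (qfForm NK) := by
  unfold hdetE evalHalf QuadGrp.halfDisc
  congr 1
  ext p
  induction p using Sym2.ind with
  | _ i j =>
    rw [cW_mk, QuadGrp.coeffs_mk]
    simp only [Matrix.submatrix_apply, LinearEquiv.refl_apply, Equiv.refl_symm, Equiv.refl_apply,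
      Pi.basisFun_apply]
    split_ifs with hij
    · rw [qfForm_apply, qf_single]
    · rw [polar_qfForm_single]
      rw [Finset.sum_eq_single i]
      · simp [Matrix.add_apply]
      · intro k _ hk; simp [Pi.single_apply, hk]
      · simp

variable (m : ℕ) (N : Matrix (Fin (2 * m + 1)) (Fin (2 * m + 1)) R)
  (hh : IsUnit (hdetE (Equiv.refl (Fin (2 * m + 1))) N))
  {K : Type u} [Field K] [IsAlgClosed K] [Algebra R K]

include hh in
theorem hdetE_map_ne_zero : hdetE (Equiv.refl (Fin (2 * m + 1))) (N.map (algebraMap R K)) ≠ 0 := by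
  rw [hdetE_map]
  exact (hh.map (algebraMap R K)).ne_zero

include hh in
theorem ND_of_hdetE : Helper25.CD.ND (qfForm (N.map (algebraMap R K))) := by
  have h1 := hdetE_map_ne_zero m N hh (K := K)
  rw [hdetE_eq_halfDisc] at h1
  have h2 := (halfDisc_ne_zero_iff_nondegenerate (k := 2 * m) ⟨m, rfl⟩
    (Pi.basisFun K (Fin (2 * m + 1))) (qfForm (N.map (algebraMap R K)))).mp h1
  intro v hv hpol
  have : v ∈ (qfForm (N.map (algebraMap R K))).radical := by
    refine ⟨hv, ?_⟩
    apply LinearMap.ext
    intro w
    simpa using hpol w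
  rw [h2.radical_eq_bot] at this
  simpa using this

include hh in
/-- Every point of the special orthogonal group of a semiregular form of odd rank over an
algebraically closed field is a product of an even number of reflections. -/
theorem exists_even_list_reflMat (g : Matrix (Fin (2 * m + 1)) (Fin (2 * m + 1)) K)
    (hg : g ∈ pts (sorthRels N) K) :
    ∃ L : List (Fin (2 * m + 1) → K), (∀ v ∈ L, qf (N.map (algebraMap R K)) v ≠ 0) ∧
      Even L.length ∧
      g = (L.map (fun v => reflMat (N.map (algebraMap R K)) v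
        (qf (N.map (algebraMap R K)) v)⁻¹)).prod := by
  set NK := N.map (algebraMap R K) with hNK
  have hND : Helper25.CD.ND (qfForm NK) := ND_of_hdetE m N hh
  rw [mem_pts_sorthRels, mem_pts_orthRels] at hg
  obtain ⟨⟨-, hq⟩, hdet⟩ := hg
  obtain ⟨L, hLq, hL⟩ := exists_list_reflMat NK hND g hq
  rcases Nat.even_or_odd L.length with hev | hodd
  · exact ⟨L, hLq, hev, hL⟩
  · -- characteristic two: pad with the reflection in a radical vector, which is the identity
    have hd : g.det = (-1) ^ L.length := by rw [hL]; exact det_list_reflMat NK L hLq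
    rw [hdet, hodd.neg_one_pow] at hd
    have h2 : (2 : K) = 0 := by linear_combination hd
    have hdetP : (NK + NKᵀ).det = 0 := by
      rw [← two_mul_hdetE ⟨m, rfl⟩ (Equiv.refl (Fin (2 * m + 1))) NK, h2, zero_mul]
    obtain ⟨e₀, he₀, hPe⟩ := Matrix.exists_mulVec_eq_zero_iff.mpr hdetP
    have hqe : qf NK e₀ ≠ 0 := by
      intro h0
      apply he₀
      apply hND e₀ (by rw [qfForm_apply]; exact h0)
      intro w
      rw [polar_qfForm]
      unfold pol
      rw [hPe, zero_dotProduct]
    have hre : reflMat NK e₀ (qf NK e₀)⁻¹ = 1 := by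
      unfold reflMat
      rw [hPe]
      simp
    refine ⟨L ++ [e₀], ?_, ?_, ?_⟩
    · intro v hv
      rcases List.mem_append.mp hv with hv | hv
      · exact hLq v hv
      · rw [List.mem_singleton.mp hv]; exact hqe
    · rw [List.length_append, List.length_singleton]
      exact hodd.add_one
    · rw [List.map_append, List.prod_append, List.map_singleton, List.prod_singleton, hre,
        Matrix.mul_one]
      exact hL

include hh in
/-- The geometric fibres of the special orthogonal group of a semiregular form of odd rank have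
only trivial idempotents. -/
theorem idem_trivial_sorth_odd (e : K ⊗[R] Alg (sorthRels N)) (he : IsIdempotentElem e) :
    e = 0 ∨ e = 1 := by
  let f₁ : Alg (sorthRels N) →ₐ[R] K := (rep (sorthRels N) K).symm ⟨1, one_mem_sorth N⟩
  refine idem_trivial (sorthFunctor N) f₁ (fun f => ?_) e he
  obtain ⟨L, hLq, hev, hL⟩ := exists_even_list_reflMat m N hh (rep (sorthRels N) K f).1
    (rep (sorthRels N) K f).2
  refine ⟨L, hLq, hev, ?_⟩
  have h1 : ((sorthFunctor N).rp K f₁).1 = 1 := by
    show (rep (sorthRels N) K f₁).1 = 1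
    simp only [f₁, Equiv.apply_symm_apply]
  rw [h1, Matrix.one_mul]
  exact hL

end Odd

end Helper25.SOFam
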