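import Mathlib
import Groth.Agent.Lib.Helper25.GLsubRep
import Groth.Agent.Lib.Helper25.OrthRels
import Groth.Agent.Lib.Helper24.SmoothQuasiFinite

/-!
# Ring-theoretic core for the naive special orthogonal group over `ℤ`

* `isRadical_span_sub_one`, `not_flat_quot`: if `d² = 1` in a reduced `2`-torsion-free ring with
  `(2)` radical, then `(d - 1)` is radical; the quotient by `(d - 1)` is not flat over `ℤ` when
  some integral point has `d = -1`.
* `AffRep.isReduced_of_isIso`, `AffRep.flat_of_isIso`, `GLsub.exists_isIso`: transfer along the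
  universal point.
* `GLsub.nonempty_sorthAlgEquiv`: `ℤ[SO'] = ℤ[O] / (det - 1)`.
-/

set_option autoImplicit false
set_option linter.style.haveILetI false
set_option linter.unusedSectionVars false
universe u
open CategoryTheory AlgebraicGeometry Limits TensorProduct

namespace Helper25.SOSplit

section PureAlg

variable {B : Type*} [CommRing B]

/-- In a ring in which `2` is a non-zero-divisor and `(2)` is radical, an element `d` with
`d² = 1` is `1 - 2D` for an idempotent `D`. -/
theorem exists_idem_of_sq_eq_one (htf : ∀ x : B, 2 * x = 0 → x = 0)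
    (h2 : (Ideal.span {(2 : B)}).IsRadical) (d : B) (hd : d * d = 1) :
    ∃ D : B, D * D = D ∧ d - 1 = -(2 * D) := by
  have h1 : (d - 1) ^ 2 ∈ Ideal.span {(2 : B)} := by
    rw [Ideal.mem_span_singleton']
    exact ⟨1 - d, by linear_combination -hd⟩
  obtain ⟨y, hy⟩ := Ideal.mem_span_singleton'.mp (h2 ⟨2, h1⟩)
  refine ⟨-y, ?_, by linear_combination -hy⟩
  have h4 : 2 * (2 * (y * y + y)) = 0 := by
    have e : d = 1 + y * 2 := by linear_combination -hy
    rw [e] at hd
    linear_combination hd
  have := htf _ (htf _ h4)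
  linear_combination this

theorem isRadical_span_sub_one [IsReduced B] (htf : ∀ x : B, 2 * x = 0 → x = 0)
    (h2 : (Ideal.span {(2 : B)}).IsRadical) (d : B) (hd : d * d = 1) :
    (Ideal.span {d - 1}).IsRadical := by
  obtain ⟨D, hD, hdD⟩ := exists_idem_of_sq_eq_one htf h2 d hd
  rw [Ideal.isRadical_iff_pow_one_lt 2 one_lt_two]
  intro x hx
  obtain ⟨z, hz⟩ := Ideal.mem_span_singleton'.mp hx
  have hDD : (1 - D) * D = 0 := by linear_combination -hD
  -- `(1 - D) x` is nilpotent
  have h3 : ((1 - D) * x) ^ 2 = 0 := by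
    rw [mul_pow, ← hz, hdD]
    linear_combination (-2 * z * (1 - D)) * hDD
  have h4 : (1 - D) * x = 0 := IsNilpotent.eq_zero ⟨2, h3⟩
  have h5 : (D * x) ^ 2 ∈ Ideal.span {(2 : B)} := by
    rw [Ideal.mem_span_singleton']
    refine ⟨-(D * D * D * z), ?_⟩
    rw [mul_pow, ← hz, hdD]
    ring
  obtain ⟨w, hw⟩ := Ideal.mem_span_singleton'.mp (h2 ⟨2, h5⟩)
  rw [Ideal.mem_span_singleton']
  refine ⟨-(D * w) , ?_⟩
  rw [hdD]
  linear_combination (D * D) * hw + ((D + 1) * x) * hD - h4

theorem not_flat_quot {R : Type*} [CommRing R] [Algebra R B] (h2reg : IsRegular (2 : R))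
    (h2u : ¬ IsUnit (2 : R)) (d y : B) (hy : d - 1 = 2 * y) (g : B →ₐ[R] R) (hg : g d = -1) :
    ¬ Module.Flat R (B ⧸ Ideal.span {d - 1}) := by
  intro hfl
  have hreg : IsSMulRegular (B ⧸ Ideal.span {d - 1}) (2 : R) :=
    Module.Flat.isSMulRegular_of_isRegular h2reg
  have h0 : (2 : R) • (Ideal.Quotient.mk (Ideal.span {d - 1}) y) = (2 : R) • 0 := by
    have e : (2 : R) • (Ideal.Quotient.mk (Ideal.span {d - 1}) y) =
        Ideal.Quotient.mk (Ideal.span {d - 1}) ((2 : R) • y) := rfl
    rw [smul_zero, e, Ideal.Quotient.eq_zero_iff_mem, Ideal.mem_span_singleton']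
    exact ⟨1, by rw [hy, Algebra.smul_def, map_ofNat, one_mul]⟩
  have h1 := hreg h0
  rw [Ideal.Quotient.eq_zero_iff_mem, Ideal.mem_span_singleton'] at h1
  obtain ⟨z, hz⟩ := h1
  have e1 := congrArg g hy
  have e2 := congrArg g hz
  simp only [map_sub, map_mul, map_one, hg, map_ofNat] at e1 e2
  have e3 : g y = -1 := by
    have : (2 : R) * (g y + 1) = 2 * 0 := by linear_combination -e1
    have := h2reg.left this
    linear_combination this
  rw [e3] at e2
  exact h2u (IsUnit.of_mul_eq_one (g z) (by linear_combination -e2))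

/-- In a smooth algebra over a ring `R` with `R ⧸ (2)` reduced, the ideal `(2)` is radical. -/
theorem isRadical_span_two (R B : Type u) [CommRing R] [CommRing B] [Algebra R B]
    [Algebra.Smooth R B] (h : IsReduced (R ⧸ Ideal.span {(2 : R)})) :
    (Ideal.span {(2 : B)}).IsRadical := by
  let I : Ideal R := Ideal.span {2}
  haveI : IsReduced (R ⧸ I) := h
  haveI : Algebra.Smooth (R ⧸ I) (B ⧸ I.map (algebraMap R B)) :=
    Algebra.Smooth.of_equiv (Algebra.TensorProduct.quotIdealMapEquivQuotTensor B I).symm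
  have hred : IsReduced (B ⧸ I.map (algebraMap R B)) :=
    Groth.Agent.Lib.Helper24.isReduced_of_smooth_ring (R ⧸ I) _
  have hmap : I.map (algebraMap R B) = Ideal.span {(2 : B)} := by
    rw [Ideal.map_span, Set.image_singleton, map_ofNat]
  rw [← hmap, Ideal.isRadical_iff_quotient_reduced]
  exact hred

end PureAlg

end Helper25.SOSplit

namespace Helper25.AffRep

variable {R : Type u} [CommRing R]

theorem isReduced_of_isIso {G : Over (Spec (CommRingCat.of R))} (B : Type u) [CommRing B]
    [Algebra R B] (y₀ : QuadGrp.specOver R B ⟶ G) [IsIso y₀] [_root_.IsReduced B] :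
    AlgebraicGeometry.IsReduced G.left := by
  haveI : IsIso y₀.left := inferInstanceAs (IsIso ((Over.forget _).map y₀))
  haveI : AlgebraicGeometry.IsReduced (QuadGrp.specOver R B).left :=
    (affine_isReduced_iff (CommRingCat.of B)).mpr ‹_›
  exact isReduced_of_isOpenImmersion (inv y₀.left)

theorem flat_of_isIso {G : Over (Spec (CommRingCat.of R))} (B : Type u) [CommRing B] [Algebra R B]
    (y₀ : QuadGrp.specOver R B ⟶ G) [IsIso y₀] (h : Flat G.hom) : Module.Flat R B := by
  have hw : y₀.left ≫ G.hom = Spec.map (CommRingCat.ofHom (algebraMap R B)) := Over.w y₀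
  haveI : IsIso y₀.left := inferInstanceAs (IsIso ((Over.forget _).map y₀))
  have h1 : Flat (y₀.left ≫ G.hom) := inferInstance
  rw [hw] at h1
  have h2 : Flat (Spec.map (CommRingCat.ofHom (algebraMap R B))) := h1
  rw [Flat.SpecMap_iff] at h2
  exact RingHom.flat_algebraMap_iff.mp h2

end Helper25.AffRep

namespace Helper25.GLsub

open MvPolynomial Helper25.PolyRep Matrix Helper25.QuadMat

section Iso

variable {R : Type u} [CommRing R] {ι : Type} [Fintype ι] [DecidableEq ι] {τ : Type}
  (rels : τ → MvPolynomial (ι × ι) R)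
variable {S : ∀ (A : Type u) [CommRing A] [Algebra R A],
  Subgroup ((A ⊗[R] (ι → R)) ≃ₗ[A] (A ⊗[R] (ι → R)))}

/-- A group scheme pinned to a subgroup functor of `GL_n` cut out by polynomial equations is the
spectrum of the representing algebra. -/
theorem exists_isIso {G : Over (Spec (CommRingCat.of R))} [GrpObj G]
    (D : QuadGrp.LinRep R (ι → R) S G)
    (hS : ∀ (A : Type u) [CommRing A] [Algebra R A]
      (g : (A ⊗[R] (ι → R)) ≃ₗ[A] (A ⊗[R] (ι → R))), g ∈ S A ↔ toMat g ∈ pts rels A) :
    ∃ y₀ : QuadGrp.specOver R (Alg rels) ⟶ G, IsIso y₀ := by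
  refine Helper25.AffRep.LinRep.exists_isIso D (Alg rels)
    (fun A _ _ => (rep rels A).trans (ptsEquiv rels hS A)) ?_
  intro A A' _ _ _ _ φ f m
  simp only [Equiv.trans_apply]
  change ofMat R (rep rels A' (φ.comp f)).1 (rep rels A' (φ.comp f)).2.1 (1 ⊗ₜ[R] m) =
    LinearMap.rTensor (ι → R) φ.toLinearMap
      (ofMat R (rep rels A f).1 (rep rels A f).2.1 (1 ⊗ₜ[R] m))
  have h1 := rep_comp rels φ f
  have h2 : IsUnit ((rep rels A f).1.map φ).det := by rw [← h1]; exact (rep rels A' (φ.comp f)).2.1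
  rw [← rTensor_ofMat_one_tmul φ (rep rels A f).1 (rep rels A f).2.1 h2]
  congr 1

end Iso

section SO

variable {R : Type u} [CommRing R] {ι : Type} [Fintype ι] [DecidableEq ι]
  (N : Matrix ι ι R)

/-- The universal orthogonal matrix. -/
noncomputable def univO : Matrix ι ι (Alg (orthRels N)) :=
  (rep (orthRels N) (Alg (orthRels N)) (AlgHom.id R _)).1

theorem univO_mem : univO N ∈ pts (orthRels N) (Alg (orthRels N)) :=
  (rep (orthRels N) (Alg (orthRels N)) (AlgHom.id R _)).2

theorem rep_orth_eq {A : Type*} [CommRing A] [Algebra R A] (f : Alg (orthRels N) →ₐ[R] A) :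
    (rep (orthRels N) A f).1 = (univO N).map f := by
  have := rep_comp (orthRels N) f (AlgHom.id R _)
  rwa [AlgHom.comp_id] at this

/-- The universal special orthogonal matrix. -/
noncomputable def univSO : Matrix ι ι (Alg (sorthRels N)) :=
  (rep (sorthRels N) (Alg (sorthRels N)) (AlgHom.id R _)).1

theorem univSO_mem : univSO N ∈ pts (sorthRels N) (Alg (sorthRels N)) :=
  (rep (sorthRels N) (Alg (sorthRels N)) (AlgHom.id R _)).2

theorem rep_sorth_eq {A : Type*} [CommRing A] [Algebra R A] (f : Alg (sorthRels N) →ₐ[R] A) :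
    (rep (sorthRels N) A f).1 = (univSO N).map f := by
  have := rep_comp (sorthRels N) f (AlgHom.id R _)
  rwa [AlgHom.comp_id] at this

/-- The coordinate ring of the naive special orthogonal group is the quotient of the coordinate
ring of the orthogonal group by `det - 1`. -/
theorem nonempty_sorthAlgEquiv :
    Nonempty ((Alg (orthRels N) ⧸ Ideal.span {(univO N).det - 1}) ≃ₐ[R] Alg (sorthRels N)) := by
  let I : Ideal (Alg (orthRels N)) := Ideal.span {(univO N).det - 1}
  let C := Alg (orthRels N) ⧸ I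
  let mk : Alg (orthRels N) →ₐ[R] C := Ideal.Quotient.mkₐ R I
  let ψ : Alg (orthRels N) →ₐ[R] Alg (sorthRels N) :=
    (rep (orthRels N) (Alg (sorthRels N))).symm
      ⟨univSO N, ((mem_pts_sorthRels N _).mp (univSO_mem N)).1⟩
  have hψ : (univO N).map ψ = univSO N := by
    rw [← rep_orth_eq]
    simp only [ψ, Equiv.apply_symm_apply]
  have hψd : ψ ((univO N).det - 1) = 0 := by
    rw [map_sub, map_one, AlgHom.map_det]
    have : ψ.mapMatrix (univO N) = (univO N).map ψ := rfl
    rw [this, hψ, ((mem_pts_sorthRels N _).mp (univSO_mem N)).2, sub_self]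
  let ψ' : C →ₐ[R] Alg (sorthRels N) :=
    Ideal.Quotient.liftₐ I ψ (by
      intro a ha
      obtain ⟨z, rfl⟩ := Ideal.mem_span_singleton'.mp ha
      rw [map_mul, hψd, mul_zero])
  have hmk : (univO N).map mk ∈ pts (sorthRels N) C := by
    rw [mem_pts_sorthRels]
    constructor
    · rw [← rep_orth_eq N (A := C) mk]
      exact (rep (orthRels N) _ _).2
    · have : ((univO N).map mk).det = mk (univO N).det := by
        exact (RingHom.map_det (S := C) mk.toRingHom (univO N)).symm
      rw [this]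
      have h0 : mk ((univO N).det - 1) = 0 :=
        Ideal.Quotient.eq_zero_iff_mem.mpr (Ideal.subset_span rfl)
      rw [map_sub, map_one, sub_eq_zero] at h0
      exact h0
  let χ : Alg (sorthRels N) →ₐ[R] C :=
    (rep (sorthRels N) C).symm ⟨_, hmk⟩
  have hχ : (univSO N).map χ = (univO N).map mk := by
    rw [← rep_sorth_eq N (A := C) χ]
    simp only [χ, Equiv.apply_symm_apply]
  have hψ'mk : ψ'.comp mk = ψ := by
    ext a
    rfl
  refine ⟨AlgEquiv.ofAlgHom ψ' χ ?_ ?_⟩
  · apply (rep (sorthRels N) _).injective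
    apply Subtype.ext
    rw [rep_comp (A := C) (A' := Alg (sorthRels N)) (sorthRels N) ψ' χ, rep_sorth_eq N (A := C) χ,
      hχ, Matrix.map_map, rep_sorth_eq]
    have : (⇑ψ' ∘ ⇑mk) = ⇑ψ := by
      funext a; rfl
    rw [this, hψ]
    ext i j
    rfl
  · apply Ideal.Quotient.algHom_ext
    change (χ.comp ψ').comp mk = (AlgHom.id R C).comp mk
    apply (rep (orthRels N) C).injective
    apply Subtype.ext
    rw [AlgHom.comp_assoc, hψ'mk, rep_comp (A := Alg (sorthRels N)) (A' := C) (orthRels N) χ ψ,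
      rep_orth_eq, hψ, hχ, AlgHom.id_comp, rep_orth_eq N (A := C) mk]

end SO

end Helper25.GLsub
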