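import Mathlib
import Groth.Agent.Lib.Helper25.SOEvenLift
import Groth.Agent.Lib.Helper25.SOSplitAlg
import Groth.Agent.Lib.Helper25.SOOddConn

/-!
# The special orthogonal group of a regular form of even rank is represented by a quotient of the
coordinate ring of the orthogonal group by finitely many equations
-/

set_option autoImplicit false
set_option linter.style.haveILetI false
set_option linter.unusedSectionVars false
set_option linter.unusedVariables false
universe u

namespace Helper25.SOEven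

open CliffordAlgebra QuadGrp Helper25.Cliff Helper25.AzTransport Helper25.CliffBCF
  Helper25.GLsub Helper25.QuadMat Helper25.GPinLift
open scoped TensorProduct

section General

variable {R' : Type*} [CommRing R'] {M' : Type*} [AddCommGroup M'] [Module R' M']
  (Q' : QuadraticForm R' M')

theorem isDicksonTrivial_congr {g g' : M' ≃ₗ[R'] M'} (h : g = g') (hg : g ∈ O Q') (hg' : g' ∈ O Q')
    (hD : IsDicksonTrivial Q' g hg) : IsDicksonTrivial Q' g' hg' := by
  subst h
  exact hD

end General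

variable {R : Type u} [CommRing R] (m : ℕ) (Q : QuadraticForm R (Fin (2 * m) → R))
  (N : Matrix (Fin (2 * m)) (Fin (2 * m)) R)

/-- Membership in `SO(q)(A)` in even rank is the Dickson condition, for every `A`. -/
theorem mem_sorth_iff {A : Type u} [CommRing A] [Algebra R A]
    (G : (A ⊗[R] (Fin (2 * m) → R)) ≃ₗ[A] (A ⊗[R] (Fin (2 * m) → R))) :
    G ∈ sorth Q A ↔ ∃ hG : G ∈ O (baseChangeForm A Q),
      IsDicksonTrivial (baseChangeForm A Q) G hG := by
  unfold sorth SO
  rcases subsingleton_or_nontrivial A with hA | hA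
  · haveI : Subsingleton (CliffordAlgebra (baseChangeForm A Q)) := Module.subsingleton A _
    have h1 : G ∈ O (baseChangeForm A Q) := fun v => Subsingleton.elim _ _
    have h2 : IsDicksonTrivial (baseChangeForm A Q) G h1 := fun z _ => Subsingleton.elim _ _
    refine ⟨fun _ => ⟨h1, h2⟩, fun _ => ?_⟩
    split_ifs
    · exact ⟨h1, h2⟩
    · refine ⟨h1, ?_⟩
      show LinearEquiv.det G = 1
      exact Subsingleton.elim _ _
  · have hev : Even (Module.finrank A (A ⊗[R] (Fin (2 * m) → R))) := by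
      rw [Module.finrank_eq_card_basis (bA R (Fin (2 * m)) A), Fintype.card_fin]
      exact ⟨m, by ring⟩
    rw [if_pos hev]
    rfl

variable {Q N} (hN : ∀ v, Q v = qf N v)

include hN in
theorem ofMat_mem_O {A : Type u} [CommRing A] [Algebra R A]
    {g : Matrix (Fin (2 * m)) (Fin (2 * m)) A} (hg : g ∈ pts (orthRels N) A) :
    ofMat R g hg.1 ∈ O (baseChangeForm A Q) := by
  rw [mem_O_baseChangeForm_iff, mem_orth_iff Q N hN, toMat_ofMat]
  exact hg

variable (Q N)

/-- The matrices of the points of `SO(q)`. -/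
def Pso (A : Type u) [CommRing A] [Algebra R A] : Set (Matrix (Fin (2 * m)) (Fin (2 * m)) A) :=
  {g | ∃ G ∈ sorth Q A, toMat G = g}

variable {Q N}

include hN in
theorem mem_Pso_iff {A : Type u} [CommRing A] [Algebra R A]
    (g : Matrix (Fin (2 * m)) (Fin (2 * m)) A) :
    g ∈ Pso m Q A ↔ ∃ hg : g ∈ pts (orthRels N) A,
      IsDicksonTrivial (baseChangeForm A Q) (ofMat R g hg.1) (ofMat_mem_O m hN hg) := by
  constructor
  · rintro ⟨G, hG, rfl⟩
    obtain ⟨hO, hD⟩ := (mem_sorth_iff m Q G).mp hG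
    have hg : toMat G ∈ pts (orthRels N) A := by
      rw [← mem_orth_iff Q N hN, ← mem_O_baseChangeForm_iff]
      exact hO
    exact ⟨hg, isDicksonTrivial_congr _ (ofMat_toMat G).symm hO _ hD⟩
  · rintro ⟨hg, hD⟩
    exact ⟨ofMat R g hg.1, (mem_sorth_iff m Q _).mpr ⟨_, hD⟩, toMat_ofMat g hg.1⟩

include hN in
theorem Pso_subset {A : Type u} [CommRing A] [Algebra R A]
    {g : Matrix (Fin (2 * m)) (Fin (2 * m)) A} (hg : g ∈ Pso m Q A) : g ∈ pts (orthRels N) A :=
  ((mem_Pso_iff m hN g).mp hg).1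

theorem one_mem_Pso {A : Type u} [CommRing A] [Algebra R A] : (1 : Matrix _ _ A) ∈ Pso m Q A := by
  refine ⟨1, one_mem _, ?_⟩
  unfold toMat
  exact LinearMap.toMatrix_one _

theorem mul_mem_Pso {A : Type u} [CommRing A] [Algebra R A]
    {g h : Matrix (Fin (2 * m)) (Fin (2 * m)) A} (hg : g ∈ Pso m Q A) (hh : h ∈ Pso m Q A) :
    g * h ∈ Pso m Q A := by
  obtain ⟨G, hG, rfl⟩ := hg
  obtain ⟨H, hH, rfl⟩ := hh
  refine ⟨G * H, mul_mem hG hH, ?_⟩
  unfold toMat
  exact LinearMap.toMatrix_mul _ _ _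

theorem inv_mem_Pso {A : Type u} [CommRing A] [Algebra R A]
    {g : Matrix (Fin (2 * m)) (Fin (2 * m)) A} (hg : g ∈ Pso m Q A) :
    g⁻¹ ∈ Pso m Q A := by
  obtain ⟨G, hG, rfl⟩ := hg
  refine ⟨G⁻¹, inv_mem hG, ?_⟩
  have h1 : toMat G⁻¹ * toMat G = 1 := by
    unfold toMat
    rw [← LinearMap.toMatrix_mul]
    have : (G⁻¹ : (A ⊗[R] (Fin (2 * m) → R)) ≃ₗ[A] _).toLinearMap * G.toLinearMap = 1 := by
      apply LinearMap.ext
      intro v
      exact G.symm_apply_apply v
    rw [this]
    exact LinearMap.toMatrix_one _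
  exact (Matrix.inv_eq_left_inv h1).symm

section Compat

variable {A A' : Type u} [CommRing A] [Algebra R A] [CommRing A'] [Algebra R A']

theorem ofMat_compat (φ : A →ₐ[R] A') (g : Matrix (Fin (2 * m)) (Fin (2 * m)) A)
    (h : IsUnit g.det) (h' : IsUnit (g.map φ).det) (v : A ⊗[R] (Fin (2 * m) → R)) :
    ofMat R (g.map φ) h' (LinearMap.rTensor (Fin (2 * m) → R) φ.toLinearMap v) =
      LinearMap.rTensor (Fin (2 * m) → R) φ.toLinearMap (ofMat R g h v) :=
  compat_of_one_tmul φ _ _ (fun m' => rTensor_ofMat_one_tmul φ g h h' m') v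

theorem Fcan_jA (φ : A →ₐ[R] A') (x : CliffordAlgebra Q) :
    Fcan Q φ (jA Q A x) = jA Q A' x := by
  rw [jA_apply, Fcan_Psi, Algebra.TensorProduct.map_tmul, map_one, jA_apply]
  rfl

include hN in
/-- The infinitesimal openness of the Dickson condition, for matrices. -/
theorem Pso_of_map (hm : 1 ≤ m) (hQ : Function.Surjective (QuadraticMap.polarBilin Q))
    (φ : A →ₐ[R] A') (hφ : Function.Surjective φ)
    (hker : ∀ a b : A, φ a = 0 → φ b = 0 → a * b = 0)
    (g : Matrix (Fin (2 * m)) (Fin (2 * m)) A) (hg : g ∈ pts (orthRels N) A)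
    (hg' : g.map φ ∈ Pso m Q A') : g ∈ Pso m Q A := by
  rcases subsingleton_or_nontrivial A with hA | hA
  · rw [mem_Pso_iff m hN]
    haveI : Subsingleton (CliffordAlgebra (baseChangeForm A Q)) := Module.subsingleton A _
    exact ⟨hg, fun z _ => Subsingleton.elim _ _⟩
  haveI : Nontrivial R := (algebraMap R A).domain_nontrivial
  have hV : Module.finrank R (Fin (2 * m) → R) = 2 * m := Module.finrank_fin_fun R
  rw [mem_Pso_iff m hN] at hg' ⊢
  obtain ⟨hg1, hD'⟩ := hg'
  refine ⟨hg, ?_⟩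
  exact isDicksonTrivial_of_map Q m hm hV hQ φ hφ hker _ (ofMat_mem_O m hN hg) _
    (ofMat_mem_O m hN hg1) (ofMat_compat m φ g hg.1 hg1.1) hD'

end Compat

end Helper25.SOEven
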