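import Mathlib
import Groth.Agent.Lib.Helper25.GLsub

/-!
# Tangent spaces of closed subfunctors of `GL_n` through dual numbers
-/

set_option autoImplicit false
set_option linter.style.haveILetI false
set_option linter.unusedSectionVars false
universe u

namespace Helper25.Tangent

open Matrix Helper25.GLsub TrivSqZeroExt

section Lift

variable {R B K : Type*} [CommRing R] [CommRing B] [Algebra R B]
  [Field K] [Algebra B K] [Algebra R K] [IsScalarTower R B K]

/-- The lift to the dual numbers defined by a derivation. -/
noncomputable def liftOfDer (D : Derivation R B K) : B →ₐ[R] TrivSqZeroExt K K where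
  toFun b := inl (algebraMap B K b) + inr (D b)
  map_one' := by simp
  map_mul' a b := by
    apply TrivSqZeroExt.ext
    · simp only [map_mul, Derivation.leibniz, fst_add, fst_inl, fst_inr, add_zero, fst_mul]
    · simp only [map_mul, Derivation.leibniz, snd_add, snd_inl, snd_inr, zero_add, snd_mul,
        fst_add, fst_inl, fst_inr, add_zero, Algebra.smul_def,
        MulOpposite.smul_eq_mul_unop, MulOpposite.unop_op, Algebra.algebraMap_self_apply]
      ring
  map_zero' := by simp
  map_add' a b := by
    apply TrivSqZeroExt.ext
    · simp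
    · simp
  commutes' r := by
    apply TrivSqZeroExt.ext
    · simp [TrivSqZeroExt.algebraMap_eq_inl', ← IsScalarTower.algebraMap_apply]
    · simp [TrivSqZeroExt.algebraMap_eq_inl']

theorem liftOfDer_apply (D : Derivation R B K) (b : B) :
    liftOfDer D b = inl (algebraMap B K b) + inr (D b) := rfl

@[simp] theorem fst_liftOfDer (D : Derivation R B K) (b : B) :
    (liftOfDer D b).fst = algebraMap B K b := by
  rw [liftOfDer_apply, fst_add, fst_inl, fst_inr, add_zero]

@[simp] theorem snd_liftOfDer (D : Derivation R B K) (b : B) :
    (liftOfDer D b).snd = D b := by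
  rw [liftOfDer_apply, snd_add, snd_inl, snd_inr, zero_add]

/-- The derivation defined by a lift to the dual numbers. -/
noncomputable def derOfLift (ψ : B →ₐ[R] TrivSqZeroExt K K)
    (hψ : ∀ b, (ψ b).fst = algebraMap B K b) : Derivation R B K :=
  Derivation.mk'
    { toFun := fun b => (ψ b).snd
      map_add' := fun a b => by simp
      map_smul' := fun r b => by simp }
    (fun a b => by
      simp only [LinearMap.coe_mk, AddHom.coe_mk, map_mul, TrivSqZeroExt.snd_mul, hψ,
        Algebra.smul_def, MulOpposite.smul_eq_mul_unop, MulOpposite.unop_op,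
        Algebra.algebraMap_self_apply]
      ring)

@[simp] theorem derOfLift_apply (ψ : B →ₐ[R] TrivSqZeroExt K K)
    (hψ : ∀ b, (ψ b).fst = algebraMap B K b) (b : B) : derOfLift ψ hψ b = (ψ b).snd := rfl

end Lift

section Main

variable {R : Type u} [CommRing R] {ι : Type} [Fintype ι] [DecidableEq ι] {τ : Type}
  (rels : τ → MvPolynomial (ι × ι) R)
  {K : Type*} [Field K] [Algebra R K] [Algebra (Alg rels) K] [IsScalarTower R (Alg rels) K]

/-- The universal matrix. -/
noncomputable def univ : Matrix ι ι (Alg rels) := (rep rels (Alg rels) (AlgHom.id R _)).1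

theorem rep_eq_univ_map {A : Type*} [CommRing A] [Algebra R A] (f : Alg rels →ₐ[R] A) :
    (rep rels A f).1 = (univ rels).map f := by
  have := rep_comp rels f (AlgHom.id R _)
  rwa [AlgHom.comp_id] at this

/-- The matrix of the `K`-point. -/
noncomputable def ptMat : Matrix ι ι K := (univ rels).map (algebraMap (Alg rels) K)

/-- The values of a derivation on the coordinate functions. -/
noncomputable def Θ : Derivation R (Alg rels) K →ₗ[K] Matrix ι ι K where
  toFun D := Matrix.of fun i j => D (univ rels i j)
  map_add' D D' := by ext i j; simp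
  map_smul' c D := by ext i j; simp

theorem rep_liftOfDer (D : Derivation R (Alg rels) K) :
    (rep rels (TrivSqZeroExt K K) (liftOfDer D)).1 =
      (ptMat rels (K := K)).map inl + (Θ rels D).map inr := by
  rw [rep_eq_univ_map]
  ext i j
  · simp only [Matrix.map_apply, Matrix.add_apply, liftOfDer_apply, ptMat, Θ, LinearMap.coe_mk,
      AddHom.coe_mk, Matrix.of_apply]
  · simp only [Matrix.map_apply, Matrix.add_apply, liftOfDer_apply, ptMat, Θ, LinearMap.coe_mk,
      AddHom.coe_mk, Matrix.of_apply]

theorem Θ_injective : Function.Injective (Θ rels (K := K)) := by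
  intro D D' h
  have h1 : liftOfDer D = liftOfDer D' := by
    apply (rep rels (TrivSqZeroExt K K)).injective
    apply Subtype.ext
    rw [rep_liftOfDer, rep_liftOfDer, h]
  apply Derivation.ext
  intro b
  have := congrArg (fun ψ => (ψ b).snd) h1
  simpa using this

theorem range_Θ (T : Submodule K (Matrix ι ι K))
    (hT : ∀ Y, Y ∈ T ↔ ((ptMat rels (K := K)).map inl + Y.map inr) ∈
      pts rels (TrivSqZeroExt K K)) :
    LinearMap.range (Θ rels (K := K)) = T := by
  ext Y
  rw [hT]
  constructor
  · rintro ⟨D, rfl⟩
    rw [← rep_liftOfDer]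
    exact (rep rels (TrivSqZeroExt K K) (liftOfDer D)).2
  · intro hY
    let ψ : Alg rels →ₐ[R] TrivSqZeroExt K K := (rep rels (TrivSqZeroExt K K)).symm ⟨_, hY⟩
    have hψmat : (univ rels).map ψ = (ptMat rels (K := K)).map inl + Y.map inr := by
      rw [← rep_eq_univ_map]
      simp only [ψ, Equiv.apply_symm_apply]
    have hfst : (TrivSqZeroExt.fstHom R K K).comp ψ = IsScalarTower.toAlgHom R (Alg rels) K := by
      apply (rep rels K).injective
      apply Subtype.ext
      rw [rep_comp, rep_eq_univ_map, rep_eq_univ_map, hψmat]
      ext i j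
      simp [ptMat]
    have hψ : ∀ b, (ψ b).fst = algebraMap (Alg rels) K b := fun b => by
      have := congrArg (fun f => f b) hfst
      simpa using this
    refine ⟨derOfLift ψ hψ, ?_⟩
    ext i j
    have := congrArg (fun M : Matrix ι ι (TrivSqZeroExt K K) => (M i j).snd) hψmat
    simpa [Θ] using this

/-- The dimension of the space of derivations at a `K`-point equals the dimension of the tangent
space computed by dual numbers. -/
theorem finrank_der_eq (T : Submodule K (Matrix ι ι K))
    (hT : ∀ Y, Y ∈ T ↔ ((ptMat rels (K := K)).map inl + Y.map inr) ∈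
      pts rels (TrivSqZeroExt K K)) :
    Module.finrank K (Derivation R (Alg rels) K) = Module.finrank K T := by
  rw [← range_Θ rels T hT]
  exact (LinearMap.finrank_range_of_inj (Θ_injective rels)).symm

end Main

end Helper25.Tangent
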