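import Mathlib
import Groth.Agent.Lib.Helper25.TangentGLsub
import Groth.Agent.Lib.Helper25.LieDim
import Groth.Agent.Lib.Helper25.SOOddConn

/-!
# The tangent spaces of the naive special orthogonal group
-/

set_option autoImplicit false
set_option linter.style.haveILetI false
set_option linter.unusedSectionVars false
universe u

namespace Helper25.SOTangent

open Matrix Helper25.QuadMat Helper25.GLsub Helper25.Tangent Helper25.LieDim TrivSqZeroExt
  Helper25.SOFam

section Dual

variable {K : Type*} [Field K] {ι : Type*} [Fintype ι] [DecidableEq ι]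

theorem map_inl_mul_map_inl (A B : Matrix ι ι K) :
    A.map (inl : K → TrivSqZeroExt K K) * B.map inl = (A * B).map inl := by
  ext i j
  · simp [Matrix.mul_apply, fst_sum]
  · simp [Matrix.mul_apply, snd_sum]

theorem map_inl_mul_map_inr (A X : Matrix ι ι K) :
    A.map (inl : K → TrivSqZeroExt K K) * X.map inr = (A * X).map inr := by
  ext i j
  · simp [Matrix.mul_apply, fst_sum]
  · simp [Matrix.mul_apply, snd_sum]
    exact Finset.sum_congr rfl fun k _ => mul_comm _ _

theorem map_inr_mul_map_inl (X A : Matrix ι ι K) :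
    X.map (inr : K → TrivSqZeroExt K K) * A.map inl = (X * A).map inr := by
  ext i j
  · simp [Matrix.mul_apply, fst_sum]
  · simp [Matrix.mul_apply, snd_sum]

theorem map_inr_mul_map_inr (X Y : Matrix ι ι K) :
    X.map (inr : K → TrivSqZeroExt K K) * Y.map inr = 0 := by
  ext i j
  · simp [Matrix.mul_apply]
  · simp [Matrix.mul_apply]

theorem map_inl_one : (1 : Matrix ι ι K).map (inl : K → TrivSqZeroExt K K) = 1 := by
  ext i j
  · by_cases h : i = j <;> simp [Matrix.one_apply, h]
  · by_cases h : i = j <;> simp [Matrix.one_apply, h]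

theorem det_one_add_map_inr (X : Matrix ι ι K) :
    (1 + X.map (inr : K → TrivSqZeroExt K K)).det = 1 + inr (trace X) := by
  have h1 : X.map (inr : K → TrivSqZeroExt K K) =
      (inr 1 : TrivSqZeroExt K K) • X.map (inl : K → TrivSqZeroExt K K) := by
    ext i j
    · simp
    · simp
  have h2 : (inr 1 : TrivSqZeroExt K K) ^ 2 = 0 := by
    rw [pow_two, inr_mul_inr]
  have h3 : trace (X.map (inl : K → TrivSqZeroExt K K)) = inl (trace X) := by
    simp only [trace, diag_apply, Matrix.map_apply]
    rw [inl_sum]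
  rw [h1, det_one_add_smul, h2, mul_zero, add_zero, h3]
  congr 1
  apply TrivSqZeroExt.ext
  · simp
  · simp

theorem qeq_map_inl_add_map_inr_iff (A M : Matrix ι ι K) :
    QEq (A.map (inl : K → TrivSqZeroExt K K) + M.map inr) (A.map inl) ↔ QEq M 0 := by
  constructor
  · intro h
    refine ⟨fun i => ?_, fun i j => ?_⟩
    · have := congrArg TrivSqZeroExt.snd (h.diag i)
      simpa using this
    · have := congrArg TrivSqZeroExt.snd (h.polar i j)
      simpa using this
  · intro h
    refine ⟨fun i => ?_, fun i j => ?_⟩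
    · have := h.diag i
      simp only [Matrix.zero_apply] at this
      simp [this]
    · have := h.polar i j
      simp only [Matrix.zero_apply, add_zero] at this
      simp only [Matrix.add_apply, Matrix.map_apply]
      have e1 : (inl (A i j) + inr (M i j) + (inl (A j i) + inr (M j i)) : TrivSqZeroExt K K) =
          inl (A i j) + inl (A j i) + inr (M i j + M j i) := by
        rw [inr_add]; abel
      rw [e1, this, inr_zero, add_zero]

end Dual

section Inv

variable {R : Type u} [CommRing R] {ι : Type} [Fintype ι] [DecidableEq ι] (N : Matrix ι ι R)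
  {A : Type*} [CommRing A] [Algebra R A]

theorem inv_mem_sorth {g : Matrix ι ι A} (hg : g ∈ pts (sorthRels N) A) :
    g⁻¹ ∈ pts (sorthRels N) A := by
  rw [mem_pts_sorthRels, mem_pts_orthRels] at *
  obtain ⟨⟨hu, hq⟩, hd⟩ := hg
  have h1 : g * g⁻¹ = 1 := Matrix.mul_nonsing_inv g hu
  refine ⟨⟨?_, ?_⟩, ?_⟩
  · rw [Matrix.det_nonsing_inv]; exact (Ring.inverse_unit hu.unit ▸ (hu.unit⁻¹).isUnit)
  · have := (hq.conj g⁻¹).symm
    have e1 : g⁻¹ᵀ * (gᵀ * N.map (algebraMap R A) * g) * g⁻¹ = N.map (algebraMap R A) := by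
      have : g⁻¹ᵀ * gᵀ = 1 := by rw [← Matrix.transpose_mul, h1, Matrix.transpose_one]
      rw [← Matrix.mul_assoc, ← Matrix.mul_assoc, this, Matrix.one_mul, Matrix.mul_assoc, h1,
        Matrix.mul_one]
    rw [e1] at this
    exact this
  · rw [Matrix.det_nonsing_inv, hd]; simp

theorem map_mem_pts {τ : Type} (rels : τ → MvPolynomial (ι × ι) R) {A' : Type*} [CommRing A']
    [Algebra R A'] (φ : A →ₐ[R] A') {g : Matrix ι ι A} (hg : g ∈ pts rels A) :
    g.map φ ∈ pts rels A' := by
  have := rep_comp rels φ ((rep rels A).symm ⟨g, hg⟩)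
  rw [Equiv.apply_symm_apply] at this
  rw [← this]
  exact (rep rels A' _).2

end Inv

section Main

variable {R : Type u} [CommRing R] {ι : Type} [Fintype ι] [DecidableEq ι] (N : Matrix ι ι R)
  {K : Type*} [Field K] [Algebra R K]

theorem one_add_map_inr_mem_iff (X : Matrix ι ι K) :
    (1 + X.map (inr : K → TrivSqZeroExt K K)) ∈ pts (sorthRels N) (TrivSqZeroExt K K) ↔
      X ∈ Lie (N.map (algebraMap R K) + (N.map (algebraMap R K))ᵀ) := by
  set NK := N.map (algebraMap R K) with hNK
  have hNE : N.map (algebraMap R (TrivSqZeroExt K K)) = NK.map inl := by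
    rw [hNK, Matrix.map_map]
    ext i j
    · simp [TrivSqZeroExt.algebraMap_eq_inl']
    · simp [TrivSqZeroExt.algebraMap_eq_inl']
  rw [mem_pts_sorthRels, mem_pts_orthRels, det_one_add_map_inr, hNE, mem_Lie]
  have hconj : (1 + X.map (inr : K → TrivSqZeroExt K K))ᵀ * NK.map inl * (1 + X.map inr) =
      NK.map inl + (NK * X + Xᵀ * NK).map inr := by
    have e1 : (1 + X.map (inr : K → TrivSqZeroExt K K))ᵀ = 1 + Xᵀ.map inr := by
      rw [Matrix.transpose_add, Matrix.transpose_one, Matrix.transpose_map]
    have e2 : (NK * X + Xᵀ * NK).map (inr : K → TrivSqZeroExt K K) =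
        (NK * X).map inr + (Xᵀ * NK).map inr := by
      ext i j
      · simp
      · simp
    rw [e1, e2]
    calc (1 + Xᵀ.map (inr : K → TrivSqZeroExt K K)) * NK.map inl * (1 + X.map inr)
        = NK.map inl + NK.map inl * X.map inr + Xᵀ.map inr * NK.map inl +
            Xᵀ.map inr * NK.map inl * X.map inr := by
          simp only [Matrix.add_mul, Matrix.mul_add, Matrix.one_mul, Matrix.mul_one]; abel
      _ = NK.map inl + (NK * X).map inr + (Xᵀ * NK).map inr + 0 := by
          rw [map_inl_mul_map_inr, map_inr_mul_map_inl, map_inr_mul_map_inr]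
      _ = _ := by rw [add_zero, add_assoc]
  rw [hconj, qeq_map_inl_add_map_inr_iff]
  have hq : QEq (NK * X + Xᵀ * NK) ((NK + NKᵀ) * X) := by
    rw [Matrix.add_mul]
    refine QEq.add (QEq.refl _) ?_
    have : NKᵀ * X = (Xᵀ * NK)ᵀ := by
      rw [Matrix.transpose_mul, Matrix.transpose_transpose]
    rw [this]
    exact (QEq.transpose_self _).symm
  constructor
  · rintro ⟨⟨-, h1⟩, h2⟩
    refine ⟨hq.symm.trans h1, ?_⟩
    have := congrArg TrivSqZeroExt.snd h2
    simpa using this
  · rintro ⟨h1, h2⟩
    refine ⟨⟨?_, hq.trans h1⟩, ?_⟩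
    · rw [h2, inr_zero, add_zero]; exact isUnit_one
    · rw [h2, inr_zero, add_zero]

variable [Algebra (Alg (sorthRels N)) K] [IsScalarTower R (Alg (sorthRels N)) K]

theorem ptMat_mem : ptMat (sorthRels N) (K := K) ∈ pts (sorthRels N) K := by
  have h := rep_eq_univ_map (sorthRels N) (IsScalarTower.toAlgHom R (Alg (sorthRels N)) K)
  have : ptMat (sorthRels N) (K := K) =
      (rep (sorthRels N) K (IsScalarTower.toAlgHom R (Alg (sorthRels N)) K)).1 := by
    rw [h]; rfl
  rw [this]
  exact (rep (sorthRels N) K _).2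

/-- The tangent spaces of the naive special orthogonal group have the dimension of its Lie
algebra. -/
theorem finrank_der_sorth :
    Module.finrank K (Derivation R (Alg (sorthRels N)) K) =
      Module.finrank K (Lie (N.map (algebraMap R K) + (N.map (algebraMap R K))ᵀ)) := by
  set g := ptMat (sorthRels N) (K := K) with hg
  have hgmem : g ∈ pts (sorthRels N) K := ptMat_mem N
  have hgu : IsUnit g.det := hgmem.1
  have h1 : g * g⁻¹ = 1 := Matrix.mul_nonsing_inv g hgu
  have h2 : g⁻¹ * g = 1 := Matrix.nonsing_inv_mul g hgu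
  set L := Lie (N.map (algebraMap R K) + (N.map (algebraMap R K))ᵀ) with hL
  let Φ : Matrix ι ι K ≃ₗ[K] Matrix ι ι K :=
    { toFun := fun Y => g⁻¹ * Y
      invFun := fun X => g * X
      map_add' := fun X Y => Matrix.mul_add _ _ _
      map_smul' := fun c X => by simp
      left_inv := fun X => by
        show g * (g⁻¹ * X) = X
        rw [← Matrix.mul_assoc, h1, Matrix.one_mul]
      right_inv := fun X => by
        show g⁻¹ * (g * X) = X
        rw [← Matrix.mul_assoc, h2, Matrix.one_mul] }
  let T : Submodule K (Matrix ι ι K) := L.comap (Φ : Matrix ι ι K →ₗ[K] Matrix ι ι K)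
  have hT : ∀ Y, Y ∈ T ↔ (g.map inl + Y.map inr) ∈ pts (sorthRels N) (TrivSqZeroExt K K) := by
    intro Y
    let φ : K →ₐ[R] TrivSqZeroExt K K := TrivSqZeroExt.inlAlgHom R K K
    have hgE : g.map (inl : K → TrivSqZeroExt K K) ∈ pts (sorthRels N) (TrivSqZeroExt K K) :=
      map_mem_pts (sorthRels N) φ hgmem
    have hgE' : g⁻¹.map (inl : K → TrivSqZeroExt K K) ∈ pts (sorthRels N) (TrivSqZeroExt K K) :=
      map_mem_pts (sorthRels N) φ (inv_mem_sorth N hgmem)
    have hprod : g⁻¹.map (inl : K → TrivSqZeroExt K K) * (g.map inl + Y.map inr) =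
        1 + (g⁻¹ * Y).map inr := by
      rw [Matrix.mul_add, map_inl_mul_map_inl, map_inl_mul_map_inr, h2, map_inl_one]
    have hprod' : g.map (inl : K → TrivSqZeroExt K K) * (1 + (g⁻¹ * Y).map inr) =
        g.map inl + Y.map inr := by
      rw [Matrix.mul_add, Matrix.mul_one, map_inl_mul_map_inr, ← Matrix.mul_assoc, h1,
        Matrix.one_mul]
    show g⁻¹ * Y ∈ L ↔ _
    rw [hL, ← one_add_map_inr_mem_iff]
    constructor
    · intro h
      rw [← hprod']
      exact mul_mem_sorth N hgE h
    · intro h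
      rw [← hprod]
      exact mul_mem_sorth N hgE' h
  rw [Tangent.finrank_der_eq (sorthRels N) T hT]
  exact finrank_eq_of_equiv Φ T L (fun Y => Iff.rfl)

end Main

end Helper25.SOTangent
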