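import Mathlib
import Groth.Agent.Lib.Helper25.SOEvenRep
import Groth.Agent.Lib.Helper25.SOTangent

/-!
# The coordinate ring of the special orthogonal group of a regular form of even rank
-/

set_option autoImplicit false
set_option linter.style.haveILetI false
set_option linter.unusedSectionVars false
set_option linter.unusedVariables false
universe u

namespace Helper25.SOEven

open CliffordAlgebra QuadGrp Helper25.Cliff Helper25.AzTransport Helper25.CliffBCF
  Helper25.GLsub Helper25.QuadMat Helper25.GPinLift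
open scoped TensorProduct

variable {R : Type u} [CommRing R] (m : ℕ) {Q : QuadraticForm R (Fin (2 * m) → R)}
  {N : Matrix (Fin (2 * m)) (Fin (2 * m)) R} (hN : ∀ v, Q v = qf N v)

/-- The universal isometry. -/
noncomputable def G₀ (N : Matrix (Fin (2 * m)) (Fin (2 * m)) R) :
    (Alg (orthRels N) ⊗[R] (Fin (2 * m) → R)) ≃ₗ[Alg (orthRels N)]
      (Alg (orthRels N) ⊗[R] (Fin (2 * m) → R)) :=
  ofMat R (univO N) (univO_mem N).1

include hN in
theorem G₀_mem : G₀ m N ∈ O (baseChangeForm (Alg (orthRels N)) Q) :=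
  ofMat_mem_O m hN (univO_mem N)

/-- The defect of the Dickson condition for the universal isometry. -/
noncomputable def zeta (z : CliffordAlgebra Q) :
    CliffordAlgebra (baseChangeForm (Alg (orthRels N)) Q) :=
  cl _ (G₀ m N) (G₀_mem m hN) (jA Q (Alg (orthRels N)) z) - jA Q (Alg (orthRels N)) z

theorem zeta_add (z z' : CliffordAlgebra Q) : zeta m hN (z + z') = zeta m hN z + zeta m hN z' := by
  unfold zeta
  rw [map_add, map_add]
  abel

theorem zeta_smul (r : R) (z : CliffordAlgebra Q) : zeta m hN (r • z) = r • zeta m hN z := by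
  unfold zeta
  rw [map_smul, smul_sub]
  congr 1
  rw [← algebraMap_smul (Alg (orthRels N)) r (jA Q (Alg (orthRels N)) z), map_smul]
  exact algebraMap_smul (Alg (orthRels N)) r
    (cl (baseChangeForm (Alg (orthRels N)) Q) (G₀ m N) (G₀_mem m hN) (jA Q (Alg (orthRels N)) z))

theorem zeta_zero : zeta m hN (0 : CliffordAlgebra Q) = 0 := by
  unfold zeta
  rw [map_zero, map_zero, sub_zero]

/-- The ideal of the Dickson equations. -/
noncomputable def ID : Ideal (Alg (orthRels N)) :=
  Ideal.span {b | ∃ z : ↥(even Q), z ∈ Subalgebra.center R ↥(even Q) ∧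
    ∃ k, b = (βA Q (Alg (orthRels N))).repr (zeta m hN (z : CliffordAlgebra Q)) k}

variable {A : Type u} [CommRing A] [Algebra R A]

theorem map_univO_mem (f : Alg (orthRels N) →ₐ[R] A) : (univO N).map f ∈ pts (orthRels N) A :=
  Helper25.SOTangent.map_mem_pts (orthRels N) f (univO_mem N)

theorem Fcan_zeta (f : Alg (orthRels N) →ₐ[R] A) (z : CliffordAlgebra Q) :
    Fcan Q f (zeta m hN z) =
      cl _ (ofMat R ((univO N).map f) (map_univO_mem m f).1)
        (ofMat_mem_O m hN (map_univO_mem m f)) (jA Q A z) - jA Q A z := by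
  unfold zeta
  rw [map_sub, Fcan_map Q f (G₀ m N) (G₀_mem m hN) _ (ofMat_mem_O m hN (map_univO_mem m f))
    (ofMat_compat m f (univO N) (univO_mem N).1 (map_univO_mem m f).1), Fcan_jA]

/-- An algebra map out of the coordinate ring of the orthogonal group kills the Dickson equations
iff the corresponding point lies in the special orthogonal group. -/
theorem forall_mem_ID_iff (hm : 1 ≤ m) (hQ : Function.Surjective (QuadraticMap.polarBilin Q))
    (f : Alg (orthRels N) →ₐ[R] A) :
    (∀ x ∈ ID m hN, f x = 0) ↔ (univO N).map f ∈ Pso m Q A := by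
  rw [mem_Pso_iff m hN]
  rcases subsingleton_or_nontrivial A with hA | hA
  · haveI : Subsingleton (CliffordAlgebra (baseChangeForm A Q)) := Module.subsingleton A _
    exact ⟨fun _ => ⟨map_univO_mem m f, fun z _ => Subsingleton.elim _ _⟩,
      fun _ x _ => Subsingleton.elim _ _⟩
  haveI : Nontrivial R := (algebraMap R A).domain_nontrivial
  have hV : Module.finrank R (Fin (2 * m) → R) = 2 * m := Module.finrank_fin_fun R
  have h1 : (∀ x ∈ ID m hN, f x = 0) ↔ ∀ z : ↥(even Q), z ∈ Subalgebra.center R ↥(even Q) →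
      Fcan Q f (zeta m hN (z : CliffordAlgebra Q)) = 0 := by
    constructor
    · intro h z hz
      rw [Fcan_eq_zero_iff]
      intro k
      exact h _ (Ideal.subset_span ⟨z, hz, k, rfl⟩)
    · intro h x hx
      have hle : ID m hN ≤ RingHom.ker (f : Alg (orthRels N) →+* A) := by
        unfold ID
        rw [Ideal.span_le]
        rintro _ ⟨z, hz, k, rfl⟩
        exact (Fcan_eq_zero_iff Q f _).mp (h z hz) k
      exact hle hx
  rw [h1]
  constructor
  · intro h
    refine ⟨map_univO_mem m f, ?_⟩
    rw [isDicksonTrivial_baseChange_iff Q A m hm hV hQ]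
    intro z hz
    have := h z hz
    rw [Fcan_zeta, sub_eq_zero] at this
    exact this
  · rintro ⟨hg, hD⟩ z hz
    rw [isDicksonTrivial_baseChange_iff Q A m hm hV hQ] at hD
    rw [Fcan_zeta, sub_eq_zero]
    exact hD z hz

/-- The coordinate ring of the special orthogonal group. -/
def BSO : Type u := Alg (orthRels N) ⧸ ID m hN

noncomputable instance instCommRingBSO : CommRing (BSO m hN) :=
  inferInstanceAs (CommRing (Alg (orthRels N) ⧸ ID m hN))

noncomputable instance instAlgebraBSO : Algebra R (BSO m hN) :=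
  inferInstanceAs (Algebra R (Alg (orthRels N) ⧸ ID m hN))

/-- The quotient map. -/
noncomputable def mkB : Alg (orthRels N) →ₐ[R] BSO m hN := Ideal.Quotient.mkₐ R (ID m hN)

theorem mkB_surjective : Function.Surjective (mkB m hN) := Ideal.Quotient.mkₐ_surjective R _

theorem mkB_eq_zero {x : Alg (orthRels N)} (hx : x ∈ ID m hN) : mkB m hN x = 0 :=
  Ideal.Quotient.eq_zero_iff_mem.mpr hx

/-- The universal property. -/
noncomputable def liftB (f : Alg (orthRels N) →ₐ[R] A) (hf : ∀ x ∈ ID m hN, f x = 0) :
    BSO m hN →ₐ[R] A := Ideal.Quotient.liftₐ (ID m hN) f hf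

theorem liftB_comp (f : Alg (orthRels N) →ₐ[R] A) (hf : ∀ x ∈ ID m hN, f x = 0) :
    (liftB m hN f hf).comp (mkB m hN) = f := Ideal.Quotient.liftₐ_comp _ _ _

theorem algHom_ext_B {F F' : BSO m hN →ₐ[R] A}
    (h : F.comp (mkB m hN) = F'.comp (mkB m hN)) : F = F' := by
  apply AlgHom.ext
  intro x
  obtain ⟨y, rfl⟩ := mkB_surjective m hN x
  exact congrArg (fun G => G y) h

section Rep

variable (hm : 1 ≤ m) (hQ : Function.Surjective (QuadraticMap.polarBilin Q))

/-- Representability. -/
noncomputable def rp (A : Type u) [CommRing A] [Algebra R A] :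
    (BSO m hN →ₐ[R] A) ≃ Pso m Q A where
  toFun F := ⟨(univO N).map (F.comp (mkB m hN)),
    (forall_mem_ID_iff m hN hm hQ _).mp (fun x hx => by
      rw [AlgHom.comp_apply, mkB_eq_zero m hN hx, map_zero])⟩
  invFun g := liftB m hN
    ((rep (orthRels N) A).symm ⟨g.1, Pso_subset m hN g.2⟩) (by
      apply (forall_mem_ID_iff m hN hm hQ _).mpr
      rw [← rep_orth_eq, Equiv.apply_symm_apply]
      exact g.2)
  left_inv F := by
    apply algHom_ext_B
    rw [liftB_comp, Equiv.symm_apply_eq]
    apply Subtype.ext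
    exact (rep_orth_eq N _).symm
  right_inv g := by
    apply Subtype.ext
    show (univO N).map ((liftB m hN _ _).comp (mkB m hN)) = g.1
    rw [liftB_comp, ← rep_orth_eq, Equiv.apply_symm_apply]

theorem rp_apply (A : Type u) [CommRing A] [Algebra R A] (F : BSO m hN →ₐ[R] A) :
    (rp m hN hm hQ A F).1 = (univO N).map (F.comp (mkB m hN)) := rfl

theorem rp_comp {A A' : Type u} [CommRing A] [Algebra R A] [CommRing A'] [Algebra R A']
    (φ : A →ₐ[R] A') (F : BSO m hN →ₐ[R] A) :
    (rp m hN hm hQ A' (φ.comp F)).1 = (rp m hN hm hQ A F).1.map φ := by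
  rw [rp_apply, rp_apply, Matrix.map_map]
  rfl

end Rep

end Helper25.SOEven
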