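import Mathlib
import Groth.Agent.Lib.Helper25.SOEvenRep
import Groth.Agent.Lib.Helper25.SOOddConn
import Groth.Agent.Lib.Helper25.CliffGPin

/-!
# Products of two reflections satisfy the Dickson condition; a single reflection does not
-/

set_option autoImplicit false
set_option linter.style.haveILetI false
set_option linter.unusedSectionVars false
set_option linter.unusedVariables false
universe u

namespace Helper25.SOEven

open CliffordAlgebra QuadGrp Helper25.Cliff Helper25.AzTransport Helper25.CliffBCF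
  Helper25.GLsub Helper25.QuadMat Helper25.GPinLift Helper25.ReflMat Helper25.SOFam
open scoped TensorProduct Matrix

section General

variable {R' : Type*} [CommRing R'] {M' : Type*} [AddCommGroup M'] [Module R' M']
  (Q' : QuadraticForm R' M')

/-- Two isometries differing by the sign induce automorphisms differing by the grade involution. -/
theorem cl_eq_cl_involute (g g' : M' ≃ₗ[R'] M') (hg : g ∈ O Q') (hg' : g' ∈ O Q')
    (h : ∀ x, g x = -g' x) (y : CliffordAlgebra Q') :
    cl Q' g hg y = cl Q' g' hg' (involute y) := by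
  have : cl Q' g hg = (cl Q' g' hg').comp involute := by
    apply CliffordAlgebra.hom_ext
    ext x
    simp only [LinearMap.coe_comp, Function.comp_apply, AlgHom.toLinearMap_apply,
      AlgHom.comp_apply, involute_ι, map_neg]
    rw [cl_ι, cl_ι, h, map_neg]
  rw [this, AlgHom.comp_apply]

theorem isDicksonTrivial_of_neg (g g' : M' ≃ₗ[R'] M') (hg : g ∈ O Q') (hg' : g' ∈ O Q')
    (h : ∀ x, g x = -g' x) (hD : IsDicksonTrivial Q' g hg) : IsDicksonTrivial Q' g' hg' := by
  intro z hz
  have h1 := hD z hz
  have h2 := cl_eq_cl_involute Q' g g' hg hg' h (z : CliffordAlgebra Q')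
  rw [involute_eq_of_mem_even z.2] at h2
  rw [← h2]
  exact h1

theorem polar_comp_apply {N' : Type*} [AddCommGroup N'] [Module R' N'] (Q'' : QuadraticForm R' N')
    (f : M' →ₗ[R'] N') (x y : M') :
    QuadraticMap.polar (Q''.comp f) x y = QuadraticMap.polar Q'' (f x) (f y) := by
  simp only [QuadraticMap.polar, QuadraticMap.comp_apply, map_add]

/-- The product of two vector units conjugates to the product of the two reflections and is
even, so the product satisfies the Dickson condition. -/
theorem isDicksonTrivial_of_conjVec_conjVec (v v' : M') (c c' : R') (hc : Q' v * c = 1)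
    (hc' : Q' v' * c' = 1) (g : M' ≃ₗ[R'] M') (hg : g ∈ O Q')
    (h : ∀ x, g x = conjVec Q' v c hc (conjVec Q' v' c' hc' x)) : IsDicksonTrivial Q' g hg := by
  let u : (CliffordAlgebra Q')ˣ := vecUnit Q' v c hc * vecUnit Q' v' c' hc'
  have hu : ∀ x, (u : CliffordAlgebra Q') * ι Q' x * ↑u⁻¹ = ι Q' (g x) := by
    intro x
    have e1 : (u : CliffordAlgebra Q') = (vecUnit Q' v c hc : CliffordAlgebra Q') *
        (vecUnit Q' v' c' hc' : CliffordAlgebra Q') := rfl
    have e2 : (↑u⁻¹ : CliffordAlgebra Q') = (↑(vecUnit Q' v' c' hc')⁻¹ : CliffordAlgebra Q') *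
        (↑(vecUnit Q' v c hc)⁻¹ : CliffordAlgebra Q') := by
      show ((vecUnit Q' v c hc * vecUnit Q' v' c' hc')⁻¹ : (CliffordAlgebra Q')ˣ).val = _
      rw [mul_inv_rev]
      rfl
    rw [e1, e2, h]
    calc (vecUnit Q' v c hc : CliffordAlgebra Q') * (vecUnit Q' v' c' hc' : CliffordAlgebra Q') *
          ι Q' x * ((↑(vecUnit Q' v' c' hc')⁻¹ : CliffordAlgebra Q') *
            (↑(vecUnit Q' v c hc)⁻¹ : CliffordAlgebra Q'))
        = (vecUnit Q' v c hc : CliffordAlgebra Q') *
          ((vecUnit Q' v' c' hc' : CliffordAlgebra Q') * ι Q' x *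
            (↑(vecUnit Q' v' c' hc')⁻¹ : CliffordAlgebra Q')) *
          (↑(vecUnit Q' v c hc)⁻¹ : CliffordAlgebra Q') := by noncomm_ring
      _ = _ := by rw [vecUnit_conj, vecUnit_conj]
  refine isDicksonTrivial_of_even Q' u g hg (map_eq_conj Q' u g hg hu) ?_
  show ι Q' v * ι Q' v' ∈ evenOdd Q' 0
  exact ι_mul_ι_mem_evenOdd_zero Q' v v'

end General

variable {R : Type u} [CommRing R] (m : ℕ) {Q : QuadraticForm R (Fin (2 * m) → R)}
  {N : Matrix (Fin (2 * m)) (Fin (2 * m)) R} (hN : ∀ v, Q v = qf N v)
  {A : Type u} [CommRing A] [Algebra R A]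

include hN in
theorem baseChangeForm_apply (x : A ⊗[R] (Fin (2 * m) → R)) :
    baseChangeForm A Q x = qf (N.map (algebraMap R A)) ((bA R (Fin (2 * m)) A).equivFun x) := by
  rw [baseChangeForm_eq Q N hN, QuadraticMap.comp_apply, qfForm_apply]
  rfl

include hN in
theorem polar_baseChangeForm (x y : A ⊗[R] (Fin (2 * m) → R)) :
    QuadraticMap.polar (baseChangeForm A Q) x y =
      pol (N.map (algebraMap R A)) ((bA R (Fin (2 * m)) A).equivFun x)
        ((bA R (Fin (2 * m)) A).equivFun y) := by
  rw [baseChangeForm_eq Q N hN, polar_comp_apply, polar_qfForm]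
  rfl

/-- The vector with given coordinates. -/
noncomputable def vecOf (w : Fin (2 * m) → A) : A ⊗[R] (Fin (2 * m) → R) :=
  (bA R (Fin (2 * m)) A).equivFun.symm w

theorem equivFun_vecOf (w : Fin (2 * m) → A) :
    (bA R (Fin (2 * m)) A).equivFun (vecOf m w) = w :=
  LinearEquiv.apply_symm_apply _ _

include hN in
theorem baseChangeForm_vecOf (w : Fin (2 * m) → A) :
    baseChangeForm A Q (vecOf m w) = qf (N.map (algebraMap R A)) w := by
  rw [baseChangeForm_apply m hN, equivFun_vecOf]

include hN in
theorem equivFun_conjVec (w : Fin (2 * m) → A) (c : A)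
    (hc : baseChangeForm A Q (vecOf m w) * c = 1) (x : A ⊗[R] (Fin (2 * m) → R)) :
    (bA R (Fin (2 * m)) A).equivFun (conjVec (baseChangeForm A Q) (vecOf m w) c hc x) =
      -(reflMat (N.map (algebraMap R A)) w c *ᵥ (bA R (Fin (2 * m)) A).equivFun x) := by
  rw [conjVec_apply, map_sub, map_smul, polar_baseChangeForm m hN, equivFun_vecOf, reflMat_mulVec]
  rw [mul_comm c]
  abel

include hN in
/-- Products of two reflections lie in the special orthogonal group. -/
theorem refl2_mem_Pso (w w' : Fin (2 * m) → A) (c c' : A)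
    (hc : c * qf (N.map (algebraMap R A)) w = 1) (hc' : c' * qf (N.map (algebraMap R A)) w' = 1) :
    reflMat (N.map (algebraMap R A)) w c * reflMat (N.map (algebraMap R A)) w' c' ∈
      Pso m Q A := by
  have hg : reflMat (N.map (algebraMap R A)) w c * reflMat (N.map (algebraMap R A)) w' c' ∈
      pts (orthRels N) A :=
    mul_mem_orth N (reflMat_mem_orth N w c hc) (reflMat_mem_orth N w' c' hc')
  rw [mem_Pso_iff m hN]
  refine ⟨hg, ?_⟩
  have hcv : baseChangeForm A Q (vecOf m w) * c = 1 := by
    rw [baseChangeForm_vecOf m hN, mul_comm]; exact hc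
  have hcv' : baseChangeForm A Q (vecOf m w') * c' = 1 := by
    rw [baseChangeForm_vecOf m hN, mul_comm]; exact hc'
  refine isDicksonTrivial_of_conjVec_conjVec _ (vecOf m w) (vecOf m w') c c' hcv hcv' _ _ ?_
  intro x
  apply (bA R (Fin (2 * m)) A).equivFun.injective
  rw [equivFun_conjVec m hN, equivFun_conjVec m hN, equivFun_apply_eq_mulVec, toMat_ofMat,
    Matrix.mulVec_neg, neg_neg, Matrix.mulVec_mulVec]

end Helper25.SOEven
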