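import Mathlib
import Groth.Agent.Lib.Helper25.SOEvenAlg
import Groth.Agent.Lib.Helper25.OrthSmooth

/-!
# The coordinate ring of the special orthogonal group of a regular form of even rank is smooth
-/

set_option autoImplicit false
set_option linter.style.haveILetI false
set_option linter.unusedSectionVars false
set_option linter.unusedVariables false
universe u

namespace Helper25.SOEven

open CliffordAlgebra QuadGrp Helper25.Cliff Helper25.AzTransport Helper25.CliffBCF
  Helper25.GLsub Helper25.QuadMat Helper25.GPinLift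
open scoped TensorProduct Matrix

variable {R : Type u} [CommRing R] (m : ℕ) {Q : QuadraticForm R (Fin (2 * m) → R)}
  {N : Matrix (Fin (2 * m)) (Fin (2 * m)) R} (hN : ∀ v, Q v = qf N v)
  (hm : 1 ≤ m) (hQ : Function.Surjective (QuadraticMap.polarBilin Q))

include hm hQ in
theorem ID_fg : (ID m hN).FG := by
  classical
  rcases subsingleton_or_nontrivial R with hR | hR
  · haveI : Subsingleton (Alg (orthRels N)) :=
      (algebraMap R (Alg (orthRels N))).codomain_trivial
    have : ID m hN = ⊥ := Subsingleton.elim _ _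
    rw [this]
    exact Submodule.fg_bot
  have hV : Module.finrank R (Fin (2 * m) → R) = 2 * m := Module.finrank_fin_fun R
  obtain ⟨-, hfin⟩ := etale_center_even R (Fin (2 * m) → R) m hm hV Q hQ
  obtain ⟨s, hs⟩ := hfin.fg_top
  let T : Finset (Alg (orthRels N)) :=
    (s ×ˢ (Finset.univ : Finset (κ Q))).image
      (fun p => (βA Q (Alg (orthRels N))).repr
        (zeta m hN ((p.1 : ↥(even Q)) : CliffordAlgebra Q)) p.2)
  refine ⟨T, le_antisymm ?_ ?_⟩
  · rw [Submodule.span_le]
    intro b hb
    obtain ⟨p, hp, rfl⟩ := Finset.mem_image.mp hb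
    exact Ideal.subset_span ⟨p.1.1, p.1.2, p.2, rfl⟩
  · unfold ID
    rw [Ideal.span_le]
    rintro _ ⟨z, hz, k, rfl⟩
    have hmem : (⟨z, hz⟩ : ↥(Subalgebra.center R ↥(even Q))) ∈
        Submodule.span R (s : Set ↥(Subalgebra.center R ↥(even Q))) := by
      rw [hs]; trivial
    have key : ∀ w ∈ Submodule.span R (s : Set ↥(Subalgebra.center R ↥(even Q))),
        ∀ k, (βA Q (Alg (orthRels N))).repr
          (zeta m hN (((w : ↥(Subalgebra.center R ↥(even Q))) : ↥(even Q)) : CliffordAlgebra Q)) k
          ∈ Ideal.span (T : Set (Alg (orthRels N))) := by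
      intro w hw
      induction hw using Submodule.span_induction with
      | mem y hy =>
        intro k
        apply Ideal.subset_span
        exact Finset.mem_image.mpr ⟨(y, k), Finset.mem_product.mpr ⟨hy, Finset.mem_univ _⟩, rfl⟩
      | zero =>
        intro k
        show (βA Q (Alg (orthRels N))).repr (zeta m hN (0 : CliffordAlgebra Q)) k ∈ _
        rw [zeta_zero, map_zero, Finsupp.zero_apply]
        exact Ideal.zero_mem _
      | add x y _ _ hx hy =>
        intro k
        show (βA Q (Alg (orthRels N))).repr (zeta m hN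
          ((x : ↥(even Q)) + (y : ↥(even Q)) : CliffordAlgebra Q)) k ∈ _
        rw [zeta_add, map_add, Finsupp.add_apply]
        exact Ideal.add_mem _ (hx k) (hy k)
      | smul r x _ hx =>
        intro k
        show (βA Q (Alg (orthRels N))).repr (zeta m hN
          (r • ((x : ↥(even Q)) : CliffordAlgebra Q))) k ∈ _
        rw [zeta_smul, ← algebraMap_smul (Alg (orthRels N)) r
          (zeta m hN (((x : ↥(Subalgebra.center R ↥(even Q))) : ↥(even Q)) : CliffordAlgebra Q)),
          map_smul, Finsupp.smul_apply, smul_eq_mul]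
        exact Ideal.mul_mem_left _ _ (hx k)
    exact key _ hmem k

include hm hQ in
theorem finitePresentation_BSO : Algebra.FinitePresentation R (BSO m hN) := by
  have : Algebra.FinitePresentation R (Alg (orthRels N) ⧸ ID m hN) :=
    Algebra.FinitePresentation.quotient (ID_fg m hN hm hQ)
  exact this

include hm hQ in
theorem formallySmooth_BSO (hP : IsUnit (N + Nᵀ).det) : Algebra.FormallySmooth R (BSO m hN) := by
  apply Algebra.FormallySmooth.of_comp_surjective
  intro A _ _ I hI F'
  obtain ⟨g, hg, hgg'⟩ := lifting_orth N hP A I hI (rp m hN hm hQ (A ⧸ I) F').1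
    (Pso_subset m hN (rp m hN hm hQ (A ⧸ I) F').2)
  have hgP : g ∈ Pso m Q A := by
    refine Pso_of_map m hN hm hQ (Ideal.Quotient.mkₐ R I) (Ideal.Quotient.mkₐ_surjective R I)
      (mkₐ_ker_sq I hI) g hg ?_
    have : g.map (Ideal.Quotient.mkₐ R I) = g.map (Ideal.Quotient.mk I) := rfl
    rw [this, hgg']
    exact (rp m hN hm hQ (A ⧸ I) F').2
  refine ⟨(rp m hN hm hQ A).symm ⟨g, hgP⟩, ?_⟩
  apply (rp m hN hm hQ (A ⧸ I)).injective
  apply Subtype.ext
  rw [rp_comp, Equiv.apply_symm_apply]
  exact hgg'

include hm hQ in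
theorem smooth_BSO (hP : IsUnit (N + Nᵀ).det) : Algebra.Smooth R (BSO m hN) :=
  ⟨formallySmooth_BSO m hN hm hQ hP, finitePresentation_BSO m hN hm hQ⟩

end Helper25.SOEven
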