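import Mathlib
import Groth.Agent.Lib.Helper25.SOEvenRefl
import Groth.Agent.Lib.Helper25.SOEvenSmooth
import Groth.Agent.Lib.Helper25.FibreConn

/-!
# The fibres of the special orthogonal group of a regular form of even rank are connected
-/

set_option autoImplicit false
set_option linter.style.haveILetI false
set_option linter.unusedSectionVars false
set_option linter.unusedVariables false
universe u

namespace Helper25.SOEven

open CliffordAlgebra QuadGrp Helper25.Cliff Helper25.AzTransport Helper25.CliffBCF
  Helper25.GLsub Helper25.QuadMat Helper25.GPinLift Helper25.ReflMat Helper25.SOFam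
  Helper25.ConnIdem
open scoped TensorProduct Matrix

section Field

variable {K : Type*} [Field K] {ι : Type} [Fintype ι] [DecidableEq ι]

theorem ND_of_isUnit_det (NK : Matrix ι ι K) (hP : IsUnit (NK + NKᵀ).det) :
    Helper25.CD.ND (qfForm NK) := by
  intro v _ hpol
  have h1 : (NK + NKᵀ) *ᵥ v = 0 := by
    ext i
    have := hpol (Pi.single i 1)
    rw [polar_qfForm] at this
    unfold pol at this
    simpa using this
  have h2 := congrArg (fun x => (NK + NKᵀ)⁻¹ *ᵥ x) h1
  simp only [Matrix.mulVec_mulVec, Matrix.nonsing_inv_mul _ hP, Matrix.one_mulVec,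
    Matrix.mulVec_zero] at h2
  exact h2

end Field

variable {R : Type u} [CommRing R] (m : ℕ) {Q : QuadraticForm R (Fin (2 * m) → R)}
  {N : Matrix (Fin (2 * m)) (Fin (2 * m)) R} (hN : ∀ v, Q v = qf N v)
  (hm : 1 ≤ m) (hQ : Function.Surjective (QuadraticMap.polarBilin Q))

section Parity

variable {K : Type u} [Field K] [Algebra R K]

include hN hm hQ in
/-- A single reflection does not satisfy the Dickson condition. -/
theorem reflMat_not_mem_Pso (a : Fin (2 * m) → K) (c : K)
    (hc : c * qf (N.map (algebraMap R K)) a = 1) :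
    reflMat (N.map (algebraMap R K)) a c ∉ Pso m Q K := by
  rintro ⟨G, hG, hGr⟩
  obtain ⟨hO, hD⟩ := (mem_sorth_iff m Q G).mp hG
  haveI : Nontrivial R := (algebraMap R K).domain_nontrivial
  have hV : Module.finrank R (Fin (2 * m) → R) = 2 * m := Module.finrank_fin_fun R
  have hfin : Module.finrank K (K ⊗[R] (Fin (2 * m) → R)) = 2 * m := by
    rw [Module.finrank_baseChange, hV]
  have hsurj := polarBilin_baseChangeForm_surjective Q K hQ
  obtain ⟨-, -, hcz⟩ := clifford_even_rank_structure K _ m hm hfin (baseChangeForm K Q) hsurj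
  have hcv : baseChangeForm K Q (vecOf m a) * c = 1 := by
    rw [baseChangeForm_vecOf m hN, mul_comm]; exact hc
  have hneg : ∀ x, G x = -conjVec (baseChangeForm K Q) (vecOf m a) c hcv x := by
    intro x
    apply (bA R (Fin (2 * m)) K).equivFun.injective
    rw [map_neg, equivFun_conjVec m hN, neg_neg, equivFun_apply_eq_mulVec, hGr]
  have hD' := isDicksonTrivial_of_neg _ G _ hO (conjVec_mem_O _ _ c hcv) hneg hD
  have h0 := even_of_isDicksonTrivial (baseChangeForm K Q) hcz
    (vecUnit (baseChangeForm K Q) (vecOf m a) c hcv) _ (conjVec_mem_O _ _ c hcv)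
    (map_eq_conj _ _ _ _ (vecUnit_conj _ _ c hcv)) hD'
  have h1 : ((vecUnit (baseChangeForm K Q) (vecOf m a) c hcv : (CliffordAlgebra _)ˣ) :
      CliffordAlgebra (baseChangeForm K Q)) ∈ evenOdd (baseChangeForm K Q) 1 :=
    ι_mem_evenOdd_one _ _
  haveI : Nontrivial (CliffordAlgebra (baseChangeForm K Q)) :=
    (Helper25.Cliff.algebraMap_injective (baseChangeForm K Q)).nontrivial
  exact (vecUnit (baseChangeForm K Q) (vecOf m a) c hcv).ne_zero
    (eq_zero_of_mem_even_of_mem_odd _ h0 h1)

include hN in
theorem even_list_mem_Pso : ∀ (k : ℕ) (L : List (Fin (2 * m) → K)), L.length = 2 * k →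
    (∀ v ∈ L, qf (N.map (algebraMap R K)) v ≠ 0) →
    (L.map (fun v => reflMat (N.map (algebraMap R K)) v
      (qf (N.map (algebraMap R K)) v)⁻¹)).prod ∈ Pso m Q K := by
  intro k
  induction k with
  | zero =>
    intro L hL _
    have : L = [] := List.length_eq_zero_iff.mp (by simpa using hL)
    subst this
    simp only [List.map_nil, List.prod_nil]
    exact one_mem_Pso m
  | succ k ih =>
    intro L hL hLq
    match L, hL, hLq with
    | [], hL, _ => exact absurd hL (by simp)
    | [a], hL, _ => exact absurd hL (by simp; omega)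
    | a :: b :: L', hL, hLq =>
      have ha : qf (N.map (algebraMap R K)) a ≠ 0 := hLq a (by simp)
      have hb : qf (N.map (algebraMap R K)) b ≠ 0 := hLq b (by simp)
      simp only [List.map_cons, List.prod_cons]
      rw [← Matrix.mul_assoc]
      exact mul_mem_Pso m (refl2_mem_Pso m hN a b _ _ (inv_mul_cancel₀ ha) (inv_mul_cancel₀ hb))
        (ih L' (by simp at hL; omega) (fun v hv => hLq v (by simp [hv])))

variable [IsAlgClosed K]

include hN hm hQ in
/-- Every point of the special orthogonal group of a regular form of even rank over an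
algebraically closed field is a product of an even number of reflections. -/
theorem exists_even_list_reflMat_even (hP : IsUnit (N + Nᵀ).det)
    (g : Matrix (Fin (2 * m)) (Fin (2 * m)) K) (hg : g ∈ Pso m Q K) :
    ∃ L : List (Fin (2 * m) → K), (∀ v ∈ L, qf (N.map (algebraMap R K)) v ≠ 0) ∧
      Even L.length ∧
      g = (L.map (fun v => reflMat (N.map (algebraMap R K)) v
        (qf (N.map (algebraMap R K)) v)⁻¹)).prod := by
  set NK := N.map (algebraMap R K) with hNK
  have hND : Helper25.CD.ND (qfForm NK) := ND_of_isUnit_det NK (isUnit_det_polar_map N hP)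
  have hgO := Pso_subset m hN hg
  rw [mem_pts_orthRels] at hgO
  obtain ⟨L, hLq, hL⟩ := exists_list_reflMat NK hND g hgO.2
  rcases Nat.even_or_odd L.length with hev | hodd
  · exact ⟨L, hLq, hev, hL⟩
  · exfalso
    match L, hLq, hL, hodd with
    | [], _, _, hodd => simp at hodd
    | a :: L', hLq, hL, hodd =>
      have ha : qf NK a ≠ 0 := hLq a (by simp)
      obtain ⟨k, hk⟩ : Even L'.length := by
        rw [List.length_cons] at hodd
        exact (Nat.odd_add_one.mp hodd |> Nat.not_odd_iff_even.mp)
      have hL'P : (L'.map (fun v => reflMat NK v (qf NK v)⁻¹)).prod ∈ Pso m Q K :=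
        even_list_mem_Pso m hN k L' (by omega) (fun v hv => hLq v (by simp [hv]))
      set p := (L'.map (fun v => reflMat NK v (qf NK v)⁻¹)).prod with hp
      have hpu : IsUnit p.det := (Pso_subset m hN hL'P).1
      have hra : reflMat NK a (qf NK a)⁻¹ = g * p⁻¹ := by
        rw [hL, List.map_cons, List.prod_cons, ← hp, Matrix.mul_assoc,
          Matrix.mul_nonsing_inv p hpu, Matrix.mul_one]
      have : reflMat NK a (qf NK a)⁻¹ ∈ Pso m Q K := by
        rw [hra]
        exact mul_mem_Pso m hg (inv_mem_Pso m hL'P)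
      exact reflMat_not_mem_Pso m hN hm hQ a _ (inv_mul_cancel₀ ha) this

end Parity

/-- The special orthogonal group as a `ReflFunctor`. -/
noncomputable def soFunctor : ReflFunctor N (BSO m hN) where
  P A _ _ := Pso m Q A
  rp A _ _ := rp m hN hm hQ A
  rp_comp φ f := rp_comp m hN hm hQ φ f
  mul_mem hg hh := mul_mem_Pso m hg hh
  refl2_mem w w' c c' hc hc' := refl2_mem_Pso m hN w w' c c' hc hc'

include hm hQ in
/-- The geometric fibres of the special orthogonal group of a regular form of even rank have only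
trivial idempotents. -/
theorem idem_trivial_BSO (hP : IsUnit (N + Nᵀ).det) {K : Type u} [Field K] [IsAlgClosed K]
    [Algebra R K] (e : K ⊗[R] BSO m hN) (he : IsIdempotentElem e) : e = 0 ∨ e = 1 := by
  haveI := finitePresentation_BSO m hN hm hQ
  haveI : Algebra.FiniteType R (BSO m hN) := inferInstance
  let f₁ : BSO m hN →ₐ[R] K := (rp m hN hm hQ K).symm ⟨1, one_mem_Pso m⟩
  refine idem_trivial (soFunctor m hN hm hQ) f₁ (fun f => ?_) e he
  obtain ⟨L, hLq, hev, hL⟩ := exists_even_list_reflMat_even m hN hm hQ hP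
    (rp m hN hm hQ K f).1 (rp m hN hm hQ K f).2
  refine ⟨L, hLq, hev, ?_⟩
  have h1 : ((soFunctor m hN hm hQ).rp K f₁).1 = 1 := by
    show (rp m hN hm hQ K f₁).1 = 1
    simp only [f₁, Equiv.apply_symm_apply]
  rw [h1, Matrix.one_mul]
  exact hL

include hm hQ in
theorem connectedSpace_tensor_BSO (hP : IsUnit (N + Nᵀ).det) (κ : Type u) [Field κ]
    [Algebra R κ] : ConnectedSpace (PrimeSpectrum (κ ⊗[R] BSO m hN)) := by
  haveI : Algebra.Smooth R (BSO m hN) := smooth_BSO m hN hm hQ hP
  haveI : Module.Flat R (BSO m hN) := Algebra.Smooth.flat R _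
  let K := AlgebraicClosure κ
  have htriv : ∀ e : κ ⊗[R] BSO m hN, IsIdempotentElem e → e = 0 ∨ e = 1 :=
    idem_descent (K := K) (fun e he => idem_trivial_BSO m hN hm hQ hP e he)
  haveI : Nontrivial (κ ⊗[R] BSO m hN) := by
    let f₁ : BSO m hN →ₐ[R] κ := (rp m hN hm hQ κ).symm ⟨1, one_mem_Pso m⟩
    exact (ev (K := κ) f₁).toRingHom.domain_nontrivial
  exact connectedSpace_of_idem (fun e he => htriv e he)

end Helper25.SOEven
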