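import Mathlib
import Groth.Agent.Lib.Helper25.TangentGLsub

/-!
# Tangent spaces of representable functors of matrices through dual numbers
-/

set_option autoImplicit false
set_option linter.style.haveILetI false
set_option linter.unusedSectionVars false
universe u

namespace Helper25.TangentAbs

open Matrix TrivSqZeroExt Helper25.Tangent

variable {R : Type u} [CommRing R] {ι : Type} [Fintype ι] [DecidableEq ι]
  {B : Type u} [CommRing B] [Algebra R B]
  {P : ∀ (A : Type u) [CommRing A] [Algebra R A], Set (Matrix ι ι A)}
  (rp : ∀ (A : Type u) [CommRing A] [Algebra R A], (B →ₐ[R] A) ≃ P A)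
  (rp_comp : ∀ {A A' : Type u} [CommRing A] [Algebra R A] [CommRing A'] [Algebra R A']
    (φ : A →ₐ[R] A') (f : B →ₐ[R] A), (rp A' (φ.comp f)).1 = (rp A f).1.map φ)
  {K : Type u} [Field K] [Algebra R K] [Algebra B K] [IsScalarTower R B K]

/-- The universal matrix. -/
noncomputable def univ : Matrix ι ι B := (rp B (AlgHom.id R _)).1

include rp_comp in
theorem rp_eq_univ_map {A : Type u} [CommRing A] [Algebra R A] (f : B →ₐ[R] A) :
    (rp A f).1 = (univ rp).map f := by
  have := rp_comp f (AlgHom.id R _)
  rwa [AlgHom.comp_id] at this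

/-- The matrix of the `K`-point. -/
noncomputable def ptMat : Matrix ι ι K := (univ rp).map (algebraMap B K)

include rp_comp in
theorem ptMat_eq : ptMat rp (K := K) = (rp K (IsScalarTower.toAlgHom R B K)).1 := by
  rw [rp_eq_univ_map rp rp_comp]
  rfl

/-- The values of a derivation on the coordinate functions. -/
noncomputable def Θ : Derivation R B K →ₗ[K] Matrix ι ι K where
  toFun D := Matrix.of fun i j => D (univ rp i j)
  map_add' D D' := by ext i j; simp
  map_smul' c D := by ext i j; simp

include rp_comp in
theorem rp_liftOfDer (D : Derivation R B K) :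
    (rp (TrivSqZeroExt K K) (liftOfDer D)).1 =
      (ptMat rp (K := K)).map inl + (Θ rp D).map inr := by
  rw [rp_eq_univ_map rp rp_comp]
  ext i j
  · simp only [Matrix.map_apply, Matrix.add_apply, liftOfDer_apply, ptMat, Θ, LinearMap.coe_mk,
      AddHom.coe_mk, Matrix.of_apply]
  · simp only [Matrix.map_apply, Matrix.add_apply, liftOfDer_apply, ptMat, Θ, LinearMap.coe_mk,
      AddHom.coe_mk, Matrix.of_apply]

include rp_comp in
theorem Θ_injective : Function.Injective (Θ rp (K := K)) := by
  intro D D' h
  have h1 : liftOfDer D = liftOfDer D' := by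
    apply (rp (TrivSqZeroExt K K)).injective
    apply Subtype.ext
    rw [rp_liftOfDer rp rp_comp, rp_liftOfDer rp rp_comp, h]
  apply Derivation.ext
  intro b
  have := congrArg (fun ψ => (ψ b).snd) h1
  simpa using this

include rp_comp in
theorem range_Θ (T : Submodule K (Matrix ι ι K))
    (hT : ∀ Y, Y ∈ T ↔ ((ptMat rp (K := K)).map inl + Y.map inr) ∈ P (TrivSqZeroExt K K)) :
    LinearMap.range (Θ rp (K := K)) = T := by
  ext Y
  rw [hT]
  constructor
  · rintro ⟨D, rfl⟩
    rw [← rp_liftOfDer rp rp_comp]
    exact (rp (TrivSqZeroExt K K) (liftOfDer D)).2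
  · intro hY
    let ψ : B →ₐ[R] TrivSqZeroExt K K := (rp (TrivSqZeroExt K K)).symm ⟨_, hY⟩
    have hψmat : (univ rp).map ψ = (ptMat rp (K := K)).map inl + Y.map inr := by
      rw [← rp_eq_univ_map rp rp_comp]
      simp only [ψ, Equiv.apply_symm_apply]
    have hfst : (TrivSqZeroExt.fstHom R K K).comp ψ = IsScalarTower.toAlgHom R B K := by
      apply (rp K).injective
      apply Subtype.ext
      rw [rp_comp, rp_eq_univ_map rp rp_comp, rp_eq_univ_map rp rp_comp, hψmat]
      ext i j
      simp [ptMat]
    have hψ : ∀ b, (ψ b).fst = algebraMap B K b := fun b => by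
      have := congrArg (fun f => f b) hfst
      simpa using this
    refine ⟨derOfLift ψ hψ, ?_⟩
    ext i j
    have := congrArg (fun M : Matrix ι ι (TrivSqZeroExt K K) => (M i j).snd) hψmat
    simpa [Θ] using this

include rp_comp in
/-- The dimension of the space of derivations at a `K`-point equals the dimension of the tangent
space computed by dual numbers. -/
theorem finrank_der_eq (T : Submodule K (Matrix ι ι K))
    (hT : ∀ Y, Y ∈ T ↔ ((ptMat rp (K := K)).map inl + Y.map inr) ∈ P (TrivSqZeroExt K K)) :
    Module.finrank K (Derivation R B K) = Module.finrank K T := by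
  rw [← range_Θ rp rp_comp T hT]
  exact (LinearMap.finrank_range_of_inj (Θ_injective rp rp_comp)).symm

end Helper25.TangentAbs
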