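import Mathlib
import Groth.Agent.Lib.Helper25.SOEvenSmooth
import Groth.Agent.Lib.Helper25.TangentAbs
import Groth.Agent.Lib.Helper25.SOTangent

/-!
# Tangent spaces of the special orthogonal group of a regular form of even rank
-/

set_option autoImplicit false
set_option linter.style.haveILetI false
set_option linter.unusedSectionVars false
set_option linter.unusedVariables false
universe u

namespace Helper25.SOEven

open CliffordAlgebra QuadGrp Helper25.Cliff Helper25.AzTransport Helper25.CliffBCF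
  Helper25.GLsub Helper25.QuadMat Helper25.GPinLift Helper25.LieDim Helper25.SOTangent
  Helper25.SOFam TrivSqZeroExt
open scoped TensorProduct Matrix

section Orth

variable {R : Type u} [CommRing R] {ι : Type} [Fintype ι] [DecidableEq ι] (N : Matrix ι ι R)

theorem inv_mem_orth {A : Type*} [CommRing A] [Algebra R A] {g : Matrix ι ι A}
    (hg : g ∈ pts (orthRels N) A) : g⁻¹ ∈ pts (orthRels N) A := by
  rw [mem_pts_orthRels] at *
  obtain ⟨hu, hq⟩ := hg
  have h1 : g * g⁻¹ = 1 := Matrix.mul_nonsing_inv g hu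
  refine ⟨?_, ?_⟩
  · rw [Matrix.det_nonsing_inv]; exact (Ring.inverse_unit hu.unit ▸ (hu.unit⁻¹).isUnit)
  · have := (hq.conj g⁻¹).symm
    have e1 : g⁻¹ᵀ * (gᵀ * N.map (algebraMap R A) * g) * g⁻¹ = N.map (algebraMap R A) := by
      have : g⁻¹ᵀ * gᵀ = 1 := by rw [← Matrix.transpose_mul, h1, Matrix.transpose_one]
      rw [← Matrix.mul_assoc, ← Matrix.mul_assoc, this, Matrix.one_mul, Matrix.mul_assoc, h1,
        Matrix.mul_one]
    rw [e1] at this
    exact this

variable {K : Type*} [Field K] [Algebra R K]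

theorem one_add_map_inr_mem_orth_iff (X : Matrix ι ι K) :
    (1 + X.map (inr : K → TrivSqZeroExt K K)) ∈ pts (orthRels N) (TrivSqZeroExt K K) ↔
      QEq ((N.map (algebraMap R K) + (N.map (algebraMap R K))ᵀ) * X) 0 := by
  set NK := N.map (algebraMap R K) with hNK
  have hNE : N.map (algebraMap R (TrivSqZeroExt K K)) = NK.map inl := by
    rw [hNK, Matrix.map_map]
    ext i j
    · simp [TrivSqZeroExt.algebraMap_eq_inl']
    · simp [TrivSqZeroExt.algebraMap_eq_inl']
  rw [mem_pts_orthRels, det_one_add_map_inr, hNE]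
  have hconj : (1 + X.map (inr : K → TrivSqZeroExt K K))ᵀ * NK.map inl * (1 + X.map inr) =
      NK.map inl + (NK * X + Xᵀ * NK).map inr := by
    have e1 : (1 + X.map (inr : K → TrivSqZeroExt K K))ᵀ = 1 + Xᵀ.map inr := by
      rw [Matrix.transpose_add, Matrix.transpose_one, Matrix.transpose_map]
    have e2 : (NK * X + Xᵀ * NK).map (inr : K → TrivSqZeroExt K K) =
        (NK * X).map inr + (Xᵀ * NK).map inr := by
      ext i j
      · simp
      · simp
    rw [e1, e2]
    calc (1 + Xᵀ.map (inr : K → TrivSqZeroExt K K)) * NK.map inl * (1 + X.map inr)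
        = NK.map inl + NK.map inl * X.map inr + Xᵀ.map inr * NK.map inl +
            Xᵀ.map inr * NK.map inl * X.map inr := by
          simp only [Matrix.add_mul, Matrix.mul_add, Matrix.one_mul, Matrix.mul_one]; abel
      _ = NK.map inl + (NK * X).map inr + (Xᵀ * NK).map inr + 0 := by
          rw [map_inl_mul_map_inr, map_inr_mul_map_inl, map_inr_mul_map_inr]
      _ = _ := by rw [add_zero, add_assoc]
  rw [hconj, qeq_map_inl_add_map_inr_iff]
  have hq : QEq (NK * X + Xᵀ * NK) ((NK + NKᵀ) * X) := by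
    rw [Matrix.add_mul]
    refine QEq.add (QEq.refl _) ?_
    have : NKᵀ * X = (Xᵀ * NK)ᵀ := by
      rw [Matrix.transpose_mul, Matrix.transpose_transpose]
    rw [this]
    exact (QEq.transpose_self _).symm
  have hunit : IsUnit (1 + inr (Matrix.trace X) : TrivSqZeroExt K K) := by
    rw [TrivSqZeroExt.isUnit_iff_isUnit_fst]
    simp
  constructor
  · rintro ⟨-, h1⟩
    exact hq.symm.trans h1
  · intro h1
    exact ⟨hunit, hq.trans h1⟩

end Orth

section Main

variable {R : Type u} [CommRing R] (m : ℕ) {Q : QuadraticForm R (Fin (2 * m) → R)}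
  {N : Matrix (Fin (2 * m)) (Fin (2 * m)) R} (hN : ∀ v, Q v = qf N v)
  (hm : 1 ≤ m) (hQ : Function.Surjective (QuadraticMap.polarBilin Q))
  {K : Type u} [Field K] [Algebra R K] [Algebra (BSO m hN) K] [IsScalarTower R (BSO m hN) K]

include hm hQ in
/-- The tangent spaces of the special orthogonal group of a regular form of rank `2m` have
dimension `m(2m-1)`. -/
theorem finrank_der_BSO (hP : IsUnit (N + Nᵀ).det) :
    Module.finrank K (Derivation R (BSO m hN) K) = m * (2 * m - 1) := by
  classical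
  set g := TangentAbs.ptMat (B := BSO m hN) (rp m hN hm hQ) (K := K) with hg
  have hgP : g ∈ Pso m Q K := by
    rw [hg, TangentAbs.ptMat_eq (B := BSO m hN) (rp m hN hm hQ) (fun φ f => rp_comp m hN hm hQ φ f)]
    exact (rp m hN hm hQ K _).2
  have hgmem : g ∈ pts (orthRels N) K := Pso_subset m hN hgP
  have hgu : IsUnit g.det := hgmem.1
  have h1 : g * g⁻¹ = 1 := Matrix.mul_nonsing_inv g hgu
  have h2 : g⁻¹ * g = 1 := Matrix.nonsing_inv_mul g hgu
  set PK := N.map (algebraMap R K) + (N.map (algebraMap R K))ᵀ with hPK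
  have hPKu : IsUnit PK.det := isUnit_det_polar_map N hP
  have h3 : PK * PK⁻¹ = 1 := Matrix.mul_nonsing_inv PK hPKu
  have h4 : PK⁻¹ * PK = 1 := Matrix.nonsing_inv_mul PK hPKu
  let Φ : Matrix (Fin (2 * m)) (Fin (2 * m)) K ≃ₗ[K] Matrix (Fin (2 * m)) (Fin (2 * m)) K :=
    { toFun := fun Y => PK * (g⁻¹ * Y)
      invFun := fun X => g * (PK⁻¹ * X)
      map_add' := fun X Y => by rw [Matrix.mul_add, Matrix.mul_add]
      map_smul' := fun c X => by simp
      left_inv := fun X => by
        show g * (PK⁻¹ * (PK * (g⁻¹ * X))) = X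
        rw [← Matrix.mul_assoc PK⁻¹, h4, Matrix.one_mul, ← Matrix.mul_assoc, h1, Matrix.one_mul]
      right_inv := fun X => by
        show PK * (g⁻¹ * (g * (PK⁻¹ * X))) = X
        rw [← Matrix.mul_assoc g⁻¹, h2, Matrix.one_mul, ← Matrix.mul_assoc, h3, Matrix.one_mul] }
  let T : Submodule K (Matrix (Fin (2 * m)) (Fin (2 * m)) K) :=
    (Alt (K := K) (Fin (2 * m))).comap (Φ : Matrix _ _ K →ₗ[K] Matrix _ _ K)
  have hT : ∀ Y, Y ∈ T ↔ (g.map inl + Y.map inr) ∈ Pso m Q (TrivSqZeroExt K K) := by
    intro Y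
    let φ : K →ₐ[R] TrivSqZeroExt K K := TrivSqZeroExt.inlAlgHom R K K
    have hgE : g.map (inl : K → TrivSqZeroExt K K) ∈ pts (orthRels N) (TrivSqZeroExt K K) :=
      map_mem_pts (orthRels N) φ hgmem
    have hgE' : g⁻¹.map (inl : K → TrivSqZeroExt K K) ∈ pts (orthRels N) (TrivSqZeroExt K K) :=
      map_mem_pts (orthRels N) φ (inv_mem_orth N hgmem)
    have hprod : g⁻¹.map (inl : K → TrivSqZeroExt K K) * (g.map inl + Y.map inr) =
        1 + (g⁻¹ * Y).map inr := by
      rw [Matrix.mul_add, map_inl_mul_map_inl, map_inl_mul_map_inr, h2, map_inl_one]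
    have hprod' : g.map (inl : K → TrivSqZeroExt K K) * (1 + (g⁻¹ * Y).map inr) =
        g.map inl + Y.map inr := by
      rw [Matrix.mul_add, Matrix.mul_one, map_inl_mul_map_inr, ← Matrix.mul_assoc, h1,
        Matrix.one_mul]
    show QEq (PK * (g⁻¹ * Y)) 0 ↔ _
    rw [hPK, ← one_add_map_inr_mem_orth_iff]
    constructor
    · intro h
      have hmem : g.map inl + Y.map inr ∈ pts (orthRels N) (TrivSqZeroExt K K) := by
        rw [← hprod']
        exact mul_mem_orth N hgE h
      refine Pso_of_map m hN hm hQ (TrivSqZeroExt.fstHom R K K) ?_ ?_ _ hmem ?_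
      · intro k
        exact ⟨inl k, rfl⟩
      · intro a b ha hb
        have ha' : a.fst = 0 := ha
        have hb' : b.fst = 0 := hb
        apply TrivSqZeroExt.ext
        · simp [ha', hb']
        · simp [ha', hb']
      · have : (g.map (inl : K → TrivSqZeroExt K K) + Y.map inr).map
            (TrivSqZeroExt.fstHom R K K) = g := by
          ext i j
          simp
        rw [this]
        exact hgP
    · intro h
      rw [← hprod]
      exact mul_mem_orth N hgE' (Pso_subset m hN h)
  rw [TangentAbs.finrank_der_eq (B := BSO m hN) (rp m hN hm hQ) (fun φ f => rp_comp m hN hm hQ φ f) T hT,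
    finrank_eq_of_equiv Φ T (Alt (K := K) (Fin (2 * m))) (fun Y => Iff.rfl),
    finrank_Alt_of_card (2 * m) (Fin (2 * m)) (Fintype.card_fin _)]
  rw [Nat.mul_assoc, Nat.mul_div_cancel_left _ (by norm_num : 0 < 2)]

end Main

end Helper25.SOEven
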