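import Mathlib
import Groth.Agent.Lib.Helper25.SOEvenConn
import Groth.Agent.Lib.Helper25.SOEvenTangent
import Groth.Agent.Lib.Helper25.RelDimSch
import Groth.Agent.Lib.Helper25.RelDimTangent
import Groth.Agent.Lib.Helper25.LinRepIso

/-!
# `SO(q)` in even rank: smooth of relative dimension `m(2m-1)` with connected fibres
-/

set_option autoImplicit false
set_option linter.style.haveILetI false
set_option linter.unusedSectionVars false
set_option linter.unusedVariables false
universe u

namespace Helper25.SOEven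

open CategoryTheory AlgebraicGeometry TensorProduct Matrix Helper25.QuadMat Helper25.GLsub QuadGrp

variable {R : Type u} [CommRing R] (m : ℕ) {Q : QuadraticForm R (Fin (2 * m) → R)}
  {N : Matrix (Fin (2 * m)) (Fin (2 * m)) R} (hN : ∀ v, Q v = qf N v)
  (hm : 1 ≤ m) (hQ : Function.Surjective (QuadraticMap.polarBilin Q))

/-- Matrices of points of `SO(q)` are the points. -/
noncomputable def ptsEquivSO (A : Type u) [CommRing A] [Algebra R A] :
    Pso m Q A ≃ ↥(sorth Q A) where
  toFun g := ⟨ofMat R g.1 (Pso_subset m hN g.2).1, by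
    obtain ⟨G, hG, hGg⟩ := g.2
    have : ofMat R g.1 (Pso_subset m hN g.2).1 = G := by
      have h1 := ofMat_toMat G
      rw [← h1]
      congr 1
      exact hGg.symm
    rw [this]
    exact hG⟩
  invFun G := ⟨toMat G.1, ⟨G.1, G.2, rfl⟩⟩
  left_inv g := Subtype.ext (toMat_ofMat g.1 (Pso_subset m hN g.2).1)
  right_inv G := Subtype.ext (ofMat_toMat _)

include hm hQ in
theorem exists_isIso_BSO {G : Over (Spec (CommRingCat.of R))} [GrpObj G]
    (D : QuadGrp.SOrthRep Q G) : ∃ y₀ : QuadGrp.specOver R (BSO m hN) ⟶ G, IsIso y₀ := by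
  refine Helper25.AffRep.LinRep.exists_isIso D (BSO m hN)
    (fun A _ _ => (rp m hN hm hQ A).trans (ptsEquivSO m hN A)) ?_
  intro A A' _ _ _ _ φ f v
  simp only [Equiv.trans_apply]
  change ofMat R (rp m hN hm hQ A' (φ.comp f)).1
      (Pso_subset m hN (rp m hN hm hQ A' (φ.comp f)).2).1 (1 ⊗ₜ[R] v) =
    LinearMap.rTensor (Fin (2 * m) → R) φ.toLinearMap
      (ofMat R (rp m hN hm hQ A f).1 (Pso_subset m hN (rp m hN hm hQ A f).2).1 (1 ⊗ₜ[R] v))
  have h1 := rp_comp m hN hm hQ φ f
  have h2 : IsUnit ((rp m hN hm hQ A f).1.map φ).det := by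
    rw [← h1]; exact (Pso_subset m hN (rp m hN hm hQ A' (φ.comp f)).2).1
  rw [← rTensor_ofMat_one_tmul φ (rp m hN hm hQ A f).1
    (Pso_subset m hN (rp m hN hm hQ A f).2).1 h2]
  congr 1

end Helper25.SOEven
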