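import Mathlib
import Groth.Agent.Lib.Helper25.SOOddConn
import Groth.Agent.Lib.Helper25.FibreConn
import Groth.Agent.Lib.Helper25.OrthOddSmooth

/-!
# The fibres of the special orthogonal group of a semiregular form of odd rank are connected
-/

set_option autoImplicit false
set_option linter.style.haveILetI false
set_option linter.unusedSectionVars false
universe u

namespace Helper25.SOFam

open Matrix Helper25.QuadMat Helper25.ConnIdem Helper25.GLsub TensorProduct

variable {R : Type u} [CommRing R] (m : ℕ) (N : Matrix (Fin (2 * m + 1)) (Fin (2 * m + 1)) R)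
  (hh : IsUnit (hdetE (Equiv.refl (Fin (2 * m + 1))) N))

include hh in
theorem connectedSpace_tensor_sorth_odd (κ : Type u) [Field κ] [Algebra R κ] :
    ConnectedSpace (PrimeSpectrum (κ ⊗[R] Alg (sorthRels N))) := by
  haveI : Algebra.Smooth R (Alg (sorthRels N)) := smooth_sorth_odd m N hh
  haveI : Module.Flat R (Alg (sorthRels N)) := Algebra.Smooth.flat R _
  let K := AlgebraicClosure κ
  have htriv : ∀ e : κ ⊗[R] Alg (sorthRels N), IsIdempotentElem e → e = 0 ∨ e = 1 :=
    idem_descent (K := K) (fun e he => idem_trivial_sorth_odd m N hh e he)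
  haveI : Nontrivial (κ ⊗[R] Alg (sorthRels N)) := by
    let f₁ : Alg (sorthRels N) →ₐ[R] κ := (rep (sorthRels N) κ).symm ⟨1, one_mem_sorth N⟩
    exact (ev (K := κ) f₁).toRingHom.domain_nontrivial
  exact connectedSpace_of_idem (fun e he => htriv e he)

end Helper25.SOFam
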