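import Mathlib
import Groth.Agent.Lib.Helper25.SOOddFibre
import Groth.Agent.Lib.Helper25.SOTangent
import Groth.Agent.Lib.Helper25.LieDimOdd
import Groth.Agent.Lib.Helper25.RelDimSch
import Groth.Agent.Lib.Helper25.OrthMem
import Groth.Agent.Lib.Helper25.GPinEven
import Groth.Agent.Lib.Helper25.SOSplitAlg

/-!
# `SO(q)` in odd rank: smooth of relative dimension `m(2m+1)` with connected fibres
-/

set_option autoImplicit false
set_option linter.style.haveILetI false
set_option linter.unusedSectionVars false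
universe u

namespace Helper25.SOOdd

open CategoryTheory AlgebraicGeometry TensorProduct Matrix Helper25.QuadMat Helper25.GLsub

variable {R : Type u} [CommRing R]

theorem not_even_finrank (m : ℕ) (A : Type u) [CommRing A] [Algebra R A] :
    ¬ Even (Module.finrank A (A ⊗[R] (Fin (2 * m + 1) → R))) := by
  rcases subsingleton_or_nontrivial A with h | h
  · rw [Module.finrank_subsingleton]
    decide
  · rw [Module.finrank_eq_card_basis (bA R (Fin (2 * m + 1)) A), Fintype.card_fin]
    rw [Nat.not_even_iff_odd]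
    exact ⟨m, rfl⟩

theorem mem_sorth_odd_iff (m : ℕ) (Q : QuadraticForm R (Fin (2 * m + 1) → R))
    (N : Matrix (Fin (2 * m + 1)) (Fin (2 * m + 1)) R) (hN : ∀ v, Q v = qf N v)
    {A : Type u} [CommRing A] [Algebra R A]
    (g : (A ⊗[R] (Fin (2 * m + 1) → R)) ≃ₗ[A] (A ⊗[R] (Fin (2 * m + 1) → R))) :
    g ∈ QuadGrp.sorth Q A ↔ toMat g ∈ pts (sorthRels N) A := by
  rw [← mem_sorth'_iff Q N hN]
  unfold QuadGrp.sorth QuadGrp.SO
  rw [if_neg (not_even_finrank m A)]
  unfold QuadGrp.sorth' QuadGrp.SO'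
  rw [Subgroup.mem_inf, Subgroup.mem_inf, Helper25.GPinLift.mem_O_baseChangeForm_iff]
  rfl

end Helper25.SOOdd
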