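import Mathlib
import Groth.Agent.Lib.Helper25.SOSplitAlg
import Groth.Agent.Lib.Helper25.OrthMem
import Groth.Agent.Lib.Helper25.OrthSmooth
import Groth.Agent.Lib.Helper41.SplitClifford

/-!
# The naive special orthogonal group of the even split form over `ℤ` is reduced and not flat
-/

set_option autoImplicit false
set_option linter.style.haveILetI false
set_option linter.unusedSectionVars false
universe u
open CategoryTheory AlgebraicGeometry TensorProduct

namespace Helper25.SOSplit

open Matrix Helper25.QuadMat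

section Form

variable (R : Type*) [CommRing R] (m : ℕ)

/-- The Gram matrix of the even split form, on `Fin m × Fin 2`. -/
def N₀ : Matrix (Fin m × Fin 2) (Fin m × Fin 2) R :=
  fun p q => if p.1 = q.1 ∧ p.2 = 0 ∧ q.2 = 1 then 1 else 0

theorem qf_N₀ (x : Fin m × Fin 2 → R) : qf (N₀ R m) x = ∑ i, x (i, 0) * x (i, 1) := by
  unfold qf N₀
  simp only [Fintype.sum_prod_type, Fin.sum_univ_two]
  simp

theorem N₀_polar_sq : (N₀ R m + (N₀ R m)ᵀ) * (N₀ R m + (N₀ R m)ᵀ) = 1 := by
  ext ⟨i, s⟩ ⟨j, t⟩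
  rw [Matrix.mul_apply]
  simp only [Fintype.sum_prod_type, Fin.sum_univ_two, Matrix.add_apply, Matrix.transpose_apply, N₀,
    Matrix.one_apply, Prod.mk.injEq]
  fin_cases s <;> fin_cases t <;> simp [eq_comm]

/-- The Gram matrix of the even split form. -/
def Nsplit : Matrix (Fin (m * 2)) (Fin (m * 2)) R :=
  (N₀ R m).submatrix finProdFinEquiv.symm finProdFinEquiv.symm

theorem qf_Nsplit (x : Fin (m * 2) → R) : qf (Nsplit R m) x = QuadGrp.splitForm R (m * 2) x := by
  rw [Groth.Agent.Lib.Helper41.SplitClifford.splitForm_even_apply]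
  have h := qf_N₀ R m (x ∘ finProdFinEquiv)
  simp only [Function.comp_apply] at h
  rw [← h]
  unfold qf Nsplit
  rw [← Equiv.sum_comp finProdFinEquiv]
  refine Finset.sum_congr rfl fun p _ => ?_
  rw [← Equiv.sum_comp finProdFinEquiv]
  refine Finset.sum_congr rfl fun q _ => ?_
  simp

theorem isUnit_det_Nsplit : IsUnit (Nsplit R m + (Nsplit R m)ᵀ).det := by
  have h : Nsplit R m + (Nsplit R m)ᵀ =
      (N₀ R m + (N₀ R m)ᵀ).submatrix finProdFinEquiv.symm finProdFinEquiv.symm := by
    ext a b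
    simp [Nsplit]
  rw [h, Matrix.det_submatrix_equiv_self]
  exact Matrix.isUnit_det_of_left_inverse (N₀_polar_sq R m)

theorem splitForm_comp_swap (hm : 1 ≤ m) (x : Fin (m * 2) → R) :
    QuadGrp.splitForm R (m * 2)
      (x ∘ Equiv.swap (finProdFinEquiv ((⟨0, hm⟩ : Fin m), (0 : Fin 2)))
        (finProdFinEquiv ((⟨0, hm⟩ : Fin m), (1 : Fin 2)))) = QuadGrp.splitForm R (m * 2) x := by
  rw [Groth.Agent.Lib.Helper41.SplitClifford.splitForm_even_apply,
    Groth.Agent.Lib.Helper41.SplitClifford.splitForm_even_apply]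
  refine Finset.sum_congr rfl fun i _ => ?_
  simp only [Function.comp_apply]
  by_cases hi : i = ⟨0, hm⟩
  · subst hi
    rw [Equiv.swap_apply_left, Equiv.swap_apply_right, mul_comm]
  · have h : ∀ s t : Fin 2, finProdFinEquiv (i, s) ≠ finProdFinEquiv ((⟨0, hm⟩ : Fin m), t) := by
      intro s t h
      have := finProdFinEquiv.injective h
      exact hi (congrArg Prod.fst this)
    rw [Equiv.swap_apply_of_ne_of_ne (h 0 0) (h 0 1), Equiv.swap_apply_of_ne_of_ne (h 1 0) (h 1 1)]

/-- An integral reflection of the even split form. -/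
noncomputable def refl (hm : 1 ≤ m) : Matrix (Fin (m * 2)) (Fin (m * 2)) R :=
  (Equiv.swap (finProdFinEquiv ((⟨0, hm⟩ : Fin m), (0 : Fin 2)))
        (finProdFinEquiv ((⟨0, hm⟩ : Fin m), (1 : Fin 2)))).permMatrix R

theorem det_refl (hm : 1 ≤ m) : (refl R m hm).det = -1 := by
  unfold refl
  rw [Matrix.det_permutation, Equiv.Perm.sign_swap]
  · simp
  · intro h
    have := congrArg Prod.snd (finProdFinEquiv.injective h)
    simp at this

theorem refl_QEq (hm : 1 ≤ m) : QEq ((refl R m hm)ᵀ * Nsplit R m * refl R m hm) (Nsplit R m) := by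
  apply QEq.of_qf_eq
  intro x
  rw [qf_conj, refl, Matrix.permMatrix_mulVec, qf_Nsplit, qf_Nsplit, splitForm_comp_swap]

end Form

section Main

open Helper25.GLsub

variable {R : Type} [CommRing R]

/-- Ring-level statement: for a regular form `N` over a reduced ring `R` with `R ⧸ (2)` reduced,
`2` regular and not a unit, having an `R`-point of `O(N)` of determinant `-1`, the algebra
`R[O(N)] / (det - 1)` is reduced and not flat over `R`. -/
theorem quot_isReduced_and_not_flat [IsReduced R] (h2red : IsReduced (R ⧸ Ideal.span {(2 : R)}))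
    (h2reg : IsRegular (2 : R)) (h2u : ¬ IsUnit (2 : R))
    {ι : Type} [Fintype ι] [DecidableEq ι] [LinearOrder ι] (N : Matrix ι ι R)
    (hP : IsUnit (N + Nᵀ).det)
    (g₀ : Matrix ι ι R) (hg₀ : QEq (g₀ᵀ * N * g₀) N) (hg₀d : g₀.det = -1) :
    IsReduced (Alg (orthRels N) ⧸ Ideal.span {(univO N).det - 1}) ∧
      ¬ Module.Flat R (Alg (orthRels N) ⧸ Ideal.span {(univO N).det - 1}) := by
  haveI hsm : Algebra.Smooth R (Alg (orthRels N)) :=
    (GLsub.smooth_iff _).mpr (lifting_orth N hP)
  haveI hred : IsReduced (Alg (orthRels N)) :=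
    Groth.Agent.Lib.Helper24.isReduced_of_smooth_ring R _
  have h2 : (Ideal.span {(2 : Alg (orthRels N))}).IsRadical := isRadical_span_two R _ h2red
  have htf : ∀ x : Alg (orthRels N), 2 * x = 0 → x = 0 := by
    intro x hx
    have hreg : IsSMulRegular (Alg (orthRels N)) (2 : R) :=
      Module.Flat.isSMulRegular_of_isRegular h2reg
    have e0 := Algebra.smul_def (2 : R) x
    rw [map_ofNat, hx] at e0
    have e : (2 : R) • x = (2 : R) • (0 : Alg (orthRels N)) := by
      rw [smul_zero]; exact e0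
    exact hreg e
  have hd : (univO N).det * (univO N).det = 1 := by
    have hmem := (mem_pts_orthRels N (univO N)).mp (univO_mem N)
    have := det_sq_eq_one_of_regular _ (isUnit_det_polar_map N hP) (univO N) hmem.2
    rw [← this]; ring
  refine ⟨(Ideal.isRadical_iff_quotient_reduced _).mp
    (isRadical_span_sub_one htf h2 _ hd), ?_⟩
  obtain ⟨D, -, hD⟩ := exists_idem_of_sq_eq_one htf h2 _ hd
  -- the reflection
  have hrefl : g₀ ∈ pts (orthRels N) R := by
    rw [mem_pts_orthRels]
    refine ⟨by rw [hg₀d]; exact isUnit_one.neg, ?_⟩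
    have : N.map (algebraMap R R) = N := by ext i j; simp
    rw [this]
    exact hg₀
  let g : Alg (orthRels N) →ₐ[R] R := (rep (orthRels N) R).symm ⟨_, hrefl⟩
  have hg : (univO N).map g = g₀ := by
    rw [← rep_orth_eq]
    simp only [g, Equiv.apply_symm_apply]
  have hgd : g (univO N).det = -1 := by
    rw [AlgHom.map_det]
    have : g.mapMatrix (univO N) = (univO N).map g := rfl
    rw [this, hg, hg₀d]
  exact not_flat_quot h2reg h2u _ (-D) (by rw [hD]; ring) g hgd

/-- A group scheme pinned to the naive special orthogonal group is the spectrum of the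
representing algebra. -/
theorem exists_isIso_sorth' {ι : Type} [Fintype ι] [DecidableEq ι]
    (Q : QuadraticForm R (ι → R)) (N : Matrix ι ι R) (hN : ∀ v, Q v = qf N v)
    {G : Over (Spec (CommRingCat.of R))} [GrpObj G] (D : QuadGrp.SOrth'Rep Q G) :
    ∃ y₀ : QuadGrp.specOver R (Alg (sorthRels N)) ⟶ G, IsIso y₀ :=
  GLsub.exists_isIso (sorthRels N) D (fun _ _ _ g => mem_sorth'_iff Q N hN g)

/-- **The naive special orthogonal group of the even split form over `ℤ` (or any reduced ring with
`R ⧸ (2)` reduced, `2` regular and not a unit) is reduced and not flat.** -/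
theorem main [IsReduced R] (h2red : IsReduced (R ⧸ Ideal.span {(2 : R)}))
    (h2reg : IsRegular (2 : R)) (h2u : ¬ IsUnit (2 : R))
    (m : ℕ) (hm : 1 ≤ m) (G : Over (Spec (CommRingCat.of R))) [GrpObj G]
    (D : QuadGrp.SOrth'Rep (QuadGrp.splitForm R (m * 2)) G) :
    AlgebraicGeometry.IsReduced G.left ∧ ¬ AlgebraicGeometry.Flat G.hom := by
  classical
  set N := Nsplit R m with hN
  have hNq : ∀ v, QuadGrp.splitForm R (m * 2) v = qf N v := fun v => (qf_Nsplit R m v).symm
  obtain ⟨y₀, hy₀⟩ := exists_isIso_sorth' _ N hNq D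
  obtain ⟨e⟩ := nonempty_sorthAlgEquiv N
  obtain ⟨h1, h2⟩ := quot_isReduced_and_not_flat h2red h2reg h2u N (isUnit_det_Nsplit R m)
    (refl R m hm) (refl_QEq R m hm) (det_refl R m hm)
  haveI : IsReduced (Alg (sorthRels N)) :=
    isReduced_of_injective e.symm.toRingEquiv.toRingHom e.symm.injective
  refine ⟨Helper25.AffRep.isReduced_of_isIso _ y₀, fun hfl => h2 ?_⟩
  haveI := Helper25.AffRep.flat_of_isIso _ y₀ hfl
  exact Module.Flat.of_linearEquiv e.toLinearEquiv

theorem main' [IsReduced R] (h2red : IsReduced (R ⧸ Ideal.span {(2 : R)}))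
    (h2reg : IsRegular (2 : R)) (h2u : ¬ IsUnit (2 : R))
    (n m : ℕ) (hn : n = m * 2) (hm : 1 ≤ m) (G : Over (Spec (CommRingCat.of R)))
    [GrpObj G] (D : QuadGrp.SOrth'Rep (QuadGrp.splitForm R n) G) :
    AlgebraicGeometry.IsReduced G.left ∧ ¬ AlgebraicGeometry.Flat G.hom := by
  subst hn
  exact main h2red h2reg h2u m hm G D

theorem int_facts : IsReduced (ℤ ⧸ Ideal.span {(2 : ℤ)}) ∧ IsRegular (2 : ℤ) ∧ ¬ IsUnit (2 : ℤ) := by
  refine ⟨?_, IsRegular.of_ne_zero (by norm_num), ?_⟩
  · have hI : (Ideal.span {(2 : ℤ)}).IsPrime :=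
      (Ideal.span_singleton_prime (by norm_num)).mpr Int.prime_two
    exact (Ideal.isRadical_iff_quotient_reduced _).mp hI.isRadical
  · rw [Int.isUnit_iff]; omega

end Main

end Helper25.SOSplit
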