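import Mathlib

/-!
# Derivations of an Azumaya algebra are inner

If `C` is an Azumaya algebra over `A` admitting a retraction `ε : C → A` of the structure map, then
every `A`-linear `ψ`-derivation `D : C → X` into an `A`-algebra `X` (along an algebra map
`ψ : C → X`) is inner: `D c = y * ψ c - ψ c * y`, with `y` in any additive subgroup containing the
elements `D a * ψ b`.
-/

set_option autoImplicit false

namespace Helper25.SepDeriv

open scoped TensorProduct
open MulOpposite

variable {A : Type*} [CommRing A] {C : Type*} [Ring C] [Algebra A C]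
  {X : Type*} [Ring X] [Algebra A X]

/-- The bilinear map `(a, op b) ↦ D a * ψ b` on `C ⊗ Cᵐᵒᵖ`. -/
noncomputable def delta (ψ : C →ₐ[A] X) (D : C →ₗ[A] X) : C ⊗[A] Cᵐᵒᵖ →ₗ[A] X :=
  TensorProduct.lift
    ((LinearMap.mul A X).compl₁₂ D (ψ.toLinearMap ∘ₗ (opLinearEquiv A (M := C)).symm.toLinearMap))

theorem delta_tmul (ψ : C →ₐ[A] X) (D : C →ₗ[A] X) (a : C) (b : Cᵐᵒᵖ) :
    delta ψ D (a ⊗ₜ[A] b) = D a * ψ b.unop := by
  simp [delta]

theorem exists_inner [IsAzumaya A C] (ψ : C →ₐ[A] X) (D : C →ₗ[A] X)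
    (hD : ∀ a b, D (a * b) = D a * ψ b + ψ a * D b)
    (ε : C →ₗ[A] A) (hε : ε 1 = 1) (N : AddSubgroup X) (hN : ∀ a b, D a * ψ b ∈ N) :
    ∃ y ∈ N, ∀ c, D c = y * ψ c - ψ c * y := by
  let E₀ : Module.End A C := (Algebra.linearMap A C) ∘ₗ ε
  obtain ⟨t, ht⟩ := (IsAzumaya.bij (R := A) (A := C)).2 E₀
  have hmem : ∀ s : C ⊗[A] Cᵐᵒᵖ, delta ψ D s ∈ N := by
    intro s
    induction s using TensorProduct.induction_on with
    | zero => rw [map_zero]; exact N.zero_mem
    | tmul a b => rw [delta_tmul]; exact hN a b.unop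
    | add s s' hs hs' => rw [map_add]; exact N.add_mem hs hs'
  have hleft : ∀ (c : C) (s : C ⊗[A] Cᵐᵒᵖ),
      delta ψ D ((c ⊗ₜ[A] (1 : Cᵐᵒᵖ)) * s) =
        D c * ψ (AlgHom.mulLeftRight A C s 1) + ψ c * delta ψ D s := by
    intro c s
    induction s using TensorProduct.induction_on with
    | zero => simp
    | tmul a b =>
      rw [Algebra.TensorProduct.tmul_mul_tmul, delta_tmul, delta_tmul, AlgHom.mulLeftRight_apply,
        hD, one_mul, mul_one, map_mul, add_mul, mul_assoc, mul_assoc]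
    | add s s' hs hs' =>
      rw [mul_add, map_add, hs, hs', map_add, LinearMap.add_apply, map_add, mul_add, map_add,
        mul_add]
      abel
  have hright : ∀ (c : C) (s : C ⊗[A] Cᵐᵒᵖ),
      delta ψ D (((1 : C) ⊗ₜ[A] (op c : Cᵐᵒᵖ)) * s) = delta ψ D s * ψ c := by
    intro c s
    induction s using TensorProduct.induction_on with
    | zero => simp
    | tmul a b =>
      rw [Algebra.TensorProduct.tmul_mul_tmul, delta_tmul, delta_tmul, one_mul, unop_mul,
        unop_op, map_mul, mul_assoc]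
    | add s s' hs hs' =>
      rw [mul_add, map_add, hs, hs', map_add, add_mul]
  have hcomm : ∀ c : C, (c ⊗ₜ[A] (1 : Cᵐᵒᵖ)) * t = ((1 : C) ⊗ₜ[A] (op c : Cᵐᵒᵖ)) * t := by
    intro c
    apply (IsAzumaya.bij (R := A) (A := C)).1
    rw [map_mul, map_mul, ht]
    ext x
    simp only [Module.End.mul_apply, AlgHom.mulLeftRight_apply, E₀, LinearMap.comp_apply,
      Algebra.linearMap_apply, unop_one, mul_one, one_mul, unop_op]
    exact Algebra.commutes' _ _ |>.symm
  have h1 : AlgHom.mulLeftRight A C t 1 = 1 := by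
    rw [ht]
    simp [E₀, hε]
  refine ⟨delta ψ D t, hmem t, fun c => ?_⟩
  have h := hleft c t
  rw [hcomm c, hright c t, h1, map_one, mul_one] at h
  rw [h]
  abel

end Helper25.SepDeriv
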