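import Groth.Agent.Lib.Helper25.PolLawTS
import Mathlib.RingTheory.Invariant.Basic
import Mathlib.RingTheory.Adjoin.Tower

/-!
# Noether's finiteness theorem for symmetric tensors over a Noetherian base
-/

namespace Groth.Agent.Lib.Helper25.PolLawCoeff
open scoped TensorProduct
universe u

section Noether
variable (Z : Type u) [CommRing Z] (P : Type u) [CommRing P] [Algebra Z P] (d : ℕ)

theorem perm_one' (t : ⨂[Z] _ : Fin d, P) : SymTen.perm Z P d 1 t = t := by
  induction t using PiTensorProduct.induction_on with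
  | smul_tprod r f => rw [map_smul, SymTen.perm_tprod]; rfl
  | add x y hx hy => rw [map_add, hx, hy]

theorem perm_mul' (σ τ : Equiv.Perm (Fin d)) (t : ⨂[Z] _ : Fin d, P) :
    SymTen.perm Z P d (σ * τ) t = SymTen.perm Z P d σ (SymTen.perm Z P d τ t) := by
  induction t using PiTensorProduct.induction_on with
  | smul_tprod r f =>
    rw [map_smul, map_smul, map_smul, SymTen.perm_tprod, SymTen.perm_tprod, SymTen.perm_tprod]
    rfl
  | add x y hx hy => rw [map_add, map_add, map_add, hx, hy]

/-- the permutation action on the tensor power -/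
@[reducible] noncomputable def permAction : MulSemiringAction (Equiv.Perm (Fin d)) (⨂[Z] _ : Fin d, P) where
  smul σ t := SymTen.perm Z P d σ t
  one_smul t := perm_one' Z P d t
  mul_smul σ τ t := perm_mul' Z P d σ τ t
  smul_zero _ := map_zero _
  smul_add _ x y := map_add _ x y
  smul_one _ := map_one _
  smul_mul _ x y := map_mul _ x y

theorem isIntegral_tensorPower_TS :
    Algebra.IsIntegral (SymTen.TS Z P d) (⨂[Z] _ : Fin d, P) := by
  let := permAction Z P d
  have : Algebra.IsInvariant (SymTen.TS Z P d) (⨂[Z] _ : Fin d, P) (Equiv.Perm (Fin d)) := by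
    refine ⟨fun b hb => ⟨⟨b, fun σ => ?_⟩, rfl⟩⟩
    rw [← SymTen.perm_apply]
    exact hb σ
  exact Algebra.IsInvariant.isIntegral (SymTen.TS Z P d) (⨂[Z] _ : Fin d, P)
    (Equiv.Perm (Fin d))

theorem finiteType_tensorPower [Algebra.FiniteType Z P] :
    Algebra.FiniteType Z (⨂[Z] _ : Fin d, P) := by
  classical
  obtain ⟨s, hs⟩ := (Algebra.FiniteType.out : (⊤ : Subalgebra Z P).FG)
  let G : Finset (⨂[Z] _ : Fin d, P) :=
    Finset.univ.biUnion fun i : Fin d =>
      s.image (PiTensorProduct.singleAlgHom (R := Z) (A := fun _ : Fin d => P) i)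
  refine ⟨⟨G, ?_⟩⟩
  rw [eq_top_iff]
  have hsingle : ∀ (i : Fin d) (p : P),
      PiTensorProduct.singleAlgHom (R := Z) (A := fun _ : Fin d => P) i p ∈
        Algebra.adjoin Z (G : Set (⨂[Z] _ : Fin d, P)) := by
    intro i p
    have hp : p ∈ Algebra.adjoin Z (s : Set P) := by rw [hs]; exact Algebra.mem_top
    have h1 : (Algebra.adjoin Z (s : Set P)).map
        (PiTensorProduct.singleAlgHom (R := Z) (A := fun _ : Fin d => P) i) ≤
        Algebra.adjoin Z (G : Set (⨂[Z] _ : Fin d, P)) := by
      rw [AlgHom.map_adjoin]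
      apply Algebra.adjoin_mono
      intro x hx
      obtain ⟨p, hp, rfl⟩ := hx
      simp only [G, Finset.coe_biUnion, Finset.coe_univ, Set.mem_univ, Set.iUnion_true,
        Finset.coe_image, Set.mem_iUnion, Set.mem_image, Finset.mem_coe]
      exact ⟨i, p, hp, rfl⟩
    exact h1 ⟨p, hp, rfl⟩
  have hall : ∀ t : ⨂[Z] _ : Fin d, P, t ∈ Algebra.adjoin Z (G : Set (⨂[Z] _ : Fin d, P)) := by
    intro t
    induction t using PiTensorProduct.induction_on with
    | smul_tprod r f =>
      rw [← prod_single_eq_tprod]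
      exact Subalgebra.smul_mem _ (Subalgebra.prod_mem _ fun i _ => hsingle i (f i)) r
    | add x y hx hy => exact Subalgebra.add_mem _ hx hy
  intro t _
  exact hall t

/-- **Noether.** Over a Noetherian base, the symmetric tensors of a finite type algebra form a
finite type algebra. -/
theorem finiteType_TS [IsNoetherianRing Z] [Algebra.FiniteType Z P] :
    Algebra.FiniteType Z (SymTen.TS Z P d) := by
  have := finiteType_tensorPower Z P d
  have := isIntegral_tensorPower_TS Z P d
  have : Algebra.FiniteType (SymTen.TS Z P d) (⨂[Z] _ : Fin d, P) :=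
    Algebra.FiniteType.of_restrictScalars_finiteType Z _ _
  have : Module.Finite (SymTen.TS Z P d) (⨂[Z] _ : Fin d, P) := Algebra.IsIntegral.finite
  refine ⟨fg_of_fg_of_fg Z (SymTen.TS Z P d) (⨂[Z] _ : Fin d, P)
    (Algebra.FiniteType.out) (Module.Finite.fg_top) ?_⟩
  exact Subtype.val_injective

end Noether

end Groth.Agent.Lib.Helper25.PolLawCoeff
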