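import Mathlib

/-!
# Traces along filtrations

* `trace_eq_add_of_exact`: additivity of the trace of endomorphisms along a short exact sequence of
  finite-dimensional vector spaces.
* `trace_quot_pow`: for a finite-dimensional commutative `k`-algebra `C` and `ϖ : C` such that the
  multiplication maps `ϖ ^ j : C ⧸ (ϖ) → C ⧸ (ϖ ^ (j + 1))` are injective for `j < e`, the trace of
  `c` on `C ⧸ (ϖ ^ j)` is `j` times its trace on `C ⧸ (ϖ)`, for `j ≤ e`.
-/

namespace Groth.Agent.Lib.Helper25.TraceFiltration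

open LinearMap

/-- Additivity of the trace along a short exact sequence of finite-dimensional spaces. -/
theorem trace_eq_add_of_exact {k V' V V'' : Type*} [Field k]
    [AddCommGroup V'] [Module k V'] [AddCommGroup V] [Module k V]
    [AddCommGroup V''] [Module k V''] [FiniteDimensional k V]
    (i : V' →ₗ[k] V) (q : V →ₗ[k] V'') (hi : Function.Injective i)
    (hq : Function.Surjective q) (hex : LinearMap.range i = LinearMap.ker q)
    (f' : Module.End k V') (f : Module.End k V) (f'' : Module.End k V'')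
    (h1 : i ∘ₗ f' = f ∘ₗ i) (h2 : q ∘ₗ f = f'' ∘ₗ q) :
    LinearMap.trace k V f = LinearMap.trace k V' f' + LinearMap.trace k V'' f'' := by
  have : FiniteDimensional k V' := FiniteDimensional.of_injective i hi
  have : FiniteDimensional k V'' := FiniteDimensional.of_surjective q hq
  obtain ⟨s, hs⟩ := LinearMap.exists_rightInverse_of_surjective q (LinearMap.range_eq_top.2 hq)
  obtain ⟨r, hr⟩ := LinearMap.exists_leftInverse_of_injective i (LinearMap.ker_eq_bot.2 hi)
  have hqi : q ∘ₗ i = 0 := by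
    ext v
    have : i v ∈ LinearMap.ker q := hex ▸ LinearMap.mem_range_self i v
    simpa using this
  set ρ : V →ₗ[k] V' := r ∘ₗ (LinearMap.id - s ∘ₗ q) with hρ
  have hid : (LinearMap.id : V →ₗ[k] V) = i ∘ₗ ρ + s ∘ₗ q := by
    ext v
    have hv : v - s (q v) ∈ LinearMap.ker q := by
      have := LinearMap.congr_fun hs (q v)
      simp only [LinearMap.mem_ker, map_sub]
      simp only [LinearMap.comp_apply, LinearMap.id_apply] at this
      rw [this, sub_self]
    rw [← hex] at hv
    obtain ⟨w, hw⟩ := hv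
    have hrw : r (i w) = w := LinearMap.congr_fun hr w
    simp only [LinearMap.id_apply, LinearMap.add_apply, LinearMap.comp_apply, hρ,
      LinearMap.sub_apply, ← hw, hrw]
    rw [hw]; abel
  have hρi : ρ ∘ₗ i = LinearMap.id := by
    ext v
    have h0 : q (i v) = 0 := LinearMap.congr_fun hqi v
    have hrw : r (i v) = v := LinearMap.congr_fun hr v
    simp [hρ, h0, hrw]
  calc LinearMap.trace k V f = LinearMap.trace k V (f ∘ₗ (i ∘ₗ ρ + s ∘ₗ q)) := by
        rw [← hid, LinearMap.comp_id]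
    _ = LinearMap.trace k V ((f ∘ₗ i) ∘ₗ ρ) + LinearMap.trace k V ((f ∘ₗ s) ∘ₗ q) := by
        rw [LinearMap.comp_add, map_add, LinearMap.comp_assoc, LinearMap.comp_assoc]
    _ = LinearMap.trace k V' (ρ ∘ₗ (f ∘ₗ i)) + LinearMap.trace k V'' (q ∘ₗ (f ∘ₗ s)) := by
        rw [LinearMap.trace_comp_comm', LinearMap.trace_comp_comm' (f ∘ₗ s)]
    _ = LinearMap.trace k V' f' + LinearMap.trace k V'' f'' := by
        rw [← h1, ← LinearMap.comp_assoc, hρi, LinearMap.id_comp, ← LinearMap.comp_assoc, h2,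
          LinearMap.comp_assoc, hs, LinearMap.comp_id]

variable {k C : Type*} [Field k] [CommRing C] [Algebra k C] [FiniteDimensional k C]

/-- multiplication by `a` as a map between quotients. -/
noncomputable def mulQ (I J : Ideal C) (a : C) (h : ∀ x ∈ I, a * x ∈ J) :
    (C ⧸ I) →ₗ[k] (C ⧸ J) :=
  (Submodule.mapQ I J (LinearMap.mulLeft C a) (fun x hx => by
    simpa using h x hx)).restrictScalars k

@[simp] theorem mulQ_mk (I J : Ideal C) (a : C) (h : ∀ x ∈ I, a * x ∈ J) (x : C) :
    mulQ (k := k) I J a h (Ideal.Quotient.mk I x) = Ideal.Quotient.mk J (a * x) := rfl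

theorem trace_quot_pow (ϖ : C) (e : ℕ)
    (H : ∀ j < e, ∀ c : C, c * ϖ ^ j ∈ Ideal.span {ϖ ^ (j + 1)} → c ∈ Ideal.span {ϖ})
    (j : ℕ) (hj : j ≤ e) (c : C) :
    Algebra.trace k (C ⧸ Ideal.span {ϖ ^ j}) (Ideal.Quotient.mk _ c) =
      j • Algebra.trace k (C ⧸ Ideal.span {ϖ}) (Ideal.Quotient.mk _ c) := by
  induction j with
  | zero =>
    have : Subsingleton (C ⧸ Ideal.span {ϖ ^ 0}) := by
      rw [pow_zero, Ideal.span_singleton_one]
      exact Ideal.Quotient.subsingleton_iff.2 rfl
    rw [zero_smul, Subsingleton.elim (Ideal.Quotient.mk _ c) 0, map_zero]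
  | succ j ih =>
    have hj' : j < e := hj
    rw [succ_nsmul', ← ih hj'.le]
    -- the exact sequence
    have hle : Ideal.span {ϖ ^ (j + 1)} ≤ Ideal.span {ϖ ^ j} := by
      rw [Ideal.span_singleton_le_span_singleton]
      exact ⟨ϖ, by rw [pow_succ]⟩
    let i : (C ⧸ Ideal.span {ϖ}) →ₗ[k] (C ⧸ Ideal.span {ϖ ^ (j + 1)}) :=
      mulQ _ _ (ϖ ^ j) (fun x hx => by
        obtain ⟨y, rfl⟩ := Ideal.mem_span_singleton'.1 hx
        exact Ideal.mem_span_singleton'.2 ⟨y, by ring⟩)
    let q : (C ⧸ Ideal.span {ϖ ^ (j + 1)}) →ₗ[k] (C ⧸ Ideal.span {ϖ ^ j}) :=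
      (Ideal.Quotient.factorₐ k hle).toLinearMap
    have hq_mk : ∀ x, q (Ideal.Quotient.mk _ x) = Ideal.Quotient.mk _ x := fun x => rfl
    rw [Algebra.trace_apply, Algebra.trace_apply, Algebra.trace_apply]
    refine trace_eq_add_of_exact i q ?_ ?_ ?_ _ _ _ ?_ ?_
    · rw [injective_iff_map_eq_zero]
      intro x hx
      obtain ⟨x, rfl⟩ := Ideal.Quotient.mk_surjective x
      rw [mulQ_mk, Ideal.Quotient.eq_zero_iff_mem, mul_comm] at hx
      exact Ideal.Quotient.eq_zero_iff_mem.2 (H j hj' x hx)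
    · exact Ideal.Quotient.factor_surjective hle
    · ext x
      obtain ⟨x, rfl⟩ := Ideal.Quotient.mk_surjective x
      rw [LinearMap.mem_ker, hq_mk, Ideal.Quotient.eq_zero_iff_mem]
      constructor
      · rintro ⟨y, hy⟩
        obtain ⟨y, rfl⟩ := Ideal.Quotient.mk_surjective y
        rw [mulQ_mk, Ideal.Quotient.eq] at hy
        have h2 := hle hy
        have h3 : ϖ ^ j * y ∈ Ideal.span {ϖ ^ j} :=
          Ideal.mem_span_singleton'.2 ⟨y, mul_comm _ _⟩
        have := (Ideal.span {ϖ ^ j}).sub_mem h3 h2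
        simpa using this
      · intro hx
        obtain ⟨y, rfl⟩ := Ideal.mem_span_singleton'.1 hx
        exact ⟨Ideal.Quotient.mk _ y, by rw [mulQ_mk, mul_comm]⟩
    · refine LinearMap.ext fun x => ?_
      obtain ⟨x, rfl⟩ := Ideal.Quotient.mk_surjective x
      simp only [LinearMap.comp_apply, Algebra.coe_lmul_eq_mul, LinearMap.mul_apply', i]
      rw [← map_mul, mulQ_mk, mulQ_mk, ← map_mul]
      congr 1; ring
    · refine LinearMap.ext fun x => ?_
      obtain ⟨x, rfl⟩ := Ideal.Quotient.mk_surjective x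
      simp only [LinearMap.comp_apply, Algebra.coe_lmul_eq_mul, LinearMap.mul_apply']
      rw [← map_mul, hq_mk, hq_mk, ← map_mul]

end Groth.Agent.Lib.Helper25.TraceFiltration
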