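import Mathlib
import Groth.Agent.Lib.Helper25.TraceFiltration

/-!
# The different of an extension of discrete valuation rings and tame ramification

For a finite injective local homomorphism `A → B` of discrete valuation rings with separable
fraction field extension and ramification index `e`, the different is `m_B ^ (e - 1)` iff the
extension is tamely ramified.
-/

open IsLocalRing nonZeroDivisors

namespace Groth.Agent.Lib.Helper25.TameDifferent

attribute [local instance] Ideal.Quotient.field
attribute [local instance] FractionRing.liftAlgebra FractionRing.isScalarTower_liftAlgebra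

variable (A B : Type*) [CommRing A] [IsDomain A] [IsDiscreteValuationRing A]
    [CommRing B] [IsDomain B] [IsDiscreteValuationRing B] [Algebra A B] [Module.Finite A B]
    [Module.IsTorsionFree A B] [IsLocalHom (algebraMap A B)]

omit [Module.Finite A B] [IsLocalHom (algebraMap A B)] in
theorem map_ne_bot : (maximalIdeal A).map (algebraMap A B) ≠ ⊥ :=
  Ideal.map_ne_bot_of_ne_bot (IsDiscreteValuationRing.not_a_field A)

theorem map_eq_pow : (maximalIdeal A).map (algebraMap A B) =
    maximalIdeal B ^ (Ideal.ramificationIdx (maximalIdeal B) A) := by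
  have hpB := map_ne_bot A B
  obtain ⟨n, hn⟩ := exists_maximalIdeal_pow_eq_of_principal B
    (IsPrincipalIdealRing.principal _) _ hpB
  have hP0 : maximalIdeal B ≠ ⊥ := IsDiscreteValuationRing.not_a_field B
  have h := Ideal.IsDedekindDomain.ramificationIdx_eq_multiplicity (maximalIdeal A)
    (maximalIdeal B) hpB
  rw [hn] at h ⊢
  rw [h]
  congr 1
  have hprime : Prime (maximalIdeal B) := Ideal.prime_of_isPrime hP0 inferInstance
  rw [multiplicity_pow_self hprime.ne_zero hprime.not_isUnit]

theorem different_eq_iff [Algebra.IsSeparable (FractionRing A) (FractionRing B)] :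
    differentIdeal A B = maximalIdeal B ^ (Ideal.ramificationIdx (maximalIdeal B) A - 1) ↔
      ¬ (maximalIdeal A).map (algebraMap A B) ∣ differentIdeal A B := by
  have hP0 : maximalIdeal B ≠ ⊥ := IsDiscreteValuationRing.not_a_field B
  have hP1 : maximalIdeal B ≠ ⊤ := Ideal.IsPrime.ne_top inferInstance
  have hanti := Ideal.pow_right_strictAnti (maximalIdeal B) hP0 hP1
  have hD : differentIdeal A B ≠ ⊥ := differentIdeal_ne_bot
  obtain ⟨m, hm⟩ := exists_maximalIdeal_pow_eq_of_principal B
    (IsPrincipalIdealRing.principal _) _ hD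
  have hpow := map_eq_pow A B
  set e := Ideal.ramificationIdx (maximalIdeal B) A with he
  have h1 : maximalIdeal B ^ (e - 1) ∣ differentIdeal A B :=
    pow_sub_one_dvd_differentIdeal A (maximalIdeal B) e
      (IsDiscreteValuationRing.not_a_field A) (by rw [hpow])
  have hepos : 0 < e := Ideal.ramificationIdx_pos _ _
  rw [hm, hpow] at *
  rw [Ideal.dvd_iff_le, hanti.le_iff_ge] at h1
  rw [Ideal.dvd_iff_le, hanti.le_iff_ge, hanti.injective.eq_iff]
  omega

theorem dvd_different_iff [Algebra.IsSeparable (FractionRing A) (FractionRing B)] :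
    (maximalIdeal A).map (algebraMap A B) ∣ differentIdeal A B ↔
      ∀ x : B, Algebra.intTrace A B x ∈ maximalIdeal A := by
  constructor
  · intro h x
    by_contra hx
    exact not_dvd_differentIdeal_of_intTrace_not_mem A
      ((maximalIdeal A).map (algebraMap A B)) ⊤ (by rw [Ideal.mul_top]) x trivial hx h
  · intro this
    let K := FractionRing A
    let L := FractionRing B
    have hp : maximalIdeal A ≠ ⊥ := IsDiscreteValuationRing.not_a_field A
    have hp' := map_ne_bot A B
    have hP : (((maximalIdeal A).map (algebraMap A B) :)⁻¹ : FractionalIdeal B⁰ L) =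
        1 / ((maximalIdeal A).map (algebraMap A B) :) := by
      rw [one_div]
    rw [Ideal.dvd_iff_le, differentialIdeal_le_iff (K := K) (L := L) hp', hP,
      Submodule.map_le_iff_le_comap]
    intro x hx
    rw [Submodule.restrictScalars_mem, FractionalIdeal.mem_coe,
      FractionalIdeal.mem_div_iff_of_ne_zero (by simpa using hp')] at hx
    rw [Submodule.mem_comap, LinearMap.coe_restrictScalars, ← FractionalIdeal.coe_one,
      ← div_self (G₀ := FractionalIdeal A⁰ K) (a := (maximalIdeal A : Ideal A)) (by simpa using hp),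
      FractionalIdeal.mem_coe, FractionalIdeal.mem_div_iff_of_ne_zero (by simpa using hp)]
    simp only [FractionalIdeal.mem_coeIdeal, forall_exists_index, and_imp,
      forall_apply_eq_imp_iff₂] at hx
    intro y hy'
    obtain ⟨y, hy, rfl : algebraMap A K _ = _⟩ := (FractionalIdeal.mem_coeIdeal _).mp hy'
    obtain ⟨z, hz'⟩ : ∃ z : B, algebraMap B L z = x * algebraMap B L (algebraMap A B y) := by
      have := hx _ (Ideal.mem_map_of_mem _ hy)
      rw [FractionalIdeal.mem_one_iff] at this
      obtain ⟨z, hz⟩ := this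
      exact ⟨z, hz⟩
    have : Algebra.trace K L (algebraMap B L z) ∈ ((maximalIdeal A : Ideal A) : FractionalIdeal A⁰ K) := by
      rw [← Algebra.algebraMap_intTrace (A := A)]
      exact ⟨Algebra.intTrace A B z, this z, rfl⟩
    rwa [mul_comm, ← smul_eq_mul, ← map_smul, Algebra.smul_def, mul_comm,
      ← IsScalarTower.algebraMap_apply, IsScalarTower.algebraMap_apply A B L, ← hz']

theorem map_le : (maximalIdeal A).map (algebraMap A B) ≤ maximalIdeal B := by
  rw [map_eq_pow A B]
  exact Ideal.pow_le_self (Ideal.ramificationIdx_pos _ _).ne'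

/-- the comparison map `B ⧸ pB → B ⧸ P` as an algebra map over `A ⧸ p`. -/
noncomputable def toRes : (B ⧸ (maximalIdeal A).map (algebraMap A B)) →ₐ[A ⧸ maximalIdeal A]
    (B ⧸ maximalIdeal B) :=
  { Ideal.Quotient.factor (map_le A B) with
    commutes' := fun r => by
      obtain ⟨a, rfl⟩ := Ideal.Quotient.mk_surjective r
      rfl }

@[simp] theorem toRes_mk (x : B) : toRes A B (Ideal.Quotient.mk _ x) = Ideal.Quotient.mk _ x := rfl

theorem trace_quot_eq (x : B) :
    Algebra.trace (A ⧸ maximalIdeal A) (B ⧸ (maximalIdeal A).map (algebraMap A B))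
      (Ideal.Quotient.mk _ x) =
    (Ideal.ramificationIdx (maximalIdeal B) A) •
      Algebra.trace (A ⧸ maximalIdeal A) (B ⧸ maximalIdeal B) (Ideal.Quotient.mk _ x) := by
  set e := Ideal.ramificationIdx (maximalIdeal B) A with he
  set C := B ⧸ (maximalIdeal A).map (algebraMap A B) with hC
  obtain ⟨π, hπ⟩ := IsDiscreteValuationRing.exists_irreducible B
  have hP : maximalIdeal B = Ideal.span {π} := hπ.maximalIdeal_eq
  have hpB : (maximalIdeal A).map (algebraMap A B) = Ideal.span {π ^ e} := by
    rw [map_eq_pow A B, ← he, hP, Ideal.span_singleton_pow]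
  set ϖ : C := Ideal.Quotient.mk _ π with hϖ
  have : Module.Finite (A ⧸ maximalIdeal A) C :=
    Module.Finite.of_restrictScalars_finite A _ _
  have H : ∀ j < e, ∀ c : C, c * ϖ ^ j ∈ Ideal.span {ϖ ^ (j + 1)} → c ∈ Ideal.span {ϖ} := by
    intro j hj c hc
    obtain ⟨b, rfl⟩ := Ideal.Quotient.mk_surjective c
    obtain ⟨d, hd⟩ := Ideal.mem_span_singleton'.1 hc
    obtain ⟨b', rfl⟩ := Ideal.Quotient.mk_surjective d
    rw [hϖ, ← map_pow, ← map_pow, ← map_mul, ← map_mul, Ideal.Quotient.eq, hpB,
      Ideal.mem_span_singleton'] at hd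
    obtain ⟨t, ht⟩ := hd
    have hb : b = π * (b' - t * π ^ (e - j - 1)) := by
      have hπ0 : π ^ j ≠ 0 := pow_ne_zero _ hπ.ne_zero
      apply mul_left_cancel₀ hπ0
      have he' : e = j + 1 + (e - j - 1) := by omega
      have h2 : π ^ e = π ^ j * π * π ^ (e - j - 1) := by
        conv_lhs => rw [he']
        rw [pow_add, pow_succ]
      have h3 : b * π ^ j = b' * π ^ (j + 1) - t * π ^ e := by
        rw [ht]; ring
      rw [h2, pow_succ] at h3
      linear_combination h3
    rw [hb, map_mul]
    exact Ideal.mul_mem_right _ _ (Ideal.subset_span rfl)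
  have h1 := TraceFiltration.trace_quot_pow (k := A ⧸ maximalIdeal A) ϖ e H e le_rfl (Ideal.Quotient.mk _ x)
  -- identify `C ⧸ (ϖ ^ e)` with `C`
  have hϖe : ϖ ^ e = 0 := by
    rw [hϖ, ← map_pow, Ideal.Quotient.eq_zero_iff_mem, hpB]
    exact Ideal.subset_span rfl
  let ψ₁ : C ≃ₐ[A ⧸ maximalIdeal A] (C ⧸ Ideal.span {ϖ ^ e}) :=
    AlgEquiv.ofBijective (Ideal.Quotient.mkₐ _ _) ⟨by
      rw [injective_iff_map_eq_zero]
      intro c hc
      rw [Ideal.Quotient.mkₐ_eq_mk, Ideal.Quotient.eq_zero_iff_mem, hϖe,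
        Ideal.span_singleton_eq_bot.2 rfl] at hc
      exact hc, Ideal.Quotient.mkₐ_surjective _ _⟩
  have h2 := Algebra.trace_eq_of_algEquiv ψ₁ (Ideal.Quotient.mk _ x)
  -- identify `C ⧸ (ϖ)` with `B ⧸ P`
  let φ : (C ⧸ Ideal.span {ϖ}) →ₐ[A ⧸ maximalIdeal A] (B ⧸ maximalIdeal B) :=
    Ideal.Quotient.liftₐ _ (toRes A B) (fun c hc => by
      obtain ⟨d, rfl⟩ := Ideal.mem_span_singleton'.1 hc
      obtain ⟨d, rfl⟩ := Ideal.Quotient.mk_surjective d
      rw [hϖ, ← map_mul, toRes_mk, Ideal.Quotient.eq_zero_iff_mem, hP]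
      exact Ideal.mul_mem_left _ _ (Ideal.subset_span rfl))
  have hφ : Function.Bijective φ := by
    constructor
    · rw [injective_iff_map_eq_zero]
      intro c hc
      obtain ⟨c, rfl⟩ := Ideal.Quotient.mk_surjective c
      obtain ⟨b, rfl⟩ := Ideal.Quotient.mk_surjective c
      have hc' : Ideal.Quotient.mk (maximalIdeal B) b = 0 := hc
      rw [Ideal.Quotient.eq_zero_iff_mem, hP, Ideal.mem_span_singleton'] at hc'
      obtain ⟨t, rfl⟩ := hc'
      rw [Ideal.Quotient.eq_zero_iff_mem, map_mul]
      exact Ideal.mul_mem_left _ _ (Ideal.subset_span rfl)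
    · intro y
      obtain ⟨b, rfl⟩ := Ideal.Quotient.mk_surjective y
      exact ⟨Ideal.Quotient.mk _ (Ideal.Quotient.mk _ b), rfl⟩
  have h3 := Algebra.trace_eq_of_algEquiv (AlgEquiv.ofBijective φ hφ)
    (Ideal.Quotient.mk _ (Ideal.Quotient.mk _ x))
  have h4 : (AlgEquiv.ofBijective φ hφ) (Ideal.Quotient.mk _ (Ideal.Quotient.mk _ x)) =
    Ideal.Quotient.mk _ x := rfl
  rw [h4] at h3
  rw [h3, ← h1, ← h2]
  rfl


theorem intTrace_mem_iff (x : B) :
    Algebra.intTrace A B x ∈ maximalIdeal A ↔
      (Ideal.ramificationIdx (maximalIdeal B) A) •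
        Algebra.trace (A ⧸ maximalIdeal A) (B ⧸ maximalIdeal B) (Ideal.Quotient.mk _ x) = 0 := by
  rw [← trace_quot_eq, Algebra.trace_quotient_eq_of_isDedekindDomain, Ideal.Quotient.eq_zero_iff_mem]

/-- The different of `B` over `A` is `m_B ^ (e - 1)` iff the extension is tame. -/
theorem different_eq_pow_iff_tame [Algebra.IsSeparable (FractionRing A) (FractionRing B)] :
    differentIdeal A B = maximalIdeal B ^ (Ideal.ramificationIdx (maximalIdeal B) A - 1) ↔
      (Algebra.IsSeparable (A ⧸ maximalIdeal A) (B ⧸ maximalIdeal B) ∧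
        ((Ideal.ramificationIdx (maximalIdeal B) A : ℕ) : A ⧸ maximalIdeal A) ≠ 0) := by
  rw [different_eq_iff, dvd_different_iff]
  simp only [intTrace_mem_iff, not_forall, nsmul_eq_mul, mul_eq_zero, not_or]
  have : Module.Finite (A ⧸ maximalIdeal A) (B ⧸ maximalIdeal B) :=
    Module.Finite.of_restrictScalars_finite A _ _
  constructor
  · rintro ⟨x, he, hx⟩
    refine ⟨?_, he⟩
    by_contra hsep
    rw [Algebra.trace_eq_zero_of_not_isSeparable hsep] at hx
    exact hx rfl
  · rintro ⟨hsep, he⟩
    have h := Algebra.trace_ne_zero (A ⧸ maximalIdeal A) (B ⧸ maximalIdeal B)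
    obtain ⟨y, hy⟩ : ∃ y, Algebra.trace (A ⧸ maximalIdeal A) (B ⧸ maximalIdeal B) y ≠ 0 := by
      by_contra hcon
      push Not at hcon
      exact h (LinearMap.ext hcon)
    obtain ⟨x, rfl⟩ := Ideal.Quotient.mk_surjective y
    exact ⟨x, he, hy⟩

end Groth.Agent.Lib.Helper25.TameDifferent
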