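import Groth.Prelude.Def_AzInv
import Groth.Prelude.Def_W4c2azumayainvolQEt
import Groth.Agent.S15586
import Mathlib

/-!
# Unitary conjugating elements for automorphisms commuting with an involution (helper25)
-/

set_option autoImplicit false
universe u v w

namespace Groth.Agent.Lib.Helper25.UnitaryConj

open scoped TensorProduct
open AzInv MulOpposite

section BC

variable (S : Type u) {R : Type v} [CommRing S] [CommRing R] [Algebra S R]
  {A : Type w} [Ring A] [Algebra S A] [Algebra R A] [IsScalarTower S R A]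
  (lam : R ≃ₐ[S] R) (S₁ : Type*) [CommRing S₁] [Algebra S S₁] (t : LamInv R A lam)

theorem bc_mul (x y : S₁ ⊗[S] A) :
    t.bc S lam S₁ (x * y) = t.bc S lam S₁ y * t.bc S lam S₁ x := by
  induction x using TensorProduct.induction_on with
  | zero => simp
  | add x x' hx hx' => rw [add_mul, map_add, hx, hx', map_add, mul_add]
  | tmul s a =>
    induction y using TensorProduct.induction_on with
    | zero => simp
    | add y y' hy hy' => rw [mul_add, map_add, hy, hy', map_add, add_mul]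
    | tmul s' a' =>
      rw [Algebra.TensorProduct.tmul_mul_tmul, LamInv.bc_tmul, LamInv.bc_tmul, LamInv.bc_tmul,
        Algebra.TensorProduct.tmul_mul_tmul, t.map_mul, mul_comm]

theorem bc_bc (x : S₁ ⊗[S] A) : t.bc S lam S₁ (t.bc S lam S₁ x) = x := by
  induction x using TensorProduct.induction_on with
  | zero => simp
  | add x x' hx hx' => rw [map_add, map_add, hx, hx']
  | tmul s a => rw [LamInv.bc_tmul, LamInv.bc_tmul, t.invol]

theorem bc_one : t.bc S lam S₁ (1 : S₁ ⊗[S] A) = 1 := by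
  rw [Algebra.TensorProduct.one_def, LamInv.bc_tmul, t.map_one]

theorem bc_unit_inv (u : (S₁ ⊗[S] A)ˣ) :
    t.bc S lam S₁ ((u⁻¹ : (S₁ ⊗[S] A)ˣ) : S₁ ⊗[S] A) * t.bc S lam S₁ (u : S₁ ⊗[S] A) = 1 := by
  rw [← bc_mul, Units.mul_inv, bc_one]

theorem bc_unit_inv' (u : (S₁ ⊗[S] A)ˣ) :
    t.bc S lam S₁ (u : S₁ ⊗[S] A) * t.bc S lam S₁ ((u⁻¹ : (S₁ ⊗[S] A)ˣ) : S₁ ⊗[S] A) = 1 := by
  rw [← bc_mul, Units.inv_mul, bc_one]

end BC

section Center

variable (S : Type u) {R : Type v} [CommRing S] [CommRing R] [Algebra S R]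
  {A : Type w} [Ring A] [Algebra S A] [Algebra R A] [IsScalarTower S R A] [Module.Finite R A]
  (S₁ : Type*) [CommRing S₁] [Algebra S S₁] [Module.Flat S S₁]

/-- the centre commutes with flat base change (for an algebra finite over its central subring) -/
theorem mem_range_of_central (hcen : ∀ x : A, (∀ y, x * y = y * x) → x ∈ Set.range (algebraMap R A))
    (z : S₁ ⊗[S] A) (hz : ∀ w, z * w = w * z) :
    z ∈ Set.range (Algebra.TensorProduct.map (AlgHom.id S₁ S₁) (IsScalarTower.toAlgHom S R A)) := by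
  classical
  obtain ⟨k, a, ha⟩ := Module.Finite.exists_fin (R := R) (M := A)
  let δ : A →ₗ[S] (Fin k → A) :=
    { toFun := fun x i => x * a i - a i * x
      map_add' := fun x y => by
        funext i
        simp only [Pi.add_apply]
        noncomm_ring
      map_smul' := fun s x => by
        funext i
        simp only [Pi.smul_apply, RingHom.id_apply, smul_sub, smul_mul_assoc, mul_smul_comm] }
  let ιZ : R →ₗ[S] A := (IsScalarTower.toAlgHom S R A).toLinearMap
  have hex : Function.Exact ιZ δ := by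
    intro x
    constructor
    · intro hx
      have hcomm : ∀ i, x * a i = a i * x := fun i => sub_eq_zero.1 (congrFun hx i)
      refine hcen x fun y => ?_
      have hy : y ∈ Submodule.span R (Set.range a) := by rw [ha]; trivial
      induction hy using Submodule.span_induction with
      | mem y hy => obtain ⟨i, rfl⟩ := hy; exact hcomm i
      | zero => simp
      | add y y' _ _ h1 h2 => rw [mul_add, add_mul, h1, h2]
      | smul r y _ h1 => rw [mul_smul_comm, smul_mul_assoc, h1]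
    · rintro ⟨r, rfl⟩
      funext i
      change algebraMap R A r * a i - a i * algebraMap R A r = 0
      rw [Algebra.commutes, sub_self]
  have hex' := Module.Flat.lTensor_exact S₁ hex
  have hcomp : ∀ (z : S₁ ⊗[S] A) (i : Fin k),
      TensorProduct.piRight S S S₁ (fun _ : Fin k => A) (δ.lTensor S₁ z) i =
        z * ((1 : S₁) ⊗ₜ[S] a i) - ((1 : S₁) ⊗ₜ[S] a i) * z := by
    intro z i
    induction z using TensorProduct.induction_on with
    | zero => simp
    | add x y hx hy =>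
      rw [map_add, map_add, Pi.add_apply, hx, hy]
      noncomm_ring
    | tmul s x =>
      rw [LinearMap.lTensor_tmul, TensorProduct.piRight_apply, TensorProduct.piRightHom_tmul,
        Algebra.TensorProduct.tmul_mul_tmul, Algebra.TensorProduct.tmul_mul_tmul, mul_one, one_mul,
        ← TensorProduct.tmul_sub]
      rfl
  have hz0 : δ.lTensor S₁ z = 0 := by
    apply (TensorProduct.piRight S S S₁ (fun _ : Fin k => A)).injective
    rw [map_zero]
    funext i
    rw [hcomp, hz, sub_self]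
    rfl
  obtain ⟨ρ, hρ⟩ := (hex' z).1 hz0
  refine ⟨ρ, ?_⟩
  rw [← hρ]
  clear hρ
  induction ρ using TensorProduct.induction_on with
  | zero => simp
  | add x y hx hy => rw [map_add, map_add, hx, hy]
  | tmul s r => rfl

end Center

section Central

variable (R : Type u) [CommRing R] (A : Type v) [Ring A] [Algebra R A] [IsAzumaya R A]

/-- the unit of a faithful finite projective algebra is unimodular -/
theorem exists_dual_one_eq_one : ∃ f : A →ₗ[R] R, f 1 = 1 := by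
  classical
  obtain ⟨n, p, g, -, -, hpg⟩ := Module.Finite.exists_comp_eq_id_of_projective R A
  have hrepr : ∀ a : A, a = ∑ j, g a j • p (Pi.single j 1) := by
    intro a
    have h1 : a = p (g a) := by
      have := congrArg (fun φ : A →ₗ[R] A => φ a) hpg
      simpa using this.symm
    have h2 : g a = ∑ j, g a j • (Pi.single j (1 : R) : Fin n → R) := by
      funext i
      simp [Finset.sum_apply, Pi.single_apply]
    conv_lhs => rw [h1, h2]
    simp [map_sum, map_smul]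
  let I : Ideal R := Ideal.span (Set.range fun j => g 1 j)
  have hI : I = ⊤ := by
    by_contra hne
    obtain ⟨m, hm, hle⟩ := Ideal.exists_le_maximal _ hne
    have h1mem : (1 : A) ∈ (m • (⊤ : Submodule R A)) := by
      rw [hrepr 1]
      refine Submodule.sum_mem _ fun j _ => ?_
      exact Submodule.smul_mem_smul (hle (Ideal.subset_span ⟨j, rfl⟩)) Submodule.mem_top
    have htop : (⊤ : Submodule R A) ≤ m • (⊤ : Submodule R A) := by
      intro a _
      have hmap : Submodule.map (LinearMap.mulLeft R a) (m • (⊤ : Submodule R A)) ≤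
          m • (⊤ : Submodule R A) := by
        rw [Submodule.map_smul'']
        exact Submodule.smul_mono le_rfl le_top
      have := hmap (Submodule.mem_map_of_mem h1mem)
      simpa using this
    obtain ⟨r, hr, hr0⟩ := Submodule.exists_sub_one_mem_and_smul_eq_zero_of_fg_of_le_smul m
      (⊤ : Submodule R A) Module.Finite.fg_top htop
    have hr0' : r = 0 := by
      apply FaithfulSMul.eq_of_smul_eq_smul (α := A)
      intro a
      rw [hr0 a Submodule.mem_top, zero_smul]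
    rw [hr0', zero_sub] at hr
    exact hm.ne_top ((Ideal.eq_top_iff_one _).2 (by simpa using m.neg_mem hr))
  obtain ⟨c, hc⟩ := Ideal.mem_span_range_iff_exists_fun.1 ((Ideal.eq_top_iff_one I).1 hI)
  refine ⟨∑ j, c j • (LinearMap.proj j ∘ₗ g), ?_⟩
  simpa [LinearMap.sum_apply] using hc

/-- an Azumaya algebra (not necessarily free) is central -/
theorem mem_range_algebraMap_of_central (x : A) (hx : ∀ y, x * y = y * x) :
    x ∈ Set.range (algebraMap R A) := by
  have key : ∀ T : A ⊗[R] Aᵐᵒᵖ, AlgHom.mulLeftRight R A T x = x * AlgHom.mulLeftRight R A T 1 := by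
    intro T
    induction T using TensorProduct.induction_on with
    | zero => simp
    | add T T' h h' => rw [map_add, LinearMap.add_apply, LinearMap.add_apply, h, h', mul_add]
    | tmul a b =>
      rw [AlgHom.mulLeftRight_apply, AlgHom.mulLeftRight_apply, mul_one, ← hx a, mul_assoc]
  obtain ⟨f, hf⟩ := exists_dual_one_eq_one R A
  let φ : Module.End R A := (Algebra.linearMap R A) ∘ₗ f
  obtain ⟨T, hT⟩ := (IsAzumaya.bij (R := R) (A := A)).2 φ
  have h1 := key T
  rw [hT] at h1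
  refine ⟨f x, ?_⟩
  have h2 : φ x = algebraMap R A (f x) := rfl
  have h3 : φ 1 = 1 := by
    change algebraMap R A (f 1) = 1
    rw [hf, map_one]
  rw [h2, h3, mul_one] at h1
  exact h1

end Central

section Main

variable {S : Type u} {R : Type v} [CommRing S] [CommRing R] [Algebra S R]
  {A : Type w} [Ring A] [Algebra S A] [Algebra R A] [IsScalarTower S R A]
  (lam : R ≃ₐ[S] R) (t : LamInv R A lam)

/-- central elements of `S₁ ⊗ A` fixed by the base-changed involution come from `S₁` -/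
theorem exists_tmul_one_of_central_fixed [IsAzumaya R A] (hlam : ∀ r, lam (lam r) = r)
    (hfix : RInv.IsFixedRing S R lam.toRingEquiv)
    (S₁ : Type*) [CommRing S₁] [Algebra S S₁] [Module.Flat S S₁]
    (z : S₁ ⊗[S] A) (hz : ∀ w, z * w = w * z) (hTz : t.bc S lam S₁ z = z) :
    ∃ σ : S₁, z = σ ⊗ₜ[S] (1 : A) := by
  obtain ⟨ρ, rfl⟩ := mem_range_of_central S S₁ (mem_range_algebraMap_of_central R A) z hz
  let j := Algebra.TensorProduct.map (AlgHom.id S₁ S₁) (IsScalarTower.toAlgHom S R A)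
  let lam₁ : S₁ ⊗[S] R ≃ₐ[S] S₁ ⊗[S] R :=
    Algebra.TensorProduct.congr (AlgEquiv.refl : S₁ ≃ₐ[S] S₁) lam
  have hjl : ∀ ρ : S₁ ⊗[S] R, j ρ = ((IsScalarTower.toAlgHom S R A).toLinearMap.lTensor S₁) ρ := by
    intro ρ
    induction ρ using TensorProduct.induction_on with
    | zero => simp
    | add x y hx hy => rw [map_add, map_add, hx, hy]
    | tmul s r => rfl
  have hjinj : Function.Injective j := by
    have h1 : Function.Injective ((IsScalarTower.toAlgHom S R A).toLinearMap.lTensor S₁) :=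
      Module.Flat.lTensor_preserves_injective_linearMap _
        (FaithfulSMul.algebraMap_injective R A)
    intro a b hab
    apply h1
    rw [← hjl, ← hjl, hab]
  have hTj : ∀ ρ : S₁ ⊗[S] R, t.bc S lam S₁ (j ρ) = j (lam₁ ρ) := by
    intro ρ
    induction ρ using TensorProduct.induction_on with
    | zero => simp
    | add x y hx hy => rw [map_add, map_add, hx, hy, map_add, map_add]
    | tmul s r =>
      change t.bc S lam S₁ (s ⊗ₜ[S] algebraMap R A r) = s ⊗ₜ[S] algebraMap R A (lam r)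
      rw [LamInv.bc_tmul, t.map_algebraMap]
  have hfixρ : lam₁ ρ = ρ := by
    apply hjinj
    rw [← hTj]
    exact hTz
  have hF := Groth.Agent.S15586.result S R S₁ lam (fun r => hlam r) hfix (Or.inl inferInstance)
  obtain ⟨σ, hσ⟩ := (hF.2 ρ).1 hfixρ
  refine ⟨σ, ?_⟩
  change j ρ = _
  rw [← hσ, Algebra.TensorProduct.algebraMap_apply]
  change (algebraMap S₁ S₁ σ) ⊗ₜ[S] algebraMap R A 1 = _
  rw [map_one]
  rfl

/-- the base change of `ψ` commutes with the base change of `t` -/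
theorem bc_comm (S₁ : Type*) [CommRing S₁] [Algebra S S₁] (ψ : A ≃ₐ[R] A)
    (hψ : IsInvHom t t ψ) (x : S₁ ⊗[S] A) :
    Algebra.TensorProduct.congr (AlgEquiv.refl : S₁ ≃ₐ[S₁] S₁) (ψ.restrictScalars S)
        (t.bc S lam S₁ x) =
      t.bc S lam S₁
        (Algebra.TensorProduct.congr (AlgEquiv.refl : S₁ ≃ₐ[S₁] S₁) (ψ.restrictScalars S) x) := by
  induction x using TensorProduct.induction_on with
  | zero => simp
  | add x y hx hy => rw [map_add, map_add, hx, hy, map_add, map_add]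
  | tmul s a =>
    have hcongr : ∀ (s : S₁) (a : A),
        Algebra.TensorProduct.congr (AlgEquiv.refl : S₁ ≃ₐ[S₁] S₁) (ψ.restrictScalars S)
          (s ⊗ₜ[S] a) = s ⊗ₜ[S] ψ a := fun s a => rfl
    rw [LamInv.bc_tmul, hcongr, hcongr, LamInv.bc_tmul, hψ a]

/-- `t(u) u` is central and `t`-fixed when conjugation by `u` commutes with `t` -/
theorem central_fixed_of_conj (S₁ : Type*) [CommRing S₁] [Algebra S S₁]
    (Ψ : S₁ ⊗[S] A → S₁ ⊗[S] A) (u₁ : (S₁ ⊗[S] A)ˣ)
    (hΨ : ∀ x, Ψ x = (u₁ : S₁ ⊗[S] A) * x * (u₁⁻¹ : (S₁ ⊗[S] A)ˣ))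
    (hΨT : ∀ x, Ψ (t.bc S lam S₁ x) = t.bc S lam S₁ (Ψ x)) :
    (∀ w, (t.bc S lam S₁ (u₁ : S₁ ⊗[S] A) * (u₁ : S₁ ⊗[S] A)) * w =
        w * (t.bc S lam S₁ (u₁ : S₁ ⊗[S] A) * (u₁ : S₁ ⊗[S] A))) ∧
    t.bc S lam S₁ (t.bc S lam S₁ (u₁ : S₁ ⊗[S] A) * (u₁ : S₁ ⊗[S] A)) =
      t.bc S lam S₁ (u₁ : S₁ ⊗[S] A) * (u₁ : S₁ ⊗[S] A) := by
  set T := t.bc S lam S₁ with hT
  set a : S₁ ⊗[S] A := (u₁ : S₁ ⊗[S] A) with ha
  set b : S₁ ⊗[S] A := ((u₁⁻¹ : (S₁ ⊗[S] A)ˣ) : S₁ ⊗[S] A) with hb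
  have hab : a * b = 1 := Units.mul_inv u₁
  have hba : b * a = 1 := Units.inv_mul u₁
  have hTab : T a * T b = 1 := bc_unit_inv' S lam S₁ t u₁
  have hTba : T b * T a = 1 := bc_unit_inv S lam S₁ t u₁
  have h : ∀ x, a * T x * b = T b * T x * T a := by
    intro x
    rw [← hΨ, hΨT, hΨ, bc_mul, bc_mul, mul_assoc]
  constructor
  · intro w
    obtain ⟨x, rfl⟩ : ∃ x, T x = w := ⟨T w, bc_bc S lam S₁ t w⟩
    calc T a * a * T x = T a * (a * T x * b) * a := by
          simp only [mul_assoc, hba, mul_one]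
      _ = T a * (T b * T x * T a) * a := by rw [h]
      _ = (T a * T b) * T x * T a * a := by simp only [mul_assoc]
      _ = T x * (T a * a) := by rw [hTab, one_mul, mul_assoc]
  · rw [bc_mul, bc_bc]

theorem unitary_of_sqrt (S₁ S₂ : Type*) [CommRing S₁] [Algebra S S₁] [CommRing S₂] [Algebra S S₂]
    [Algebra S₁ S₂] [IsScalarTower S S₁ S₂]
    (ψ : A ≃ₐ[R] A) (u₁ : (S₁ ⊗[S] A)ˣ)
    (hu₁ : ∀ x : S₁ ⊗[S] A,
      Algebra.TensorProduct.congr (AlgEquiv.refl : S₁ ≃ₐ[S₁] S₁) (ψ.restrictScalars S) x =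
        (u₁ : S₁ ⊗[S] A) * x * (u₁⁻¹ : (S₁ ⊗[S] A)ˣ))
    (σ : S₁) (hσ : t.bc S lam S₁ (u₁ : S₁ ⊗[S] A) * (u₁ : S₁ ⊗[S] A) = σ ⊗ₜ[S] (1 : A))
    (y : S₂ˣ) (hy : (y : S₂) * (y : S₂) = algebraMap S₁ S₂ σ) :
    ∃ u : (S₂ ⊗[S] A)ˣ, t.bc S lam S₂ (u : S₂ ⊗[S] A) * (u : S₂ ⊗[S] A) = 1 ∧
      ∀ x : S₂ ⊗[S] A,
        Algebra.TensorProduct.congr (AlgEquiv.refl : S₂ ≃ₐ[S₂] S₂) (ψ.restrictScalars S) x =
          (u : S₂ ⊗[S] A) * x * (u⁻¹ : (S₂ ⊗[S] A)ˣ) := by
  let β : S₁ ⊗[S] A →ₐ[S] S₂ ⊗[S] A :=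
    Algebra.TensorProduct.map (IsScalarTower.toAlgHom S S₁ S₂) (AlgHom.id S A)
  have hβ : ∀ (s : S₁) (a : A), β (s ⊗ₜ[S] a) = algebraMap S₁ S₂ s ⊗ₜ[S] a := fun s a => rfl
  let e : (S₂ ⊗[S] A)ˣ := Units.map (algebraMap S₂ (S₂ ⊗[S] A)).toMonoidHom y⁻¹
  have he : (e : S₂ ⊗[S] A) = ((y⁻¹ : S₂ˣ) : S₂) ⊗ₜ[S] (1 : A) := rfl
  let v : (S₂ ⊗[S] A)ˣ := Units.map β.toMonoidHom u₁
  have hv : (v : S₂ ⊗[S] A) = β (u₁ : S₁ ⊗[S] A) := rfl
  have hvinv : ((v⁻¹ : (S₂ ⊗[S] A)ˣ) : S₂ ⊗[S] A) = β ((u₁⁻¹ : (S₁ ⊗[S] A)ˣ) : S₁ ⊗[S] A) := rfl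
  have hecomm : ∀ x : S₂ ⊗[S] A, (e : S₂ ⊗[S] A) * x = x * (e : S₂ ⊗[S] A) :=
    fun x => Algebra.commutes _ x
  -- compatibility of `T` with `β`
  have hTβ : ∀ x : S₁ ⊗[S] A, t.bc S lam S₂ (β x) = β (t.bc S lam S₁ x) := by
    intro x
    induction x using TensorProduct.induction_on with
    | zero => simp
    | add x y hx hy => rw [map_add, map_add, hx, hy, map_add, map_add]
    | tmul s a => rw [hβ, LamInv.bc_tmul, LamInv.bc_tmul, hβ]
  have hTe : t.bc S lam S₂ (e : S₂ ⊗[S] A) = (e : S₂ ⊗[S] A) := by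
    rw [he, LamInv.bc_tmul, t.map_one]
  refine ⟨e * v, ?_, ?_⟩
  · rw [Units.val_mul, bc_mul, hTe, hv, hTβ]
    calc β (t.bc S lam S₁ (u₁ : S₁ ⊗[S] A)) * (e : S₂ ⊗[S] A) *
          ((e : S₂ ⊗[S] A) * β (u₁ : S₁ ⊗[S] A))
        = (e : S₂ ⊗[S] A) * (e : S₂ ⊗[S] A) *
          (β (t.bc S lam S₁ (u₁ : S₁ ⊗[S] A)) * β (u₁ : S₁ ⊗[S] A)) := by
          rw [← hecomm (β (t.bc S lam S₁ (u₁ : S₁ ⊗[S] A)))]
          simp only [mul_assoc]
          rw [← mul_assoc (β _) (e : S₂ ⊗[S] A), ← hecomm (β (t.bc S lam S₁ (u₁ : S₁ ⊗[S] A)))]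
          simp only [mul_assoc]
      _ = 1 := by
          rw [← map_mul, hσ, hβ, he, Algebra.TensorProduct.tmul_mul_tmul,
            Algebra.TensorProduct.tmul_mul_tmul, mul_one, mul_one, ← hy,
            Algebra.TensorProduct.one_def]
          congr 1
          rw [mul_assoc, ← mul_assoc ((y⁻¹ : S₂ˣ) : S₂) (y : S₂), Units.inv_mul, one_mul,
            Units.inv_mul]
  · have key : ∀ x : S₂ ⊗[S] A,
        Algebra.TensorProduct.congr (AlgEquiv.refl : S₂ ≃ₐ[S₂] S₂) (ψ.restrictScalars S) x *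
          (v : S₂ ⊗[S] A) = (v : S₂ ⊗[S] A) * x := by
      intro x
      induction x using TensorProduct.induction_on with
      | zero => simp
      | add x y hx hy => rw [map_add, add_mul, mul_add, hx, hy]
      | tmul s a =>
        have hcongr₁ : ∀ (s : S₁) (a : A),
            Algebra.TensorProduct.congr (AlgEquiv.refl : S₁ ≃ₐ[S₁] S₁) (ψ.restrictScalars S)
              (s ⊗ₜ[S] a) = s ⊗ₜ[S] ψ a := fun s a => rfl
        have hcongr₂ : ∀ (s : S₂) (a : A),
            Algebra.TensorProduct.congr (AlgEquiv.refl : S₂ ≃ₐ[S₂] S₂) (ψ.restrictScalars S)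
              (s ⊗ₜ[S] a) = s ⊗ₜ[S] ψ a := fun s a => rfl
        have h1 := hu₁ ((1 : S₁) ⊗ₜ[S] a)
        rw [hcongr₁] at h1
        have h2 : ((1 : S₁) ⊗ₜ[S] ψ a) * (u₁ : S₁ ⊗[S] A) =
            (u₁ : S₁ ⊗[S] A) * ((1 : S₁) ⊗ₜ[S] a) := by
          rw [h1, mul_assoc, Units.inv_mul, mul_one]
        have h3 := congrArg β h2
        rw [map_mul, map_mul, hβ, hβ, map_one] at h3
        have hs : (s ⊗ₜ[S] a : S₂ ⊗[S] A) = (s ⊗ₜ[S] (1 : A)) * ((1 : S₂) ⊗ₜ[S] a) := by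
          rw [Algebra.TensorProduct.tmul_mul_tmul, mul_one, one_mul]
        have hs' : (s ⊗ₜ[S] ψ a : S₂ ⊗[S] A) = (s ⊗ₜ[S] (1 : A)) * ((1 : S₂) ⊗ₜ[S] ψ a) := by
          rw [Algebra.TensorProduct.tmul_mul_tmul, mul_one, one_mul]
        have hsc : ∀ x : S₂ ⊗[S] A, (s ⊗ₜ[S] (1 : A)) * x = x * (s ⊗ₜ[S] (1 : A)) :=
          fun x => Algebra.commutes s x
        rw [hcongr₂, hs', hs, mul_assoc, hv, h3, ← mul_assoc, ← mul_assoc,
          hsc (β (u₁ : S₁ ⊗[S] A))]
    intro x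
    rw [Units.eq_mul_inv_iff_mul_eq, Units.val_mul, ← mul_assoc, ← hecomm, mul_assoc, key x,
      mul_assoc]


/-- from a conjugating unit over an etale faithfully flat cover to a unitary one over a further
cover, given local square roots of units -/
theorem exists_unitary_conj [IsAzumaya R A] (hlam : ∀ r, lam (lam r) = r)
    (hfix : RInv.IsFixedRing S R lam.toRingEquiv)
    (hsq : ∀ (S₁ : Type u) [CommRing S₁] [Algebra S S₁] [Algebra.Etale S S₁] (x : S₁ˣ),
      ∃ (S₂ : Type u) (_ : CommRing S₂) (_ : Algebra S₁ S₂) (_ : Algebra.Etale S₁ S₂)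
        (_ : Module.FaithfullyFlat S₁ S₂) (y : S₂), y * y = algebraMap S₁ S₂ ↑x)
    (ψ : A ≃ₐ[R] A) (hψ : IsInvHom t t ψ)
    (S₁ : Type u) [CommRing S₁] [Algebra S S₁] [Algebra.Etale S S₁] [Module.FaithfullyFlat S S₁]
    (u₁ : (S₁ ⊗[S] A)ˣ)
    (hu₁ : ∀ x : S₁ ⊗[S] A,
      Algebra.TensorProduct.congr (AlgEquiv.refl : S₁ ≃ₐ[S₁] S₁) (ψ.restrictScalars S) x =
        (u₁ : S₁ ⊗[S] A) * x * (u₁⁻¹ : (S₁ ⊗[S] A)ˣ)) :
    ∃ (S' : Type u) (_ : CommRing S') (_ : Algebra S S') (_ : Algebra.Etale S S')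
      (_ : Module.FaithfullyFlat S S') (u : (S' ⊗[S] A)ˣ),
      t.bc S lam S' (↑u : S' ⊗[S] A) * ↑u = 1 ∧
        ∀ x : S' ⊗[S] A,
          Algebra.TensorProduct.congr (AlgEquiv.refl : S' ≃ₐ[S'] S') (ψ.restrictScalars S) x =
            ↑u * x * ↑u⁻¹ := by
  set T := t.bc S lam S₁ with hT
  set a : S₁ ⊗[S] A := (u₁ : S₁ ⊗[S] A) with ha
  set b : S₁ ⊗[S] A := ((u₁⁻¹ : (S₁ ⊗[S] A)ˣ) : S₁ ⊗[S] A) with hb
  have hab : a * b = 1 := Units.mul_inv u₁
  have hba : b * a = 1 := Units.inv_mul u₁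
  have hTab : T a * T b = 1 := bc_unit_inv' S lam S₁ t u₁
  have hTba : T b * T a = 1 := bc_unit_inv S lam S₁ t u₁
  obtain ⟨hc, hTc⟩ := central_fixed_of_conj lam t S₁ _ u₁ hu₁ (bc_comm lam t S₁ ψ hψ)
  set c : S₁ ⊗[S] A := T a * a with hcdef
  set c' : S₁ ⊗[S] A := b * T b with hc'def
  have hcc' : c * c' = 1 := by
    rw [hcdef, hc'def, mul_assoc, ← mul_assoc a b, hab, one_mul, hTab]
  have hc'c : c' * c = 1 := by
    rw [hcdef, hc'def, mul_assoc, ← mul_assoc (T b) (T a), hTba, one_mul, hba]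
  have hc' : ∀ w, c' * w = w * c' := by
    intro w
    calc c' * w = c' * w * (c * c') := by rw [hcc', mul_one]
      _ = c' * (w * c) * c' := by simp only [mul_assoc]
      _ = c' * (c * w) * c' := by rw [hc w]
      _ = (c' * c) * w * c' := by simp only [mul_assoc]
      _ = w * c' := by rw [hc'c, one_mul]
  have hTc' : T c' = c' := by
    rw [hc'def, bc_mul, bc_bc]
  obtain ⟨σ, hσ⟩ := exists_tmul_one_of_central_fixed lam t hlam hfix S₁ c hc hTc
  obtain ⟨σ', hσ'⟩ := exists_tmul_one_of_central_fixed lam t hlam hfix S₁ c' hc' hTc'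
  have hinjSA : Function.Injective (algebraMap S A) := by
    rw [IsScalarTower.algebraMap_eq S R A]
    exact (FaithfulSMul.algebraMap_injective R A).comp hfix.1
  have hinj : Function.Injective
      (Algebra.TensorProduct.includeLeft : S₁ →ₐ[S] S₁ ⊗[S] A) :=
    Algebra.TensorProduct.includeLeft_injective hinjSA
  have hσσ' : σ * σ' = 1 := by
    apply hinj
    change (σ * σ') ⊗ₜ[S] (1 : A) = (1 : S₁) ⊗ₜ[S] (1 : A)
    rw [← Algebra.TensorProduct.one_def, ← hcc', hσ, hσ', Algebra.TensorProduct.tmul_mul_tmul,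
      mul_one]
  obtain ⟨S₂, i1, i2, i3, i4, y, hy⟩ := hsq S₁ (Units.mkOfMulEqOne σ σ' hσσ')
  rw [Units.val_mkOfMulEqOne] at hy
  have hyu : IsUnit y := by
    have h1 : IsUnit (y * y) := by
      rw [hy]
      exact (Units.mkOfMulEqOne σ σ' hσσ').isUnit.map (algebraMap S₁ S₂)
    exact isUnit_of_mul_isUnit_left h1
  obtain ⟨yu, rfl⟩ := hyu
  let _ : Algebra S S₂ := ((algebraMap S₁ S₂).comp (algebraMap S S₁)).toAlgebra
  have : IsScalarTower S S₁ S₂ := IsScalarTower.of_algebraMap_eq fun _ => rfl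
  have hEt : Algebra.Etale S S₂ := Algebra.Etale.comp S S₁ S₂
  have hFF : Module.FaithfullyFlat S S₂ := Module.FaithfullyFlat.trans S S₁ S₂
  obtain ⟨u, hu1, hu2⟩ := unitary_of_sqrt lam t S₁ S₂ ψ u₁ hu₁ σ hσ yu hy
  exact ⟨S₂, i1, inferInstance, hEt, hFF, u, hu1, hu2⟩

end Main

end Groth.Agent.Lib.Helper25.UnitaryConj
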