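import Mathlib

namespace Groth.Agent.Lib.Helper25.ValuationExt

open IsLocalRing

universe u

section

variable {A B K L : Type u} [CommRing A] [IsDomain A] [ValuationRing A] [CommRing B] [IsDomain B]
  [ValuationRing B] [Field K] [Field L]
  [Algebra A K] [IsFractionRing A K] [Algebra B L] [IsFractionRing B L] [Algebra A B] [Algebra K L]
  [Algebra A L] [IsScalarTower A K L] [IsScalarTower A B L]

omit [IsDomain A] [ValuationRing A] [Field K] [Algebra A K] [IsFractionRing A K] [Algebra A B]
  [Algebra K L] [Algebra A L] [IsScalarTower A K L] [IsScalarTower A B L] [CommRing A] in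
theorem integers : (ValuationRing.valuation B L).Integers B :=
  ⟨IsFractionRing.injective B L,
    fun x => (ValuationRing.mem_integer_iff B L _).mpr ⟨x, rfl⟩,
    fun _ hr => (ValuationRing.mem_integer_iff B L _).mp hr⟩

variable [IsLocalHom (algebraMap A B)]

/-- An element of `K` whose `B`-valuation is `≤ 1` lies in `A`. -/
theorem exists_of_valuation_le_one (c : K)
    (hc : ValuationRing.valuation B L (algebraMap K L c) ≤ 1) :
    ∃ α : A, algebraMap A K α = c := by
  rcases ValuationRing.isInteger_or_isInteger A c with ⟨α, hα⟩ | ⟨α', hα'⟩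
  · exact ⟨α, hα⟩
  · by_cases hc0 : c = 0
    · exact ⟨0, by rw [map_zero, hc0]⟩
    have hcL : algebraMap K L c ≠ 0 := by
      rwa [Ne, map_eq_zero_iff _ (algebraMap K L).injective]
    have h1 : ValuationRing.valuation B L (algebraMap K L c⁻¹) =
        ValuationRing.valuation B L (algebraMap B L (algebraMap A B α')) := by
      rw [← IsScalarTower.algebraMap_apply A B L, IsScalarTower.algebraMap_apply A K L]
      congr 2
      exact hα'.symm
    have h2 : (1 : ValuationRing.ValueGroup B L) ≤
        ValuationRing.valuation B L (algebraMap K L c⁻¹) := by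
      rw [map_inv₀, map_inv₀]
      have hpos : 0 < ValuationRing.valuation B L (algebraMap K L c) := by
        rw [Valuation.pos_iff]; exact hcL
      exact (one_le_inv₀ hpos).mpr hc
    have h3 : ValuationRing.valuation B L (algebraMap B L (algebraMap A B α')) = 1 :=
      le_antisymm ((integers (B := B) (L := L)).map_le_one _) (h1 ▸ h2)
    have h4 : IsUnit (algebraMap A B α') := (integers (B := B) (L := L)).isUnit_iff_valuation_eq_one.mpr h3
    have h5 : IsUnit α' := isUnit_of_map_unit (algebraMap A B) α' h4
    obtain ⟨u, rfl⟩ := h5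
    refine ⟨((u⁻¹ : Aˣ) : A), ?_⟩
    have : algebraMap A K (u : A) * algebraMap A K ((u⁻¹ : Aˣ) : A) = 1 := by
      rw [← map_mul, Units.mul_inv, map_one]
    rw [hα'] at this
    rw [← mul_one c, ← this, ← mul_assoc, mul_inv_cancel₀ hc0, one_mul]

/-- The valuation of a `K`-combination of elements of `B` with `k_A`-independent residues is the
maximum of the valuations of the coefficients. -/
theorem valuation_sum_eq {ι : Type*} [Fintype ι] (ω : ι → B)
    (hω : LinearIndependent (ResidueField A) (fun i => residue B (ω i))) (a : ι → K)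
    (ha : a ≠ 0) :
    ∃ i₀, a i₀ ≠ 0 ∧
      ValuationRing.valuation B L (∑ i, algebraMap K L (a i) * algebraMap B L (ω i)) =
        ValuationRing.valuation B L (algebraMap K L (a i₀)) := by
  classical
  obtain ⟨i₁, hi₁⟩ : ∃ i, a i ≠ 0 := by
    by_contra h
    push Not at h
    exact ha (funext h)
  obtain ⟨i₀, -, hmax⟩ := Finset.exists_max_image Finset.univ
    (fun i => ValuationRing.valuation B L (algebraMap K L (a i))) ⟨i₁, Finset.mem_univ _⟩
  have hai₀ : a i₀ ≠ 0 := by
    intro h0
    have := hmax i₁ (Finset.mem_univ _)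
    rw [h0, map_zero, map_zero, le_zero_iff, map_eq_zero,
      map_eq_zero_iff _ (algebraMap K L).injective] at this
    exact hi₁ this
  have hvpos : 0 < ValuationRing.valuation B L (algebraMap K L (a i₀)) := by
    rw [Valuation.pos_iff, Ne, map_eq_zero_iff _ (algebraMap K L).injective]
    exact hai₀
  refine ⟨i₀, hai₀, ?_⟩
  have hc : ∀ i, ∃ α : A, algebraMap A K α = a i / a i₀ := by
    intro i
    apply exists_of_valuation_le_one (B := B) (L := L)
    rw [map_div₀, map_div₀]
    exact (div_le_one₀ hvpos).mpr (hmax i (Finset.mem_univ _))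
  choose α hα using hc
  have hαi₀ : α i₀ = 1 := by
    apply IsFractionRing.injective A K
    rw [hα, div_self hai₀, map_one]
  have hβ : IsUnit (∑ i, algebraMap A B (α i) * ω i) := by
    rw [← residue_ne_zero_iff_isUnit]
    intro h0
    have h1 : ∑ i, residue A (α i) • residue B (ω i) = 0 := by
      rw [← h0, map_sum]
      refine Finset.sum_congr rfl fun i _ => ?_
      rw [Algebra.smul_def, ResidueField.algebraMap_residue, map_mul]
    have h2 := Fintype.linearIndependent_iff.mp hω _ h1 i₀
    rw [hαi₀, map_one] at h2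
    exact one_ne_zero h2
  have hvβ : ValuationRing.valuation B L (algebraMap B L (∑ i, algebraMap A B (α i) * ω i)) = 1 :=
    (integers (B := B) (L := L)).isUnit_iff_valuation_eq_one.mp hβ
  have hsum : ∑ i, algebraMap K L (a i) * algebraMap B L (ω i) =
      algebraMap K L (a i₀) * algebraMap B L (∑ i, algebraMap A B (α i) * ω i) := by
    rw [map_sum, Finset.mul_sum]
    refine Finset.sum_congr rfl fun i _ => ?_
    rw [map_mul, ← IsScalarTower.algebraMap_apply A B L, IsScalarTower.algebraMap_apply A K L,
      hα, map_div₀, ← mul_assoc, mul_div_cancel₀]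
    rwa [Ne, map_eq_zero_iff _ (algebraMap K L).injective]
  rw [hsum, map_mul, hvβ, mul_one]

/-- **Fundamental inequality, linear independence form.** -/
theorem linearIndependent_mul {ι κ : Type*} [Fintype ι] [Fintype κ] (ω : ι → B)
    (hω : LinearIndependent (ResidueField A) (fun i => residue B (ω i))) (π : κ → Lˣ)
    (hπ : ∀ j j', j ≠ j' → ∀ c c' : K, c ≠ 0 → c' ≠ 0 →
      ValuationRing.valuation B L (algebraMap K L c * (π j : L)) ≠
        ValuationRing.valuation B L (algebraMap K L c' * (π j' : L))) :
    LinearIndependent K (fun p : ι × κ => algebraMap B L (ω p.1) * (π p.2 : L)) := by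
  classical
  rw [Fintype.linearIndependent_iff]
  intro g hg
  have hsum : ∑ j, (∑ i, algebraMap K L (g (i, j)) * algebraMap B L (ω i)) * (π j : L) = 0 := by
    rw [← hg, Fintype.sum_prod_type_right]
    refine Finset.sum_congr rfl fun j _ => ?_
    rw [Finset.sum_mul]
    refine Finset.sum_congr rfl fun i _ => ?_
    rw [Algebra.smul_def, mul_assoc]
  by_contra hcon
  push Not at hcon
  obtain ⟨⟨i₁, j₁⟩, hij₁⟩ := hcon
  -- the set of columns with a nonzero coefficient
  set S : Finset κ := Finset.univ.filter (fun j => (fun i => g (i, j)) ≠ 0) with hS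
  have hj₁ : j₁ ∈ S := by
    rw [hS, Finset.mem_filter]
    exact ⟨Finset.mem_univ _, fun h => hij₁ (congrFun h i₁)⟩
  have hdata : ∀ j ∈ S, ∃ c : K, c ≠ 0 ∧
      ValuationRing.valuation B L (∑ i, algebraMap K L (g (i, j)) * algebraMap B L (ω i)) =
        ValuationRing.valuation B L (algebraMap K L c) := by
    intro j hj
    rw [hS, Finset.mem_filter] at hj
    obtain ⟨i₀, h1, h2⟩ := valuation_sum_eq (A := A) (B := B) (K := K) (L := L) ω hω
      (fun i => g (i, j)) hj.2
    exact ⟨g (i₀, j), h1, h2⟩
  have hzero : ∀ j ∉ S, (∑ i, algebraMap K L (g (i, j)) * algebraMap B L (ω i)) = 0 := by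
    intro j hj
    rw [hS, Finset.mem_filter, not_and, not_not] at hj
    have := hj (Finset.mem_univ _)
    refine Finset.sum_eq_zero fun i _ => ?_
    rw [show g (i, j) = 0 from congrFun this i, map_zero, zero_mul]
  obtain ⟨j₀, hj₀, hmax⟩ := Finset.exists_max_image S
    (fun j => ValuationRing.valuation B L
      ((∑ i, algebraMap K L (g (i, j)) * algebraMap B L (ω i)) * (π j : L))) ⟨j₁, hj₁⟩
  obtain ⟨c₀, hc₀, hv₀⟩ := hdata j₀ hj₀
  have hne0 : ValuationRing.valuation B L
      ((∑ i, algebraMap K L (g (i, j₀)) * algebraMap B L (ω i)) * (π j₀ : L)) ≠ 0 := by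
    rw [map_mul, hv₀]
    refine mul_ne_zero ?_ ?_
    · rw [Ne, map_eq_zero, map_eq_zero_iff _ (algebraMap K L).injective]; exact hc₀
    · rw [Ne, map_eq_zero]; exact (π j₀).ne_zero
  have key := Valuation.map_sum_eq_of_lt (ValuationRing.valuation B L) (s := Finset.univ)
    (f := fun j => (∑ i, algebraMap K L (g (i, j)) * algebraMap B L (ω i)) * (π j : L))
    (j := j₀) (Finset.mem_univ _) (by
      intro j hj
      rw [Finset.mem_sdiff, Finset.mem_singleton] at hj
      by_cases hjS : j ∈ S
      · refine lt_of_le_of_ne (hmax j hjS) ?_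
        obtain ⟨c, hc, hv⟩ := hdata j hjS
        simp only [map_mul, hv, hv₀]
        have := hπ j j₀ hj.2 c c₀ hc hc₀
        simpa only [map_mul] using this
      · simp only [hzero j hjS, zero_mul, map_zero]
        exact zero_lt_iff.mpr hne0)
  rw [hsum, map_zero] at key
  exact hne0 key.symm

omit [IsDomain A] [ValuationRing A] [Field K] [Algebra A K] [IsFractionRing A K] [Algebra A B]
  [Algebra K L] [Algebra A L] [IsScalarTower A K L] [IsScalarTower A B L] [CommRing A]
  [IsLocalHom (algebraMap A B)] in
/-- Units of `L` coming from units of `B` are those of valuation one. -/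
theorem mem_unitsRange_iff (x : Lˣ) :
    x ∈ (Units.map (algebraMap B L).toMonoidHom).range ↔
      ValuationRing.valuation B L (x : L) = 1 := by
  constructor
  · rintro ⟨u, rfl⟩
    exact (integers (B := B) (L := L)).valuation_unit u
  · intro h
    obtain ⟨b, hb⟩ := (integers (B := B) (L := L)).exists_of_le_one h.le
    have hbu : IsUnit b := (integers (B := B) (L := L)).isUnit_iff_valuation_eq_one.mpr (hb ▸ h)
    obtain ⟨u, rfl⟩ := hbu
    exact ⟨u, Units.ext hb⟩

/-- **Fundamental inequality**, for given independent residues and distinct cosets. -/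
theorem mul_le_finrank [FiniteDimensional K L] (f e : ℕ)
    (ωb : Fin f → ResidueField B) (hωb : LinearIndependent (ResidueField A) ωb)
    (q : Fin e → (Lˣ ⧸ (Units.map (algebraMap B L).toMonoidHom).range) ⧸
      ((QuotientGroup.mk' (Units.map (algebraMap B L).toMonoidHom).range).comp
        (Units.map (algebraMap K L).toMonoidHom)).range)
    (hq : Function.Injective q) : e * f ≤ Module.finrank K L := by
  classical
  have hω : ∀ i, ∃ b : B, residue B b = ωb i := fun i => residue_surjective (ωb i)
  choose ω hω' using hω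
  have hπ : ∀ j, ∃ x : Lˣ, (QuotientGroup.mk (QuotientGroup.mk x :
      Lˣ ⧸ (Units.map (algebraMap B L).toMonoidHom).range) :
      (Lˣ ⧸ (Units.map (algebraMap B L).toMonoidHom).range) ⧸
      ((QuotientGroup.mk' (Units.map (algebraMap B L).toMonoidHom).range).comp
        (Units.map (algebraMap K L).toMonoidHom)).range) = q j := by
    intro j
    obtain ⟨y, hy⟩ := QuotientGroup.mk_surjective (q j)
    obtain ⟨x, hx⟩ := QuotientGroup.mk_surjective y
    exact ⟨x, by rw [hx, hy]⟩
  choose π hπ' using hπ
  have hli : LinearIndependent (ResidueField A) (fun i => residue B (ω i)) := by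
    have : (fun i => residue B (ω i)) = ωb := funext hω'
    rw [this]; exact hωb
  have key := linearIndependent_mul (A := A) (B := B) (K := K) (L := L) ω hli π (by
    intro j j' hjj' c c' hc hc' heq
    apply hjj'
    apply hq
    rw [← hπ', ← hπ', QuotientGroup.eq]
    -- the ratio is the class of an element of `Kˣ`
    refine ⟨Units.mk0 (c / c') (div_ne_zero hc hc'), ?_⟩
    simp only [MonoidHom.coe_comp, Function.comp_apply, QuotientGroup.mk'_apply]
    rw [← QuotientGroup.mk_inv, ← QuotientGroup.mk_mul, QuotientGroup.eq, mem_unitsRange_iff]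
    simp only [Units.val_mul, Units.val_inv_eq_inv_val, Units.coe_map, MonoidHom.coe_coe,
      RingHom.toMonoidHom_eq_coe, Units.val_mk0, map_mul, map_inv₀, map_div₀]
    simp only [map_mul] at heq
    have h1 : ValuationRing.valuation B L (algebraMap K L c) ≠ 0 := by
      rw [Ne, map_eq_zero, map_eq_zero_iff _ (algebraMap K L).injective]; exact hc
    have h2 : ValuationRing.valuation B L (algebraMap K L c') ≠ 0 := by
      rw [Ne, map_eq_zero, map_eq_zero_iff _ (algebraMap K L).injective]; exact hc'
    have h3 : ValuationRing.valuation B L ((π j : Lˣ) : L) ≠ 0 := by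
      rw [Ne, map_eq_zero]; exact (π j).ne_zero
    have h4 : ValuationRing.valuation B L ((π j' : Lˣ) : L) ≠ 0 := by
      rw [Ne, map_eq_zero]; exact (π j').ne_zero
    field_simp
    rw [← heq, mul_comm])
  have := key.fintype_card_le_finrank
  simpa [Fintype.card_prod, mul_comm] using this

end

end Groth.Agent.Lib.Helper25.ValuationExt
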